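import Cfsg.Agent.H5.GoodAll
import Cfsg.Agent.H5.Weyl3

/-! The Poincaré polynomial of the Weyl group of type E7. -/

set_option autoImplicit false

namespace H5
namespace Chev

open Cfsg.Lie Cfsg.Lie.ChevalleyDatum

theorem PWE7_0 (q : ℕ) : (fold1 chevE7).PL [0] q =
    horner [1, 1] q * (fold1 chevE7).PL [] q :=
  chkOrb1_sound [] [0] _ rfl [1, 0, 0, 0, 0, 0, 0]
    [143165577, 143165831] _ (by decide +kernel) q

theorem PWE7_1 (q : ℕ) : (fold1 chevE7).PL [0, 2] q =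
    horner [1, 1, 1] q * (fold1 chevE7).PL [0] q :=
  chkOrb1_sound [0] [2] _ rfl [0, 0, 1, 0, 0, 0, 0]
    [143165832, 143169417, 143169671] _ (by decide +kernel) q

theorem PWE7_2 (q : ℕ) : (fold1 chevE7).PL [0, 2, 3] q =
    horner [1, 1, 1, 1] q * (fold1 chevE7).PL [0, 2] q :=
  chkOrb1_sound [0, 2] [3] _ rfl [0, 0, 0, 1, 0, 0, 0]
    [143169672, 143227288, 143230873, 143231127] _ (by decide +kernel) q

theorem PWE7_3 (q : ℕ) : (fold1 chevE7).PL [0, 2, 3, 1] q =
    horner [1, 1, 1, 1, 1] q * (fold1 chevE7).PL [0, 2, 3] q :=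
  chkOrb1_sound [0, 2, 3] [1] _ rfl [0, 1, 0, 0, 0, 0, 0]
    [143165592, 143169656, 143227272, 143230857, 143231111] _ (by decide +kernel) q

theorem PWE7_4 (q : ℕ) : (fold1 chevE7).PL [0, 2, 3, 1, 4] q =
    horner [1, 1, 1, 2, 2, 2, 2, 2, 1, 1, 1] q * (fold1 chevE7).PL [0, 2, 3, 1] q :=
  chkOrb1_sound [0, 2, 3, 1] [4] _ rfl [0, 0, 0, 0, 1, 0, 0]
    [143231112, 144152712, 144210328, 144213913, 144214392, 144214167, 144217977, 144218231, 144275593, 144275847, 145197193, 144279432, 145197447, 145201032, 145258648, 145262712] _ (by decide +kernel) q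

theorem PWE7_5 (q : ℕ) : (fold1 chevE7).PL [0, 2, 3, 1, 4, 5] q =
    horner [1, 1, 1, 1, 2, 2, 2, 2, 3, 2, 2, 2, 2, 1, 1, 1, 1] q * (fold1 chevE7).PL [0, 2, 3, 1, 4] q :=
  chkOrb1_sound [0, 2, 3, 1, 4] [5] _ rfl [0, 0, 0, 0, 0, 1, 0]
    [144214152, 158959752, 159881352, 159938968, 159942553, 159943032, 159942807, 159946617, 159946871, 160004233, 160004487, 160925833, 160008072, 160926087, 175671433, 160929672, 175671687, 160987288, 175675272, 160991352, 175732888, 175736952, 176654488, 176658552, 176716168, 176719753, 176720007] _ (by decide +kernel) q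

theorem PWE7_6 (q : ℕ) : (fold1 chevE7).PL [0, 2, 3, 1, 4, 5, 6] q =
    horner [1, 1, 1, 1, 1, 2, 2, 2, 2, 3, 3, 3, 3, 3, 3, 3, 3, 3, 3, 2, 2, 2, 2, 1, 1, 1, 1, 1] q * (fold1 chevE7).PL [0, 2, 3, 1, 4, 5] q :=
  chkOrb1_sound [0, 2, 3, 1, 4, 5] [6] _ rfl [0, 0, 0, 0, 0, 0, 1]
    [159942792, 127436936, 142182536, 143104136, 143161752, 143165337, 143165816, 143165591, 143169401, 143169655, 143227017, 143227271, 144148617, 143230856, 144148871, 158894217, 144152456, 158894471, 126388361, 144210072, 158898056, 126388615, 144214136, 158955672, 126392200, 158959736, 159877272, 126449816, 159881336, 126453880, 127371416, 159938952, 127375480, 142117016, 159942537, 127433096, 142121080, 159942791, 127436681, 142178696, 127436935, 142182281, 143100296, 142182535, 143103881, 143104135, 143161497, 143161751, 143165561, 143165336, 143165815, 143169400, 143227016, 144148616, 158894216, 126388360] _ (by decide +kernel) q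

theorem PWE7 (q : ℕ) : (fold1 chevE7).PW Set.univ q =
    horner [1, 1, 1, 1, 1, 2, 2, 2, 2, 3, 3, 3, 3, 3, 3, 3, 3, 3, 3, 2, 2, 2, 2, 1, 1, 1, 1, 1] q * horner [1, 1, 1, 1, 2, 2, 2, 2, 3, 2, 2, 2, 2, 1, 1, 1, 1] q * horner [1, 1, 1, 2, 2, 2, 2, 2, 1, 1, 1] q * horner [1, 1, 1, 1, 1] q * horner [1, 1, 1, 1] q * horner [1, 1, 1] q * horner [1, 1] q := by
  rw [Fold.PL_univ _ [0, 2, 3, 1, 4, 5, 6] (by decide), PWE7_6, PWE7_5, PWE7_4, PWE7_3, PWE7_2, PWE7_1, PWE7_0, Fold.PL_nil]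
  simp only [mul_assoc, mul_one]

end Chev
end H5
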