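import Cfsg.Agent.H5.Par1

/-! Automorphisms of finite Chevalley groups, I: reduction to those permuting `X_{±α_i}`. -/

set_option autoImplicit false

namespace H5
namespace Chev

open Cfsg Cfsg.Lie Cfsg.Lie.ChevalleyDatum Equiv Matrix
open scoped Pointwise

theorem mem_iff_of_map_le {G : Type*} [Group G] [Finite G] {θ : MulAut G} {K L : Subgroup G}
    (h : ∀ g ∈ K, θ g ∈ L) (hc : Nat.card L ≤ Nat.card K) (g : G) : θ g ∈ L ↔ g ∈ K := by
  have : K.map θ.toMonoidHom = L := Subgroup.eq_of_le_of_card_ge (by rintro _ ⟨a, ha, rfl⟩; exact h a ha)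
    (by rwa [Subgroup.card_map_of_injective θ.injective])
  rw [← this]
  exact Subgroup.mem_map_iff_mem (f := θ.toMonoidHom) θ.injective

variable {D : ChevalleyDatum} {F : Type*} [Field F] {G : Type*} [Group G] [Good D]

theorem Btw.neg {r s k : Rt D} (h : Btw r s k) : Btw (neg r) (neg s) (neg k) := by
  obtain ⟨i, j, h1, h2, h3⟩ := h
  exact ⟨i, j, h1, h2, by simp [h3, add_comm]⟩

theorem exists_w0_simple (i : Ix D) : ∃ j, wJ Set.univ (neg (simple i)) = simple j := by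
  set r := wJ Set.univ (neg (simple i)) with hr
  have h1 : Pos r := (pos_wJ_univ _).2 (by rw [← pos_neg_iff, neg_neg']; exact pos_simple i)
  obtain ⟨j, h2, -⟩ := exists_wt_pos h1
  refine ⟨j, by_contra fun h3 => ?_⟩
  have h4 : Btw (refl j r) (simple j) r :=
    ⟨1, (wt r j).toNat, one_pos, by omega, by rw [vec_refl, Int.toNat_of_nonneg h2.le]; simp⟩
  have h5 := ((wg_aut (wJ Set.univ)).btw h4).neg
  have h6 : neg ((wJ Set.univ : Wg D).1 r) = simple i := by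
    rw [hr]; exact (congrArg neg (wJ_wJ _ _)).trans (neg_neg' _)
  rw [h6] at h5
  exact (btw_pos_ne (pos_neg_iff.2 fun h => (pos_wJ_univ _).1 h (pos_refl h1 h3))
    (pos_neg_iff.2 fun h => (pos_wJ_univ _).1 h (pos_simple j)) h5).2 rfl

theorem not_btw_simple {i j : Ix D} (h : i ≠ j) (k : Rt D) : ¬ Btw (simple i) (neg (simple j)) k := by
  rintro ⟨a, b, h1, h2, h3⟩
  have h4 := congrFun h3 i
  have h5 := congrFun h3 j
  simp [vec_simple, h, h.symm] at h4 h5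
  exact not_pos_of_vec_neg (i := j) (by omega) (pos_of_vec_pos (r := k) (i := i) (by omega))

namespace StSys
variable (S : StSys D F G)

theorem braid {r : Rt D} {a b : F} (hb : b ≠ 0)
    (h : S.x r a * S.x (neg r) b * S.x r a = S.x (neg r) b * S.x r a * S.x (neg r) b) :
    b = -a⁻¹ := by
  have h1 := congrArg S.π h
  simp only [map_mul, S.π_x] at h1
  have h2 := congrFun (congrArg (· *ᵥ ee F r) h1) (Sum.inr (neg r))
  have h3 := congrFun (congrArg (· *ᵥ hv F r) h1) (Sum.inr (neg r))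
  have h4 : D.xMat F (neg r) b *ᵥ ee F (neg r) = ee F (neg r) := xMat_ee_self _ _
  simp [← mulVec_mulVec, xMat_ee_self, xMat_neg_ee, xMat_ee_neg, xMat_hv, mulVec_sub, mulVec_add,
    mulVec_smul, neg_ne, mulVec_neg] at h2 h3
  have h5 : (1 + a * b) * (1 + a * b + 2) = 0 := by
    apply mul_left_cancel₀ (pow_ne_zero 2 hb)
    linear_combination h2
  have h6 : 2 * (1 + a * b) ^ 2 = 0 := by
    rcases h3 with (h3 | h3) | h3
    · rw [h3, zero_mul]
    · exact absurd h3 hb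
    · linear_combination 2 * h3
  have h7 : (1 + a * b) ^ 3 = 0 := by linear_combination (1 + a * b) * h5 - h6
  have h8 := pow_eq_zero_iff (three_ne_zero) |>.1 h7
  have ha : a ≠ 0 := by rintro rfl; simp at h8
  field_simp
  linear_combination h8

variable [Conn D]

theorem not_commute {r : Rt D} {t u : F} (ht : t ≠ 0) (hu : u ≠ 0) :
    ¬ Commute (S.x r t) (S.x (neg r) u) := fun h => by
  have h1 : Commute (S.x r u⁻¹)⁻¹ (S.x r t) := (S.commute_x _ _ _).inv_left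
  have h2 : S.n r (-u⁻¹) = (S.x r u⁻¹)⁻¹ * S.x (neg r) u * (S.x r u⁻¹)⁻¹ := by
    rw [S.x_neg_eq r u]; group
  have h3 : Commute (S.n r (-u⁻¹)) (S.x r t) := h2 ▸ (h1.mul_left h.symm).mul_left h1
  have h4 := S.n_conj_self r (neg_ne_zero.2 (inv_ne_zero hu)) t
  rw [h3.eq, mul_inv_cancel_right] at h4
  exact neg_ne r (S.x_eq_x ht h4).1.symm

theorem UJ_empty : S.UJ ∅ = S.U {r | Pos r} := by
  rw [UJ]
  congr 1
  ext r
  exact ⟨fun h => h.1, fun h => ⟨h, fun h2 => vec_ne_zero r (funext fun i => h2 i id)⟩⟩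

omit [Good D] [Conn D] in
theorem PJ_empty [Good D] : S.PJ ∅ = S.B := by simp [PJ]

theorem V_inf_PJ {j : Ix D} {v : G} (h1 : v ∈ S.U {r | ¬ Pos r}) (h2 : v ∈ S.PJ {j}) :
    ∃ u, v = S.x (neg (simple j)) u := by
  have h0 : ∀ r : Rt D, (-muJ {j}) (vec r) = muJ {j} (vec (neg r)) := fun r => by simp
  obtain ⟨a, ha, b, hb, rfl⟩ := S.split_U (A := {neg (simple j)}) (B := {r | 0 < (-muJ {j}) (vec r)})
    nil_neg (fun r => by
      rw [Set.mem_ofPred_eq, Set.mem_ofPred_eq, h0, muJ_pos_iff, pos_neg_iff]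
      refine ⟨fun h => ?_, ?_⟩
      · by_cases h3 : neg r ∈ PhiJ {j}
        · have : neg r ∈ PhiP {j} := ⟨pos_neg_iff.2 h, h3⟩
          rw [(orth_singleton j).PhiP_eq, Set.image_singleton] at this
          exact Or.inl (neg_eq_iff.1 this)
        · exact Or.inr ⟨h, h3⟩
      · rintro (rfl | h)
        · rw [pos_neg_iff, not_not]; exact pos_simple j
        · exact h.1) h1
  obtain ⟨u, rfl⟩ := S.mem_U_singleton.1 ha
  have h3 : S.x (neg (simple j)) u ∈ S.PJ {j} := by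
    rw [S.PJ_eq]
    exact Subgroup.mem_sup_right (S.x_mem_U (Or.inr (neg_mem_PhiJ.2 (simple_mem_PhiJ.2 (Set.mem_singleton _)))) _)
  have h4 := (mul_mem_cancel_left h3).1 h2
  rw [S.PJ_eq'] at h4
  rw [eq_one_of_inf (S.U_inf_eq_bot (μ := -muJ {j}) (fun _ h => h) (closed_gt _ le_rfl)
    (fun r h => by simpa using h)) hb h4]
  exact ⟨u, mul_one _⟩

theorem n_not_mem_B (i : Ix D) : S.n (simple i) 1 ∉ S.B := fun h => by
  have h1 := S.φ_eq_one_iff.2 (S.mem_H_of h (S.ns i).2)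
  have h2 := σ_apply i (simple i)
  rw [← S.φ_ns, show S.φ (S.ns i) = 1 from h1, refl_simple] at h2
  exact neg_ne _ h2.symm

variable {S}

theorem exists_perm_neg (hS : S.U Set.univ = ⊤) {θ : MulAut G}
    (hU : ∀ g, θ g ∈ S.U {r | Pos r} ↔ g ∈ S.U {r | Pos r})
    (hV : ∀ g ∈ S.U {r | ¬ Pos r}, θ g ∈ S.U {r | ¬ Pos r}) :
    ∃ π : Perm (Ix D), ∀ i t, ∃ u, θ (S.x (neg (simple i)) t) = S.x (neg (simple (π i))) u := by
  have hB : ∀ g, θ g ∈ S.B ↔ g ∈ S.B := fun g => by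
    have := S.normalizer_UJ ∅
    rw [hS, inf_top_eq, S.UJ_empty, S.PJ_empty] at this
    rw [← this, Subgroup.mem_normalizer_iff, Subgroup.mem_normalizer_iff, θ.surjective.forall]
    simp only [← map_inv, ← map_mul, SetLike.mem_coe, hU]
  have h1 : ∀ j, ∃ k, ∀ t, ∃ u, θ (S.x (neg (simple k)) t) = S.x (neg (simple j)) u := fun j => by
    have h2 := S.eq_PJ (M := (S.PJ {j}).comap θ.toMonoidHom)
      (fun g hg => S.B_le_PJ _ ((hB g).2 hg)) (hS ▸ le_top)
    obtain h3 | ⟨k, h3⟩ := {k | S.n (simple k) 1 ∈ (S.PJ {j}).comap θ.toMonoidHom}.eq_empty_or_nonempty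
    · rw [h3, S.PJ_empty] at h2
      obtain ⟨g, hg⟩ := θ.surjective (S.n (simple j) 1)
      refine absurd (hg ▸ (hB g).2 (h2 ▸ ?_)) (S.n_not_mem_B j)
      exact (hg ▸ S.n_mem_PJ rfl : θ g ∈ S.PJ {j})
    refine ⟨k, fun t => S.V_inf_PJ (hV _ (S.x_mem_U (pos_neg_iff.not.2 (not_not.2 (pos_simple k))) _)) ?_⟩
    change _ ∈ (S.PJ {j}).comap θ.toMonoidHom
    rw [h2, S.PJ_eq]
    exact Subgroup.mem_sup_right (S.x_mem_U (Or.inr (neg_mem_PhiJ.2 (simple_mem_PhiJ.2 h3))) _)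
  choose k hk using h1
  have h2 : Function.Injective k := fun a b e => by
    obtain ⟨u, hu⟩ := hk a 1
    obtain ⟨v, hv⟩ := hk b 1
    have h3 : u ≠ 0 := by
      rintro rfl
      rw [x_zero, map_eq_one_iff _ θ.injective, x_eq_one_iff] at hu
      exact one_ne_zero hu
    rw [← e, hu] at hv
    exact simple_injective (neg_injective (S.x_eq_x h3 hv).1)
  refine ⟨(permOf k h2).symm, fun i t => ?_⟩
  obtain ⟨j, rfl⟩ := (permOf k h2).surjective i
  rw [symm_apply_apply]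
  exact hk j t

variable (S) in
/-- `θ` maps `X_{±α_i}` into `X_{±α_{π i}}`. -/
def St (θ : G → G) (π : Ix D → Ix D) : Prop := ∀ i t,
  (∃ u, θ (S.x (simple i) t) = S.x (simple (π i)) u) ∧
    ∃ u, θ (S.x (neg (simple i)) t) = S.x (neg (simple (π i))) u

theorem exists_st_of (hS : S.U Set.univ = ⊤) {θ : MulAut G}
    (hU : ∀ g, θ g ∈ S.U {r | Pos r} ↔ g ∈ S.U {r | Pos r})
    (hV : ∀ g, θ g ∈ S.U {r | ¬ Pos r} ↔ g ∈ S.U {r | ¬ Pos r}) : ∃ π : Perm (Ix D), S.St θ π := by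
  obtain ⟨π, hπ⟩ := exists_perm_neg hS hU fun g => (hV g).2
  obtain ⟨n, hn⟩ := S.φ_surjective (wJ Set.univ)
  have a1 : ∀ g ∈ S.U {r | Pos r}, n * g * (n : G)⁻¹ ∈ S.U {r | ¬ Pos r} := fun g =>
    S.N_conj_U n fun r h => by rw [hn]; exact (pos_wJ_univ r).not.2 (not_not.2 h)
  have a2 : ∀ g ∈ S.U {r | ¬ Pos r}, n * g * (n : G)⁻¹ ∈ S.U {r | Pos r} := fun g =>
    S.N_conj_U n fun r h => by rw [hn]; exact (pos_wJ_univ r).2 h
  have a3 : ∀ g ∈ S.U {r | Pos r}, (n : G)⁻¹ * g * n ∈ S.U {r | ¬ Pos r} := fun g =>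
    S.N_conj_U' n fun r h => by rw [hn, inv_wJ']; exact (pos_wJ_univ r).not.2 (not_not.2 h)
  have a4 : ∀ g ∈ S.U {r | ¬ Pos r}, (n : G)⁻¹ * g * n ∈ S.U {r | Pos r} := fun g =>
    S.N_conj_U' n fun r h => by rw [hn, inv_wJ']; exact (pos_wJ_univ r).2 h
  obtain ⟨π', hπ'⟩ := exists_perm_neg hS (θ := (MulAut.conj (n : G))⁻¹ * θ * MulAut.conj (n : G))
    (fun g => ⟨fun h => by
      simpa [mul_assoc] using a4 _ ((hV (n * g * (n : G)⁻¹)).1 (by simpa [mul_assoc] using a1 _ h)),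
      fun h => a4 _ ((hV _).2 (a1 _ h))⟩) fun g h => a3 _ ((hU _).2 (a2 _ h))
  obtain ⟨γ, h1, -, h2⟩ := S.acts_φ n
  have h3 : ∀ i, ∃ j, ∀ t, ∃ u, θ (S.x (simple i) t) = S.x (simple j) u := fun i => by
    obtain ⟨k, hk⟩ := exists_w0_simple i
    obtain ⟨j, hj⟩ := exists_w0_simple (π' k)
    have hk' : wJ Set.univ (neg (simple k)) = simple i := by
      rw [← hk, ← wg_neg, neg_neg', wJ_wJ]
    refine ⟨j, fun t => ?_⟩
    obtain ⟨u, hu⟩ := hπ' k ((γ _)⁻¹ * t)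
    rw [MulAut.mul_apply, MulAut.mul_apply, MulAut.conj_apply, h2, mul_inv_cancel_left₀ (h1 _), hn, hk',
      MulAut.conj_inv_apply] at hu
    exact ⟨_, by rw [← hj, ← hn, ← h2, ← hu]; group⟩
  choose k hk using h3
  refine ⟨π, fun i t => ⟨?_, hπ i t⟩⟩
  rw [show π i = k i from by_contra fun e => ?_]
  · exact hk i t
  obtain ⟨u, hu⟩ := hk i 1
  obtain ⟨v, hv⟩ := hπ i 1
  have := S.commute_of_not_btw (r := simple (k i)) (s := neg (simple (π i)))
    (fun h => e (simple_injective (neg_injective h))) (not_btw_simple (Ne.symm e)) u v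
  rw [← hu, ← hv] at this
  exact S.not_commute one_ne_zero one_ne_zero (Commute.of_map θ.injective this)

theorem exists_st [Finite F] (hS : S.U Set.univ = ⊤) (hπ : Function.Injective S.π) (θ : MulAut G) :
    ∃ (g : G) (π : Perm (Ix D)), S.St (MulAut.conj g * θ : MulAut G) π := by
  have := S.finite_of_top hS hπ
  obtain ⟨p, hp⟩ := CharP.exists F
  have : Fact p.Prime := ⟨CharP.char_is_prime F p⟩
  obtain ⟨P, hP⟩ := S.exists_sylow p hS hπ
  obtain ⟨n0, -, -, h0⟩ := S.exists_n0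
  have hc : Nat.card (S.U {r | ¬ Pos r}) = Nat.card (S.U {r | Pos r}) := by
    rw [← h0, Subgroup.card_map_of_injective (MulAut.conj n0).injective]
  obtain ⟨g, hg⟩ := MulAction.exists_smul_eq G (θ • P) P
  have h1 : ∀ a, (MulAut.conj g * θ) a ∈ S.U {r | Pos r} ↔ a ∈ S.U {r | Pos r} := fun a => by
    rw [← hP]
    conv_lhs => rw [← hg]
    rw [Sylow.coe_subgroup_smul, Sylow.pointwise_smul_def, ← mul_smul]
    exact Subgroup.smul_mem_pointwise_smul_iff
  generalize e : MulAut.conj g * θ = θ₁ at h1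
  obtain ⟨g', hg'⟩ := MulAction.exists_smul_eq G P ((θ₁ * MulAut.conj n0) • P)
  have h2 : ∀ a, g'⁻¹ * θ₁ a * g' ∈ S.U {r | Pos r} ↔ a ∈ S.U {r | ¬ Pos r} := fun a => by
    have := congrArg (fun Q : Sylow p G => θ₁ a ∈ (Q : Subgroup G)) hg'
    simp only [Sylow.coe_subgroup_smul, Sylow.pointwise_smul_def, mul_smul,
      Subgroup.mem_pointwise_smul_iff_inv_smul_mem, hP] at this
    rw [← h0, Subgroup.mem_map_equiv]
    simpa using this
  obtain ⟨u, hu, n, v, hv, rfl⟩ := S.exists_bruhat' (hS ▸ Subgroup.mem_top g')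
  have hv' : v ∈ S.U {r | Pos r} := S.U_mono (fun _ h => h.1) hv
  have h3 : ∀ a, (n : G)⁻¹ * (u⁻¹ * θ₁ a * u) * n ∈ S.U {r | Pos r} ↔ a ∈ S.U {r | ¬ Pos r} := fun a => by
    rw [← h2, ← mul_mem_cancel_left (inv_mem hv'), ← mul_mem_cancel_right hv']
    simp [mul_assoc]
  have h4 : ∀ r, Pos r → ¬ Pos (S.φ n r) := fun r hr h => by
    obtain ⟨γ, h5, -, h6⟩ := S.acts_φ n
    obtain ⟨a, ha⟩ := θ₁.surjective (u * S.x (S.φ n r) (γ r * 1) * u⁻¹)
    have h7 := (h1 a).1 (ha ▸ mul_mem (mul_mem hu (S.x_mem_U h _)) (inv_mem hu))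
    have h8 := (h3 a).1 (by rw [ha, ← h6]; simpa [mul_assoc] using S.x_mem_U hr 1)
    rw [eq_one_of_inf S.V_inf_B h8 (S.U_le_B h7), map_one, eq_comm, mul_inv_eq_one, mul_eq_left,
      x_eq_one_iff, mul_one] at ha
    exact h5 r ha
  obtain ⟨π, h5⟩ := exists_st_of hS (θ := MulAut.conj u⁻¹ * θ₁) (fun a => by
    rw [← h1 a, MulAut.mul_apply, MulAut.conj_apply, mul_mem_cancel_right (inv_mem (inv_mem hu)),
      mul_mem_cancel_left (inv_mem hu)]) (mem_iff_of_map_le (fun a ha => by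
      simpa [mul_assoc] using S.N_conj_U n h4 ((h3 a).2 ha)) le_rfl)
  exact ⟨u⁻¹ * g, π, by rwa [map_mul, mul_assoc, e]⟩

end StSys
end Chev
end H5
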