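import Cfsg.Agent.H5.St1
import Cfsg.Agent.H5.Words

/-! The Weyl group as a group of permutations of the roots. -/

set_option autoImplicit false

namespace H5
namespace Chev

open Cfsg.Lie Cfsg.Lie.ChevalleyDatum Equiv

variable {D : ChevalleyDatum} [Good D]

/-- the reflection in a root as a permutation of the roots -/
noncomputable def rp (r : Rt D) : Perm (Rt D) := Function.Involutive.toPerm (rrefl r) (rrefl_rrefl r)

@[simp] theorem rp_apply (r s : Rt D) : rp r s = rrefl r s := rfl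

@[simp] theorem rp_mul_self (r : Rt D) : rp r * rp r = 1 := by ext s; simp

@[simp] theorem rp_inv (r : Rt D) : (rp r)⁻¹ = rp r := inv_eq_of_mul_eq_one_right (rp_mul_self r)

@[simp] theorem rp_neg (r : Rt D) : rp (neg r) = rp r := by ext s; simp

/-- automorphisms of the root system -/
structure IsAut (w : Perm (Rt D)) : Prop where
  lin : ∃ L : Lat D →ₗ[ℤ] Lat D, ∀ r, vec (w r) = L (vec r)
  pair : ∀ r s, pair (w r) (w s) = pair r s

theorem IsAut.one : IsAut (1 : Perm (Rt D)) := ⟨⟨LinearMap.id, fun _ => rfl⟩, fun _ _ => rfl⟩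

theorem IsAut.mul {v w : Perm (Rt D)} (hv : IsAut v) (hw : IsAut w) : IsAut (v * w) := by
  obtain ⟨L, hL⟩ := hv.lin
  obtain ⟨L', hL'⟩ := hw.lin
  exact ⟨⟨L ∘ₗ L', fun r => by simp [hL, hL']⟩, fun r s => by simp [hv.pair, hw.pair]⟩

theorem IsAut.pow {w : Perm (Rt D)} (hw : IsAut w) (n : ℕ) : IsAut (w ^ n) := by
  induction n with
  | zero => simpa using IsAut.one
  | succ n ih => rw [pow_succ]; exact ih.mul hw

theorem IsAut.inv {w : Perm (Rt D)} (hw : IsAut w) : IsAut w⁻¹ := by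
  have : w⁻¹ = w ^ (orderOf w - 1) := by
    apply inv_eq_of_mul_eq_one_right
    rw [← pow_succ', Nat.sub_add_cancel (orderOf_pos w), pow_orderOf_eq_one]
  rw [this]; exact hw.pow _

/-- the automorphism group of the root system -/
def AutG (D : ChevalleyDatum) [Good D] : Subgroup (Perm (Rt D)) where
  carrier := {w | IsAut w}
  one_mem' := IsAut.one
  mul_mem' := IsAut.mul
  inv_mem' := IsAut.inv

namespace IsAut
variable {w : Perm (Rt D)} (hw : IsAut w)
include hw

theorem map_neg (r : Rt D) : w (neg r) = neg (w r) := by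
  obtain ⟨L, hL⟩ := hw.lin
  apply vec_injective
  simp [hL]

theorem map_rrefl (r s : Rt D) : w (rrefl r s) = rrefl (w r) (w s) := by
  obtain ⟨L, hL⟩ := hw.lin
  apply vec_injective
  rw [hL, vec_rrefl, vec_rrefl, map_sub, map_smul, hw.pair, hL, hL]

theorem conj_rp (r : Rt D) : w * rp r * w⁻¹ = rp (w r) := by
  ext s; simp [hw.map_rrefl]

theorem mul_rp (r : Rt D) : w * rp r = rp (w r) * w := by rw [← hw.conj_rp]; simp

theorem btw {r s k : Rt D} (h : Btw r s k) : Btw (w r) (w s) (w k) := by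
  obtain ⟨L, hL⟩ := hw.lin
  obtain ⟨i, j, hi, hj, h⟩ := h
  exact ⟨i, j, hi, hj, by rw [hL, hL, hL, h, map_add, map_smul, map_smul]⟩

theorem btw_iff {r s k : Rt D} : Btw (w r) (w s) (w k) ↔ Btw r s k :=
  ⟨fun h => by simpa using hw.inv.btw h, hw.btw⟩

theorem closed_preimage {A : Set (Rt D)} (h : Closed A) : Closed {r | w r ∈ A} :=
  fun _ hr _ hs _ hk => h _ hr _ hs _ (hw.btw hk)

theorem closed_image {A : Set (Rt D)} (h : Closed A) : Closed (w '' A) := by
  have := hw.inv.closed_preimage h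
  convert this using 1
  ext r
  exact ⟨by rintro ⟨s, hs, rfl⟩; simpa using hs, fun h => ⟨_, h, by simp⟩⟩

end IsAut

theorem isAut_rp_simple (i : Ix D) : IsAut (rp (simple i)) :=
  ⟨⟨sref (simple i), fun r => vec_rrefl' _ r⟩, fun r s => by simp⟩

/-- the Weyl group -/
def Wg (D : ChevalleyDatum) [Good D] : Subgroup (Perm (Rt D)) :=
  Subgroup.closure (Set.range fun i => rp (simple i))

theorem Wg_le_AutG : Wg D ≤ AutG D := by
  rw [Wg, Subgroup.closure_le]
  rintro _ ⟨i, rfl⟩
  exact isAut_rp_simple i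

theorem isAut_of_mem {w : Perm (Rt D)} (h : w ∈ Wg D) : IsAut w := Wg_le_AutG h

theorem rp_simple_mem (i : Ix D) : rp (simple i) ∈ Wg D := Subgroup.subset_closure ⟨i, rfl⟩

theorem rp_mem (r : Rt D) : rp r ∈ Wg D := by
  induction r using root_induction with
  | h0 i => exact rp_simple_mem i
  | hs i r ih =>
    have := (isAut_rp_simple i).conj_rp r
    rw [rp_apply, rrefl_simple] at this
    rw [← this]
    exact mul_mem (mul_mem (rp_simple_mem i) ih) (inv_mem (rp_simple_mem i))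

theorem isAut_rp (r : Rt D) : IsAut (rp r) := isAut_of_mem (rp_mem r)

@[simp] theorem pair_rrefl (r s k : Rt D) : pair (rrefl r s) (rrefl r k) = pair s k :=
  (isAut_rp r).pair s k

/-- the fundamental reflections as generators of the Weyl group -/
noncomputable def wgen (D : ChevalleyDatum) [Good D] : InvGen (Ix D) (Wg D) where
  σ i := ⟨rp (simple i), rp_simple_mem i⟩
  sq i := Subtype.ext (rp_mul_self _)
  gen := by
    rintro ⟨w, hw⟩
    induction hw using Subgroup.closure_induction_left with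
    | one => exact ⟨[], rfl⟩
    | mul_left x hx y hy ih =>
      obtain ⟨i, rfl⟩ := hx
      obtain ⟨l, hl⟩ := ih
      exact ⟨i :: l, by rw [List.map_cons, List.prod_cons, hl]; rfl⟩
    | inv_mul_cancel x hx y hy ih =>
      obtain ⟨i, rfl⟩ := hx
      obtain ⟨l, hl⟩ := ih
      exact ⟨i :: l, by rw [List.map_cons, List.prod_cons, hl]; exact Subtype.ext (by simp)⟩

/-- the action of the Weyl group on the roots -/
instance wCoe : CoeFun (Wg D) fun _ => Rt D → Rt D := ⟨fun w => (w : Perm (Rt D))⟩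

local notation "σ" => InvGen.σ (wgen D)
local notation "ℓ" => InvGen.len (wgen D)
local notation "wp" => InvGen.wp (wgen D)

@[simp] theorem coe_σ (i : Ix D) : ((σ i : Wg D) : Perm (Rt D)) = rp (simple i) := rfl

theorem σ_apply (i : Ix D) (r : Rt D) : σ i r = refl i r := by simp

theorem wg_aut (w : Wg D) : IsAut (w : Perm (Rt D)) := isAut_of_mem w.2

@[simp] theorem wg_neg (w : Wg D) (r : Rt D) : w (neg r) = neg (w r) := (wg_aut w).map_neg r

@[simp] theorem wg_symm_neg (w : Wg D) (r : Rt D) :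
    (w : Perm (Rt D)).symm (neg r) = neg ((w : Perm (Rt D)).symm r) := wg_neg w⁻¹ r

@[simp] theorem wg_pair (w : Wg D) (r s : Rt D) : pair (w r) (w s) = pair r s := (wg_aut w).pair r s

theorem wg_ln (w : Wg D) (r : Rt D) : ln (w r) = ln r := by
  obtain ⟨l, rfl⟩ := (wgen D).gen w
  induction l with
  | nil => rfl
  | cons i l ih => simpa using ih

theorem exists_wg_simple (r : Rt D) : ∃ (w : Wg D) (i : Ix D), w (simple i) = r := by
  induction r using root_induction with
  | h0 i => exact ⟨1, i, rfl⟩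
  | hs i r ih =>
    obtain ⟨w, j, rfl⟩ := ih
    exact ⟨σ i * w, j, by simp⟩

theorem mul_σ_of_apply {w : Wg D} {i j : Ix D} (h : w (simple i) = simple j) : w * σ i = σ j * w :=
  Subtype.ext (by simpa [h] using (wg_aut w).mul_rp (simple i))

theorem exch (l : List (Ix D)) {r : Rt D} (hr : Pos r) (h : ¬ Pos ((wp l)⁻¹ r)) :
    ∃ l₁ j l₂, l = l₁ ++ j :: l₂ ∧ wp l₁ (simple j) = r := by
  induction l generalizing r with
  | nil => exact absurd hr h
  | cons j l ih =>
    by_cases h1 : r = simple j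
    · exact ⟨[], j, l, rfl, h1.symm⟩
    · obtain ⟨l₁, k, l₂, rfl, h2⟩ := ih (pos_refl hr h1) (by simpa using h)
      refine ⟨j :: l₁, k, l₂, rfl, ?_⟩
      rw [InvGen.wp_cons, Subgroup.coe_mul, Perm.mul_apply, h2]
      simp

theorem len_σ_mul_lt {w : Wg D} {i : Ix D} (h : ¬ Pos (w⁻¹ (simple i))) : ℓ (σ i * w) < ℓ w := by
  obtain ⟨l, hl, rfl⟩ := (wgen D).exists_reduced w
  obtain ⟨l₁, j, l₂, rfl, h2⟩ := exch l (pos_simple i) h
  have : σ i * wp (l₁ ++ j :: l₂) = wp (l₁ ++ l₂) := by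
    rw [InvGen.wp_append, InvGen.wp_append, InvGen.wp_cons, ← mul_assoc, ← mul_σ_of_apply h2]
    simp [mul_assoc]
  rw [this, ← hl]
  refine ((wgen D).len_wp_le _).trans_lt ?_
  simp

theorem len_lt_σ_mul {w : Wg D} {i : Ix D} (h : Pos (w⁻¹ (simple i))) : ℓ w < ℓ (σ i * w) := by
  have := len_σ_mul_lt (w := σ i * w) (i := i) (by simpa [pos_neg_iff] using h)
  simpa using this

theorem len_σ_mul_of_pos {w : Wg D} {i : Ix D} (h : Pos (w⁻¹ (simple i))) :
    ℓ (σ i * w) = ℓ w + 1 := by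
  have := len_lt_σ_mul h
  have := (wgen D).len_σ_mul_le i w
  omega

theorem len_σ_mul_of_neg {w : Wg D} {i : Ix D} (h : ¬ Pos (w⁻¹ (simple i))) :
    ℓ (σ i * w) + 1 = ℓ w := by
  have := len_σ_mul_lt h
  have := (wgen D).len_le_σ_mul i w
  omega

theorem len_mul_σ_of_pos {w : Wg D} {i : Ix D} (h : Pos (w (simple i))) :
    ℓ (w * σ i) = ℓ w + 1 := by
  rw [← (wgen D).len_inv, ← (wgen D).len_inv w, mul_inv_rev, InvGen.inv_σ]
  exact len_σ_mul_of_pos (by simpa using h)

theorem len_mul_σ_of_neg {w : Wg D} {i : Ix D} (h : ¬ Pos (w (simple i))) :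
    ℓ (w * σ i) + 1 = ℓ w := by
  rw [← (wgen D).len_inv, ← (wgen D).len_inv w, mul_inv_rev, InvGen.inv_σ]
  exact len_σ_mul_of_neg (by simpa using h)

theorem pos_of_len_mul_σ {w : Wg D} {i : Ix D} (h : ℓ w ≤ ℓ (w * σ i)) : Pos (w (simple i)) := by
  by_contra hc
  have := len_mul_σ_of_neg hc
  omega

theorem neg_of_len_mul_σ {w : Wg D} {i : Ix D} (h : ℓ (w * σ i) ≤ ℓ w) : ¬ Pos (w (simple i)) := by
  intro hc
  have := len_mul_σ_of_pos hc
  omega

theorem pos_of_len_σ_mul {w : Wg D} {i : Ix D} (h : ℓ w ≤ ℓ (σ i * w)) : Pos (w⁻¹ (simple i)) := by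
  by_contra hc
  have := len_σ_mul_of_neg hc
  omega

theorem neg_of_len_σ_mul {w : Wg D} {i : Ix D} (h : ℓ (σ i * w) ≤ ℓ w) :
    ¬ Pos (w⁻¹ (simple i)) := by
  intro hc
  have := len_σ_mul_of_pos hc
  omega

theorem wgen_exchange : (wgen D).Exchange := by
  intro i l h
  obtain ⟨l₁, j, l₂, rfl, h2⟩ := exch l (pos_simple i) (neg_of_len_σ_mul h)
  exact ⟨l₁, j, l₂, rfl, (mul_σ_of_apply h2).symm⟩

theorem eq_one_of_pos {w : Wg D} (h : ∀ i, Pos (w (simple i))) : w = 1 := by
  by_contra hc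
  obtain ⟨i, hi⟩ := (wgen D).exists_right_descent hc
  exact neg_of_len_mul_σ (by omega) (h i)

theorem pos_of_forall_simple {w : Perm (Rt D)} (hw : IsAut w) {r : Rt D} (hr : Pos r)
    (h : ∀ i, vec r i ≠ 0 → Pos (w (simple i))) : Pos (w r) := by
  obtain ⟨L, hL⟩ := hw.lin
  have e : vec r = ∑ i, vec r i • vec (simple i) := by
    ext j; simp [vec_simple, Pi.single_apply]
  rw [pos_iff_vec]
  intro j
  rw [hL, e, map_sum, Finset.sum_apply]
  apply Finset.sum_nonneg
  intro i _
  rw [map_smul, ← hL, Pi.smul_apply, smul_eq_mul]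
  by_cases h0 : vec r i = 0
  · simp [h0]
  · exact mul_nonneg (pos_iff_vec.1 hr i) (pos_iff_vec.1 (h i h0) j)

theorem neg_of_forall_simple {w : Perm (Rt D)} (hw : IsAut w) {r : Rt D} (hr : Pos r)
    (h : ∀ i, vec r i ≠ 0 → ¬ Pos (w (simple i))) : ¬ Pos (w r) := by
  obtain ⟨L, hL⟩ := hw.lin
  have e : vec r = ∑ i, vec r i • vec (simple i) := by
    ext j; simp [vec_simple, Pi.single_apply]
  rw [not_pos_iff_vec]
  intro j
  rw [hL, e, map_sum, Finset.sum_apply]
  apply Finset.sum_nonpos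
  intro i _
  rw [map_smul, ← hL, Pi.smul_apply, smul_eq_mul]
  by_cases h0 : vec r i = 0
  · simp [h0]
  · exact mul_nonpos_of_nonneg_of_nonpos (pos_iff_vec.1 hr i) (not_pos_iff_vec.1 (h i h0) j)

/-- the positive roots made negative by `w` -/
def Inv (w : Rt D → Rt D) : Set (Rt D) := {r | Pos r ∧ ¬ Pos (w r)}

/-- the positive roots kept positive by `w` -/
def Inv' (w : Rt D → Rt D) : Set (Rt D) := {r | Pos r ∧ Pos (w r)}

theorem closed_inv {w : Perm (Rt D)} (hw : IsAut w) : Closed (Inv w) :=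
  closed_pos.inter (hw.closed_preimage closed_neg)

theorem closed_inv' {w : Perm (Rt D)} (hw : IsAut w) : Closed (Inv' w) :=
  closed_pos.inter (hw.closed_preimage closed_pos)

theorem inv_mul_σ {w : Wg D} {i : Ix D} (h : Pos (w (simple i))) :
    Inv (w * σ i : Wg D) = insert (simple i) (refl i '' Inv w) := by
  ext r
  constructor
  · rintro ⟨h1, h2⟩
    by_cases h3 : r = simple i
    · exact Or.inl h3
    · exact Or.inr ⟨refl i r, ⟨pos_refl h1 h3, by simpa using h2⟩, refl_refl i r⟩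
  · rintro (rfl | ⟨s, ⟨h1, h2⟩, rfl⟩)
    · exact ⟨pos_simple i, by simpa [pos_neg_iff] using h⟩
    · exact ⟨pos_refl h1 (by rintro rfl; exact h2 h), by simpa using h2⟩

theorem ncard_inv (w : Wg D) : (Inv w).ncard = ℓ w := by
  induction w using (wgen D).induction_len_right with
  | one => simp [Inv]
  | step i w h ih =>
    have hp := pos_of_len_mul_σ (w := w) (i := i) (by omega)
    rw [inv_mul_σ hp, Set.ncard_insert_of_notMem, Set.ncard_image_of_injective _ (refl_injective i),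
      ih, h]
    rintro ⟨s, ⟨h1, -⟩, h2⟩
    have : s = neg (simple i) := by rw [← refl_refl i s, h2, refl_simple]
    rw [this, pos_neg_iff] at h1
    exact h1 (pos_simple i)

variable (D) in
theorem exists_w0 : ∃ w : Wg D, ∀ r, Pos (w r) ↔ ¬ Pos r := by
  obtain ⟨w, hw⟩ := Finite.exists_max (fun w : Wg D => ℓ w)
  have h1 : ∀ r, Pos r → ¬ Pos (w r) := fun r hr =>
    neg_of_forall_simple (wg_aut w) hr fun i _ => neg_of_len_mul_σ (hw _)
  refine ⟨w, fun r => ⟨fun h hr => h1 r hr h, fun h => ?_⟩⟩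
  have := h1 (neg r) (pos_neg_iff.2 h)
  rwa [wg_neg, pos_neg_iff, not_not] at this

theorem σ_injective : Function.Injective (wgen D).σ := by
  intro i j h
  by_contra hc
  have h1 : σ i (simple i) = σ j (simple i) := by rw [h]
  have := pos_refl (i := j) (pos_simple i) (fun e => hc (simple_injective e))
  rw [← σ_apply, ← h1, σ_apply, refl_simple, pos_neg_iff] at this
  exact this (pos_simple i)

theorem wg_ext {v w : Wg D} (h : ∀ i, v (simple i) = w (simple i)) : v = w := by
  have : w⁻¹ * v = 1 := eq_one_of_pos fun i => by simp [h, pos_simple]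
  exact (inv_mul_eq_one.1 this).symm

end Chev
end H5
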