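import Cfsg.Agent.H5.G9

/-! Embeddings of root systems with signs; twisting data. -/

set_option autoImplicit false

namespace H5
namespace Gen

open Cfsg Equiv

variable {D D' : RS} {F F' : Type*} [Field F] [Field F'] [Rep D F]

omit [Rep D F] in
theorem cword_map (θ : F →+* F') (r s : Rt D) (t u : F) :
    cword F' r s (θ t) (θ u) = (cword F r s t u).map fun p => (p.1, θ p.2) := by
  simp [cword, Function.comp_def]

omit [Rep D F] in
theorem ker_chiHom_eq_bot (T : Matrix (Ix D) (Ix D) ℤ) (h : T * cartanM D = 1) :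
    (chiHom D F).ker = ⊥ := by
  rw [← Subgroup.card_eq_one, card_ker_chiHom, Nat.card_eq_one_iff_unique]
  refine ⟨⟨fun x y => Subtype.ext ?_⟩, ⟨⟨0, mv_zero _⟩⟩⟩
  rw [← mv_one x.1, ← mv_one y.1, ← h, mv_mul, mv_mul, x.2, y.2]

theorem StSys.HMul.hp_injective [Conn D] {G : Type*} [Group G] {S : StSys D F G} (hS : S.HMul)
    (h : (chiHom D F).ker = ⊥) : Function.Injective hS.hp := by
  rw [injective_iff_map_eq_one]
  intro c hc
  rw [← Subgroup.mem_bot, ← h, ← hS.π_hp_eq_one, hc, map_one]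

/-! ### twisting data -/

/-- a symmetry `ρ` of the roots with signs and field automorphisms -/
structure TwD (D : RS) (F : Type*) [Field F] where
  ρ : Perm (Rt D)
  τ : Perm (Ix D)
  γ : Rt D → F
  θ : Rt D → F ≃+* F
  γ_sq : ∀ r, γ r * γ r = 1
  γ_neg : ∀ r, γ (neg r) = γ r
  θ_neg : ∀ r, θ (neg r) = θ r
  ρ_neg : ∀ r, ρ (neg r) = neg (ρ r)
  ρ_pos : ∀ r, Pos (ρ r) ↔ Pos r
  ρ_simple : ∀ i, ρ (simple i) = simple (τ i)
  γ_simple : ∀ i, γ (simple i) = 1

/-- an endomorphism of the group inducing the twisting data -/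
structure Tw {G : Type*} [Group G] (S : StSys D F G) extends TwD D F where
  σ : G →* G
  σ_x : ∀ r t, σ (S.x r t) = S.x (ρ r) (γ r * θ r t)

namespace TwD

variable (Θ : TwD D F) {G : Type*} [Group G]

omit [Rep D F] in
theorem γ_ne (r : Rt D) : Θ.γ r ≠ 0 := left_ne_zero_of_mul_eq_one (Θ.γ_sq r)

omit [Rep D F] in
theorem exists_eq (r : Rt D) (u : F) : ∃ t, Θ.γ r * Θ.θ r t = u :=
  ⟨(Θ.θ r).symm (Θ.γ r * u), by rw [RingEquiv.apply_symm_apply, ← mul_assoc, Θ.γ_sq, one_mul]⟩

theorem exists_tw [Conn D] {S : StSys D F G} (hS : S.U Set.univ = ⊤) (hπ : Function.Injective S.π)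
    (h : Rels fun r t => S.x (Θ.ρ r) (Θ.γ r * Θ.θ r t)) : ∃ T : Tw S, T.toTwD = Θ := by
  obtain ⟨f, hf⟩ := StSys.exists_hom_of_rels' hS h (by
    rw [eq_top_iff, ← hS, S.U_le_iff]
    intro r _ t
    obtain ⟨r, rfl⟩ := Θ.ρ.surjective r
    obtain ⟨t, rfl⟩ := Θ.exists_eq r t
    exact Subgroup.subset_closure ⟨r, t, rfl⟩) (StSys.center_eq_bot hS hπ)
  exact ⟨⟨Θ, f, hf⟩, rfl⟩

end TwD

/-- the permutation of a finite type given by an injective map -/
noncomputable def permOf {α : Type*} [Finite α] (f : α → α) (h : Function.Injective f) : Perm α :=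
  Equiv.ofBijective f (Finite.injective_iff_bijective.1 h)

@[simp] theorem permOf_apply {α : Type*} [Finite α] (f : α → α) (h : Function.Injective f) (a : α) :
    permOf f h a = f a := rfl

/-- the twisting data of a field automorphism -/
def fieldTwD (D : RS) (θ : F ≃+* F) : TwD D F where
  ρ := 1
  τ := 1
  γ _ := 1
  θ _ := θ
  γ_sq _ := mul_one _
  γ_neg _ := rfl
  θ_neg _ := rfl
  ρ_neg _ := rfl
  ρ_pos _ := Iff.rfl
  ρ_simple _ := rfl
  γ_simple _ := rfl

theorem rels_field {G : Type*} [Group G] (S : StSys D F G) (θ : F →+* F) :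
    Rels fun r t => S.x r (θ t) where
  add r t u := by rw [S.add, map_add]
  comm r s h1 h2 t u := by rw [S.comm _ _ h1 h2, cword_map, List.map_map]; rfl
  nrel r t u ht := by simpa [nn] using S.nrel r (θ t) (θ u) (by simpa using ht)

end Gen
end H5
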