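import Cfsg.Agent.H5.GT4

/-! Subfield subgroups and fixed points of field automorphisms. -/

set_option autoImplicit false

namespace H5
namespace Gen

open Cfsg Equiv

theorem exists_fixed_field {F : Type*} [Field F] [Fintype F] (σ : F ≃+* F) :
    ∃ (F₀ : Type) (_ : Field F₀) (_ : Fintype F₀) (ι : F₀ →+* F),
      Fintype.card F = Fintype.card F₀ ^ orderOf σ ∧ ∀ t, σ t = t ↔ t ∈ ι.range := by
  classical
  let K := FixedPoints.subfield (Subgroup.zpowers σ) F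
  have : Finite (F ≃+* F) := Finite.of_injective _ DFunLike.coe_injective
  let _ : Fintype (F ≃+* F) := Fintype.ofFinite _
  let e := Shrink.ringEquiv.{0} K
  let _ : Fintype (Shrink.{0} K) := Fintype.ofFinite _
  refine ⟨Shrink.{0} K, inferInstance, inferInstance, K.subtype.comp e.toRingHom, ?_,
    fun t => ⟨fun h => ?_, ?_⟩⟩
  · rw [Fintype.card_congr (β := K) e.toEquiv, Module.card_eq_pow_finrank (K := K) (V := F),
      FixedPoints.finrank_eq_card, Fintype.card_zpowers]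
  · have : t ∈ K := by
      rintro ⟨g, k, rfl⟩
      exact MulAction.mem_fixedBy_zpow (show t ∈ MulAction.fixedBy F σ from h) k
    exact ⟨e.symm ⟨t, this⟩, by simp⟩
  · rintro ⟨a, rfl⟩
    exact (e a).2 ⟨σ, Subgroup.mem_zpowers σ⟩

variable {D : RS} {F : Type*} [Field F] [Rep D F]

variable {G : Type*} [Group G] {S : StSys D F G} [Conn D]

theorem StSys.HMul.hp_mem_of (hS : S.HMul) {K : Subgroup G} {c : Ix D → Fˣ}
    (h : ∀ i, S.h (simple i) (c i) ∈ K) : hS.hp c ∈ K := by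
  rw [← Finset.univ_prod_mulSingle c]
  refine Finset.prod_induction _ (fun c => hS.hp c ∈ K) (fun a b ha hb => ?_) (by simp) fun i _ => ?_
  · rw [map_mul]; exact mul_mem ha hb
  · rw [hS.hp_single]; exact h i

namespace Tw

variable {T : Tw S}

theorem Ne.exists_H (h : T.Ne) {g : G} (hg : g ∈ S.U Set.univ) (hf : g ∈ T.Fix) :
    ∃ a ∈ T.G0, ∃ b ∈ S.H ⊓ T.Fix, g = a * b := by
  obtain ⟨u, hu, n, hn, v, hv, rfl⟩ := T.bruhat_fix hg hf
  obtain ⟨m, hm, e⟩ := h.exists_n _ (T.φ_mem_W1 hn)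
  have hb : (m : G)⁻¹ * n ∈ S.H ⊓ T.Fix :=
    ⟨S.φ_eq_φ_iff.1 e, T.Fix.mul_mem (T.Fix.inv_mem (T.G0_le_Fix hm)) hn⟩
  refine ⟨u * m * (((m : G)⁻¹ * n) * v * ((m : G)⁻¹ * n)⁻¹), mul_mem (mul_mem (h.U_le hu) hm)
    (T.H_conj_G0 hb (h.U_le ⟨S.U_mono (fun _ h => h.1) hv.1, hv.2⟩)), _, hb, by group⟩

theorem Ne.Fix_eq (h : T.Ne) (hS : S.U Set.univ = ⊤) (hH : S.H ⊓ T.Fix ≤ T.G0) : T.Fix = T.G0 := by
  refine le_antisymm (fun g hg => ?_) T.G0_le_Fix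
  obtain ⟨a, ha, b, hb, rfl⟩ := h.exists_H (hS ▸ Subgroup.mem_top g) hg
  exact mul_mem ha (hH hb)

theorem hp_mem_of_τ (h : ∀ i, T.τ i = i) (hM : S.HMul) : ∀ c ∈ T.C0, hM.hp c ∈ T.G0 := fun c hc =>
  hM.hp_mem_of fun i => h_mem1 (h i) (by rw [← T.mem_C0.1 hc, h])

theorem Fix_eq_of_τ (h : ∀ i, T.τ i = i) (hS : S.U Set.univ = ⊤) (hM : S.HMul)
    (hi : Function.Injective hM.hp) : T.Fix = T.G0 := by
  refine Ne.Fix_eq (fun i => VO1_ne (h i)) hS ?_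
  rw [T.H_fix hM hi]
  rintro _ ⟨c, hc, rfl⟩
  exact hp_mem_of_τ h hM c hc

theorem G0_field {θ : F ≃+* F} (h : T.toTwD = fieldTwD D θ) :
    T.G0 = Subgroup.closure {g | ∃ r t, θ t = t ∧ g = S.x r t} := by
  have h1 : ∀ i, T.τ i = i := fun i => by rw [h]; rfl
  have h2 : ∀ r, T.θ r = θ := fun i => by rw [h]; rfl
  have hne : T.Ne := fun i => VO1_ne (h1 i)
  refine le_antisymm (T.G0_le_iff.2 fun i => ⟨fun g hg => ?_, fun g hg => ?_⟩)
    ((Subgroup.closure_le _).2 ?_)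
  · obtain ⟨t, ht, rfl⟩ := (mem_UO1 (h1 i)).1 hg
    exact Subgroup.subset_closure ⟨_, t, h2 _ ▸ ht, rfl⟩
  · obtain ⟨t, ht, rfl⟩ := (mem_VO1 (h1 i)).1 hg
    exact Subgroup.subset_closure ⟨_, t, h2 _ ▸ ht, rfl⟩
  · rintro _ ⟨r, t, ht, rfl⟩
    have : S.x r t ∈ T.Fix := (T.x_mem_Fix (by rw [h]; rfl)).2 (by
      rw [Tw.f, h]; exact (one_mul _).trans ht)
    by_cases hr : Pos r
    · exact hne.U_le ⟨S.x_mem_U hr t, this⟩
    · exact hne.V_le ⟨S.x_mem_U hr t, this⟩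

end Tw

omit [Conn D] in
def fieldTw {φ : G →* G} {σ : F ≃+* F} (h : ∀ r t, φ (S.x r t) = S.x r (σ t)) : Tw S where
  toTwD := fieldTwD D σ
  σ := φ
  σ_x r t := (h r t).trans (congrArg _ (one_mul _).symm)

end Gen
end H5
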