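import Cfsg.Agent.H5.G11

/-! Sylow subgroups, centralizers of subfield subgroups, involutory field automorphisms. -/

set_option autoImplicit false

namespace H5
namespace Gen

open Cfsg Equiv

variable {D : RS} {F : Type*} [Field F] [Rep D F] {G : Type*} [Group G]

theorem closed_pos_ne (i : Ix D) : Closed {r : Rt D | Pos r ∧ r ≠ simple i} := by
  rintro r ⟨hr, h1⟩ s ⟨hs, h2⟩ k hk
  refine ⟨closed_pos r hr s hs k hk, ?_⟩
  rintro rfl
  obtain ⟨j, hj, h3⟩ := exists_vec_ne h1 (fun e => pos_neg_iff.1 (e ▸ hr) (pos_simple i))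
  obtain ⟨a, b, ha, hb, e⟩ := hk
  have h4 := congrFun e j
  have h5 := pos_iff_vec.1 hr j
  have h6 := pos_iff_vec.1 hs j
  simp only [vec_simple, Pi.single_eq_of_ne hj, Pi.add_apply, Pi.smul_apply, smul_eq_mul] at h4
  have : (0 : ℤ) < a * vec r j := mul_pos (by exact_mod_cast ha) (lt_of_le_of_ne h5 h3.symm)
  have : (0 : ℤ) ≤ b * vec s j := mul_nonneg (by positivity) h6
  omega

theorem btw_pos_ne {i : Ix D} {r s k : Rt D} (hr : Pos r) (hs : Pos s) (h : Btw r s k) :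
    Pos k ∧ k ≠ simple i := by
  refine ⟨closed_pos r hr s hs k h, ?_⟩
  rintro rfl
  by_cases h1 : r = simple i
  · by_cases h2 : s = simple i
    · subst h1 h2; exact not_btw_self _ _ h
    · have := (nil_pos.btw hr hs h).2.1
      rw [h1] at this; exact lt_irrefl _ this
  · by_cases h2 : s = simple i
    · have := (nil_pos.btw hr hs h).2.2
      rw [h2] at this; exact lt_irrefl _ this
    · exact (closed_pos_ne i r ⟨hr, h1⟩ s ⟨hs, h2⟩ _ h).2 rfl

theorem card_pow_of_charP [Finite F] (p : ℕ) [Fact p.Prime] [CharP F p] :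
    ∃ k, 0 < k ∧ Nat.card F = p ^ k := by
  let _ := Fintype.ofFinite F
  obtain ⟨n, -, h⟩ := FiniteField.card F p
  exact ⟨n, n.2, by rw [Nat.card_eq_fintype_card, h]⟩

theorem not_dvd_card_sub_one [Finite F] (p : ℕ) [hp : Fact p.Prime] [CharP F p] :
    ¬ p ∣ Nat.card F - 1 := by
  obtain ⟨k, hk, h⟩ := card_pow_of_charP (F := F) p
  intro h1
  have h2 : p ∣ Nat.card F := h ▸ dvd_pow_self p hk.ne'
  have := (Nat.dvd_sub_iff_right Nat.card_pos h2).1 h1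
  exact hp.out.one_lt.ne' (Nat.dvd_one.1 this)

theorem PW_modEq {q p : ℕ} (h : p ∣ q) : (fold1 D).PW Set.univ q ≡ 1 [MOD p] := by
  classical
  rw [PW_univ, ← Finset.add_sum_erase _ _ (Finset.mem_univ 1), InvGen.len_one, pow_zero]
  refine (Nat.modEq_iff_dvd' (Nat.le_add_right _ _)).2 ?_ |>.symm
  rw [Nat.add_sub_cancel_left]
  exact Finset.dvd_sum fun w hw => h.trans (dvd_pow_self _ (mt (wgen D).len_eq_zero.1
    (Finset.ne_of_mem_erase hw)))

namespace StSys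

variable (S : StSys D F G)

theorem isPGroup_U [Finite F] (p : ℕ) [Fact p.Prime] [CharP F p] {μ : Lat D →ₗ[ℤ] ℤ}
    {A : Set (Rt D)} (h : Nil μ A) : IsPGroup p (S.U A) := by
  obtain ⟨k, -, hk⟩ := card_pow_of_charP (F := F) p
  exact IsPGroup.of_card (by rw [S.card_U h, hk, ← pow_mul])

theorem conj_pos_ne (i : Ix D) {b g : G} (hb : b ∈ S.U {r | Pos r})
    (hg : g ∈ S.U {r | Pos r ∧ r ≠ simple i}) : b * g * b⁻¹ ∈ S.U {r | Pos r ∧ r ≠ simple i} :=
  S.U_conj_mem (fun _ hr _ hs => ⟨nil_pos.ne_neg hr hs.1, fun _ => btw_pos_ne hr hs.1⟩) b hb g hg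

theorem comm_pos_ne (i : Ix D) {a b : G} (ha : a ∈ S.U {r | Pos r}) (hb : b ∈ S.U {r | Pos r}) :
    a⁻¹ * b⁻¹ * a * b ∈ S.U {r | Pos r ∧ r ≠ simple i} :=
  S.U_comm_mem (fun _ hr _ hs => ⟨nil_pos.ne_neg hr hs.1, fun _ => btw_pos_ne hr hs.1⟩)
    (fun _ hr _ hs => ⟨nil_pos.ne_neg hr hs.1, fun _ => btw_pos_ne hr hs.1⟩)
    (fun _ hr _ hs => ⟨nil_pos.ne_neg hr hs, fun _ => btw_pos_ne hr hs⟩) a ha b hb

variable [Conn D]

theorem not_dvd_card_H [Finite F] (p : ℕ) [hp : Fact p.Prime] [CharP F p]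
    (hπ : Function.Injective S.π) : ¬ p ∣ Nat.card S.H := fun h =>
  not_dvd_card_sub_one (F := F) p (hp.out.dvd_of_dvd_pow
    (S.card_ker_mul_card_H hπ ▸ h.mul_left _))

theorem finite_of_top [Finite F] (hS : S.U Set.univ = ⊤) (hπ : Function.Injective S.π) : Finite G :=
  Finite.of_injective _ hπ

theorem not_dvd_index_U [Finite F] (p : ℕ) [hp : Fact p.Prime] [CharP F p] (hS : S.U Set.univ = ⊤)
    (hπ : Function.Injective S.π) : ¬ p ∣ (S.U {r | Pos r}).index := by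
  have h1 := (S.U {r | Pos r}).card_mul_index
  have h2 := S.card_G
  rw [hS, Subgroup.card_top, S.card_B, ← h1, S.card_U nil_pos, ncard_pos, mul_assoc] at h2
  rw [Nat.eq_of_mul_eq_mul_left (pow_pos Nat.card_pos _) h2, hp.out.dvd_mul, not_or]
  refine ⟨S.not_dvd_card_H p hπ, fun h => ?_⟩
  obtain ⟨k, hk, e⟩ := card_pow_of_charP (F := F) p
  have := (PW_modEq (D := D) (e ▸ dvd_pow_self p hk.ne' : p ∣ Nat.card F)).dvd_iff (dvd_refl p)
  exact hp.out.one_lt.ne' (Nat.dvd_one.1 (this.1 h))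

theorem exists_sylow [Finite F] (p : ℕ) [hp : Fact p.Prime] [CharP F p] (hS : S.U Set.univ = ⊤)
    (hπ : Function.Injective S.π) : ∃ P : Sylow p G, (P : Subgroup G) = S.U {r | Pos r} :=
  have := S.finite_of_top hS hπ
  ⟨(S.isPGroup_U p nil_pos).toSylow (S.not_dvd_index_U p hS hπ), rfl⟩

theorem U_inf_B {μ : Lat D →ₗ[ℤ] ℤ} {A : Set (Rt D)} (h : Nil μ A) {g : G} (h1 : g ∈ S.U A)
    (h2 : g ∈ S.B) : g ∈ S.U (A ∩ {r | Pos r}) := by
  obtain ⟨a, ha, b, hb, rfl⟩ := S.split_U (A := A ∩ {r | Pos r}) (B := A ∩ {r | ¬ Pos r}) h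
    (fun r => by by_cases Pos r <;> simp [*]) h1
  rw [eq_one_of_inf S.V_inf_B (S.U_mono Set.inter_subset_right hb)
    ((mul_mem_cancel_left (S.U_le_B (S.U_mono Set.inter_subset_right ha))).1 h2), mul_one]
  exact ha

theorem nil_image {μ : Lat D →ₗ[ℤ] ℤ} {A : Set (Rt D)} (h : Nil μ A) (w : Wg D) :
    ∃ μ', Nil μ' (w '' A) := by
  obtain ⟨L, hL⟩ := (wg_aut w⁻¹).lin
  refine exists_nil (μ := μ.comp L) ?_ ((wg_aut w).closed_image h.closed)
  rintro _ ⟨r, hr, rfl⟩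
  rw [LinearMap.comp_apply, ← hL]
  simpa using h.pos r hr

/-- if `n y n⁻¹ ∈ U(C)` then it lies in `U(wA ∩ C)` -/
theorem conj_mem_inter {μ : Lat D →ₗ[ℤ] ℤ} {A C : Set (Rt D)} (h : Nil μ A) (hC : C ⊆ {r | Pos r})
    (cC : Closed C) (n : S.N) {y : G} (h1 : y ∈ S.U A) (h2 : n * y * (n : G)⁻¹ ∈ S.U C) :
    n * y * (n : G)⁻¹ ∈ S.U (S.φ n '' A ∩ C) := by
  obtain ⟨μ', h'⟩ := nil_image h (S.φ n)
  have h3 := S.U_inf_B h' (S.N_conj_U n (fun r hr => Set.mem_image_of_mem _ hr) h1) (S.U_le_B (S.U_mono hC h2))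
  have h4 : n * y * (n : G)⁻¹ ∈ S.U (S.φ n '' A ∩ {r | Pos r}) ⊓ S.U C := ⟨h3, h2⟩
  rw [S.U_inf_U nil_pos Set.inter_subset_right hC (h'.closed.inter closed_pos) cC] at h4
  exact S.U_mono (fun r hr => Set.mem_inter hr.1.1 hr.2) h4

theorem mem_B_of_conj {g : G} (hg : g ∈ S.U Set.univ) (h : ∀ i, ∃ t ≠ 0,
    ∃ y ∈ S.U {r | Pos r ∧ r ≠ simple i}, g * (S.x (simple i) t * y) * g⁻¹ ∈ S.B) : g ∈ S.B := by
  obtain ⟨b, hb, n, v, hv, rfl⟩ := S.exists_bruhat hg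
  have hv' : v ∈ S.U {r | Pos r} := S.U_mono (fun _ h => h.1) hv
  refine mul_mem (mul_mem hb (S.H_le_B (S.φ_eq_one_iff.1 (eq_one_of_pos fun i => ?_)))) (S.U_le_B hv')
  obtain ⟨t, ht, y, hy, h1⟩ := h i
  have hx := S.x_mem_U (A := {r | Pos r}) (pos_simple i) t
  have h2 : v * (S.x (simple i) t * y) * v⁻¹ ∈ S.U {r | Pos r} :=
    mul_mem (mul_mem hv' (mul_mem hx (S.U_mono (fun _ h => h.1) hy))) (inv_mem hv')
  have h3 : n * (v * (S.x (simple i) t * y) * v⁻¹) * (n : G)⁻¹ ∈ S.B := by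
    convert mul_mem (mul_mem (inv_mem hb) h1) hb using 1; group
  obtain ⟨μ', h'⟩ := nil_image nil_pos (S.φ n)
  have h4 := S.N_conj_U' n (B := Inv' (S.φ n)) (by
    rintro _ ⟨⟨r, hr, rfl⟩, h⟩
    simpa [Inv'] using ⟨hr, h⟩)
    (S.U_inf_B h' (S.N_conj_U n (fun r hr => Set.mem_image_of_mem _ hr) h2) h3)
  by_contra hc
  have h5 := S.U_mono (B := {r | Pos r ∧ r ≠ simple i}) (fun r hr => ⟨hr.1, fun e => hc (e ▸ hr.2)⟩) h4
  have h6 : S.x (simple i) t ∈ S.U {r | Pos r ∧ r ≠ simple i} := by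
    convert mul_mem (S.conj_pos_ne i (inv_mem hv') h5) (inv_mem hy) using 1; group
  exact (S.mem_of_x_mem_U (nil_pos.sub (fun _ h => h.1) (closed_pos_ne i)) ht h6).2 rfl

theorem π_eq_one_of_comm {g : G} (hg : g ∈ S.U Set.univ) (h : ∀ r, g * S.x r 1 = S.x r 1 * g) :
    S.π g = 1 := by
  have h1 : ∀ r, g * S.x r (-1) = S.x r (-1) * g := fun r => by
    rw [← S.x_inv]; exact (Commute.inv_right (h r))
  obtain ⟨l, hl⟩ := (wgen D).gen (wJ Set.univ)
  have h2 : ∀ l, Commute g (S.nw l) := fun l => by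
    induction l with
    | nil => exact Commute.one_right _
    | cons i l ih =>
      rw [nw_cons, Subgroup.coe_mul, coe_ns, n, inv_one]
      exact (((show Commute g _ from h _).mul_right (h1 _)).mul_right (h _)).mul_right ih
  have h3 : g ∈ S.B := S.mem_B_of_conj hg fun i => ⟨1, one_ne_zero, 1, one_mem _, by
    rw [mul_one, h, mul_inv_cancel_right]; exact S.x_mem_B (pos_simple i) _⟩
  obtain ⟨c, h4, h5⟩ := S.exists_chi (S.eq_H_of_conj (n := S.nw l) ((S.φ_nw l).trans hl) h3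
    (by rwa [mul_assoc, (h2 l).eq, inv_mul_cancel_left]))
  have : ∀ r, (chi c r : F) = 1 := fun r => by
    have := h5 r 1
    rw [h, mul_inv_cancel_right, mul_one] at this
    exact (S.x_injective r this).symm
  simp [h4, this, dg_one]

omit [Conn D] in
theorem lang_U {μ : Lat D →ₗ[ℤ] ℤ} {A : Set (Rt D)} (hA : Nil μ A) {φ : G →* G} {σ : F ≃+* F}
    (h : ∀ r t, φ (S.x r t) = S.x r (σ t)) (h2 : ∀ g, φ (φ g) = g) (hσ : σ ≠ 1) {u : G}
    (hu : u ∈ S.U A) (e : u * φ u = 1) : ∃ v ∈ S.U A, u = v⁻¹ * φ v := by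
  have hφ : ∀ B g, g ∈ S.U B → φ g ∈ S.U B := fun B g hg => S.U_le_iff.2 (fun r hr t => ?_ :
    ∀ r ∈ B, ∀ t, _ ∈ (S.U B).comap φ) hg
  swap
  · rw [Subgroup.mem_comap, h]; exact S.x_mem_U hr _
  obtain ⟨b, hb⟩ : ∃ b, σ b ≠ b := by
    by_contra hc
    exact hσ (RingEquiv.ext fun b => by simpa using not_exists.1 hc b)
  have key : ∀ n : ℕ, ∃ v ∈ S.U A, v * u * (φ v)⁻¹ ∈ S.U (above μ A n) := by
    intro n
    induction n with
    | zero => exact ⟨1, one_mem _, by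
        simpa using S.U_mono (B := above μ A (0 : ℕ)) (fun r hr => ⟨hr, (hA.pos r hr).le⟩) hu⟩
    | succ n ih =>
      push_cast
      by_cases hm : ∃ r ∈ A, μ (vec r) = n
      · obtain ⟨r, hr, hm⟩ := hm
        rw [← hm] at ih ⊢
        obtain ⟨v, hv, ih⟩ := ih
        obtain ⟨c, y, hy, e1⟩ := S.split_above hA hr ih
        have e2 : S.x r c * y * φ (S.x r c * y) = 1 := by
          rw [← e1, map_mul, map_mul, map_inv, h2]
          calc _ = v * (u * φ u) * v⁻¹ := by group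
            _ = 1 := by rw [e]; group
        have e3 : c + σ c = 0 := by
          refine S.eq_zero_of_x_mem_above hA (r := r) ?_
          rw [map_mul, h] at e2
          rw [← S.add, show S.x r c * S.x r (σ c) = (S.x r c * y⁻¹ * (S.x r c)⁻¹) *
            (S.x r c * y * (S.x r (σ c) * φ y)) * (φ y)⁻¹ by group, e2, mul_one]
          exact mul_mem (S.above_conj_mem hA _ _ (S.x_mem_U hr c) _ (inv_mem hy)) (inv_mem (hφ _ _ hy))
        have hσσ : σ (σ b) = b := S.x_injective r (by rw [← h, ← h, h2])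
        have hb' : σ b - b ≠ 0 := sub_ne_zero.2 hb
        have hb'' : b - σ b ≠ 0 := sub_ne_zero.2 hb.symm
        refine ⟨S.x r (c * b / (σ b - b)) * v, mul_mem (S.x_mem_U hr _) hv, ?_⟩
        have e4 : σ (c * b / (σ b - b)) = c * b / (σ b - b) + c := by
          rw [map_div₀, map_mul, map_sub, hσσ, eq_neg_of_add_eq_zero_right e3]
          field_simp; ring
        rw [map_mul, h, e4, ← S.add, show ∀ a : G, a * v * u * (a * S.x r c * φ v)⁻¹ =
          a * (v * u * (φ v)⁻¹) * (S.x r c)⁻¹ * a⁻¹ from fun a => by group, e1]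
        convert S.above_conj_mem hA _ _ (mul_mem (S.x_mem_U hr (c * b / (σ b - b))) (S.x_mem_U hr c))
          y hy using 1
        group
      · rwa [above_succ_eq hm]
  obtain ⟨N, hN⟩ := exists_above_eq_empty μ A
  obtain ⟨v, hv, h3⟩ := key N
  rw [hN N le_rfl, U_empty, Subgroup.mem_bot] at h3
  exact ⟨v, hv, by rw [← mul_inv_eq_one.1 h3]; group⟩

theorem lang_two [Finite F] [CharP F 2] (hS : S.U Set.univ = ⊤) (hπ : Function.Injective S.π)
    {φ : G →* G} {σ : F ≃+* F} (h : ∀ r t, φ (S.x r t) = S.x r (σ t)) (h2 : ∀ g, φ (φ g) = g)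
    (hσ : σ ≠ 1) {g : G} (e : g * φ g = 1) : ∃ v, g = v⁻¹ * φ v := by
  classical
  have := S.finite_of_top hS hπ
  have hφ : ∀ g ∈ S.U {r | Pos r}, φ g ∈ S.U {r | Pos r} := fun g hg =>
    (fieldTw h).σ_mem_pos hg
  let f : G ⧸ S.U {r | Pos r} → G ⧸ S.U {r | Pos r} := Quotient.map' (fun a => g * φ a) fun a b hab => by
    rw [QuotientGroup.leftRel_apply] at hab ⊢
    simpa [mul_assoc] using hφ _ hab
  have hf : Function.Involutive f := by
    rintro ⟨a⟩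
    change ((g * φ (g * φ a) : G) : G ⧸ S.U {r | Pos r}) = (a : G ⧸ _)
    rw [map_mul, h2, ← mul_assoc, e, one_mul]
  let _ := Fintype.ofFinite (G ⧸ S.U {r | Pos r})
  obtain ⟨⟨a⟩, ha⟩ := Perm.exists_fixed_point_of_prime (p := 2) (n := 1) (σ := hf.toPerm)
    (by rw [← Nat.card_eq_fintype_card]; exact S.not_dvd_index_U 2 hS hπ)
    (by ext a; exact hf a)
  have ha' : (g * φ a)⁻¹ * a ∈ S.U {r | Pos r} := QuotientGroup.eq.1 ha
  obtain ⟨v, -, hv⟩ := S.lang_U nil_pos h h2 hσ (inv_mem ha') (by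
    simp only [mul_inv_rev, inv_inv, map_mul, map_inv, h2]
    calc _ = a⁻¹ * (g * φ g) * a := by group
      _ = 1 := by rw [e]; group)
  refine ⟨v * a⁻¹, ?_⟩
  rw [map_mul, map_inv, mul_inv_rev, inv_inv, mul_assoc, ← mul_assoc v⁻¹, ← hv]; group

end StSys

theorem Tw.Ne.conj_mem [Conn D] {S : StSys D F G} {T : Tw S} (h : T.Ne) (hS : S.U Set.univ = ⊤)
    (hM : S.HMul) {K : Subgroup G} (h1 : T.G0 ≤ K) (h2 : K ≤ T.Fix) {g k : G} (hg : g ∈ T.Fix)
    (hk : k ∈ K) : g * k * g⁻¹ ∈ K := by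
  obtain ⟨a, ha, b, hb, rfl⟩ := h.exists_H (hS ▸ Subgroup.mem_top g) hg
  obtain ⟨a', ha', b', hb', rfl⟩ := h.exists_H (hS ▸ Subgroup.mem_top k) (h2 hk)
  have e := hM.H_comm hb.1 hb'.1
  rw [show a * b * (a' * b') * (a * b)⁻¹ = a * (b * a' * b⁻¹) * (b * b' * b⁻¹) * a⁻¹ by group, e,
    mul_inv_cancel_right]
  exact mul_mem (mul_mem (mul_mem (h1 ha) (h1 (T.H_conj_G0 hb ha')))
    ((mul_mem_cancel_left (h1 ha')).1 hk)) (inv_mem (h1 ha))

end Gen
end H5
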