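import Cfsg.Agent.H5.G2

/-! Filtrations, normal forms in unipotent subgroups. -/

set_option autoImplicit false

namespace H5
namespace Gen

open Matrix

variable {D : RS} {F : Type*} [Field F] [Rep D F]

/-- the degree of a basis vector -/
noncomputable def deg (μ : Lat D →ₗ[ℤ] ℤ) (a : Idx D F) : ℤ := μ (wI a)

theorem deg_neg (μ : Lat D →ₗ[ℤ] ℤ) (a : Idx D F) : deg (-μ) a = - deg μ a := rfl

theorem deg_sub (μ : Lat D →ₗ[ℤ] ℤ) (a b : Idx D F) : deg μ a - deg μ b = μ (wI a - wI b) :=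
  (map_sub _ _ _).symm

/-- matrices raising the degree by at least `m` -/
def Hi (μ : Lat D →ₗ[ℤ] ℤ) (m : ℤ) (X : Matrix (Idx D F) (Idx D F) F) : Prop :=
  ∀ a b, deg μ a - deg μ b < m → X a b = 0

section
variable {μ : Lat D →ₗ[ℤ] ℤ} {m m' : ℤ} {X Y : Matrix (Idx D F) (Idx D F) F}

theorem Hi.mono (h : Hi μ m X) (hm : m' ≤ m) : Hi μ m' X := fun a b hab => h a b (hab.trans_le hm)

theorem Hi.add (h : Hi μ m X) (h' : Hi μ m Y) : Hi μ m (X + Y) := fun a b hab => by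
  simp [h a b hab, h' a b hab]

theorem Hi.neg (h : Hi μ m X) : Hi μ m (-X) := fun a b hab => by simp [h a b hab]

theorem Hi.zero : Hi μ m (0 : Matrix (Idx D F) (Idx D F) F) := fun _ _ _ => rfl

theorem Hi.mul (h : Hi μ m X) (h' : Hi μ m' Y) : Hi μ (m + m') (X * Y) := by
  intro a b hab
  rw [mul_apply]
  apply Finset.sum_eq_zero
  intro c _
  by_cases h1 : deg μ a - deg μ c < m
  · rw [h a c h1, zero_mul]
  · rw [h' c b (by omega), mul_zero]

theorem Hi.diagonal (d : (Idx D F) → F) : Hi μ 0 (diagonal d) := by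
  intro a b hab
  rw [diagonal_apply_ne]
  rintro rfl
  simp at hab

theorem Hi.one : Hi μ 0 (1 : Matrix (Idx D F) (Idx D F) F) := Hi.diagonal _

theorem Hi.pow (h : Hi μ m X) (k : ℕ) : Hi μ (k * m) (X ^ k) := by
  induction k with
  | zero => simpa using Hi.one
  | succ k ih => rw [pow_succ]; push_cast; rw [add_mul, one_mul]; exact ih.mul h

theorem Hi.isNilpotent (h : Hi μ 1 X) : IsNilpotent X := by
  obtain ⟨N, hN⟩ : ∃ N : ℕ, ∀ a : (Idx D F), |deg μ a| < N := by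
    refine ⟨(∑ a : (Idx D F), |deg μ a|).toNat + 1, fun r => ?_⟩
    have := Finset.single_le_sum (f := fun r : (Idx D F) => |deg μ r|) (fun r _ => abs_nonneg _)
      (Finset.mem_univ r)
    omega
  refine ⟨2 * N, ?_⟩
  ext a b
  have h1 := abs_lt.1 (hN a)
  have h2 := abs_lt.1 (hN b)
  exact h.pow (2 * N) a b (by push_cast; omega)

/-- unitriangular matrices of degree at least `m` -/
def Fil (μ : Lat D →ₗ[ℤ] ℤ) (m : ℤ) (M : Matrix (Idx D F) (Idx D F) F) : Prop := Hi μ m (M - 1)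

theorem Fil.one : Fil μ m (1 : Matrix (Idx D F) (Idx D F) F) := by simpa [Fil] using Hi.zero

theorem Fil.mono (h : Fil μ m X) (hm : m' ≤ m) : Fil μ m' X := Hi.mono h hm

theorem Fil.mul (hm : 0 ≤ m) (h : Fil μ m X) (h' : Fil μ m Y) : Fil μ m (X * Y) := by
  have : X * Y - 1 = (X - 1) * (Y - 1) + (X - 1) + (Y - 1) := by noncomm_ring
  rw [Fil, this]
  exact (((Hi.mul h h').mono (by omega)).add h).add h'

theorem Fil.mul_apply (h : Fil μ m X) (h' : Fil μ m' Y) {a b : (Idx D F)}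
    (hab : deg μ a - deg μ b < m + m') : (X * Y - 1) a b = (X - 1) a b + (Y - 1) a b := by
  have : X * Y - 1 = (X - 1) * (Y - 1) + (X - 1) + (Y - 1) := by noncomm_ring
  rw [this, Matrix.add_apply, Matrix.add_apply, Hi.mul h h' a b hab, zero_add]

theorem Fil.hi (hm : 0 ≤ m) (h : Fil μ m X) : Hi μ 0 X := by
  have := (Hi.mono h hm).add Hi.one
  simpa using this

end

theorem fil_xMat {μ : Lat D →ₗ[ℤ] ℤ} {r : Rt D} (hr : 0 ≤ μ (vec r)) (t : F) :
    Fil μ (μ (vec r)) (xMat r t) := by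
  intro a b hab
  by_contra h
  obtain ⟨k, h1, h2⟩ := xMat_apply_ne h
  rw [deg_sub, h2, map_smul, smul_eq_mul] at hab
  nlinarith

theorem lead_ne {μ : Lat D →ₗ[ℤ] ℤ} {m : ℤ} {r : Rt D} {t : F} (ht : t ≠ 0) (h : μ (vec r) < m) :
    ¬ Fil μ m (xMat r t) ∧ ¬ Hi μ m (xMat r t) := by
  obtain ⟨a, b, c, h1, h2, h3⟩ := exists_lead F r
  have h4 : a ≠ b := by rintro rfl; exact vec_ne_zero r (by simpa using h2.symm)
  refine ⟨fun f => ?_, fun f => ?_⟩
  · simpa [h1, h3, h4, ht] using f a b (by rwa [deg_sub, h2])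
  · simpa [h1, h3, ht] using f a b (by rwa [deg_sub, h2])

theorem not_btw_self (r k : Rt D) : ¬ Btw r r k := by
  rintro ⟨i, j, hi, hj, hk⟩
  obtain ⟨ν, h1, h2⟩ := exists_sep r k (by
    rintro rfl
    have := congrArg (pv k) hk
    simp only [map_add, map_smul, pv_vec, pair_self, smul_eq_mul] at this
    omega) (by
    rintro rfl
    have := congrArg (pv r) hk
    simp only [map_add, map_smul, pv_vec, pair_self, smul_eq_mul, pair_neg_right] at this
    omega)
  rw [hk, map_add, map_smul, map_smul, h1] at h2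
  simp at h2

theorem closed_singleton (r : Rt D) : Closed {r} := by
  intro a ha b hb k hk
  rw [Set.mem_singleton_iff] at ha hb
  rw [ha, hb] at hk
  exact absurd hk (not_btw_self r k)

/-- a closed set of roots on which a functional separating the roots is positive -/
structure Nil (μ : Lat D →ₗ[ℤ] ℤ) (A : Set (Rt D)) : Prop where
  reg : Function.Injective fun r : Rt D => μ (vec r)
  pos : ∀ r ∈ A, 0 < μ (vec r)
  closed : Closed A

theorem exists_nil {μ : Lat D →ₗ[ℤ] ℤ} {A : Set (Rt D)} (h : ∀ r ∈ A, 0 < μ (vec r))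
    (hA : Closed A) : ∃ μ', Nil μ' A := by
  obtain ⟨μ', h1, h2⟩ := exists_reg μ
  exact ⟨μ', h1, fun r hr => h2 r (h r hr), hA⟩

theorem nil_pos : Nil ordf {r : Rt D | Pos r} :=
  ⟨ord_inj, fun _ h => pos_iff_ord.1 h, closed_pos⟩

theorem nil_neg : Nil (-ordf) {r : Rt D | ¬ Pos r} :=
  ⟨fun r s h => ord_inj (by simpa using h),
    fun _ h => by simpa using not_pos_iff_ord.1 h, closed_neg⟩

namespace Nil
variable {μ : Lat D →ₗ[ℤ] ℤ} {A B : Set (Rt D)}

theorem sub (h : Nil μ A) (hB : B ⊆ A) (hc : Closed B) : Nil μ B :=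
  ⟨h.reg, fun r hr => h.pos r (hB hr), hc⟩

theorem ne_neg (h : Nil μ A) {r s : Rt D} (hr : r ∈ A) (hs : s ∈ A) : s ≠ neg r := by
  rintro rfl
  have h1 := h.pos _ hr
  have h2 := h.pos _ hs
  simp at h2; omega

theorem btw (h : Nil μ A) {r s k : Rt D} (hr : r ∈ A) (hs : s ∈ A) (hk : Btw r s k) :
    k ∈ A ∧ μ (vec r) < μ (vec k) ∧ μ (vec s) < μ (vec k) := by
  have h1 := h.pos _ hr
  have h2 := h.pos _ hs
  have := hk.le (μ := μ) h1.le h2.le
  exact ⟨h.closed r hr s hs k hk, by omega, by omega⟩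

end Nil

/-- the roots of `A` of degree at least `m` -/
def above (μ : Lat D →ₗ[ℤ] ℤ) (A : Set (Rt D)) (m : ℤ) : Set (Rt D) := {r | r ∈ A ∧ m ≤ μ (vec r)}

theorem above_subset {μ : Lat D →ₗ[ℤ] ℤ} {A : Set (Rt D)} {m : ℤ} : above μ A m ⊆ A :=
  fun _ h => h.1

theorem Nil.above {μ : Lat D →ₗ[ℤ] ℤ} {A : Set (Rt D)} (h : Nil μ A) (m : ℤ) :
    Nil μ (above μ A m) :=
  h.sub above_subset fun r hr s hs k hk =>
    ⟨(h.btw hr.1 hs.1 hk).1, hr.2.trans (h.btw hr.1 hs.1 hk).2.1.le⟩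

theorem exists_above_eq_empty (μ : Lat D →ₗ[ℤ] ℤ) (A : Set (Rt D)) :
    ∃ N : ℕ, ∀ m : ℤ, N ≤ m → above μ A m = ∅ := by
  refine ⟨(∑ r : Rt D, |μ (vec r)|).toNat + 1, fun m hm => ?_⟩
  ext r
  have := Finset.single_le_sum (f := fun r : Rt D => |μ (vec r)|) (fun r _ => abs_nonneg _)
    (Finset.mem_univ r)
  have := le_abs_self (μ (vec r))
  simp only [above, Set.mem_ofPred_eq, Set.mem_empty_iff_false, iff_false, not_and, not_le]
  intro _
  omega

namespace StSys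

variable {G : Type*} [Group G] (S : StSys D F G) {μ : Lat D →ₗ[ℤ] ℤ} {A : Set (Rt D)}

theorem x_injective (r : Rt D) : Function.Injective (S.x r) := fun t u h =>
  xMat_injective r (by rw [← S.π_x, ← S.π_x, h])

theorem x_eq_x {r s : Rt D} {t u : F} (ht : t ≠ 0) (h : S.x r t = S.x s u) : r = s ∧ t = u :=
  xMat_eq_xMat ht (by rw [← S.π_x, ← S.π_x, h])

theorem x_eq_one_iff {r : Rt D} {t : F} : S.x r t = 1 ↔ t = 0 :=
  ⟨fun h => S.x_injective r (by simpa using h), fun h => by simp [h]⟩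

theorem fil_π {m : ℤ} (hm : 0 ≤ m) (h : ∀ r ∈ A, m ≤ μ (vec r)) {g : G} (hg : g ∈ S.U A) :
    Fil μ m (S.π g) := by
  have : Fil μ m (S.π g) ∧ Fil μ m (S.π g⁻¹) := by
    induction hg using Subgroup.closure_induction with
    | mem a ha =>
      obtain ⟨r, hr, t, rfl⟩ := ha
      rw [S.x_inv, S.π_x, S.π_x]
      exact ⟨(fil_xMat (hm.trans (h r hr)) _).mono (h r hr),
        (fil_xMat (hm.trans (h r hr)) _).mono (h r hr)⟩
    | one => simpa using Fil.one
    | mul a b _ _ ha hb =>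
      rw [_root_.mul_inv_rev, map_mul, map_mul]
      exact ⟨ha.1.mul hm hb.1, hb.2.mul hm ha.2⟩
    | inv a _ ha => simpa using ha.symm
  exact this.1

theorem above_conj_mem (h : Nil μ A) (m : ℤ) :
    ∀ b ∈ S.U A, ∀ g ∈ S.U (above μ A m), b * g * b⁻¹ ∈ S.U (above μ A m) :=
  S.U_conj_mem fun r hr s hs => ⟨h.ne_neg hr hs.1, fun k hk =>
    ⟨(h.btw hr hs.1 hk).1, hs.2.trans (h.btw hr hs.1 hk).2.2.le⟩⟩

theorem above_comm_mem (h : Nil μ A) (m : ℤ) :
    ∀ a ∈ S.U (above μ A m), ∀ b ∈ S.U A, a⁻¹ * b⁻¹ * a * b ∈ S.U (above μ A (m + 1)) := by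
  apply S.U_comm_mem
  · intro r hr s hs
    exact ⟨h.ne_neg hr.1 hs.1, fun k hk =>
      ⟨(h.btw hr.1 hs.1 hk).1, hs.2.trans (h.btw hr.1 hs.1 hk).2.2.le⟩⟩
  · intro r hr s hs
    exact ⟨h.ne_neg hr hs.1, fun k hk =>
      ⟨(h.btw hr hs.1 hk).1, hs.2.trans (h.btw hr hs.1 hk).2.2.le⟩⟩
  · intro r hr s hs
    refine ⟨h.ne_neg hr.1 hs, fun k hk => ⟨(h.btw hr.1 hs hk).1, ?_⟩⟩
    have := (h.btw hr.1 hs hk).2.1
    have := hr.2
    omega

theorem isNilpotent_U (h : Nil μ A) : Group.IsNilpotent (S.U A) := by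
  have key : ∀ n : ℕ, (S.U A).lowerCentralSeries n ≤ S.U (above μ A n) := by
    intro n
    induction n with
    | zero => exact S.U_mono fun r hr => ⟨hr, (h.pos r hr).le⟩
    | succ n ih =>
      rw [Subgroup.lowerCentralSeries_succ, Subgroup.commutator_le]
      intro a ha b hb
      have := S.above_comm_mem h n a⁻¹ (inv_mem (ih ha)) b⁻¹ (inv_mem hb)
      simpa [commutatorElement_def] using this
  obtain ⟨N, hN⟩ := exists_above_eq_empty μ A
  apply Subgroup.isNilpotent_of_lowerCentralSeries_eq_bot (n := N)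
  simpa [hN N le_rfl] using key N

theorem split_above (h : Nil μ A) {r : Rt D} (hr : r ∈ A) {g : G}
    (hg : g ∈ S.U (above μ A (μ (vec r)))) :
    ∃ c, ∃ v ∈ S.U (above μ A (μ (vec r) + 1)), g = S.x r c * v := by
  have h1 : above μ A (μ (vec r)) = above μ A (μ (vec r) + 1) ∪ {r} := by
    ext s
    constructor
    · rintro ⟨hs, h2⟩
      rcases h2.eq_or_lt with h2 | h2
      · exact Or.inr (h.reg h2).symm
      · exact Or.inl ⟨hs, h2⟩
    · rintro (hs | rfl)
      · exact ⟨hs.1, by have := hs.2; omega⟩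
      · exact ⟨hr, le_rfl⟩
  rw [h1, U_union, mem_sup_of_le_normalizer] at hg
  · obtain ⟨a, ha, b, hb, rfl⟩ := hg
    obtain ⟨c, rfl⟩ := S.mem_U_singleton.1 hb
    refine ⟨c, _, S.above_conj_mem h _ _ (inv_mem (S.x_mem_U hr c)) a ha, by group⟩
  · exact le_normalizer_of_conj fun g hg =>
      S.above_conj_mem h _ g (S.U_mono (Set.singleton_subset_iff.2 hr) hg)

theorem above_succ_eq {m : ℤ} (hm : ¬ ∃ r ∈ A, μ (vec r) = m) : above μ A (m + 1) = above μ A m := by
  ext s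
  refine ⟨fun hs => ⟨hs.1, by have := hs.2; omega⟩, fun hs => ⟨hs.1, ?_⟩⟩
  have : μ (vec s) ≠ m := fun e => hm ⟨s, hs.1, e⟩
  have := hs.2
  omega

/-- the leading term of a nontrivial element -/
theorem exists_lead (h : Nil μ A) {g : G} (hg : g ∈ S.U A) (h1 : g ≠ 1) :
    ∃ r ∈ A, ∃ c ≠ 0, ∃ v ∈ S.U (above μ A (μ (vec r) + 1)), g = S.x r c * v := by
  by_contra hc
  push Not at hc
  have key : ∀ n : ℕ, g ∈ S.U (above μ A n) := by
    intro n
    induction n with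
    | zero => exact S.U_mono (B := above μ A (0 : ℕ)) (fun r hr => ⟨hr, (h.pos r hr).le⟩) hg
    | succ n ih =>
      push_cast
      by_cases hm : ∃ r ∈ A, μ (vec r) = n
      · obtain ⟨r, hr, hm⟩ := hm
        rw [← hm] at ih ⊢
        obtain ⟨c, v, hv, e⟩ := S.split_above h hr ih
        by_cases h0 : c = 0
        · rw [e, h0]; simpa using hv
        · exact absurd e (hc r hr c h0 v hv)
      · rwa [above_succ_eq hm]
  obtain ⟨N, hN⟩ := exists_above_eq_empty μ A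
  have := key N
  rw [hN N le_rfl] at this
  simp [h1] at this

theorem not_fil_lead {r : Rt D} (hr : 0 < μ (vec r)) {c : F} (hc : c ≠ 0) {v : G}
    (hv : Fil μ (μ (vec r) + 1) (S.π v)) : ¬ Fil μ (μ (vec r) + 1) (S.π (S.x r c * v)) := by
  intro h
  refine (lead_ne hc (lt_add_one (μ (vec r)))).1 fun a b hab => ?_
  have := h a b hab
  rwa [map_mul, S.π_x, (fil_xMat hr.le c).mul_apply hv (by omega), hv _ _ hab, add_zero] at this

theorem fil_above {m : ℤ} (hm : 0 ≤ m) {g : G} (hg : g ∈ S.U (above μ A m)) : Fil μ m (S.π g) :=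
  S.fil_π hm (fun _ h => h.2) hg

theorem mem_above_of_fil (h : Nil μ A) {g : G} (hg : g ∈ S.U A) {m : ℤ} (hf : Fil μ m (S.π g)) :
    g ∈ S.U (above μ A m) := by
  by_cases h1 : g = 1
  · rw [h1]; exact one_mem _
  obtain ⟨r, hr, c, hc, v, hv, rfl⟩ := S.exists_lead h hg h1
  have h0 := h.pos r hr
  have h2 : m ≤ μ (vec r) := by
    by_contra h2
    exact S.not_fil_lead h0 hc (S.fil_above (by omega) hv) (hf.mono (by omega))
  exact mul_mem (S.x_mem_U (A := above μ A m) ⟨hr, h2⟩ c)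
    (S.U_mono (B := above μ A m) (fun s hs => ⟨hs.1, by have := hs.2; omega⟩) hv)

theorem eq_one_of_π (h : Nil μ A) {g : G} (hg : g ∈ S.U A) (h1 : S.π g = 1) : g = 1 := by
  obtain ⟨N, hN⟩ := exists_above_eq_empty μ A
  have := S.mem_above_of_fil h hg (m := N) (by rw [h1]; exact Fil.one)
  simpa [hN N le_rfl] using this

theorem eq_of_π (h : Nil μ A) {g g' : G} (hg : g ∈ S.U A) (hg' : g' ∈ S.U A)
    (h1 : S.π g = S.π g') : g = g' := by
  have := S.eq_one_of_π h (mul_mem (inv_mem hg) hg') (by rw [map_mul, ← h1, ← map_mul]; simp)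
  exact (inv_mul_eq_one.1 this)

theorem U_inf_of_disjoint {B C : Set (Rt D)} (h : Nil μ C) (hA : A ⊆ C) (hB : B ⊆ C) (cA : Closed A)
    (cB : Closed B) (hAB : Disjoint A B) : S.U A ⊓ S.U B = ⊥ := by
  rw [eq_bot_iff]
  rintro g ⟨hgA, hgB⟩
  by_contra h1
  obtain ⟨r, hr, c, hc, v, hv, e⟩ := S.exists_lead (h.sub hA cA) hgA h1
  obtain ⟨s, hs, d, hd, w, hw, e'⟩ := S.exists_lead (h.sub hB cB) hgB h1
  have h0 := h.pos r (hA hr)
  have h0' := h.pos s (hB hs)
  have f1 : Fil μ (μ (vec r)) (S.π g) := by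
    rw [e, map_mul, S.π_x]
    exact (fil_xMat h0.le c).mul h0.le ((S.fil_above (by omega) hv).mono (by omega))
  have f2 : Fil μ (μ (vec s)) (S.π g) := by
    rw [e', map_mul, S.π_x]
    exact (fil_xMat h0'.le d).mul h0'.le ((S.fil_above (by omega) hw).mono (by omega))
  have n1 := S.not_fil_lead h0 hc (S.fil_above (by omega) hv)
  have n2 := S.not_fil_lead h0' hd (S.fil_above (by omega) hw)
  rw [← e] at n1
  rw [← e'] at n2
  rcases lt_trichotomy (μ (vec r)) (μ (vec s)) with h3 | h3 | h3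
  · exact n1 (f2.mono h3)
  · have := h.reg h3
    subst this
    exact hAB.ne_of_mem hr hs rfl
  · exact n2 (f1.mono h3)

theorem mem_of_x_mem_U (h : Nil μ A) {r : Rt D} {t : F} (ht : t ≠ 0) (hx : S.x r t ∈ S.U A) :
    r ∈ A := by
  by_contra hr
  by_cases h0 : 0 < μ (vec r)
  · have hN : Nil μ {s | 0 < μ (vec s)} := ⟨h.reg, fun _ h => h, closed_gt μ le_rfl⟩
    have := S.U_inf_of_disjoint hN (A := A) (B := {r}) h.pos (by simpa using h0) h.closed ?_
      (by simpa using hr)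
    · have h2 : S.x r t ∈ (⊥ : Subgroup G) := this ▸ ⟨hx, S.x_mem_U (Set.mem_singleton r) t⟩
      exact ht (S.x_eq_one_iff.1 h2)
    · exact closed_singleton r
  · have f := S.fil_π (μ := μ) (m := 1) zero_le_one h.pos hx
    rw [S.π_x] at f
    exact (lead_ne ht (by omega)).1 f

end StSys

end Gen
end H5
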