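import Cfsg.Agent.H5.G3

/-! Ordered products of root elements, and the matrix realisation. -/

set_option autoImplicit false

namespace H5
namespace Gen

open Matrix

variable {D : RS} {F : Type*} [Field F] [Rep D F]

namespace StSys

variable {G : Type*} [Group G] (S : StSys D F G) {μ : Lat D →ₗ[ℤ] ℤ} {A : Set (Rt D)}

/-- the ordered product `∏_{r ∈ L} x_r(t_r)` -/
def pr (L : List (Rt D)) (t : Rt D → F) : G := (L.map fun r => S.x r (t r)).prod

@[simp] theorem pr_nil (t : Rt D → F) : S.pr [] t = 1 := rfl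
@[simp] theorem pr_cons (r : Rt D) (L : List (Rt D)) (t : Rt D → F) :
    S.pr (r :: L) t = S.x r (t r) * S.pr L t := by simp [pr]
@[simp] theorem pr_append (L L' : List (Rt D)) (t : Rt D → F) :
    S.pr (L ++ L') t = S.pr L t * S.pr L' t := by simp [pr]

theorem pr_congr {L : List (Rt D)} {t t' : Rt D → F} (h : ∀ r ∈ L, t r = t' r) :
    S.pr L t = S.pr L t' := by
  unfold pr
  congr 1
  exact List.map_congr_left fun r hr => by rw [h r hr]

theorem pr_mem {K : Subgroup G} {L : List (Rt D)} {t : Rt D → F} (h : ∀ r ∈ L, S.x r (t r) ∈ K) :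
    S.pr L t ∈ K := by
  apply Subgroup.list_prod_mem
  intro g hg
  obtain ⟨p, hp, rfl⟩ := List.mem_map.1 hg
  exact h p hp

theorem pr_mem_U {L : List (Rt D)} (h : ∀ r ∈ L, r ∈ A) (t : Rt D → F) : S.pr L t ∈ S.U A :=
  S.pr_mem fun r hr => S.x_mem_U (h r hr) _

theorem pr_zero (L : List (Rt D)) : S.pr L 0 = 1 := by
  induction L with
  | nil => rfl
  | cons r L ih => simp [ih]

theorem pr_eq_wd (L : List (Rt D)) (t : Rt D → F) : S.pr L t = S.wd (L.map fun r => (r, t r)) := by
  simp [pr, wd, Function.comp_def]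

theorem pr_agree (h : Nil μ A) (m : ℤ) {L : List (Rt D)} (hL : ∀ r ∈ L, r ∈ A) {t t' : Rt D → F}
    (ht : ∀ r ∈ L, μ (vec r) < m → t r = t' r) :
    (S.pr L t)⁻¹ * S.pr L t' ∈ S.U (above μ A m) := by
  induction L with
  | nil => simp
  | cons s L ih =>
    have ih := ih (fun r hr => hL r (by simp [hr])) (fun r hr => ht r (by simp [hr]))
    have hP := S.pr_mem_U (A := A) (L := L) (fun r hr => hL r (by simp [hr])) t
    have h1 : (S.x s (t s))⁻¹ * S.x s (t' s) ∈ S.U (above μ A m) := by
      by_cases hs : μ (vec s) < m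
      · rw [ht s (by simp) hs]; simp
      · rw [S.x_inv, S.add]
        exact S.x_mem_U (A := above μ A m) ⟨hL s (by simp), not_lt.1 hs⟩ _
    have := mul_mem (S.above_conj_mem h m _ (inv_mem hP) _ h1) ih
    convert this using 1
    simp only [pr_cons]; group

theorem pr_shift (h : Nil μ A) {L : List (Rt D)} (hL : ∀ r ∈ L, r ∈ A) (hn : L.Nodup) {r : Rt D}
    (hr : r ∈ L) (t : Rt D → F) (c : F) :
    (S.pr L t * S.x r c)⁻¹ * S.pr L (Function.update t r (t r + c)) ∈
      S.U (above μ A (μ (vec r) + 1)) := by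
  induction L with
  | nil => simp at hr
  | cons s L ih =>
    rw [List.nodup_cons] at hn
    by_cases hs : r = s
    · subst hs
      have hP := S.pr_mem_U (A := A) (L := L) (fun r hr => hL r (by simp [hr])) t
      have := S.above_comm_mem h (μ (vec r)) _
        (S.x_mem_U (A := above μ A _) ⟨hL r (by simp), le_rfl⟩ c) _ hP
      convert this using 1
      rw [pr_cons, pr_cons, Function.update_self, ← S.add,
        S.pr_congr (t := Function.update t r (t r + c)) (t' := t)]
      · group
      · intro s hs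
        rw [Function.update_of_ne]
        rintro rfl
        exact hn.1 hs
    · have := ih (fun r hr => hL r (by simp [hr])) hn.2 (by simpa [hs] using hr)
      convert this using 1
      rw [pr_cons, pr_cons, Function.update_of_ne (Ne.symm hs)]
      group

theorem exists_pr (h : Nil μ A) {L : List (Rt D)} (hL : ∀ r, r ∈ L ↔ r ∈ A) (hn : L.Nodup) {g : G}
    (hg : g ∈ S.U A) : ∃ t, g = S.pr L t := by
  have key : ∀ n : ℕ, ∃ t, (S.pr L t)⁻¹ * g ∈ S.U (above μ A n) := by
    intro n
    induction n with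
    | zero =>
      refine ⟨0, ?_⟩
      rw [pr_zero, inv_one, one_mul]
      exact S.U_mono (B := above μ A (0 : ℕ)) (fun r hr => ⟨hr, (h.pos r hr).le⟩) hg
    | succ n ih =>
      push_cast
      obtain ⟨t, ih⟩ := ih
      by_cases hm : ∃ r ∈ A, μ (vec r) = n
      · obtain ⟨r, hr, hm⟩ := hm
        rw [← hm] at ih ⊢
        obtain ⟨c, v, hv, e⟩ := S.split_above h hr ih
        refine ⟨Function.update t r (t r + c), ?_⟩
        have := mul_mem (inv_mem (S.pr_shift h (fun r => (hL r).1) hn ((hL r).2 hr) t c)) hv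
        convert this using 1
        rw [eq_inv_mul_iff_mul_eq.2 e.symm]; group
      · exact ⟨t, by rwa [above_succ_eq hm]⟩
  obtain ⟨N, hN⟩ := exists_above_eq_empty μ A
  obtain ⟨t, ht⟩ := key N
  rw [hN N le_rfl, U_empty, Subgroup.mem_bot, inv_mul_eq_one] at ht
  exact ⟨t, ht.symm⟩

theorem eq_zero_of_x_mem_above (h : Nil μ A) {r : Rt D} {c : F}
    (hx : S.x r c ∈ S.U (above μ A (μ (vec r) + 1))) : c = 0 := by
  by_contra hc
  have := (S.mem_of_x_mem_U (h.above _) hc hx).2
  omega

theorem pr_inj_mod (h : Nil μ A) {L : List (Rt D)} (hL : ∀ r ∈ L, r ∈ A) (hn : L.Nodup)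
    {t t' : Rt D → F} {m : ℤ} (e : (S.pr L t)⁻¹ * S.pr L t' ∈ S.U (above μ A m)) :
    ∀ r ∈ L, μ (vec r) < m → t r = t' r := by
  have key : ∀ n : ℕ, ∀ r ∈ L, μ (vec r) < m → μ (vec r) < n → t r = t' r := by
    intro n
    induction n with
    | zero => intro r hr _ h0; have := h.pos r (hL r hr); omega
    | succ n ih =>
      intro r hr hm h0
      by_cases h1 : μ (vec r) < n
      · exact ih r hr hm h1
      have h2 := S.pr_shift h hL hn hr t (t' r - t r)
      have h3 := S.pr_agree h (μ (vec r) + 1) hL (t := Function.update t r (t r + (t' r - t r)))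
        (t' := t') (fun s hs hs' => by
          by_cases hsr : s = r
          · subst hsr; simp
          · rw [Function.update_of_ne hsr]
            have : μ (vec s) ≠ μ (vec r) := fun e => hsr (h.reg e)
            exact ih s hs (by omega) (by omega))
      have h4 := S.U_mono (B := above μ A (μ (vec r) + 1))
        (fun s hs => ⟨hs.1, by have := hs.2; omega⟩) e
      have h5 : S.x r (t' r - t r) ∈ S.U (above μ A (μ (vec r) + 1)) := by
        convert mul_mem h4 (inv_mem (mul_mem h2 h3)) using 1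
        group
      exact (sub_eq_zero.1 (S.eq_zero_of_x_mem_above h h5)).symm
  intro r hr hm
  exact key (μ (vec r) + 1).toNat r hr hm (by omega)

theorem pr_inj (h : Nil μ A) {L : List (Rt D)} (hL : ∀ r ∈ L, r ∈ A) (hn : L.Nodup)
    {t t' : Rt D → F} (e : S.pr L t = S.pr L t') : ∀ r ∈ L, t r = t' r := fun r hr =>
  S.pr_inj_mod h hL hn (m := μ (vec r) + 1) (by rw [e]; simp) r hr (by omega)

theorem card_U (h : Nil μ A) : Nat.card (S.U A) = Nat.card F ^ A.ncard := by
  classical
  let L := (Set.toFinite A).toFinset.toList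
  have hL : ∀ r, r ∈ L ↔ r ∈ A := by simp [L]
  have hn : L.Nodup := Finset.nodup_toList _
  let f : (A → F) → S.U A := fun t =>
    ⟨S.pr L fun r => if h : r ∈ A then t ⟨r, h⟩ else 0, S.pr_mem_U (fun r => (hL r).1) _⟩
  have hf : Function.Bijective f := by
    constructor
    · intro t t' e
      ext ⟨r, hr⟩
      have := S.pr_inj h (fun r => (hL r).1) hn (congrArg Subtype.val e) r ((hL r).2 hr)
      simpa [hr] using this
    · rintro ⟨g, hg⟩
      obtain ⟨t, rfl⟩ := S.exists_pr h hL hn hg
      refine ⟨fun r => t r, Subtype.ext (S.pr_congr fun r hr => ?_)⟩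
      simp [(hL r).1 hr]
  rw [← Nat.card_eq_of_bijective f hf, Nat.card_fun, Nat.card_coe_set_eq]

/-- `U_C = U_A U_B` when `C = A ∪ B` -/
theorem split_U {B C : Set (Rt D)} (h : Nil μ C) (hC : ∀ r, r ∈ C ↔ r ∈ A ∨ r ∈ B) {g : G}
    (hg : g ∈ S.U C) : ∃ a ∈ S.U A, ∃ b ∈ S.U B, g = a * b := by
  classical
  obtain ⟨t, rfl⟩ := S.exists_pr h
    (L := (Set.toFinite A).toFinset.toList ++ (Set.toFinite (B \ A)).toFinset.toList)
    (fun r => by simp [hC r]; tauto) (by
      rw [List.nodup_append]
      refine ⟨Finset.nodup_toList _, Finset.nodup_toList _, ?_⟩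
      intro a ha b hb e
      subst e
      simp at ha hb
      exact hb.2 ha) hg
  exact ⟨_, S.pr_mem_U (by simp) t, _, S.pr_mem_U (by simp; tauto) t, S.pr_append _ _ _⟩

theorem U_inf_U {B C : Set (Rt D)} (h : Nil μ C) (hA : A ⊆ C) (hB : B ⊆ C) (cA : Closed A)
    (cB : Closed B) : S.U A ⊓ S.U B = S.U (A ∩ B) := by
  classical
  refine le_antisymm ?_ (le_inf (S.U_mono Set.inter_subset_left) (S.U_mono Set.inter_subset_right))
  rintro g ⟨hgA, hgB⟩
  let L := (Set.toFinite C).toFinset.toList
  have hL : ∀ r, r ∈ L ↔ r ∈ C := by simp [L]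
  have hn : L.Nodup := Finset.nodup_toList _
  have key : ∀ A : Set (Rt D), A ⊆ C → Closed A → g ∈ S.U A →
      ∃ t : Rt D → F, (∀ r, r ∉ A → t r = 0) ∧ g = S.pr L t := by
    intro A hA cA hg
    obtain ⟨t, rfl⟩ := S.exists_pr (h.sub hA cA) (L := L.filter (· ∈ A))
      (fun r => by simp [hL]; exact fun h => hA h) (hn.filter _) hg
    refine ⟨fun r => if r ∈ A then t r else 0, fun r hr => if_neg hr, ?_⟩
    generalize L = L
    induction L with
    | nil => rfl
    | cons r L ih => by_cases hr : r ∈ A <;> simp [hr, ih]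
  obtain ⟨t, ht, e⟩ := key A hA cA hgA
  obtain ⟨t', ht', e'⟩ := key B hB cB hgB
  have := S.pr_inj h (fun r => (hL r).1) hn (e.symm.trans e')
  rw [e]
  apply S.pr_mem
  intro r hr
  by_cases h1 : r ∈ A
  · by_cases h2 : r ∈ B
    · exact S.x_mem_U (A := A ∩ B) ⟨h1, h2⟩ _
    · rw [this r hr, ht' r h2]; simp
  · rw [ht r h1]; simp

end StSys

/-- the matrix realisation -/
noncomputable def glSys (D : RS) (F : Type*) [Field F] [Rep D F] : StSys D F (GL (Idx D F) F) where
  x := xg F
  add := rels_xg.add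
  comm := rels_xg.comm
  nrel := rels_xg.nrel
  π := Units.coeHom _
  π_x _ _ := rfl

@[simp] theorem glSys_x (r : Rt D) (t : F) : (glSys D F).x r t = xg F r t := rfl
@[simp] theorem glSys_π (g : GL (Idx D F) F) : (glSys D F).π g = g := rfl

/-- the number of positive roots -/
noncomputable def npos (D : RS) : ℕ := {r : Rt D | Pos r}.ncard

theorem ncard_pos : {r : Rt D | Pos r}.ncard = npos D := rfl

end Gen
end H5
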