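import Cfsg.Agent.H5.G4
import Cfsg.Agent.H5.GW1

/-! The elements `n_r(t)`, `h_r(t)` and the subgroups `H`, `N`, `B`. -/

set_option autoImplicit false

namespace H5
namespace Gen

open Equiv

/-- irreducibility -/
class Conn (D : RS) : Prop where
  full : ∃ r : Rt D, ∀ i, co r i ≠ 0

variable {D : RS} {F : Type*} [Field F] [Rep D F]

namespace StSys

variable {G : Type*} [Group G] (S : StSys D F G)

/-- `n_r(t)` -/
def n (r : Rt D) (t : F) : G := S.x r t * S.x (neg r) (-t⁻¹) * S.x r t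

/-- `h_r(t)` -/
def h (r : Rt D) (t : F) : G := S.n r t * S.n r (-1)

theorem π_n (r : Rt D) (t : F) : S.π (S.n r t) = nMat r t := by
  simp [n, nMat_eq, S.π_x]

theorem π_h (r : Rt D) (t : F) : S.π (S.h r t) = hMat r t := by
  simp [h, hMat_eq, S.π_n]

theorem n_inv (r : Rt D) (t : F) : (S.n r t)⁻¹ = S.n r (-t) := by
  simp only [n, mul_inv_rev, x_inv, inv_neg, mul_assoc]

theorem n_mul_neg (r : Rt D) (t : F) : S.n r t * S.n r (-t) = 1 := by rw [← n_inv]; simp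

@[simp] theorem h_one (r : Rt D) : S.h r 1 = 1 := S.n_mul_neg r 1

theorem n_eq_h_mul (r : Rt D) (t : F) : S.n r t = S.h r t * S.n r 1 := by
  rw [h, ← n_inv]; simp

theorem n_mul_n (r : Rt D) (t u : F) : S.n r t * S.n r u = S.h r t * (S.h r (-u))⁻¹ := by
  rw [h, h, mul_inv_rev, S.n_inv r (-u), neg_neg]; group

theorem n_mem {K : Subgroup G} {r : Rt D} (h1 : ∀ t, S.x r t ∈ K) (h2 : ∀ t, S.x (neg r) t ∈ K)
    (t : F) : S.n r t ∈ K := mul_mem (mul_mem (h1 _) (h2 _)) (h1 _)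

theorem h_mem {K : Subgroup G} {r : Rt D} (h1 : ∀ t, S.x r t ∈ K) (h2 : ∀ t, S.x (neg r) t ∈ K)
    (t : F) : S.h r t ∈ K := mul_mem (S.n_mem h1 h2 _) (S.n_mem h1 h2 _)

theorem x_neg_eq (r : Rt D) (u : F) :
    S.x (neg r) u = S.x r u⁻¹ * S.n r (-u⁻¹) * S.x r u⁻¹ := by
  simp [n, mul_assoc, add_mul, S.add]

theorem π_conj {g : G} {w : Rt D → Rt D} {γ : Rt D → F} (h : Act (S.π g) w γ) (s : Rt D) (u : F) :
    S.π (g * S.x s u * g⁻¹) = S.π (S.x (w s) (γ s * u)) := by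
  rw [map_mul, map_mul, S.π_x, h, mul_assoc, ← map_mul, S.π_x]; simp

theorem n_conj_of_ne {r s : Rt D} (h1 : s ≠ r) (h2 : s ≠ neg r) {t : F} (ht : t ≠ 0) (u : F) :
    S.n r t * S.x s u * (S.n r t)⁻¹ = S.x (rrefl r s) (sg F r s * t ^ (- pair r s) * u) := by
  obtain ⟨μ, h3, h4⟩ := exists_sep r s h1 h2
  obtain ⟨μ', hN⟩ := exists_nil (μ := μ) (A := {k | 0 < μ (vec k)}) (fun _ h => h)
    (closed_gt μ le_rfl)
  have key : ∀ k : Rt D, μ (vec k) = 0 → ∀ t, ∀ g ∈ S.U {k | 0 < μ (vec k)},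
      S.x k t * g * (S.x k t)⁻¹ ∈ S.U {k | 0 < μ (vec k)} := by
    intro k hk
    apply S.x_conj_mem
    intro s hs
    simp only [Set.mem_ofPred_eq] at hs
    refine ⟨?_, fun j hj => ?_⟩
    · rintro rfl; simp [hk] at hs
    · have := hj.le (μ := μ) hk.ge hs.le
      simp only [Set.mem_ofPred_eq]; omega
  apply S.eq_of_π hN
  · have := key r h3 t _ (key (neg r) (by simp [h3]) (-t⁻¹) _
      (key r h3 t _ (S.x_mem_U (A := {k | 0 < μ (vec k)}) h4 u)))
    convert this using 1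
    rw [n]; group
  · apply S.x_mem_U
    simpa [vec_rrefl, -zsmul_eq_mul, h3] using h4
  · exact S.π_conj (by rw [π_n]; exact act_nMat r ht) s u

theorem n_conj [Conn D] (r s : Rt D) {t : F} (ht : t ≠ 0) (u : F) :
    S.n r t * S.x s u * (S.n r t)⁻¹ = S.x (rrefl r s) (sg F r s * t ^ (- pair r s) * u) := by
  by_cases h1 : s = r
  · subst h1
    rw [rrefl_self, sg_self, pair_self]
    exact (S.rels.conj_self s ht u).trans (by congr 1; simp [zpow_ofNat])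
  by_cases h2 : s = neg r
  · subst h2
    rw [rrefl_neg_right, rrefl_self, neg_neg', sg_neg, sg_self, pair_neg_right, pair_self]
    exact (S.rels.conj_neg r ht u).trans (by congr 1; simp [zpow_ofNat])
  exact S.n_conj_of_ne h1 h2 ht u

/-- `g` permutes the root subgroups according to `w` -/
def Acts (g : G) (w : Rt D → Rt D) : Prop :=
  ∃ γ : Rt D → F, (∀ r, γ r ≠ 0) ∧ (∀ r, γ (neg r) = (γ r)⁻¹) ∧
    ∀ r t, g * S.x r t * g⁻¹ = S.x (w r) (γ r * t)

variable {S}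

theorem Acts.one : S.Acts 1 id := ⟨fun _ => 1, by simp, by simp, by simp⟩

theorem Acts.mul {g g' : G} {w w' : Rt D → Rt D} (h : S.Acts g w) (h' : S.Acts g' w')
    (hw : ∀ r, w' (neg r) = neg (w' r)) : S.Acts (g * g') (w ∘ w') := by
  obtain ⟨γ, h1, h2, h3⟩ := h
  obtain ⟨γ', h1', h2', h3'⟩ := h'
  refine ⟨fun r => γ (w' r) * γ' r, fun r => mul_ne_zero (h1 _) (h1' _),
    fun r => by simp [hw, h2, h2', mul_comm], fun r t => ?_⟩
  rw [mul_assoc (γ _), Function.comp, ← h3, ← h3']; group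

theorem Acts.inv {g : G} {w : Perm (Rt D)} (h : S.Acts g w) (hw : IsAut w) :
    S.Acts g⁻¹ (w⁻¹ : Perm (Rt D)) := by
  obtain ⟨γ, h1, h2, h3⟩ := h
  refine ⟨fun r => (γ (w⁻¹ r))⁻¹, fun r => inv_ne_zero (h1 _),
    fun r => by simp only [hw.inv.map_neg, h2], fun r t => ?_⟩
  have := h3 (w⁻¹ r) ((γ (w⁻¹ r))⁻¹ * t)
  rw [mul_inv_cancel_left₀ (h1 _), ← Perm.mul_apply, mul_inv_cancel, Perm.one_apply] at this
  rw [← this]; group

theorem Acts.unique {g : G} {w w' : Rt D → Rt D} (h : S.Acts g w) (h' : S.Acts g w') : w = w' := by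
  obtain ⟨γ, h1, -, h3⟩ := h
  obtain ⟨γ', -, -, h3'⟩ := h'
  funext r
  exact (S.x_eq_x (mul_ne_zero (h1 r) one_ne_zero) ((h3 r 1).symm.trans (h3' r 1))).1

theorem Acts.conj_mem_U {g : G} {w : Rt D → Rt D} (h : S.Acts g w) {A B : Set (Rt D)}
    (hAB : ∀ r ∈ A, w r ∈ B) : ∀ u ∈ S.U A, g * u * g⁻¹ ∈ S.U B := by
  obtain ⟨γ, -, -, h3⟩ := h
  apply conj_mem_closure
  rintro _ ⟨r, hr, t, rfl⟩
  rw [h3]
  exact S.x_mem_U (hAB r hr) _

theorem Acts.conj_n {g : G} {w : Rt D → Rt D} (h : S.Acts g w) (hw : ∀ r, w (neg r) = neg (w r)) :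
    ∃ γ : Rt D → F, (∀ r, γ r ≠ 0) ∧ ∀ r t, g * S.n r t * g⁻¹ = S.n (w r) (γ r * t) := by
  obtain ⟨γ, h1, h2, h3⟩ := h
  refine ⟨γ, h1, fun r t => ?_⟩
  have := h3 (neg r) (-t⁻¹)
  rw [hw, h2, mul_neg, ← mul_inv] at this
  rw [n, n, ← h3, ← this]; group

theorem Acts.map_U {g : G} {w : Rt D → Rt D} (h : S.Acts g w) (A : Set (Rt D)) :
    (S.U A).map (MulAut.conj g).toMonoidHom = S.U (w '' A) := by
  apply le_antisymm
  · rintro _ ⟨u, hu, rfl⟩
    exact h.conj_mem_U (fun r hr => Set.mem_image_of_mem w hr) u hu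
  · rw [U_le_iff]
    rintro _ ⟨r, hr, rfl⟩ t
    obtain ⟨γ, h1, -, h3⟩ := h
    refine ⟨S.x r ((γ r)⁻¹ * t), S.x_mem_U hr _, ?_⟩
    have := h3 r ((γ r)⁻¹ * t)
    rwa [mul_inv_cancel_left₀ (h1 r)] at this

variable (S)

/-- the diagonal subgroup -/
def H : Subgroup G := Subgroup.closure {g | ∃ r t, t ≠ 0 ∧ g = S.h r t}

/-- the monomial subgroup -/
def N : Subgroup G := S.H ⊔ Subgroup.closure {g | ∃ r, g = S.n r 1}

/-- the Borel subgroup -/
def B : Subgroup G := S.U {r | Pos r} ⊔ S.H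

theorem h_mem_H (r : Rt D) {t : F} (ht : t ≠ 0) : S.h r t ∈ S.H :=
  Subgroup.subset_closure ⟨r, t, ht, rfl⟩

theorem H_le_N : S.H ≤ S.N := le_sup_left
theorem H_le_B : S.H ≤ S.B := le_sup_right
theorem U_le_B : S.U {r | Pos r} ≤ S.B := le_sup_left
theorem x_mem_B {r : Rt D} (h : Pos r) (t : F) : S.x r t ∈ S.B := S.U_le_B (S.x_mem_U h t)

theorem n_mem_N (r : Rt D) {t : F} (ht : t ≠ 0) : S.n r t ∈ S.N := by
  rw [n_eq_h_mul]
  exact mul_mem (S.H_le_N (S.h_mem_H r ht))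
    (Subgroup.mem_sup_right (Subgroup.subset_closure ⟨r, rfl⟩))

theorem n_mul_n_mem (r : Rt D) {t u : F} (ht : t ≠ 0) (hu : u ≠ 0) : S.n r t * S.n r u ∈ S.H := by
  rw [n_mul_n]
  exact mul_mem (S.h_mem_H r ht) (inv_mem (S.h_mem_H r (neg_ne_zero.2 hu)))

theorem H_le_iff {K : Subgroup G} : S.H ≤ K ↔ ∀ r t, t ≠ 0 → S.h r t ∈ K := by
  rw [H, Subgroup.closure_le]
  exact ⟨fun h r t ht => h ⟨r, t, ht, rfl⟩, by rintro h _ ⟨r, t, ht, rfl⟩; exact h r t ht⟩

theorem N_le_iff {K : Subgroup G} : S.N ≤ K ↔ ∀ r t, t ≠ 0 → S.n r t ∈ K := by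
  refine ⟨fun h r t ht => h (S.n_mem_N r ht), fun h => sup_le ?_ ?_⟩
  · exact S.H_le_iff.2 fun r t ht => mul_mem (h r t ht) (h r _ (by simp))
  · rw [Subgroup.closure_le]
    rintro _ ⟨r, rfl⟩
    exact h r 1 one_ne_zero

theorem N_le_U : S.N ≤ S.U Set.univ :=
  S.N_le_iff.2 fun _ t _ => 
    S.n_mem (S.x_mem_U (Set.mem_univ _)) (S.x_mem_U (Set.mem_univ _)) t

theorem H_le_U : S.H ≤ S.U Set.univ := S.H_le_N.trans S.N_le_U

theorem B_le_U : S.B ≤ S.U Set.univ := sup_le (S.U_mono (Set.subset_univ _)) S.H_le_U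

theorem Acts.conj_mem_H {S : StSys D F G} {g : G} {w : Rt D → Rt D} (h : S.Acts g w)
    (hw : ∀ r, w (neg r) = neg (w r)) : ∀ a ∈ S.H, g * a * g⁻¹ ∈ S.H := by
  obtain ⟨γ, h1, h2⟩ := h.conj_n hw
  apply conj_mem_closure
  rintro _ ⟨r, t, ht, rfl⟩
  have := S.n_mul_n_mem (w r) (mul_ne_zero (h1 r) ht) (mul_ne_zero (h1 r) (neg_ne_zero.2 one_ne_zero))
  rw [← h2, ← h2] at this
  convert this using 1
  rw [StSys.h]; group

variable [Conn D]

theorem acts_n (r : Rt D) {t : F} (ht : t ≠ 0) : S.Acts (S.n r t) (rp r) :=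
  ⟨fun s => sg F r s * t ^ (- pair r s), fun s => mul_ne_zero (sg_ne_zero r s) (zpow_ne_zero _ ht),
    fun s => by simp [mul_comm], fun s u => S.n_conj r s ht u⟩

theorem h_conj (r s : Rt D) {t : F} (ht : t ≠ 0) (u : F) :
    S.h r t * S.x s u * (S.h r t)⁻¹ = S.x s (t ^ pair r s * u) := by
  have h0 : (-1 : F) ≠ 0 := neg_ne_zero.2 one_ne_zero
  have h1 := S.n_conj r s h0 u
  have h2 := S.n_conj r (rrefl r s) ht (sg F r s * (-1) ^ (- pair r s) * u)
  rw [← h1, rrefl_rrefl] at h2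
  have e0 : S.h r t * S.x s u * (S.h r t)⁻¹ =
      S.n r t * (S.n r (-1) * S.x s u * (S.n r (-1))⁻¹) * (S.n r t)⁻¹ := by rw [h]; group
  have e := e0.trans h2
  rw [e]
  have h3 := congrArg S.π e
  rw [map_mul, map_mul, π_h, S.π_x, hMat_conj r ht, mul_assoc, ← S.π_h, ← map_mul S.π,
    mul_inv_cancel, map_one, mul_one, S.π_x] at h3
  rw [xMat_injective s h3]

theorem exists_acts {g : G} (hg : g ∈ S.N) : ∃ w : Wg D, S.Acts g w := by
  let K : Subgroup G :=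
    { carrier := {g | ∃ w : Wg D, S.Acts g w}
      one_mem' := ⟨1, Acts.one⟩
      mul_mem' := by
        rintro a b ⟨v, hv⟩ ⟨w, hw⟩
        exact ⟨v * w, hv.mul hw (wg_neg w)⟩
      inv_mem' := by
        rintro a ⟨v, hv⟩
        exact ⟨v⁻¹, hv.inv (wg_aut v)⟩ }
  exact (S.N_le_iff (K := K)).2 (fun r t ht => ⟨⟨rp r, rp_mem r⟩, S.acts_n r ht⟩) hg

/-- the homomorphism `N → W` -/
noncomputable def φ : S.N →* Wg D where
  toFun g := (S.exists_acts g.2).choose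
  map_one' := Subtype.ext (Equiv.ext (congrFun ((S.exists_acts (1 : S.N).2).choose_spec.unique
    Acts.one)))
  map_mul' a b := Subtype.ext (Equiv.ext (congrFun ((S.exists_acts (a * b).2).choose_spec.unique
    ((S.exists_acts a.2).choose_spec.mul (S.exists_acts b.2).choose_spec (wg_neg _)))))

theorem acts_φ (g : S.N) : S.Acts g (S.φ g) := (S.exists_acts g.2).choose_spec

theorem φ_eq_iff {g : S.N} {w : Wg D} : S.φ g = w ↔ S.Acts g w :=
  ⟨fun h => h ▸ S.acts_φ g, fun h => Subtype.ext (Equiv.ext (congrFun ((S.acts_φ g).unique h)))⟩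

theorem acts_H {g : G} (hg : g ∈ S.H) : S.Acts g id := by
  let K : Subgroup G :=
    { carrier := {g | S.Acts g id}
      one_mem' := Acts.one
      mul_mem' := fun ha hb => ha.mul hb fun _ => rfl
      inv_mem' := fun ha => Acts.inv (w := 1) ha IsAut.one }
  refine (S.H_le_iff (K := K)).2 (fun r t ht => ?_) hg
  exact ⟨fun s => t ^ pair r s, fun s => zpow_ne_zero _ ht, fun s => by simp,
    fun s u => S.h_conj r s ht u⟩

theorem N_conj_H {g : G} (hg : g ∈ S.N) : ∀ a ∈ S.H, g * a * g⁻¹ ∈ S.H :=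
  (S.acts_φ ⟨g, hg⟩).conj_mem_H (wg_neg _)

theorem H_conj_U {g : G} (hg : g ∈ S.H) (A : Set (Rt D)) : ∀ u ∈ S.U A, g * u * g⁻¹ ∈ S.U A :=
  (S.acts_H hg).conj_mem_U fun _ h => h

theorem H_le_normalizer (A : Set (Rt D)) : S.H ≤ Subgroup.normalizer (S.U A : Set G) :=
  le_normalizer_of_conj fun _ hg => S.H_conj_U hg A

theorem mem_B_iff {g : G} : g ∈ S.B ↔ ∃ u ∈ S.U {r | Pos r}, ∃ a ∈ S.H, u * a = g :=
  mem_sup_of_le_normalizer (S.H_le_normalizer _)

/-- the representative `n_{p_i}(1)` in `N` -/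
def ns (i : Ix D) : S.N := ⟨S.n (simple i) 1, S.n_mem_N _ one_ne_zero⟩

/-- the representative in `N` of a word -/
def nw (l : List (Ix D)) : S.N := (l.map S.ns).prod

omit [Conn D] in
@[simp] theorem nw_nil : S.nw [] = 1 := rfl
omit [Conn D] in
@[simp] theorem nw_cons (i : Ix D) (l : List (Ix D)) : S.nw (i :: l) = S.ns i * S.nw l := by
  simp [nw]
omit [Conn D] in
@[simp] theorem nw_append (l l' : List (Ix D)) : S.nw (l ++ l') = S.nw l * S.nw l' := by simp [nw]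
omit [Conn D] in
@[simp] theorem coe_ns (i : Ix D) : (S.ns i : G) = S.n (simple i) 1 := rfl

@[simp] theorem φ_ns (i : Ix D) : S.φ (S.ns i) = (wgen D).σ i :=
  S.φ_eq_iff.2 (S.acts_n _ one_ne_zero)

theorem φ_n (r : Rt D) {t : F} (ht : t ≠ 0) : S.φ ⟨S.n r t, S.n_mem_N r ht⟩ = ⟨rp r, rp_mem r⟩ :=
  S.φ_eq_iff.2 (S.acts_n _ ht)

@[simp] theorem φ_nw (l : List (Ix D)) : S.φ (S.nw l) = (wgen D).wp l := by
  induction l with
  | nil => simp
  | cons i l ih => simp [ih]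

theorem φ_surjective : Function.Surjective S.φ := fun w => by
  obtain ⟨l, rfl⟩ := (wgen D).gen w
  exact ⟨S.nw l, S.φ_nw l⟩

theorem N_eq : S.N = Subgroup.closure (Set.range fun i => S.n (simple i) 1) ⊔ S.H := by
  apply le_antisymm
  · rw [N_le_iff]
    intro r
    induction r using root_induction with
    | h0 i =>
      intro t ht
      rw [n_eq_h_mul]
      exact mul_mem (Subgroup.mem_sup_right (S.h_mem_H _ ht))
        (Subgroup.mem_sup_left (Subgroup.subset_closure ⟨i, rfl⟩))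
    | hs i r ih =>
      intro t ht
      obtain ⟨γ, h1, h2⟩ := (S.acts_n (simple i) one_ne_zero).conj_n (isAut_rp _).map_neg
      have := h2 r ((γ r)⁻¹ * t)
      rw [mul_inv_cancel_left₀ (h1 r), rp_apply, rrefl_simple] at this
      rw [← this]
      have m : S.n (simple i) 1 ∈ Subgroup.closure (Set.range fun i => S.n (simple i) 1) ⊔ S.H :=
        Subgroup.mem_sup_left (Subgroup.subset_closure ⟨i, rfl⟩)
      exact mul_mem (mul_mem m (ih _ (mul_ne_zero (inv_ne_zero (h1 r)) ht))) (inv_mem m)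
  · refine sup_le ?_ S.H_le_N
    rw [Subgroup.closure_le]
    rintro _ ⟨i, rfl⟩
    exact S.n_mem_N _ one_ne_zero

theorem exists_nw {g : G} (hg : g ∈ S.N) : ∃ l, g * (S.nw l : G)⁻¹ ∈ S.H := by
  rw [N_eq, ← Subgroup.closure_eq S.H, ← Subgroup.closure_union] at hg
  induction hg using Subgroup.closure_induction_left with
  | one => exact ⟨[], by simp⟩
  | mul_left x hx y hy ih =>
    obtain ⟨l, hl⟩ := ih
    rcases hx with ⟨i, rfl⟩ | hx
    · refine ⟨i :: l, ?_⟩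
      convert S.N_conj_H (S.ns i).2 _ hl using 1
      simp [mul_assoc]
    · exact ⟨l, by rw [mul_assoc]; exact mul_mem hx hl⟩
  | inv_mul_cancel x hx y hy ih =>
    obtain ⟨l, hl⟩ := ih
    rcases hx with ⟨i, rfl⟩ | hx
    · refine ⟨i :: l, ?_⟩
      convert mul_mem (inv_mem (S.n_mul_n_mem (simple i) one_ne_zero one_ne_zero))
        (S.N_conj_H (S.ns i).2 _ hl) using 1
      simp [mul_assoc]
    · exact ⟨l, by rw [mul_assoc]; exact mul_mem (inv_mem hx) hl⟩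

theorem nw_mem_H (l : List (Ix D)) (h : (wgen D).wp l = 1) : (S.nw l : G) ∈ S.H := by
  induction hk : l.length using Nat.strong_induction_on generalizing l with
  | _ k ih =>
    cases l with
    | nil => simp
    | cons i l =>
      have h1 : (wgen D).wp l = (wgen D).σ i := by
        rw [InvGen.wp_cons] at h
        rw [eq_inv_of_mul_eq_one_right h, InvGen.inv_σ]
      obtain ⟨l₁, j, l₂, rfl, h2⟩ := exch l (pos_simple i)
        (by rw [h1]; simpa [pos_neg_iff] using pos_simple i)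
      obtain ⟨γ, h3, h4⟩ := (S.acts_φ (S.nw l₁)).conj_n (wg_neg _)
      have h5 := h4 (simple j) 1
      rw [φ_nw, h2] at h5
      have h6 := ih (l₁ ++ l₂).length (by simp at hk ⊢; omega) (l₁ ++ l₂) (by
        rw [← h]
        simp only [InvGen.wp_cons, InvGen.wp_append, ← mul_assoc]
        rw [mul_assoc ((wgen D).σ i), mul_σ_of_apply h2]; simp) rfl
      have h7 := S.n_mul_n_mem (simple i) one_ne_zero (mul_ne_zero (h3 (simple j)) one_ne_zero)
      convert mul_mem h7 h6 using 1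
      rw [← h5]
      simp [mul_assoc]

theorem φ_eq_one_iff {g : S.N} : S.φ g = 1 ↔ (g : G) ∈ S.H := by
  refine ⟨fun h => ?_, fun h => S.φ_eq_iff.2 (S.acts_H h)⟩
  obtain ⟨l, hl⟩ := S.exists_nw g.2
  have h1 : S.φ (g * (S.nw l)⁻¹) = 1 := S.φ_eq_iff.2 (S.acts_H hl)
  rw [map_mul, h, one_mul, map_inv, inv_eq_one, φ_nw] at h1
  simpa using mul_mem hl (S.nw_mem_H l h1)

theorem ker_φ : S.φ.ker = S.H.subgroupOf S.N := by
  ext g; rw [MonoidHom.mem_ker, φ_eq_one_iff, Subgroup.mem_subgroupOf]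

theorem φ_eq_φ_iff {a b : S.N} : S.φ a = S.φ b ↔ (a : G)⁻¹ * b ∈ S.H := by
  rw [← inv_mul_eq_one, ← map_inv, ← map_mul, φ_eq_one_iff]; rfl

theorem B_conj_U {b : G} (hb : b ∈ S.B) : ∀ u ∈ S.U {r | Pos r}, b * u * b⁻¹ ∈ S.U {r | Pos r} := by
  obtain ⟨v, hv, a, ha, rfl⟩ := S.mem_B_iff.1 hb
  intro u hu
  convert mul_mem (mul_mem hv (S.H_conj_U ha _ u hu)) (inv_mem hv) using 1
  group

theorem B_inf_N : S.B ⊓ S.N = S.H := by
  refine le_antisymm ?_ (le_inf S.H_le_B S.H_le_N)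
  rintro g ⟨hB, hN⟩
  refine (S.φ_eq_one_iff (g := ⟨g, hN⟩)).1 (eq_one_of_pos fun i => ?_)
  obtain ⟨γ, h1, -, h3⟩ := S.acts_φ ⟨g, hN⟩
  have := S.B_conj_U hB _ (S.x_mem_U (A := {r | Pos r}) (pos_simple i) 1)
  rw [h3] at this
  exact S.mem_of_x_mem_U nil_pos (mul_ne_zero (h1 _) one_ne_zero) this

end StSys

end Gen
end H5
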