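import Cfsg.Agent.H5.GM1

/-! Lifting the Steinberg relations: criteria. -/

set_option autoImplicit false

namespace H5
namespace Gen

theorem cm_pow_left {E : Type*} [Group E] {a b : E} (h : Commute (cm a b) a) (k : ℕ) :
    cm (a ^ k) b = cm a b ^ k := by
  induction k with
  | zero => simp [cm]
  | succ k ih => rw [pow_succ, cm_mul_left, ih, mul_assoc a⁻¹, (h.pow_left k).eq, inv_mul_cancel_left,
      pow_succ]

theorem cm_pow {E : Type*} [Group E] {a b : E} (h : Commute (cm a b) a) (h' : Commute (cm a b) b)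
    (k l : ℕ) : cm (a ^ k) (b ^ l) = cm a b ^ (k * l) := by
  have : cm a (b ^ l) = cm a b ^ l := by
    rw [← cm_inv, cm_pow_left (cm_inv a b ▸ h'.inv_left), ← cm_inv a, inv_pow, inv_inv]
  rw [cm_pow_left (this ▸ h.pow_left l), this, ← pow_mul, mul_comm]


open Cfsg Equiv

variable {D : RS} {F : Type*} [Field F] [Rep D F] {G E : Type*} [Group G] [Group E]
  {S : StSys D F G} {ψ : E →* G}

theorem StSys.x_pow (S : StSys D F G) (r : Rt D) (t : F) (k : ℕ) : S.x r t ^ k = S.x r (k * t) := by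
  induction k with
  | zero => simp
  | succ k ih => rw [pow_succ, ih, S.add]; push_cast; ring_nf

theorem StSys.x_zpow (S : StSys D F G) (r : Rt D) (t : F) (k : ℤ) : S.x r t ^ k = S.x r (k * t) := by
  obtain ⟨n, rfl | rfl⟩ := k.eq_nat_or_neg <;> simp [S.x_pow, S.x_inv]

theorem StSys.commute_of_cts (S : StSys D F G) {r s : Rt D} (h2 : s ≠ neg r)
    (h : ∀ e ∈ cts r s, (e.2.1 : F) = 0) (t u : F) : Commute (S.x r t) (S.x s u) := by
  by_cases h1 : s = r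
  · exact h1 ▸ S.commute_x _ _ _
  refine (cm_eq_one.1 ((S.comm' h1 h2 t u).trans (List.prod_eq_one ?_))).symm
  simp only [cword, List.mem_map]
  rintro _ ⟨_, ⟨e, he, rfl⟩, rfl⟩
  simp [h e he]

theorem StSys.cm_of_cts (S : StSys D F G) {r s k : Rt D} (h1 : s ≠ r) (h2 : s ≠ neg r) {c : ℤ}
    (h : cts r s = [(k, c, 1, 1)]) (t u : F) : cm (S.x s u) (S.x r t) = S.x k (-(c * t * u)) := by
  rw [cm, S.comm' h1 h2]; simp [cword, h]

theorem lc_of_prime (hψ : CExt ψ) (hF : ∀ t : F, ∃ k : ℕ, t = k) {r s : Rt D} {a b : E}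
    (ha : ψ a = S.x r 1) (hb : ψ b = S.x s 1) (h : Commute a b) : LC S ψ r s := by
  intro a' b' t u ha' hb'
  obtain ⟨k, rfl⟩ := hF t
  obtain ⟨l, rfl⟩ := hF u
  exact hψ.commute_congr (by simp [ha, ha', S.x_pow]) (hψ.commute_congr
    (by simp [hb, hb', S.x_pow]) (h.pow_pow k l).symm).symm

theorem lc_self_of_prime (hψ : CExt ψ) (hF : ∀ t : F, ∃ k : ℕ, t = k) (r : Rt D) : LC S ψ r r :=
  let ⟨_, ha⟩ := hψ.surj (S.x r 1); lc_of_prime hψ hF ha ha (Commute.refl _)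

theorem lc_of_cts (hψ : CExt ψ) {r s a b : Rt D} (h1 : b ≠ a) (h2 : b ≠ neg a) {c : ℤ} {j : ℕ}
    {l₁ l₂ : List (Rt D × ℤ × ℕ × ℕ)} (h : cts a b = l₁ ++ (s, c, 1, j) :: l₂) (hc : (c : F) ≠ 0)
    (ha : ∀ t u, Commute (S.x r t) (S.x a u)) (hb : ∀ t u, Commute (S.x r t) (S.x b u))
    (h3 : ∀ e ∈ l₁, LC S ψ r e.1) (h4 : ∀ e ∈ l₂, LC S ψ r e.1) : LC S ψ r s := by
  intro g g' t u hg hg'
  choose l hl using hψ.surj
  have key : ∀ L : List (Rt D × ℤ × ℕ × ℕ), (∀ e ∈ L, LC S ψ r e.1) → ∀ f : _ → F,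
      Commute (l (S.wd (L.map fun e => (e.1, f e)))) g := fun L hL f => by
    refine hψ.commute_congr (a := (L.map fun e => l (S.x e.1 (f e))).prod) ?_
      (Commute.list_prod_left _ _ ?_)
    · simp [hl, map_list_prod, StSys.wd, Function.comp_def]
    · simp only [List.mem_map]
      rintro _ ⟨e, he, rfl⟩
      exact (hL e he _ _ _ _ hg (hl _)).symm
  have h5 := (hψ.commute_cm (g := g) (a := l (S.x b 1)) (b := l (S.x a (-(u / c))))
    (by rw [hg, hl]; exact hb _ _) (by rw [hg, hl]; exact ha _ _)).symm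
  let f : Rt D × ℤ × ℕ × ℕ → F := fun e => (e.2.1 : F) * (-(-(u / c))) ^ e.2.2.1 * 1 ^ e.2.2.2
  refine (hψ.commute_congr ?_ (((key l₁ h3 f).inv_left.mul_left h5).mul_left
    (key l₂ h4 f).inv_left)).symm
  simp only [map_mul, map_inv, map_cm, hl, hg']
  rw [cm, S.comm' h1 h2, cword, h]
  simp [f, mul_div_cancel₀ _ hc, mul_assoc]

variable [Conn D]

theorem lc_self_of_pair (hψ : CExt ψ) {r γ : Rt D} (h : pair γ r = 1) {v : F} (h0 : v ≠ 0)
    (h1 : v ≠ 1) (h2 : 1 - v + v ^ 2 ≠ 0) : LC S ψ r r := by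
  choose l hl using hψ.surj
  let f : F → F → E := fun t u => cm (l (S.x r t)) (l (S.x r u))
  have c : ∀ t u g, Commute (f t u) g := fun t u =>
    hψ.commute (by rw [map_cm, hl, hl]; exact cm_eq_one.2 (S.commute_x _ _ _))
  have a1 : ∀ t t' u, f (t + t') u = f t u * f t' u := fun t t' u => by
    simp only [f]
    rw [hψ.cm_left (a' := l (S.x r t) * l (S.x r t')) (by simp [hl, S.add]), cm_mul_left, mul_assoc _⁻¹,
      (c t u _).eq, inv_mul_cancel_left]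
  have a2 : ∀ t u u', f t (u + u') = f t u * f t u' := fun t u u' => by
    have := congrArg (·⁻¹) (a1 u u' t)
    simp only [f, mul_inv_rev, cm_inv] at this
    exact this.trans (c _ _ _).eq
  have a3 : ∀ w t u, w ≠ 0 → f (w * t) u = f t (u / w) := fun w t u hw => by
    have := (c t (u / w) (l (S.h γ w))).eq
    rw [← mul_inv_eq_iff_eq_mul.2 this.symm, conj_cm]
    exact hψ.cm_congr (by simp [hl, S.h_conj _ _ hw, h])
      (by simp [hl, S.h_conj _ _ hw, h, mul_div_cancel₀ _ hw])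
  have h3 : 1 - v ≠ 0 := sub_ne_zero.2 h1.symm
  have a4 : ∀ t u, f (v * (1 - v) * t) u = f t u := fun t u => by
    rw [a3 _ _ _ (mul_ne_zero h0 h3), show u / (v * (1 - v)) = u / v + u / (1 - v) by field_simp; ring,
      a2, ← a3 _ _ _ h0, ← a3 _ _ _ h3, ← a1]
    congr 1; ring
  intro a b t u ha hb
  have := a1 (v * (1 - v) * (t / (1 - v + v ^ 2))) t u
  rw [a4, show v * (1 - v) * (t / (1 - v + v ^ 2)) + t = t / (1 - v + v ^ 2) by field_simp; ring,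
    left_eq_mul] at this
  exact cm_eq_one.1 ((hψ.cm_congr (by rw [ha, hl]) (by rw [hb, hl])).trans this)

theorem base_of_H (hψ : CExt ψ) (hS : S.HMul) {r γ : Rt D} (h : LC S ψ r r) {v : F} (h0 : v ≠ 0)
    (h1 : v ^ pair γ r ≠ 1) : ∃ Y, Base S ψ r Y := by
  obtain ⟨e₀, he₀⟩ := hψ.surj (S.h γ v)
  have k1 : ∀ {g t}, ψ g = S.x r t → ψ (e₀ * g * e₀⁻¹) = S.x r (v ^ pair γ r * t) := fun hg => by
    simp [he₀, hg, S.h_conj _ _ h0]
  have k2 : ∀ {g t}, ψ g = S.x r t → ψ (e₀ * g * e₀⁻¹ * g⁻¹) = S.x r ((v ^ pair γ r - 1) * t) :=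
    fun hg => by rw [map_mul, k1 hg, map_inv, hg, S.x_inv, S.add]; ring_nf
  let Y : Subgroup E :=
    { carrier := {y | ∃ g t, ψ g = S.x r t ∧ y = e₀ * g * e₀⁻¹ * g⁻¹}
      one_mem' := ⟨1, 0, by simp, by simp⟩
      mul_mem' := by
        rintro _ _ ⟨g, t, hg, rfl⟩ ⟨g', t', hg', rfl⟩
        refine ⟨g * g', t + t', by simp [hg, hg', S.add], ?_⟩
        rw [mul_assoc _ g⁻¹, (h _ _ _ _ hg (k2 hg')).inv_left.eq]
        group
      inv_mem' := by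
        rintro _ ⟨g, t, hg, rfl⟩
        refine ⟨g⁻¹, -t, by simp [hg, S.x_inv], ?_⟩
        rw [mul_inv_rev, inv_inv, (h _ _ _ _ hg (k1 hg)).inv_right.eq]
        group }
  have ex : ∀ t, ∃ g ∈ Y, ψ g = S.x r t := fun t => by
    obtain ⟨g, hg⟩ := hψ.surj (S.x r (t / (v ^ pair γ r - 1)))
    exact ⟨_, ⟨g, _, hg, rfl⟩, by rw [k2 hg, mul_div_cancel₀ _ (sub_ne_zero.2 h1)]⟩
  have k3 : ∀ e, ψ e ∈ S.H → ∀ g ∈ Y, e * g * e⁻¹ ∈ Y := by
    rintro e he _ ⟨g, t, hg, rfl⟩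
    obtain ⟨c, -, hc⟩ := S.exists_chi he
    refine ⟨e * g * e⁻¹, _, by rw [map_mul, map_mul, map_inv, hg, hc], ?_⟩
    rw [← hψ.conj_eq (a := e * e₀ * e⁻¹) (b := e₀) (by
      rw [map_mul, map_mul, hS.H_comm he (he₀ ▸ S.h_mem_H _ h0)]; simp) (e * g * e⁻¹)]
    group
  refine ⟨Y, ex, ?_, ?_, ?_⟩
  · rintro _ ⟨g, t, hg, rfl⟩ h2
    rw [k2 hg, S.x_eq_one_iff, mul_eq_zero, or_iff_right (sub_ne_zero.2 h1)] at h2
    rw [← (hψ.commute (by simpa [h2] using hg) e₀).eq]; simp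
  · rintro _ ⟨g, t, hg, rfl⟩; exact ⟨_, k2 hg⟩
  · rintro e he h2 _ ⟨g, t, hg, rfl⟩
    obtain ⟨γ', -, -, h3⟩ := S.acts_φ ⟨_, he⟩
    obtain ⟨y, h4, h5⟩ := ex (γ' r * t)
    have h6 : ψ (y⁻¹ * (e * g * e⁻¹)) = 1 := by simp [h5, hg, h3, h2]
    have := mul_mem (k3 (e * e₀ * e⁻¹) (by
      simpa [he₀] using S.N_conj_H he _ (S.h_mem_H γ h0)) y h4) (inv_mem h4)
    convert this using 1
    have h7 := (hψ.commute h6 ((e * e₀ * e⁻¹)⁻¹ * (e * g * e⁻¹)⁻¹)).eq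
    calc _ = e * e₀ * e⁻¹ * y * (y⁻¹ * (e * g * e⁻¹) * ((e * e₀ * e⁻¹)⁻¹ * (e * g * e⁻¹)⁻¹)) := by group
      _ = _ := by
        rw [h7, mul_assoc _ (e * g * e⁻¹)⁻¹, ← (hψ.commute h6 _).eq]; group

omit [Conn D] in
theorem cm_mem_zpowers (hψ : CExt ψ) (hF : ∀ t : F, ∃ k : ℕ, t = k) {r a b : Rt D} {A B : E}
    (hA : ψ A = S.x a 1) (hB : ψ B = S.x b 1) {c : F} (h : ψ (cm B A) = S.x r c) (ha : LC S ψ r a)
    (hb : LC S ψ r b) {A' B' : E} {t u : F} (hA' : ψ A' = S.x a t) (hB' : ψ B' = S.x b u) :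
    cm B' A' ∈ Subgroup.zpowers (cm B A) := by
  obtain ⟨k, rfl⟩ := hF t
  obtain ⟨l, rfl⟩ := hF u
  rw [hψ.cm_congr (a := B') (b := A') (a' := B ^ l) (b' := A ^ k) (by simp [hB, hB', S.x_pow]) (by simp [hA, hA', S.x_pow]),
    cm_pow (hb _ _ _ _ h hB) (ha _ _ _ _ h hA)]
  exact Subgroup.npow_mem_zpowers _ _

theorem base_of_cm (hψ : CExt ψ) (hF : ∀ t : F, ∃ k : ℕ, t = k) {r b : Rt D} {A B : E}
    (hB : ψ B = S.x b 1) {c : F} (h : ψ (cm B A) = S.x r c) (hc : c ≠ 0) (hb : LC S ψ r b)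
    (hN : ∀ e (he : ψ e ∈ S.N), S.φ ⟨_, he⟩ r = r → e * cm B A * e⁻¹ ∈ Subgroup.zpowers (cm B A)) :
    Base S ψ r (Subgroup.zpowers (cm B A)) := by
  refine ⟨fun t => ?_, ?_, ?_, ?_⟩
  · obtain ⟨k, hk⟩ := hF (t / c)
    exact ⟨_, Subgroup.npow_mem_zpowers _ k, by rw [map_pow, h, S.x_pow, ← hk, div_mul_cancel₀ _ hc]⟩
  · rintro _ ⟨k, rfl⟩ h1
    rw [map_zpow, h, S.x_zpow, S.x_eq_one_iff, mul_eq_zero, or_iff_left hc] at h1
    have : cm B A ^ k.natAbs = 1 := by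
      rw [← cm_pow_left (hb _ _ _ _ h hB)]
      refine cm_eq_one.2 (hψ.commute ?_ _)
      rw [map_pow, hB, S.x_pow, S.x_eq_one_iff, mul_one]
      obtain ⟨n, rfl | rfl⟩ := k.eq_nat_or_neg <;> simpa using h1
    obtain ⟨n, rfl | rfl⟩ := k.eq_nat_or_neg <;> simpa using this
  · rintro _ ⟨k, rfl⟩; exact ⟨_, by rw [map_zpow, h, S.x_zpow]⟩
  · rintro e he h1 _ ⟨k, rfl⟩
    simpa using zpow_mem (hN e he h1) k

/-- signed action of a word in the `n_i` -/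
noncomputable def wr (F : Type*) [Field F] [Rep D F] (l : List (Ix D)) (r : Rt D) : Rt D × F :=
  l.foldr (fun i p => (refl i p.1, eta i p.1 * p.2)) (r, 1)

theorem StSys.nw_conj (S : StSys D F G) (l : List (Ix D)) (r : Rt D) (t : F) :
    S.nw l * S.x r t * (S.nw l : G)⁻¹ = S.x (wr F l r).1 ((wr F l r).2 * t) := by
  induction l with
  | nil => simp [wr]
  | cons i l ih =>
    have := S.n_conj (simple i) (wr F l r).1 one_ne_zero ((wr F l r).2 * t)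
    rw [← ih] at this
    simpa [mul_assoc, sg_simple, wr] using this

theorem lc_of_swap (hψ : CExt ψ) (hF : ∀ t : F, ∃ k : ℕ, t = k) (h3 : (3 : F) = 0) {r s : Rt D}
    (h2 : s ≠ neg r) (h : cts r s = []) {l : List (Ix D)} {ε : F} (hε : ε = 1 ∨ ε = -1)
    (hr : wr F l r = (s, ε)) (hs : wr F l s = (r, ε)) : LC S ψ r s := by
  obtain ⟨a, ha⟩ := hψ.surj (S.x r 1)
  obtain ⟨b, hb⟩ := hψ.surj (S.x s 1)
  obtain ⟨e, he⟩ := hψ.surj (S.nw l)
  have c := hψ.commute (z := cm a b) (by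
    rw [map_cm, ha, hb]; exact cm_eq_one.2 (S.commute_of_cts h2 (by simp [h]) _ _))
  have h4 : cm a b = (cm a b)⁻¹ := by
    rcases hε with rfl | rfl
    · rw [cm_inv, ← mul_inv_eq_iff_eq_mul.2 (c e).eq.symm, conj_cm]
      exact hψ.cm_congr (by simp [he, ha, hb, S.nw_conj, hr]) (by simp [he, ha, hb, S.nw_conj, hs])
    · rw [← mul_inv_eq_iff_eq_mul.2 (c (a * b)).inv_left.eq.symm, cm_inv,
        show a * b * cm b a * (a * b)⁻¹ = cm b⁻¹ a⁻¹ by simp [cm, mul_assoc],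
        ← mul_inv_eq_iff_eq_mul.2 (c e).eq.symm, conj_cm]
      exact hψ.cm_congr (by simp [he, ha, hb, S.nw_conj, hr, S.x_inv])
        (by simp [he, ha, hb, S.nw_conj, hs, S.x_inv])
  have h5 : cm a b ^ 3 = 1 := by
    rw [← cm_pow_left (c a)]
    exact cm_eq_one.2 (hψ.commute (by simp [ha, S.x_pow, h3]) _)
  rw [pow_succ, sq, eq_inv_iff_mul_eq_one.1 h4, one_mul] at h5
  exact lc_of_prime hψ hF ha hb (cm_eq_one.1 h5)

end Gen
end H5
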