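import Cfsg.Agent.H5.GA1
import Cfsg.Agent.H5.GM2

/-! Automorphisms of finite Chevalley groups, II: normal form on the fundamental root subgroups. -/

set_option autoImplicit false

namespace H5
namespace Gen

open Cfsg Equiv Matrix

section Fld
variable {F : Type*} [Field F] [Finite F]

theorem exists_ringEquiv_of_sq {f : F → F} (h0 : Function.Injective f) (h1 : f 1 = 1)
    (h2 : ∀ t u, f (t + u) = f t + f u) (h3 : ∀ t u, t ≠ 0 → f (t ^ 2 * u) = f t ^ 2 * f u) :
    ∃ φ : F ≃+* F, ∀ t, φ t = f t := by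
  have h4 : f 0 = 0 := by simpa using h2 0 0
  have h5 : ∀ t u, f (t ^ 2 * u) = f t ^ 2 * f u := fun t u => by
    by_cases h : t = 0
    · simp [h, h4]
    · exact h3 t u h
  have h6 : ∀ t u, f (t * u) = f t * f u := fun t u => by
    by_cases h : (2 : F) = 0
    · have : CharP F 2 := CharTwo.of_one_ne_zero_of_two_eq_zero one_ne_zero h
      obtain ⟨s, rfl⟩ := (Finite.injective_iff_surjective.1 (frobenius F 2).injective) t
      have := h5 s 1
      rw [mul_one, h1, mul_one] at this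
      rw [frobenius_def, h5, this]
    · have := h5 (t + 1) u
      rw [show (t + 1) ^ 2 * u = t ^ 2 * u + (t * u + t * u) + u by ring, h2, h2, h2, h2, h5, h1] at this
      apply mul_left_cancel₀ h
      linear_combination this
  exact ⟨RingEquiv.ofBijective (⟨⟨⟨f, h1⟩, h6⟩, h4, h2⟩ : F →+* F)
    (Finite.injective_iff_bijective.1 h0), fun _ => rfl⟩

theorem ringAut_facts (p : ℕ) [Fact p.Prime] [CharP F p] :
    IsCyclic (F ≃+* F) ∧ Nat.card F = p ^ Nat.card (F ≃+* F) := by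
  let _ := ZMod.algebra F p
  let _ := Fintype.ofFinite F
  let e : (F ≃ₐ[ZMod p] F) ≃* (F ≃+* F) :=
    { toFun := fun φ => φ.toRingEquiv
      invFun := fun φ => AlgEquiv.ofRingEquiv (f := φ) fun x => by
        obtain ⟨k, rfl⟩ := ZMod.intCast_surjective x; simp
      left_inv := fun _ => rfl
      right_inv := fun _ => rfl
      map_mul' := fun _ _ => rfl }
  refine ⟨isCyclic_of_surjective e e.surjective, ?_⟩
  rw [← Nat.card_congr e.toEquiv, IsGalois.card_aut_eq_finrank, Nat.card_eq_fintype_card,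
    Module.card_eq_pow_finrank (K := ZMod p), ZMod.card]

theorem card_ringAut {p f : ℕ} [hp : Fact p.Prime] [CharP F p] (h : Nat.card F = p ^ f) :
    Nat.card (F ≃+* F) = f :=
  Nat.pow_right_injective hp.out.two_le ((ringAut_facts p).2.symm.trans h)

theorem isCyclic_ringAut : IsCyclic (F ≃+* F) :=
  let ⟨p, _⟩ := CharP.exists F
  have : Fact p.Prime := ⟨CharP.char_is_prime F p⟩
  (ringAut_facts p).1

end Fld


variable {D : RS} {F : Type*} [Field F] [Rep D F] {G : Type*} [Group G]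

theorem refl_eq_self_iff {i : Ix D} {r : Rt D} : refl i r = r ↔ wt r i = 0 := by
  rw [← vec_injective.eq_iff, vec_refl, sub_eq_self, smul_eq_zero, or_iff_left (vec_ne_zero _)]

theorem bonds_nonneg {i j : Ix D} (h : i ≠ j) : 0 ≤ bonds i j :=
  mul_nonneg_of_nonpos_of_nonpos (wt_simple_nonpos h.symm) (wt_simple_nonpos h)

theorem bonds_eq_zero {i j : Ix D} (_ : i ≠ j) : bonds i j = 0 ↔ refl j (simple i) = simple i := by
  rw [refl_eq_self_iff, bonds_eq, mul_eq_zero, ← pair_simple, pair_eq_zero_comm, pair_simple, or_self]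

theorem bonds_eq_two {i j : Ix D} :
    bonds i j = 2 ↔ refl i (refl j (simple i)) = refl j (simple i) := by
  rw [refl_eq_self_iff, bonds_eq, wt_refl, wt_simple_self, mul_comm]; omega

theorem bonds_eq_one {i j : Ix D} (h : i ≠ j) :
    bonds i j = 1 ↔ refl i (refl j (simple i)) = simple j := by
  rw [← vec_injective.eq_iff, vec_refl, vec_refl, wt_refl, bonds_eq, mul_comm]
  refine ⟨fun e => ?_, fun e => ?_⟩
  · have := wt_simple_nonpos h
    rw [e, show wt (simple i) j = -1 by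
      rcases Int.eq_one_or_neg_one_of_mul_eq_one e with e | e <;> omega]
    simp
  · have := congrFun e i
    simp [vec_simple, h] at this
    omega

namespace StSys
variable {S : StSys D F G}

variable (S) in
/-- normal form -/
def Nf (θ : G → G) (π : Ix D → Ix D) (a : Ix D → Fˣ) (f : Ix D → F ≃+* F) : Prop := ∀ i t,
  θ (S.x (simple i) t) = S.x (simple (π i)) (a i * f i t) ∧
    θ (S.x (neg (simple i)) t) = S.x (neg (simple (π i))) ((a i)⁻¹ * f i t)

theorem Nf.st {θ : G → G} {π : Ix D → Ix D} {a : Ix D → Fˣ} {f : Ix D → F ≃+* F}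
    (h : S.Nf θ π a f) : S.St θ π := fun i t => ⟨⟨_, (h i t).1⟩, _, (h i t).2⟩

theorem St.unique {θ : MulAut G} {π π' : Ix D → Ix D} (h : S.St θ π) (h' : S.St θ π') : π = π' :=
  funext fun i => by
    obtain ⟨u, hu⟩ := (h i 1).1
    obtain ⟨v, hv⟩ := (h' i 1).1
    have h3 : u ≠ 0 := by
      rintro rfl
      rw [x_zero, map_eq_one_iff _ θ.injective, x_eq_one_iff] at hu
      exact one_ne_zero hu
    exact simple_injective (S.x_eq_x h3 (hu.symm.trans hv)).1

variable [Conn D]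

theorem exists_nf1 [Finite F] {θ : MulAut G} {r s : Rt D} (h1 : ∀ t, ∃ u, θ (S.x r t) = S.x s u)
    (h2 : ∀ t, ∃ u, θ (S.x (neg r) t) = S.x (neg s) u) : ∃ (a : Fˣ) (φ : F ≃+* F), ∀ t,
      θ (S.x r t) = S.x s (a * φ t) ∧ θ (S.x (neg r) t) = S.x (neg s) (a⁻¹ * φ t) := by
  choose f hf using h1
  choose g hg using h2
  have a1 : Function.Injective f := fun t u e => S.x_injective _ (θ.injective (by rw [hf, hf, e]))
  have a2 : ∀ t u, f (t + u) = f t + f u := fun t u => S.x_injective _ (by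
    rw [← hf, ← S.add, ← S.add, map_mul, hf, hf])
  have a3 : ∀ t ≠ 0, g t ≠ 0 := fun t ht e => ht (by
    have := hg t
    rwa [e, x_zero, map_eq_one_iff _ θ.injective, x_eq_one_iff] at this)
  have a4 : f 0 = 0 := by simpa using a2 0 0
  have a5 : ∀ t ≠ 0, f t ≠ 0 := fun t ht e => ht (a1 (e.trans a4.symm))
  have a6 : ∀ t, f (-t) = -f t := fun t => by
    have := a2 t (-t); rw [add_neg_cancel, a4] at this; linear_combination -this
  have a7 : ∀ t ≠ 0, θ (S.n r t) = S.n s (f t) := fun t ht => by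
    have := congrArg θ (S.n_neg r ht)
    simp only [n, neg_neg', inv_neg, inv_inv, neg_neg, map_mul, hf, hg] at this ⊢
    rw [S.braid (a3 _ (neg_ne_zero.2 (inv_ne_zero ht))) this.symm]
  have a8 : ∀ t ≠ 0, ∀ u, f (t ^ 2 * u) = f t ^ 2 * g u := fun t ht u => by
    have := congrArg θ (S.n_conj_neg r ht u)
    rw [map_mul, map_mul, map_inv, a7 t ht, hg, hf, S.n_conj_neg _ (a5 t ht), a6] at this
    exact _root_.neg_injective (S.x_injective _ this).symm
  have a9 := a5 1 one_ne_zero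
  have a10 : ∀ u, g u = (f 1)⁻¹ * ((f 1)⁻¹ * f u) := fun u => by
    have := a8 1 one_ne_zero u
    rw [one_pow, one_mul] at this
    rw [this]; field_simp
  obtain ⟨φ, hφ⟩ := exists_ringEquiv_of_sq (f := fun t => (f 1)⁻¹ * f t)
    (fun t u e => a1 (mul_left_cancel₀ (inv_ne_zero a9) e)) (inv_mul_cancel₀ a9)
    (fun t u => by rw [a2, mul_add]) fun t u ht => by rw [a8 t ht, a10]; ring
  refine ⟨Units.mk0 _ a9, φ, fun t => ?_⟩
  rw [hφ, hf, hg, a10, Units.val_mk0, mul_inv_cancel_left₀ a9]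
  exact ⟨rfl, rfl⟩

theorem St.exists_nf [Finite F] {θ : MulAut G} {π : Ix D → Ix D} (h : S.St θ π) :
    ∃ a f, S.Nf θ π a f := by
  choose a f hf using fun i => exists_nf1 (fun t => (h i t).1) fun t => (h i t).2
  exact ⟨a, f, hf⟩

section
variable {θ : MulAut G} {π : Perm (Ix D)} {a : Ix D → Fˣ} {f : Ix D → F ≃+* F} (h : S.Nf θ π a f)
include h

omit [Conn D] in
theorem Nf.map_n (i : Ix D) (t : F) : θ (S.n (simple i) t) = S.n (simple (π i)) (a i * f i t) := by
  simp [n, (h i _).1, (h i _).2, mul_comm]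

theorem Nf.exists_ρ [Finite F] : ∃ ρ : Rt D → Rt D, Function.Injective ρ ∧ (∀ i, ρ (simple i) = simple (π i)) ∧
    (∀ i r, ρ (refl i r) = refl (π i) (ρ r)) ∧ ∀ r t, ∃ u, (t ≠ 0 → u ≠ 0) ∧ θ (S.x r t) = S.x (ρ r) u := by
  have h0 : ∀ {r s t u}, θ (S.x r t) = S.x s u → t ≠ 0 → u ≠ 0 := fun e ht hu => ht (by
    rwa [hu, x_zero, map_eq_one_iff _ θ.injective, x_eq_one_iff] at e)
  have h1 : ∀ i {r s}, (∀ t, ∃ u, θ (S.x r t) = S.x s u) →
      ∀ t, ∃ u, θ (S.x (refl i r) t) = S.x (refl (π i) s) u := fun i r s ih t => by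
    obtain ⟨u, hu⟩ := ih (eta i r * t)
    have h8 := congrArg θ (S.n_conj (simple i) r one_ne_zero (eta i r * t))
    rw [map_mul, map_mul, map_inv, h.map_n, hu, S.n_conj _ _ (by simp)] at h8
    simp only [rrefl_simple, sg_simple, _root_.one_zpow, mul_one, ← mul_assoc, eta_cast_mul_self,
      one_mul] at h8
    exact ⟨_, h8.symm⟩
  have h2 : ∀ r, ∃ s, ∀ t, ∃ u, θ (S.x r t) = S.x s u := fun r => by
    induction r using root_induction with
    | h0 i => exact ⟨_, fun t => ⟨_, (h i t).1⟩⟩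
    | hs i r ih => exact let ⟨s, hs⟩ := ih; ⟨_, h1 i hs⟩
  choose ρ hρ using h2
  have h3 : ∀ {r s}, (∀ t, ∃ u, θ (S.x r t) = S.x s u) → ρ r = s := fun {r s} e => by
    obtain ⟨u, hu⟩ := hρ r 1
    obtain ⟨v, hv⟩ := e 1
    exact (S.x_eq_x (h0 hu one_ne_zero) (hu.symm.trans hv)).1
  refine ⟨ρ, fun r s e => ?_, fun i => h3 fun t => ⟨_, (h i t).1⟩, fun i r => h3 (h1 i (hρ r)),
    fun r t => let ⟨u, hu⟩ := hρ r t; ⟨u, h0 hu, hu⟩⟩
  choose u hu using hρ r
  obtain ⟨v, hv⟩ := hρ s 1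
  obtain ⟨t, rfl⟩ := Finite.injective_iff_surjective.1 (fun a b e => S.x_injective _ (θ.injective (by
    rw [hu, hu, e])) : Function.Injective u) v
  rw [← e, ← hu] at hv
  exact (S.x_eq_x one_ne_zero (θ.injective hv)).1.symm

theorem Nf.rel (hM : S.HMul) (i j : Ix D) {t : F} (ht : t ≠ 0) :
    f j (t ^ wt (simple j) i) = f i t ^ wt (simple (π j)) (π i) := by
  have h1 := congrArg θ (S.h_conj (simple i) (simple j) ht 1)
  have h2 : ∀ t ≠ 0, (a i : F) * f i t ≠ 0 := fun t ht => by simpa using ht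
  rw [StSys.h, map_mul, map_mul, map_inv, map_mul, h.map_n, h.map_n, (h j _).1, (h j _).1,
    hM.n_mul_n _ (h2 t ht) (h2 _ (by simp)), show -(a i * f i t * (a i * f i (-1))⁻¹) = f i t by
      simp [mul_comm], S.h_conj _ _ (by simpa using ht)] at h1
  simpa [mul_comm] using (S.x_injective _ h1).symm

theorem Nf.sym [Finite F] (hb : ∀ i j : Ix D, i ≠ j → bonds i j ≤ 3) : IsDS π := by
  obtain ⟨ρ, h1, h2, h3, -⟩ := h.exists_ρ
  intro i j e
  have e' := π.injective.ne e
  have a0 : bonds i j = 0 ↔ bonds (π i) (π j) = 0 := by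
    rw [bonds_eq_zero e, bonds_eq_zero e', ← h1.eq_iff, h3, h2]
  have a1 : bonds i j = 1 ↔ bonds (π i) (π j) = 1 := by
    rw [bonds_eq_one e, bonds_eq_one e', ← h1.eq_iff, h3, h3, h2, h2]
  have a2 : bonds i j = 2 ↔ bonds (π i) (π j) = 2 := by
    rw [bonds_eq_two, bonds_eq_two, ← h1.eq_iff, h3, h3, h2]
  have := hb _ _ e
  have := hb _ _ e'
  have := bonds_nonneg e
  have := bonds_nonneg e'
  omega

theorem Nf.rel' (hM : S.HMul) {i j : Ix D} (h1 : wt (simple j) i = -1) {m : ℕ}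
    (h2 : wt (simple (π j)) (π i) = -m) (hm : m ≠ 0) (t : F) : f j t = f i t ^ m := by
  by_cases ht : t = 0
  · simp [ht, hm]
  have := h.rel hM i j ht
  rw [h1, h2] at this
  simpa using this

theorem Nf.eq_of_cartan (hM : S.HMul) (hb : ∀ i j : Ix D, i ≠ j → bonds i j ≤ 3)
    (hπ : ∀ i j, wt (simple (π i)) (π j) = wt (simple i) j) (i j : Ix D) : f i = f j := by
  by_contra e
  obtain ⟨k, h1, l, h2, h3⟩ := exists_conn (J := {k | f k = f j}) ⟨j, rfl⟩ ⟨i, e⟩
  have h4 : k ≠ l := fun e => h2 (e ▸ h1)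
  have h5 := hb k l h4
  have h6 := wt_simple_nonpos h4
  have h7 := wt_simple_nonpos h4.symm
  have h8 : wt (simple k) l ≠ 0 := by
    rwa [← pair_simple, Ne, pair_eq_zero_comm, pair_simple]
  rw [bonds_eq] at h5
  refine h2 (Eq.trans ?_ h1)
  by_cases h9 : wt (simple l) k = -1
  · exact RingEquiv.ext fun t => by simpa using h.rel' hM h9 (m := 1) (by simp [hπ, h9]) one_ne_zero t
  · have h10 : wt (simple k) l = -1 := by
      have h10 : wt (simple l) k ≤ -2 := by omega
      have h11 : wt (simple k) l ≤ -1 := by omega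
      nlinarith
    exact RingEquiv.ext fun t => by
      simpa using (h.rel' hM h10 (m := 1) (by simp [hπ, h10]) one_ne_zero t).symm

end

end StSys
end Gen
end H5
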