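import Cfsg.Agent.H5.G8

/-! Longest elements of parabolic subgroups; the Weyl group of a twisted group. -/

set_option autoImplicit false

namespace H5
namespace Gen

open Equiv

variable {D : RS}

local notation "σ" => InvGen.σ (wgen D)
local notation "ℓ" => InvGen.len (wgen D)
local notation "wp" => InvGen.wp (wgen D)

/-- the parabolic subgroup of the Weyl group -/
def WJ (J : Set (Ix D)) : Subgroup (Wg D) := Subgroup.closure ((wgen D).σ '' J)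

/-- the positive roots of the subsystem -/
def PhiP (J : Set (Ix D)) : Set (Rt D) := {r | Pos r ∧ r ∈ PhiJ J}

/-- the negative roots of the subsystem -/
def PhiM (J : Set (Ix D)) : Set (Rt D) := {r | ¬ Pos r ∧ r ∈ PhiJ J}

variable {J K : Set (Ix D)} {v w : Wg D}

theorem σ_mem_WJ {i : Ix D} (h : i ∈ J) : σ i ∈ WJ J := Subgroup.subset_closure ⟨i, h, rfl⟩

theorem WJ_mono (h : J ⊆ K) : WJ J ≤ WJ K := Subgroup.closure_mono (Set.image_mono h)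

@[simp] theorem wg_mul_apply (v w : Wg D) (r : Rt D) : (v * w) r = v (w r) := rfl

theorem closed_PhiJ (J : Set (Ix D)) : Closed (PhiJ J) := by
  have := closed_eq_zero (D := D) (muJ J)
  simp only [muJ_eq_zero_iff] at this
  exact this

theorem closed_PhiP (J : Set (Ix D)) : Closed (PhiP J) := closed_pos.inter (closed_PhiJ J)

theorem closed_PhiM (J : Set (Ix D)) : Closed (PhiM J) := closed_neg.inter (closed_PhiJ J)

theorem nil_PhiP (J : Set (Ix D)) : Nil ordf (PhiP J) := nil_pos.sub (fun _ h => h.1) (closed_PhiP J)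

theorem nil_PhiM (J : Set (Ix D)) : Nil (-ordf) (PhiM J) :=
  nil_neg.sub (fun _ h => h.1) (closed_PhiM J)

theorem nil_inv (w : Wg D) : Nil ordf (Inv w) := nil_pos.sub (fun _ h => h.1) (closed_inv (wg_aut w))

theorem simple_mem_PhiP {i : Ix D} (h : i ∈ J) : simple i ∈ PhiP J :=
  ⟨pos_simple i, simple_mem_PhiJ.2 h⟩

theorem vec_WJ (h : w ∈ WJ J) {i : Ix D} (hi : i ∉ J) (r : Rt D) : vec (w r) i = vec r i := by
  obtain ⟨l, hl, rfl⟩ := exists_word_of_mem_closure h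
  induction l with
  | nil => rfl
  | cons j l ih =>
    rw [InvGen.wp_cons, wg_mul_apply, σ_apply, vec_refl, Pi.sub_apply, Pi.smul_apply,
      simple_mem_PhiJ.2 (hl j (by simp)) i hi,
      ih (fun k hk => hl k (by simp [hk])) (wp_mem_closure fun k hk => hl k (by simp [hk]))]
    simp

theorem mem_PhiJ_WJ (h : w ∈ WJ J) {r : Rt D} : w r ∈ PhiJ J ↔ r ∈ PhiJ J :=
  forall₂_congr fun i hi => by rw [vec_WJ h hi]

theorem pos_WJ (h : w ∈ WJ J) {r : Rt D} (hr : Pos r) (hJ : r ∉ PhiJ J) : Pos (w r) := by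
  obtain ⟨i, hi, h0⟩ : ∃ i ∉ J, vec r i ≠ 0 := by simpa [PhiJ] using hJ
  apply pos_of_vec_pos (i := i)
  rw [vec_WJ h hi]
  exact lt_of_le_of_ne (pos_iff_vec.1 hr i) h0.symm

theorem inv_subset_WJ (h : w ∈ WJ J) : Inv w ⊆ PhiP J := fun r hr =>
  ⟨hr.1, by by_contra h0; exact hr.2 (pos_WJ h hr.1 h0)⟩

theorem inv_ext (h : Inv v = Inv w) : v = w := by
  rw [← mul_inv_eq_one]
  refine eq_one_of_pos fun i => ?_
  rw [wg_mul_apply]
  have h1 : Pos (w (w⁻¹ (simple i))) := by simpa using pos_simple i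
  by_cases hs : Pos (w⁻¹ (simple i))
  · by_contra h2
    have : w⁻¹ (simple i) ∈ Inv w := h ▸ ⟨hs, h2⟩
    exact this.2 h1
  · have : neg (w⁻¹ (simple i)) ∈ Inv v := h ▸ ⟨pos_neg_iff.2 hs, by rwa [wg_neg, pos_neg_iff, not_not]⟩
    simpa [pos_neg_iff] using this.2

theorem pos_of_PhiP (h : ∀ i ∈ J, Pos (w (simple i))) {r : Rt D} (hr : r ∈ PhiP J) : Pos (w r) :=
  pos_of_forall_simple (wg_aut w) hr.1 fun i hi => h i (by by_contra h0; exact hi (hr.2 i h0))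

theorem neg_of_PhiP (h : ∀ i ∈ J, ¬ Pos (w (simple i))) {r : Rt D} (hr : r ∈ PhiP J) : ¬ Pos (w r) :=
  neg_of_forall_simple (wg_aut w) hr.1 fun i hi => h i (by by_contra h0; exact hi (hr.2 i h0))

theorem neg_mem_PhiP {r : Rt D} : neg r ∈ PhiP J ↔ r ∈ PhiM J := by
  simp only [PhiP, PhiM, Set.mem_ofPred_eq, pos_neg_iff, neg_mem_PhiJ]

theorem neg_mem_PhiM {r : Rt D} : neg r ∈ PhiM J ↔ r ∈ PhiP J := by
  rw [← neg_mem_PhiP, neg_neg']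

theorem exists_wJ (J : Set (Ix D)) : ∃ w ∈ WJ J, ∀ i ∈ J, ¬ Pos (w (simple i)) := by
  obtain ⟨w, hw, h⟩ := Set.exists_max_image (WJ J : Set (Wg D)) (wgen D).len (Set.toFinite _)
    ⟨1, one_mem _⟩
  exact ⟨w, hw, fun i hi => neg_of_len_mul_σ (h _ ((WJ J).mul_mem hw (σ_mem_WJ hi)))⟩

/-- the longest element of `W_J` -/
noncomputable def wJ (J : Set (Ix D)) : Wg D := (exists_wJ J).choose

theorem wJ_mem (J : Set (Ix D)) : wJ J ∈ WJ J := (exists_wJ J).choose_spec.1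

theorem inv_of_neg (h : w ∈ WJ J) (h2 : ∀ i ∈ J, ¬ Pos (w (simple i))) : Inv w = PhiP J :=
  (inv_subset_WJ h).antisymm fun _ hr => ⟨hr.1, neg_of_PhiP h2 hr⟩

theorem inv_wJ (J : Set (Ix D)) : Inv (wJ J) = PhiP J :=
  inv_of_neg (wJ_mem J) (exists_wJ J).choose_spec.2

theorem eq_wJ (h : w ∈ WJ J) (h2 : ∀ i ∈ J, ¬ Pos (w (simple i))) : w = wJ J :=
  inv_ext ((inv_of_neg h h2).trans (inv_wJ J).symm)

theorem len_wJ (J : Set (Ix D)) : ℓ (wJ J) = (PhiP J).ncard := by rw [← ncard_inv, inv_wJ]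

theorem wJ_mem_PhiM {r : Rt D} (h : r ∈ PhiP J) : wJ J r ∈ PhiM J :=
  ⟨(inv_wJ J ▸ h : r ∈ Inv (wJ J)).2, (mem_PhiJ_WJ (wJ_mem J)).2 h.2⟩

theorem wJ_mem_PhiP {r : Rt D} (h : r ∈ PhiM J) : wJ J r ∈ PhiP J := by
  rw [← neg_mem_PhiM, ← wg_neg]; exact wJ_mem_PhiM (neg_mem_PhiP.2 h)

@[simp] theorem inv_wJ' (J : Set (Ix D)) : (wJ J)⁻¹ = wJ J := by
  refine eq_wJ (inv_mem (wJ_mem J)) fun i hi h => ?_
  have := wJ_mem_PhiM ⟨h, (mem_PhiJ_WJ (inv_mem (wJ_mem J))).2 (simple_mem_PhiJ.2 hi)⟩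
  simpa [pos_simple] using this.1

@[simp] theorem wJ_mul_wJ (J : Set (Ix D)) : wJ J * wJ J = 1 := by
  rw [mul_eq_one_iff_eq_inv, inv_wJ']

@[simp] theorem wJ_wJ (J : Set (Ix D)) (r : Rt D) : wJ J (wJ J r) = r := by
  rw [← wg_mul_apply, wJ_mul_wJ]; rfl

theorem wJ_ne_one {i : Ix D} (h : i ∈ J) : wJ J ≠ 1 := fun e => by
  have := (wJ_mem_PhiM (simple_mem_PhiP h)).1
  rw [e] at this
  exact this (pos_simple i)

theorem wJ_singleton (i : Ix D) : wJ {i} = σ i := by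
  refine (eq_wJ (J := {i}) (σ_mem_WJ rfl) fun k hk => ?_).symm
  rw [hk, σ_apply, refl_simple, pos_neg_iff, not_not]
  exact pos_simple i

theorem pos_wJ_univ (r : Rt D) : Pos (wJ Set.univ r) ↔ ¬ Pos r := by
  have h : ∀ r : Rt D, r ∈ PhiJ Set.univ := fun r i hi => absurd trivial hi
  exact ⟨fun h1 h2 => (wJ_mem_PhiM ⟨h2, h r⟩).1 h1, fun h1 => (wJ_mem_PhiP ⟨h1, h r⟩).1⟩

theorem inv_wJ_univ : Inv (wJ (Set.univ : Set (Ix D))) = {r | Pos r} := by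
  ext r; simp [Inv, pos_wJ_univ]

theorem disjoint_PhiP (h : ∀ i ∈ J, Pos (w (simple i))) : Disjoint (PhiP J) (wJ J '' Inv w) := by
  rw [Set.disjoint_left]
  rintro _ h1 ⟨r, hr, rfl⟩
  exact hr.2 (pos_of_PhiP h ⟨hr.1, (mem_PhiJ_WJ (wJ_mem J)).1 h1.2⟩)

theorem inv_mul_wJ (h : ∀ i ∈ J, Pos (w (simple i))) :
    Inv (w * wJ J : Wg D) = PhiP J ∪ wJ J '' Inv w := by
  ext r
  constructor
  · rintro ⟨h1, h2⟩
    by_cases hr : r ∈ PhiJ J
    · exact Or.inl ⟨h1, hr⟩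
    · exact Or.inr ⟨_, ⟨pos_WJ (wJ_mem J) h1 hr, h2⟩, wJ_wJ J r⟩
  · rintro (hr | ⟨r, hr, rfl⟩)
    · refine ⟨hr.1, ?_⟩
      have := pos_of_PhiP h (neg_mem_PhiP.2 (wJ_mem_PhiM hr))
      rwa [wg_neg, pos_neg_iff] at this
    · refine ⟨pos_WJ (wJ_mem J) hr.1 fun h0 => hr.2 (pos_of_PhiP h ⟨hr.1, h0⟩), ?_⟩
      change ¬ Pos (w (wJ J (wJ J r)))
      rw [wJ_wJ]; exact hr.2

theorem len_mul_wJ (h : ∀ i ∈ J, Pos (w (simple i))) : ℓ (w * wJ J) = ℓ w + ℓ (wJ J) := by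
  rw [← ncard_inv, inv_mul_wJ h, Set.ncard_union_eq (disjoint_PhiP h), len_wJ,
    Set.ncard_image_of_injective _ (wJ J).1.injective, ncard_inv, add_comm]

theorem pos_mul_wJ (h : ∀ i ∈ J, ¬ Pos (w (simple i))) : ∀ i ∈ J, Pos ((w * wJ J) (simple i)) := by
  intro i hi
  have := neg_of_PhiP h (neg_mem_PhiP.2 (wJ_mem_PhiM (simple_mem_PhiP hi)))
  rwa [wg_neg, pos_neg_iff, not_not] at this

theorem wt_simple_nonpos {i j : Ix D} (h : i ≠ j) : wt (simple i) j ≤ 0 := by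
  have := pos_iff_vec.1 (pos_refl (i := j) (pos_simple i) (simple_injective.ne h)) j
  simpa [vec_refl, vec_simple, h.symm] using this

theorem not_commute_wJ (hd : Disjoint J K) {i j : Ix D} (hi : i ∈ J) (hj : j ∈ K)
    (h : wt (simple j) i ≠ 0) : wJ J * wJ K ≠ wJ K * wJ J := by
  intro e
  have hjJ : j ∉ J := Set.disjoint_right.1 hd hj
  have h0 : ∀ r ∈ PhiJ J, r ∉ PhiJ K := fun r h1 h2 => vec_ne_zero r (funext fun k => by
    by_cases hk : k ∈ J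
    · exact h2 k (Set.disjoint_left.1 hd hk)
    · exact h1 k hk)
  have h1 : wJ J (simple j) ∈ Inv (wJ K) := by
    refine ⟨pos_WJ (wJ_mem J) (pos_simple j) (mt simple_mem_PhiJ.1 hjJ), ?_⟩
    rw [← wg_mul_apply, ← e, wg_mul_apply, ← pos_neg_iff, ← wg_neg]
    have := neg_mem_PhiP.2 (wJ_mem_PhiM (simple_mem_PhiP hj))
    exact pos_WJ (wJ_mem J) this.1 fun h => h0 _ h this.2
  rw [inv_wJ] at h1
  have hij : j ≠ i := by rintro rfl; exact hjJ hi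
  have h2 : Pos (wJ J (refl i (simple j))) := by
    refine pos_WJ (wJ_mem J) (pos_refl (pos_simple j) (simple_injective.ne hij)) fun h3 => ?_
    have := refl_mem_PhiJ hi h3
    rw [refl_refl] at this
    exact hjJ (simple_mem_PhiJ.1 this)
  obtain ⟨L, hL⟩ := (wg_aut (wJ J)).lin
  have h3 := wJ_mem_PhiM (simple_mem_PhiP hi)
  apply vec_ne_zero (wJ J (simple i))
  funext k
  by_cases hk : k ∈ J
  · have h4 := pos_iff_vec.1 h2 k
    rw [hL, vec_refl, map_sub, map_smul, ← hL, ← hL, Pi.sub_apply, Pi.smul_apply,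
      h1.2 k (Set.disjoint_left.1 hd hk), smul_eq_mul] at h4
    have h5 := not_pos_iff_vec.1 h3.1 k
    have h6 := lt_of_le_of_ne (wt_simple_nonpos hij) h
    have : 0 ≤ vec (wJ J (simple i)) k := by nlinarith
    exact le_antisymm h5 this
  · exact h3.2 k hk

/-- a permutation of the roots induced by a symmetry of the diagram -/
structure RSym (D : RS) where
  ρ : Perm (Rt D)
  τ : Perm (Ix D)
  ρ_neg : ∀ r, ρ (neg r) = neg (ρ r)
  ρ_pos : ∀ r, Pos (ρ r) ↔ Pos r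
  ρ_simple : ∀ i, ρ (simple i) = simple (τ i)
  ρ_refl : ∀ i r, ρ (refl i r) = refl (τ i) (ρ r)

namespace RSym

variable (Θ : RSym D)

theorem exists_c (w : Wg D) : ∃ v : Wg D, ∀ r, v (Θ.ρ r) = Θ.ρ (w r) := by
  obtain ⟨l, -, rfl⟩ := (wgen D).exists_reduced w
  refine ⟨wp (l.map Θ.τ), ?_⟩
  induction l with
  | nil => exact fun _ => rfl
  | cons i l ih => intro r; simp only [List.map_cons, InvGen.wp_cons, wg_mul_apply, ih, σ_apply, Θ.ρ_refl]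

theorem ext_ρ {v w : Wg D} (h : ∀ r, v (Θ.ρ r) = w (Θ.ρ r)) : v = w :=
  Subtype.ext (Equiv.ext fun r => by obtain ⟨r, rfl⟩ := Θ.ρ.surjective r; exact h r)

/-- conjugation by the symmetry -/
noncomputable def c : Wg D →* Wg D where
  toFun w := (Θ.exists_c w).choose
  map_one' := Θ.ext_ρ fun r => (Θ.exists_c 1).choose_spec r
  map_mul' v w := Θ.ext_ρ fun r => by
    rw [wg_mul_apply, (Θ.exists_c _).choose_spec, (Θ.exists_c _).choose_spec,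
      (Θ.exists_c _).choose_spec, wg_mul_apply]

theorem c_apply (w : Wg D) (r : Rt D) : Θ.c w (Θ.ρ r) = Θ.ρ (w r) := (Θ.exists_c w).choose_spec r

theorem c_σ (i : Ix D) : Θ.c (σ i) = σ (Θ.τ i) :=
  Θ.ext_ρ fun r => by rw [c_apply, σ_apply, σ_apply, Θ.ρ_refl]

theorem c_injective : Function.Injective Θ.c := fun v w h =>
  Subtype.ext (Equiv.ext fun r => Θ.ρ.injective (by rw [← c_apply, h, c_apply]))

/-- the Weyl group of the twisted group -/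
noncomputable def W1 : Subgroup (Wg D) := Θ.c.eqLocus (MonoidHom.id _)

theorem mem_W1 {w : Wg D} : w ∈ Θ.W1 ↔ Θ.c w = w := Iff.rfl

theorem mem_W1' {w : Wg D} : w ∈ Θ.W1 ↔ ∀ r, w (Θ.ρ r) = Θ.ρ (w r) :=
  ⟨fun h r => by rw [← c_apply, Θ.mem_W1.1 h], fun h => Θ.mem_W1.2 (Θ.ext_ρ fun r => by rw [c_apply, h])⟩

/-- the orbit of a node -/
def orb (i : Ix D) : Set (Ix D) := {k | Θ.τ.SameCycle i k}

theorem mem_orb (i : Ix D) : i ∈ Θ.orb i := Perm.SameCycle.refl _ _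

theorem τ_mem_orb {i k : Ix D} : Θ.τ k ∈ Θ.orb i ↔ k ∈ Θ.orb i := Perm.sameCycle_apply_right

theorem orb_eq {i k : Ix D} (h : k ∈ Θ.orb i) : Θ.orb k = Θ.orb i :=
  Set.ext fun _ => ⟨fun h' => h.trans h', fun h' => (Perm.SameCycle.symm h).trans h'⟩

theorem disjoint_orb {i k : Ix D} (h : k ∉ Θ.orb i) : Disjoint (Θ.orb i) (Θ.orb k) :=
  Set.disjoint_left.2 fun _ h1 h2 => h (h1.trans (Perm.SameCycle.symm h2))

theorem orb_induction {p : Ix D → Prop} (h : ∀ k, p k → p (Θ.τ k)) {i k : Ix D} (hi : p i)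
    (hk : k ∈ Θ.orb i) : p k := by
  obtain ⟨n, rfl⟩ := Perm.SameCycle.exists_nat_pow_eq hk
  clear hk
  induction n with
  | zero => exact hi
  | succ n ih => rw [pow_succ', Perm.mul_apply]; exact h _ ih

variable {Θ}

theorem ρ_mem_PhiJ (hJ : ∀ i ∈ J, Θ.τ i ∈ J) : ∀ r ∈ PhiJ J, Θ.ρ r ∈ PhiJ J :=
  PhiJ_induction (fun i hi => by rw [Θ.ρ_simple]; exact simple_mem_PhiJ.2 (hJ i hi))
    fun i hi r _ h => by rw [Θ.ρ_refl]; exact refl_mem_PhiJ (hJ i hi) h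

theorem ρ_mem_PhiP (hJ : ∀ i ∈ J, Θ.τ i ∈ J) : ∀ r ∈ PhiP J, Θ.ρ r ∈ PhiP J :=
  fun r h => ⟨(Θ.ρ_pos r).2 h.1, ρ_mem_PhiJ hJ r h.2⟩

theorem ρ_mem_PhiM (hJ : ∀ i ∈ J, Θ.τ i ∈ J) : ∀ r ∈ PhiM J, Θ.ρ r ∈ PhiM J :=
  fun r h => ⟨mt (Θ.ρ_pos r).1 h.1, ρ_mem_PhiJ hJ r h.2⟩

theorem ρ_mem_inv (hw : w ∈ Θ.W1) : ∀ r ∈ Inv w, Θ.ρ r ∈ Inv w := fun r h =>
  ⟨(Θ.ρ_pos r).2 h.1, by rw [Θ.mem_W1'.1 hw, Θ.ρ_pos]; exact h.2⟩

theorem c_mem_WJ (hJ : ∀ i ∈ J, Θ.τ i ∈ J) (h : w ∈ WJ J) : Θ.c w ∈ WJ J := by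
  have : WJ J ≤ (WJ J).comap Θ.c := by
    rw [WJ, Subgroup.closure_le]
    rintro _ ⟨i, hi, rfl⟩
    change Θ.c (σ i) ∈ WJ J
    rw [c_σ]; exact σ_mem_WJ (hJ i hi)
  exact this h

theorem wJ_mem_W1 (hJ : ∀ i, Θ.τ i ∈ J ↔ i ∈ J) : wJ J ∈ Θ.W1 := by
  refine eq_wJ (c_mem_WJ (fun i => (hJ i).2) (wJ_mem J)) fun i hi => ?_
  obtain ⟨i, rfl⟩ := Θ.τ.surjective i
  rw [← Θ.ρ_simple, c_apply, Θ.ρ_pos]
  exact (wJ_mem_PhiM (simple_mem_PhiP ((hJ i).1 hi))).1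

theorem worb_mem (i : Ix D) : wJ (Θ.orb i) ∈ Θ.W1 := wJ_mem_W1 fun _ => Θ.τ_mem_orb

theorem w0_mem : wJ Set.univ ∈ Θ.W1 := wJ_mem_W1 fun _ => Iff.rfl

theorem pos_orb (hw : w ∈ Θ.W1) {i : Ix D} (h : Pos (w (simple i))) :
    ∀ k ∈ Θ.orb i, Pos (w (simple k)) := fun _ hk =>
  Θ.orb_induction (p := fun k => Pos (w (simple k)))
    (fun k h => by rwa [← Θ.ρ_simple, Θ.mem_W1'.1 hw, Θ.ρ_pos]) h hk

theorem neg_orb (hw : w ∈ Θ.W1) {i : Ix D} (h : ¬ Pos (w (simple i))) :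
    ∀ k ∈ Θ.orb i, ¬ Pos (w (simple k)) := fun k hk h' =>
  h (pos_orb hw h' i (Perm.SameCycle.symm hk))

theorem W1_induction {p : Wg D → Prop} (h1 : p 1)
    (hs : ∀ w ∈ Θ.W1, ∀ i, (∀ k ∈ Θ.orb i, Pos (w (simple k))) → p w → p (w * wJ (Θ.orb i))) :
    ∀ w ∈ Θ.W1, p w := by
  intro w
  induction hn : ℓ w using Nat.strong_induction_on generalizing w with
  | _ n ih =>
    intro hw
    by_cases h : ∀ i, Pos (w (simple i))
    · rwa [eq_one_of_pos h]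
    obtain ⟨i, hi⟩ := not_forall.1 h
    have h2 := pos_mul_wJ (neg_orb hw hi)
    have h3 := len_mul_wJ h2
    have h4 : ℓ (wJ (Θ.orb i)) ≠ 0 := mt (wgen D).len_eq_zero.1 (wJ_ne_one (Θ.mem_orb i))
    have h5 := mul_mem hw (worb_mem i)
    have := hs _ h5 i h2 (ih _ (by rw [mul_assoc, wJ_mul_wJ, mul_one] at h3; omega) _ rfl h5)
    rwa [mul_assoc, wJ_mul_wJ, mul_one] at this

theorem eq_one_or (hw : w ∈ Θ.W1) {i : Ix D} (h : w ∈ WJ (Θ.orb i)) : w = 1 ∨ w = wJ (Θ.orb i) := by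
  by_cases h1 : w = 1
  · exact Or.inl h1
  obtain ⟨k, hk, h2⟩ := exists_desc (inv_mem h) (inv_ne_one.2 h1)
  rw [inv_inv] at h2
  exact Or.inr (eq_wJ h (Θ.orb_eq hk ▸ neg_orb hw h2))

variable (Θ)

/-- the folded generators attached to a family of nodes -/
noncomputable def fold {A : Type} (j : A → Ix D) : Fold D A where
  g a := wJ (Θ.orb (j a))
  j := j
  m a := ℓ (wJ (Θ.orb (j a)))
  hm a := Nat.pos_of_ne_zero (mt (wgen D).len_eq_zero.1 (wJ_ne_one (Θ.mem_orb _)))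
  sq a := wJ_mul_wJ _
  len a w hw h := by
    have h1 : w ∈ Θ.W1 := (Subgroup.closure_le _).2 (by rintro _ ⟨a, rfl⟩; exact worb_mem _) hw
    have := len_mul_wJ (pos_mul_wJ (neg_orb (inv_mem h1) h))
    rw [mul_assoc, wJ_mul_wJ, mul_one, InvGen.len_inv] at this
    rw [this, ← InvGen.len_inv, mul_inv_rev, inv_wJ']
  desc K w hw h := by
    have h1 : w ∈ Θ.W1 := (Subgroup.closure_le _).2 (by rintro _ ⟨a, -, rfl⟩; exact worb_mem _) hw
    have h2 : w ∈ WJ (⋃ a ∈ K, Θ.orb (j a)) := (Subgroup.closure_le _).2 (by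
      rintro _ ⟨a, ha, rfl⟩
      exact WJ_mono (Set.subset_biUnion_of_mem (u := fun a => Θ.orb (j a)) ha) (wJ_mem _)) hw
    obtain ⟨k, hk, h3⟩ := exists_desc h2 h
    obtain ⟨a, ha, hk⟩ := Set.mem_iUnion₂.1 hk
    exact ⟨a, ha, neg_orb (inv_mem h1) h3 _ (Perm.SameCycle.symm hk)⟩

theorem fold_WK {A : Type} {j : A → Ix D} (h : ∀ i, ∃ a, i ∈ Θ.orb (j a)) :
    (Θ.fold j).WK Set.univ = Θ.W1 := by
  refine le_antisymm ((Subgroup.closure_le _).2 (by rintro _ ⟨a, -, rfl⟩; exact worb_mem _)) ?_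
  refine W1_induction (one_mem _) fun w _ i _ hw => mul_mem hw ?_
  obtain ⟨a, ha⟩ := h i
  rw [Θ.orb_eq ha]
  exact (Θ.fold j).g_mem (Set.mem_univ a)

end RSym

end Gen
end H5
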