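import Cfsg.Agent.H5.G10
import Cfsg.Agent.H5.GW3

/-! Twisted groups: the subgroup generated by the fixed points in the unipotent subgroups. -/

set_option autoImplicit false

namespace H5
namespace Gen

open Cfsg Equiv

variable {D : RS} {F : Type*} [Field F] [Rep D F] {G : Type*} [Group G]

namespace StSys

variable (S : StSys D F G) [Conn D]

theorem cell_PJ {J : Set (Ix D)} {g : G} (hg : g ∈ S.PJ J) (n : S.N) :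
    ∃ b ∈ S.B, ∃ m : S.N, ∃ b' ∈ S.B, g * n = b * m * b' ∧ S.φ m * (S.φ n)⁻¹ ∈ WJ J := by
  let X : Set G := {y | ∃ b ∈ S.B, ∃ m : S.N, ∃ b' ∈ S.B, y = b * m * b' ∧ S.φ m * (S.φ n)⁻¹ ∈ WJ J}
  have hB : ∀ b ∈ S.B, ∀ y ∈ X, b * y ∈ X := by
    rintro b hb _ ⟨b₁, h1, m, b₂, h2, rfl, h3⟩
    exact ⟨_, mul_mem hb h1, m, _, h2, by group, h3⟩
  have hn : ∀ j ∈ J, ∀ y ∈ X, S.n (simple j) 1 * y ∈ X := by
    rintro j hj _ ⟨b₁, h1, m, b₂, h2, rfl, h3⟩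
    rcases S.bn_mul j m.2 h1 with ⟨b₃, h4, b₄, h5, e⟩ | ⟨b₃, h4, b₄, h5, e⟩
    · refine ⟨_, h4, S.ns j * m, _, mul_mem h5 h2, ?_, ?_⟩
      · rw [← mul_assoc, ← mul_assoc, e]; simp [mul_assoc]
      · rw [map_mul, φ_ns, mul_assoc]; exact mul_mem (σ_mem_WJ hj) h3
    · exact ⟨_, h4, m, _, mul_mem h5 h2, by rw [← mul_assoc, ← mul_assoc, e]; group, h3⟩
  let K : Subgroup G :=
    { carrier := {g | ∀ y ∈ X, g * y ∈ X ∧ g⁻¹ * y ∈ X}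
      one_mem' := fun y hy => by simpa using hy
      mul_mem' := fun {a b} ha hb y hy => by
        rw [mul_inv_rev, mul_assoc, mul_assoc]
        exact ⟨(ha _ (hb y hy).1).1, (hb _ (ha y hy).2).2⟩
      inv_mem' := fun {a} ha y hy => by rw [inv_inv]; exact (ha y hy).symm }
  have : S.PJ J ≤ K := by
    refine sup_le (fun b hb y hy => ⟨hB b hb y hy, hB _ (inv_mem hb) y hy⟩) ?_
    rw [Subgroup.closure_le]
    rintro _ ⟨j, hj, rfl⟩ y hy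
    refine ⟨hn j hj y hy, ?_⟩
    have := hB _ (inv_mem (S.H_le_B (S.n_mul_n_mem (simple j) one_ne_zero one_ne_zero))) _
      (hn j hj y hy)
    convert this using 1; group
  exact (this hg n ⟨1, one_mem _, n, 1, one_mem _, by simp, by simp⟩).1

theorem mem_LJ_of_φ {J : Set (Ix D)} {n : S.N} (h : S.φ n ∈ WJ J) : (n : G) ∈ S.LJ J := by
  obtain ⟨l, hl, e⟩ := exists_word_of_mem_closure h
  have h1 : (S.nw l : G) ∈ S.LJ J := by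
    clear e
    induction l with
    | nil => exact one_mem _
    | cons j l ih =>
      have hj := simple_mem_PhiJ.2 (hl j (by simp))
      exact mul_mem (Subgroup.mem_sup_right (S.n_mem (S.x_mem_U hj) (S.x_mem_U (neg_mem_PhiJ.2 hj)) 1))
        (ih fun k hk => hl k (by simp [hk]))
  have h2 := S.φ_eq_φ_iff.1 ((S.φ_nw l).trans e)
  simpa using mul_mem h1 (Subgroup.mem_sup_left h2 : _ ∈ S.LJ J)

theorem U_inf_LJ {J : Set (Ix D)} {u : G} (h1 : u ∈ S.U {r | Pos r}) (h2 : u ∈ S.LJ J) :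
    u ∈ S.U (PhiP J) := by
  obtain ⟨a, ha, b, hb, rfl⟩ := S.split_U (A := {r | Pos r ∧ r ∉ PhiJ J}) (B := PhiP J) nil_pos
    (fun r => by by_cases h : r ∈ PhiJ J <;> simp [h, PhiP]) h1
  have h3 : b ∈ S.LJ J := Subgroup.mem_sup_right (S.U_mono (fun _ h => h.2) hb)
  have : a ∈ (⊥ : Subgroup G) := S.UJ_inf_LJ J ▸ ⟨ha, (mul_mem_cancel_right h3).1 h2⟩
  rwa [Subgroup.mem_bot.1 this, one_mul]

theorem exists_bruhat' {g : G} (hg : g ∈ S.U Set.univ) :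
    ∃ u ∈ S.U {r | Pos r}, ∃ n : S.N, ∃ v ∈ S.U (Inv (S.φ n)), g = u * n * v := by
  obtain ⟨b, hb, n, v, hv, rfl⟩ := S.exists_bruhat hg
  obtain ⟨u, hu, a, ha, rfl⟩ := S.mem_B_iff.1 hb
  refine ⟨u, hu, ⟨a, S.H_le_N ha⟩ * n, v, ?_, by simp [mul_assoc]⟩
  rwa [map_mul, S.φ_eq_one_iff.2 ha, one_mul]

theorem bruhat_unique' {u u' v v' : G} {n n' : S.N} (hu : u ∈ S.U {r | Pos r})
    (hu' : u' ∈ S.U {r | Pos r}) (hv : v ∈ S.U (Inv (S.φ n))) (hv' : v' ∈ S.U (Inv (S.φ n')))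
    (e : u * n * v = u' * n' * v') : u = u' ∧ n = n' ∧ v = v' := by
  have h1 := S.cell_unique (S.U_le_B hu) (S.U_inv_le_B _ hv) (S.U_le_B hu') (S.U_inv_le_B _ hv') e
  have h2 : ((n' * n⁻¹ : S.N) : G) ∈ S.H := S.φ_eq_one_iff.1 (by simp [h1])
  obtain ⟨h3, rfl⟩ := S.bruhat_unique (S.U_le_B hu) (mul_mem (S.U_le_B hu') (S.H_le_B h2)) hv
    (h1 ▸ hv') (by rw [e]; simp [mul_assoc])
  have h4 : ((n' * n⁻¹ : S.N) : G) ∈ (⊥ : Subgroup G) :=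
    S.U_inf_H ▸ ⟨by simpa [h3] using mul_mem (inv_mem hu') hu, h2⟩
  rw [Subgroup.mem_bot] at h4
  refine ⟨by rw [h3, h4, mul_one], ?_, rfl⟩
  exact (mul_inv_eq_one.1 (Subtype.ext h4)).symm

theorem N_conj_U (n : S.N) {A B : Set (Rt D)} (h : ∀ r ∈ A, S.φ n r ∈ B) {u : G} (hu : u ∈ S.U A) :
    n * u * (n : G)⁻¹ ∈ S.U B := (S.acts_φ n).conj_mem_U h u hu

theorem N_conj_U' (n : S.N) {A B : Set (Rt D)} (h : ∀ r ∈ A, (S.φ n)⁻¹ r ∈ B) {u : G}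
    (hu : u ∈ S.U A) : (n : G)⁻¹ * u * n ∈ S.U B := by
  simpa using S.N_conj_U n⁻¹ (by simpa using h) hu

theorem eq_H_of_conj {g : G} {n : S.N} (hn : S.φ n = wJ Set.univ) (h1 : g ∈ S.B)
    (h2 : (n : G)⁻¹ * g * n ∈ S.B) : g ∈ S.H := by
  rw [← S.B_inf_B']
  refine ⟨h1, ?_⟩
  obtain ⟨u, hu, a, ha, e⟩ := S.mem_B_iff.1 h2
  have : g = n * u * (n : G)⁻¹ * (n * a * (n : G)⁻¹) := by
    rw [show g = n * ((n : G)⁻¹ * g * n) * (n : G)⁻¹ by group, ← e]; group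
  rw [this]
  refine mul_mem (Subgroup.mem_sup_left (S.N_conj_U n (fun r hr => ?_) hu))
    (Subgroup.mem_sup_right (S.N_conj_H n.2 a ha))
  rw [hn]; exact fun h => (pos_wJ_univ r).1 h hr

end StSys

namespace Tw

variable {S : StSys D F G} (T : Tw S)

theorem σ_n (r : Rt D) (t : F) : T.σ (S.n r t) = S.n (T.ρ r) (T.γ r * T.θ r t) := by
  simp only [StSys.n, map_mul, T.σ_x, T.ρ_neg, T.γ_neg, T.θ_neg, map_neg, map_inv₀, mul_inv,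
    inv_eq_of_mul_eq_one_right (T.γ_sq r), mul_neg]

theorem ne_zero (r : Rt D) {t : F} (ht : t ≠ 0) : T.γ r * T.θ r t ≠ 0 :=
  mul_ne_zero (T.γ_ne r) ((map_ne_zero _).2 ht)

theorem σ_mem_U {A B : Set (Rt D)} (h : ∀ r ∈ A, T.ρ r ∈ B) {g : G} (hg : g ∈ S.U A) :
    T.σ g ∈ S.U B :=
  (S.U_le_iff (K := (S.U B).comap T.σ)).2 (fun r hr t => by
    rw [Subgroup.mem_comap, T.σ_x]; exact S.x_mem_U (h r hr) _) hg

theorem σ_mem_H {g : G} (hg : g ∈ S.H) : T.σ g ∈ S.H :=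
  (S.H_le_iff (K := S.H.comap T.σ)).2 (fun r t ht => by
    rw [Subgroup.mem_comap, StSys.h, map_mul, σ_n, σ_n]
    exact S.n_mul_n_mem _ (T.ne_zero r ht) (T.ne_zero r (neg_ne_zero.2 one_ne_zero))) hg

theorem σ_mem_N {g : G} (hg : g ∈ S.N) : T.σ g ∈ S.N :=
  (S.N_le_iff (K := S.N.comap T.σ)).2 (fun r t ht => by
    rw [Subgroup.mem_comap, σ_n]; exact S.n_mem_N _ (T.ne_zero r ht)) hg

theorem σ_mem_pos {g : G} (hg : g ∈ S.U {r | Pos r}) : T.σ g ∈ S.U {r | Pos r} :=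
  T.σ_mem_U (fun r => (T.ρ_pos r).2) hg

theorem σ_h (hS : S.HMul) (r : Rt D) {t : F} (ht : t ≠ 0) : T.σ (S.h r t) = S.h (T.ρ r) (T.θ r t) := by
  rw [StSys.h, map_mul, σ_n, σ_n, hS.n_mul_n _ (T.ne_zero r ht) (T.ne_zero r (by simp))]
  congr 1
  have := T.γ_ne r
  simp only [map_neg, map_one]; field_simp

theorem surjective (hS : S.U Set.univ = ⊤) : Function.Surjective T.σ := by
  rw [← MonoidHom.range_eq_top, eq_top_iff, ← hS, S.U_le_iff]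
  intro r _ t
  obtain ⟨r, rfl⟩ := T.ρ.surjective r
  obtain ⟨t, rfl⟩ := T.exists_eq r t
  exact ⟨_, T.σ_x r t⟩

variable [Conn D]

theorem φ_σ_apply (n : S.N) (r : Rt D) : S.φ ⟨T.σ n, T.σ_mem_N n.2⟩ (T.ρ r) = T.ρ (S.φ n r) := by
  obtain ⟨γ, h1, -, h2⟩ := S.acts_φ n
  obtain ⟨γ', h3, -, h4⟩ := S.acts_φ ⟨T.σ n, T.σ_mem_N n.2⟩
  have := congrArg T.σ (h2 r 1)
  rw [map_mul, map_mul, map_inv, T.σ_x, T.σ_x, h4] at this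
  exact (S.x_eq_x (mul_ne_zero (h3 _) (T.ne_zero r one_ne_zero)) this).1

/-- the symmetry of the roots -/
def sym : RSym D where
  ρ := T.ρ
  τ := T.τ
  ρ_neg := T.ρ_neg
  ρ_pos := T.ρ_pos
  ρ_simple := T.ρ_simple
  ρ_refl i r := by
    have := T.φ_σ_apply (S.ns i) r
    rw [show (⟨T.σ (S.ns i), T.σ_mem_N (S.ns i).2⟩ : S.N) = S.ns (T.τ i) from Subtype.ext (by
      simp [σ_n, T.ρ_simple, T.γ_simple]), S.φ_ns, S.φ_ns, σ_apply, σ_apply] at this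
    exact this.symm

theorem φ_σ (n : S.N) : S.φ ⟨T.σ n, T.σ_mem_N n.2⟩ = T.sym.c (S.φ n) :=
  T.sym.ext_ρ fun r => (T.φ_σ_apply n r).trans (T.sym.c_apply _ r).symm

theorem φ_mem_W1 {n : S.N} (h : T.σ n = n) : S.φ n ∈ T.sym.W1 := by
  rw [RSym.mem_W1, ← φ_σ]; congr 1; exact Subtype.ext h

theorem σ_mem_B {g : G} (hg : g ∈ S.B) : T.σ g ∈ S.B := by
  obtain ⟨u, hu, a, ha, rfl⟩ := S.mem_B_iff.1 hg
  rw [map_mul]
  exact mul_mem (S.U_le_B (T.σ_mem_pos hu)) (S.H_le_B (T.σ_mem_H ha))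

theorem injective (hS : S.U Set.univ = ⊤) (hπ : Function.Injective S.π) :
    Function.Injective T.σ := by
  rw [← MonoidHom.ker_eq_bot_iff, eq_bot_iff, ← S.normalCore_B hπ, Subgroup.normal_le_normalCore]
  intro g hg
  obtain ⟨b, hb, n, hn, b', hb', rfl⟩ := S.exists_cell (hS ▸ Subgroup.mem_top g)
  have h1 := S.cell_unique (n := ⟨_, T.σ_mem_N hn⟩) (n' := 1) (T.σ_mem_B hb) (T.σ_mem_B hb')
    (one_mem _) (one_mem _) (by simpa using hg)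
  rw [T.φ_σ ⟨n, hn⟩, map_one, ← map_one T.sym.c, T.sym.c_injective.eq_iff, S.φ_eq_one_iff] at h1
  exact mul_mem (mul_mem hb (S.H_le_B h1)) hb'

/-- the automorphism given by a twist -/
noncomputable def equiv (hS : S.U Set.univ = ⊤) (hπ : Function.Injective S.π) : G ≃* G :=
  MulEquiv.ofBijective T.σ ⟨T.injective hS hπ, T.surjective hS⟩

theorem equiv_x (hS : S.U Set.univ = ⊤) (hπ : Function.Injective S.π) (r : Rt D) (t : F) :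
    T.equiv hS hπ (S.x r t) = S.x (T.ρ r) (T.γ r * T.θ r t) := T.σ_x r t

omit [Conn D] in
/-- the fixed points -/
def Fix : Subgroup G := T.σ.eqLocus (MonoidHom.id G)

omit [Conn D] in
theorem mem_Fix {g : G} : g ∈ T.Fix ↔ T.σ g = g := Iff.rfl

omit [Conn D] in
theorem fix_split {A B : Subgroup G} (hA : ∀ a ∈ A, T.σ a ∈ A) (hB : ∀ a ∈ B, T.σ a ∈ B)
    (h : A ⊓ B = ⊥) {a b : G} (ha : a ∈ A) (hb : b ∈ B) (e : a * b ∈ T.Fix) :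
    a ∈ T.Fix ∧ b ∈ T.Fix := by
  rw [mem_Fix, map_mul] at e
  have h1 : a⁻¹ * T.σ a = b * (T.σ b)⁻¹ := by
    rw [inv_mul_eq_iff_eq_mul, ← mul_assoc, ← e, mul_inv_cancel_right]
  have h2 : a⁻¹ * T.σ a ∈ (⊥ : Subgroup G) :=
    h ▸ ⟨A.mul_mem (inv_mem ha) (hA a ha), h1 ▸ B.mul_mem hb (inv_mem (hB b hb))⟩
  rw [Subgroup.mem_bot] at h2
  exact ⟨(inv_mul_eq_one.1 h2).symm, (mul_inv_eq_one.1 (h1 ▸ h2)).symm⟩

theorem bruhat_fix {g : G} (hg : g ∈ S.U Set.univ) (h : g ∈ T.Fix) :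
    ∃ u ∈ S.U {r | Pos r} ⊓ T.Fix, ∃ n : S.N, (n : G) ∈ T.Fix ∧
      ∃ v ∈ S.U (Inv (S.φ n)) ⊓ T.Fix, g = u * n * v := by
  obtain ⟨u, hu, n, v, hv, rfl⟩ := S.exists_bruhat' hg
  rw [mem_Fix, map_mul, map_mul] at h
  obtain ⟨h1, h2, h3⟩ := S.bruhat_unique' (n := ⟨_, T.σ_mem_N n.2⟩) (T.σ_mem_pos hu) hu
    (T.σ_mem_U (fun r hr => And.intro ((T.ρ_pos r).2 hr.1) (by rw [φ_σ_apply, T.ρ_pos]; exact hr.2)) hv)
    hv h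
  exact ⟨u, ⟨hu, h1⟩, n, congrArg Subtype.val h2, v, ⟨hv, h3⟩, rfl⟩

theorem B_fix {g : G} (hg : g ∈ S.B) (h : g ∈ T.Fix) :
    ∃ u ∈ S.U {r | Pos r} ⊓ T.Fix, ∃ a ∈ S.H ⊓ T.Fix, g = u * a := by
  obtain ⟨u, hu, a, ha, rfl⟩ := S.mem_B_iff.1 hg
  obtain ⟨h1, h2⟩ := T.fix_split (fun _ => T.σ_mem_pos) (fun _ => T.σ_mem_H) S.U_inf_H hu ha h
  exact ⟨u, ⟨hu, h1⟩, a, ⟨ha, h2⟩, rfl⟩

/-- fixed points in the positive root subgroups of an orbit -/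
def UO (i : Ix D) : Subgroup G := S.U (PhiP (T.sym.orb i)) ⊓ T.Fix

/-- fixed points in the negative root subgroups of an orbit -/
def VO (i : Ix D) : Subgroup G := S.U (PhiM (T.sym.orb i)) ⊓ T.Fix

/-- the twisted group -/
def G0 : Subgroup G := ⨆ i, T.UO i ⊔ T.VO i

theorem UO_le (i : Ix D) : T.UO i ≤ T.G0 := le_sup_left.trans (le_iSup (fun i => T.UO i ⊔ T.VO i) i)

theorem VO_le (i : Ix D) : T.VO i ≤ T.G0 := le_sup_right.trans (le_iSup (fun i => T.UO i ⊔ T.VO i) i)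

theorem sup_le_G0 (i : Ix D) : T.UO i ⊔ T.VO i ≤ T.G0 := sup_le (T.UO_le i) (T.VO_le i)

theorem G0_le_iff {K : Subgroup G} : T.G0 ≤ K ↔ ∀ i, T.UO i ≤ K ∧ T.VO i ≤ K := by
  simp [G0]

theorem G0_le_Fix : T.G0 ≤ T.Fix := T.G0_le_iff.2 fun _ => ⟨inf_le_right, inf_le_right⟩

theorem G0_le_U : T.G0 ≤ S.U Set.univ := T.G0_le_iff.2 fun _ =>
  ⟨inf_le_left.trans (S.U_mono (Set.subset_univ _)), inf_le_left.trans (S.U_mono (Set.subset_univ _))⟩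

theorem UO_eq {i k : Ix D} (h : k ∈ T.sym.orb i) : T.UO k = T.UO i := by rw [UO, T.sym.orb_eq h, UO]

theorem VO_eq {i k : Ix D} (h : k ∈ T.sym.orb i) : T.VO k = T.VO i := by rw [VO, T.sym.orb_eq h, VO]

theorem H_conj_G0 {a : G} (ha : a ∈ S.H ⊓ T.Fix) {g : G} (hg : g ∈ T.G0) : a * g * a⁻¹ ∈ T.G0 := by
  have : T.G0 ≤ T.G0.comap (MulAut.conj a).toMonoidHom := T.G0_le_iff.2 fun i =>
    ⟨fun u hu => T.UO_le i ⟨S.H_conj_U ha.1 _ u hu.1, T.Fix.mul_mem (mul_mem ha.2 hu.2) (inv_mem ha.2)⟩,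
     fun u hu => T.VO_le i ⟨S.H_conj_U ha.1 _ u hu.1, T.Fix.mul_mem (mul_mem ha.2 hu.2) (inv_mem ha.2)⟩⟩
  exact this hg

/-- each orbit has a non-trivial fixed point in the negative root subgroups -/
def Ne : Prop := ∀ i, T.VO i ≠ ⊥

variable {T}

theorem bruhat_VO {i : Ix D} {v : G} (hv : v ∈ T.VO i) (h1 : v ≠ 1) : ∃ u ∈ T.UO i, ∃ n : S.N,
    S.φ n = wJ (T.sym.orb i) ∧ ∃ u' ∈ T.UO i, v = u * n * u' := by
  obtain ⟨u, hu, n, hn, u', hu', e⟩ := T.bruhat_fix (T.G0_le_U (T.VO_le i hv)) hv.2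
  have h2 : v ∈ S.LJ (T.sym.orb i) := Subgroup.mem_sup_right (S.U_mono (fun _ h => h.2) hv.1)
  obtain ⟨b, hb, m, b', hb', e', h3⟩ := S.cell_PJ (S.UJ_sup_LJ _ ▸ Subgroup.mem_sup_right h2) 1
  rw [map_one, inv_one, mul_one,
    S.cell_unique hb hb' (S.U_le_B hu.1) (S.U_inv_le_B _ hu'.1) (by rw [← e', ← e]; simp)] at h3
  rcases RSym.eq_one_or (T.φ_mem_W1 hn) h3 with h4 | h4
  · exfalso
    have : v ∈ (⊥ : Subgroup G) := S.V_inf_B ▸ ⟨S.U_mono (fun _ h => h.1) hv.1, e ▸ S.B.mul_mem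
      (mul_mem (S.U_le_B hu.1) (S.H_le_B (S.φ_eq_one_iff.1 h4))) (S.U_inv_le_B _ hu'.1)⟩
    exact h1 this
  rw [h4, inv_wJ] at hu'
  refine ⟨u, ⟨S.U_inf_LJ hu.1 ?_, hu.2⟩, n, h4, u', hu', e⟩
  have h5 : u' ∈ S.LJ (T.sym.orb i) := Subgroup.mem_sup_right (S.U_mono (fun _ h => h.2) hu'.1)
  rwa [e, mul_mem_cancel_right h5, mul_mem_cancel_right (S.mem_LJ_of_φ h3)] at h2

theorem Ne.exists_nO (h : T.Ne) (i : Ix D) : ∃ n : S.N, (n : G) ∈ T.UO i ⊔ T.VO i ∧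
    S.φ n = wJ (T.sym.orb i) := by
  obtain ⟨⟨v, hv⟩, h1⟩ := Subgroup.ne_bot_iff_exists_ne_one.1 (h i)
  obtain ⟨u, hu, n, hn, u', hu', e⟩ := bruhat_VO hv (fun e => h1 (Subtype.ext e))
  refine ⟨n, ?_, hn⟩
  have := Subgroup.mem_sup_right (S := T.UO i) hv
  rwa [e, mul_mem_cancel_right (Subgroup.mem_sup_left hu'),
    mul_mem_cancel_left (Subgroup.mem_sup_left hu)] at this

theorem Ne.exists_n (h : T.Ne) : ∀ w ∈ T.sym.W1, ∃ n : S.N, (n : G) ∈ T.G0 ∧ S.φ n = w := by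
  refine RSym.W1_induction ⟨1, one_mem _, map_one _⟩ ?_
  rintro _ - i - ⟨n, hn, rfl⟩
  obtain ⟨m, hm, e⟩ := h.exists_nO i
  exact ⟨n * m, mul_mem hn (T.sup_le_G0 i hm), by rw [map_mul, e]⟩

theorem conj_UO {i : Ix D} {n : S.N} (hn : (n : G) ∈ T.Fix) (e : S.φ n = wJ (T.sym.orb i)) {u : G}
    (hu : u ∈ T.UO i) : n * u * (n : G)⁻¹ ∈ T.VO i :=
  ⟨S.N_conj_U n (fun _ hr => e ▸ wJ_mem_PhiM hr) hu.1, T.Fix.mul_mem (mul_mem hn hu.2) (inv_mem hn)⟩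

theorem conj_VO {i : Ix D} {n : S.N} (hn : (n : G) ∈ T.Fix) (e : S.φ n = wJ (T.sym.orb i)) {u : G}
    (hu : u ∈ T.VO i) : n * u * (n : G)⁻¹ ∈ T.UO i :=
  ⟨S.N_conj_U n (fun _ hr => e ▸ wJ_mem_PhiP hr) hu.1, T.Fix.mul_mem (mul_mem hn hu.2) (inv_mem hn)⟩

theorem Ne.UO_ne (h : T.Ne) (i : Ix D) : ∃ u ∈ T.UO i, u ≠ 1 := by
  obtain ⟨⟨v, hv⟩, h1⟩ := Subgroup.ne_bot_iff_exists_ne_one.1 (h i)
  obtain ⟨n, hn, e⟩ := h.exists_nO i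
  exact ⟨_, conj_VO (T.G0_le_Fix (T.sup_le_G0 i hn)) e hv,
    fun e => h1 (Subtype.ext (by simpa using e))⟩

theorem split_inv {w : Wg D} (hw : w ∈ T.sym.W1) {i : Ix D} (hi : ∀ k ∈ T.sym.orb i, Pos (w (simple k)))
    {n : S.N} (hn : (n : G) ∈ T.Fix) (e : S.φ n = wJ (T.sym.orb i)) :
    (∀ g ∈ S.U (Inv (w * wJ (T.sym.orb i) : Wg D)) ⊓ T.Fix, ∃ a ∈ T.UO i, ∃ b ∈ S.U (Inv w) ⊓ T.Fix,
      g = a * (n * b * (n : G)⁻¹)) ∧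
    (∀ a ∈ T.UO i, ∀ b ∈ S.U (Inv w) ⊓ T.Fix,
      a * (n * b * (n : G)⁻¹) ∈ S.U (Inv (w * wJ (T.sym.orb i) : Wg D)) ⊓ T.Fix) ∧
    ∀ a ∈ T.UO i, ∀ b ∈ S.U (Inv w), a = n * b * (n : G)⁻¹ → a = 1 := by
  have h1 : S.U (PhiP (T.sym.orb i)) ⊓ S.U (wJ (T.sym.orb i) '' Inv w) = ⊥ :=
    S.U_inf_of_disjoint (nil_inv (w * wJ (T.sym.orb i))) (by rw [inv_mul_wJ hi]; simp)
      (by rw [inv_mul_wJ hi]; simp) (closed_PhiP _) ((wg_aut _).closed_image (closed_inv (wg_aut w)))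
      (disjoint_PhiP hi)
  have h2 : ∀ b ∈ S.U (Inv w), n * b * (n : G)⁻¹ ∈ S.U (wJ (T.sym.orb i) '' Inv w) := fun b hb =>
    S.N_conj_U n (fun r hr => by rw [e]; exact ⟨r, hr, rfl⟩) hb
  refine ⟨fun g hg => ?_, fun a ha b hb => ⟨?_, ?_⟩, fun a ha b hb e => ?_⟩
  · obtain ⟨a, ha, b, hb, rfl⟩ := S.split_U (nil_inv _) (fun r => by rw [inv_mul_wJ hi]; rfl) hg.1
    obtain ⟨h3, h4⟩ := T.fix_split
      (fun _ => T.σ_mem_U (RSym.ρ_mem_PhiP (Θ := T.sym) fun _ => T.sym.τ_mem_orb.2))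
      (fun _ => T.σ_mem_U (by
        rintro _ ⟨r, hr, rfl⟩
        exact ⟨_, RSym.ρ_mem_inv hw r hr, T.sym.mem_W1'.1 (RSym.worb_mem i) r⟩)) h1 ha hb hg.2
    refine ⟨a, ⟨ha, h3⟩, (n : G)⁻¹ * b * n, ⟨S.N_conj_U' n ?_ hb,
      T.Fix.mul_mem (mul_mem (inv_mem hn) h4) hn⟩, by group⟩
    rintro _ ⟨r, hr, rfl⟩
    rwa [e, inv_wJ', wJ_wJ]
  · rw [inv_mul_wJ hi, S.U_union]
    exact mul_mem (Subgroup.mem_sup_left ha.1) (Subgroup.mem_sup_right (h2 b hb.1))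
  · exact T.Fix.mul_mem ha.2 (mul_mem (mul_mem hn hb.2) (inv_mem hn))
  · exact Subgroup.mem_bot.1 (h1 ▸ ⟨ha.1, e ▸ h2 b hb⟩)

theorem Ne.inv_le (h : T.Ne) : ∀ w ∈ T.sym.W1, S.U (Inv w) ⊓ T.Fix ≤ T.G0 := by
  refine RSym.W1_induction ?_ fun w hw i hi ih g hg => ?_
  · rw [show Inv (1 : Wg D) = ∅ from Set.eq_empty_of_forall_notMem fun r h => h.2 h.1]; simp
  obtain ⟨n, hn, e⟩ := h.exists_nO i
  have hn' := T.sup_le_G0 i hn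
  obtain ⟨a, ha, b, hb, rfl⟩ := (split_inv hw hi (T.G0_le_Fix hn') e).1 g hg
  exact mul_mem (T.UO_le i ha) (mul_mem (mul_mem hn' (ih hb)) (inv_mem hn'))

theorem Ne.card_inv (h : T.Ne) {w : Wg D} (hw : w ∈ T.sym.W1) {i : Ix D}
    (hi : ∀ k ∈ T.sym.orb i, Pos (w (simple k))) :
    Nat.card ↥(S.U (Inv (w * wJ (T.sym.orb i) : Wg D)) ⊓ T.Fix) =
      Nat.card (T.UO i) * Nat.card ↥(S.U (Inv w) ⊓ T.Fix) := by
  obtain ⟨n, hn, e⟩ := h.exists_nO i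
  obtain ⟨h1, h2, h3⟩ := split_inv hw hi (T.G0_le_Fix (T.sup_le_G0 i hn)) e
  rw [← Nat.card_prod]
  symm
  refine Nat.card_eq_of_bijective (fun p => ⟨_, h2 _ p.1.2 _ p.2.2⟩) ⟨?_, ?_⟩
  · rintro ⟨⟨a, ha⟩, ⟨b, hb⟩⟩ ⟨⟨a', ha'⟩, ⟨b', hb'⟩⟩ h4
    have h5 : a * (n * b * (n : G)⁻¹) = a' * (n * b' * (n : G)⁻¹) := congrArg Subtype.val h4
    have h6 := h3 _ (mul_mem (inv_mem ha') ha) _ (mul_mem hb'.1 (inv_mem hb.1)) (by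
      rw [inv_mul_eq_iff_eq_mul, ← mul_inv_eq_iff_eq_mul.2 h5.symm]; group)
    obtain rfl := inv_mul_eq_one.1 h6
    obtain rfl : b = b' := by simpa using h5
    rfl
  · rintro ⟨g, hg⟩
    obtain ⟨a, ha, b, hb, rfl⟩ := h1 g hg
    exact ⟨⟨⟨a, ha⟩, ⟨b, hb⟩⟩, rfl⟩

theorem Ne.card_inv_pow (h : T.Ne) {k Q : ℕ}
    (hk : ∀ i, Nat.card (T.UO i) ^ k = Q ^ (PhiP (T.sym.orb i)).ncard) :
    ∀ w ∈ T.sym.W1, Nat.card ↥(S.U (Inv w) ⊓ T.Fix) ^ k = Q ^ (wgen D).len w := by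
  refine RSym.W1_induction ?_ fun w hw i hi ih => ?_
  · rw [show Inv (1 : Wg D) = ∅ from Set.eq_empty_of_forall_notMem fun r h => h.2 h.1]; simp
  rw [h.card_inv hw hi, mul_pow, ih, hk, len_mul_wJ hi, len_wJ, pow_add, mul_comm]

theorem Ne.U_le (h : T.Ne) : S.U {r | Pos r} ⊓ T.Fix ≤ T.G0 :=
  inv_wJ_univ (D := D) ▸ h.inv_le _ RSym.w0_mem

theorem Ne.V_le (h : T.Ne) : S.U {r | ¬ Pos r} ⊓ T.Fix ≤ T.G0 := by
  obtain ⟨n, hn, e⟩ := h.exists_n _ RSym.w0_mem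
  intro v hv
  have := h.U_le ⟨S.N_conj_U n (fun r hr => e ▸ (pos_wJ_univ r).2 hr) hv.1,
    T.Fix.mul_mem (mul_mem (T.G0_le_Fix hn) hv.2) (inv_mem (T.G0_le_Fix hn))⟩
  rwa [mul_mem_cancel_right (inv_mem hn), mul_mem_cancel_left hn] at this

theorem Ne.U_inf (h : T.Ne) : S.U {r | Pos r} ⊓ T.G0 = S.U {r | Pos r} ⊓ T.Fix :=
  le_antisymm (inf_le_inf_left _ T.G0_le_Fix) (le_inf inf_le_left h.U_le)

theorem Ne.card_U (h : T.Ne) {k Q : ℕ}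
    (hk : ∀ i, Nat.card (T.UO i) ^ k = Q ^ (PhiP (T.sym.orb i)).ncard) :
    Nat.card ↥(S.U {r | Pos r} ⊓ T.G0) ^ k = Q ^ npos D := by
  rw [h.U_inf, ← ncard_pos, ← inv_wJ_univ, ncard_inv]
  exact h.card_inv_pow hk _ RSym.w0_mem

theorem Ne.bruhat (h : T.Ne) {g : G} (hg : g ∈ T.G0) :
    ∃ u ∈ S.U {r | Pos r} ⊓ T.G0, ∃ n : S.N, (n : G) ∈ T.G0 ∧
      ∃ v ∈ S.U (Inv (S.φ n)) ⊓ T.G0, g = u * n * v := by
  obtain ⟨u, hu, n, hn, v, hv, rfl⟩ := T.bruhat_fix (T.G0_le_U hg) (T.G0_le_Fix hg)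
  have h1 := h.U_le hu
  have h2 := h.inv_le _ (T.φ_mem_W1 hn) hv
  exact ⟨u, ⟨hu.1, h1⟩, n, by rwa [mul_mem_cancel_right h2, mul_mem_cancel_left h1] at hg, v,
    ⟨hv.1, h2⟩, rfl⟩

theorem Ne.B_split (h : T.Ne) {g : G} (hg : g ∈ S.B) (h0 : g ∈ T.G0) :
    ∃ u ∈ S.U {r | Pos r} ⊓ T.G0, ∃ a ∈ S.H ⊓ T.G0, g = u * a := by
  obtain ⟨u, hu, a, ha, rfl⟩ := T.B_fix hg (T.G0_le_Fix h0)
  exact ⟨u, ⟨hu.1, h.U_le hu⟩, a, ⟨ha.1, (mul_mem_cancel_left (h.U_le hu)).1 h0⟩, rfl⟩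

theorem Ne.card_B (h : T.Ne) :
    Nat.card ↥(S.B ⊓ T.G0) = Nat.card ↥(S.U {r | Pos r} ⊓ T.G0) * Nat.card ↥(S.H ⊓ T.G0) := by
  rw [← Nat.card_prod]
  symm
  refine Nat.card_eq_of_bijective (fun p => ⟨p.1 * p.2,
    S.B.mul_mem (S.U_le_B p.1.2.1) (S.H_le_B p.2.2.1), T.G0.mul_mem p.1.2.2 p.2.2.2⟩) ⟨?_, ?_⟩
  · rintro ⟨⟨u, hu⟩, ⟨a, ha⟩⟩ ⟨⟨u', hu'⟩, ⟨a', ha'⟩⟩ h
    obtain ⟨rfl, h2, -⟩ := S.bruhat_unique' (n := ⟨a, S.H_le_N ha.1⟩) (n' := ⟨a', S.H_le_N ha'.1⟩)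
      hu.1 hu'.1 (one_mem _) (one_mem _) (by simpa using congrArg Subtype.val h)
    obtain rfl : a = a' := congrArg Subtype.val h2
    rfl
  · rintro ⟨b, hb⟩
    obtain ⟨u, hu, a, ha, rfl⟩ := h.B_split hb.1 hb.2
    exact ⟨⟨⟨u, hu⟩, ⟨a, ha⟩⟩, rfl⟩

open Classical in
theorem Ne.card_G0 [Finite F] (h : T.Ne) : Nat.card T.G0 = Nat.card ↥(S.B ⊓ T.G0) *
    ∑ w : Wg D with w ∈ T.sym.W1, Nat.card ↥(S.U (Inv w) ⊓ T.Fix) := by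
  choose nr hnr0 hnr using fun w : T.sym.W1 => h.exists_n w w.2
  have h2 : ∀ w : T.sym.W1, Finite ↥(S.U (Inv w.1) ⊓ T.Fix) := fun w => by
    have : Finite (S.U (Inv w.1)) := Nat.finite_of_card_ne_zero (by
      rw [S.card_U (nil_inv _)]; exact pow_ne_zero _ Nat.card_pos.ne')
    exact Finite.of_injective _ (Subgroup.inclusion_injective inf_le_left)
  rw [Finset.sum_subtype (p := (· ∈ T.sym.W1)) _ (by simp), ← Nat.card_sigma, ← Nat.card_prod]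
  symm
  refine Nat.card_eq_of_bijective (fun p => ⟨p.1 * nr p.2.1 * p.2.2,
    mul_mem (mul_mem p.1.2.2 (hnr0 _)) (h.inv_le _ p.2.1.2 p.2.2.2)⟩) ⟨?_, ?_⟩
  · rintro ⟨⟨b, hb⟩, w, ⟨u, hu⟩⟩ ⟨⟨b', hb'⟩, w', ⟨u', hu'⟩⟩ h
    have h3 : b * nr w * u = b' * nr w' * u' := congrArg Subtype.val h
    have h4 := S.cell_unique hb.1 (S.U_inv_le_B _ hu.1) hb'.1 (S.U_inv_le_B _ hu'.1) h3
    rw [hnr, hnr] at h4
    obtain rfl := Subtype.ext h4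
    obtain ⟨rfl, rfl⟩ := S.bruhat_unique hb.1 hb'.1 (by rw [hnr]; exact hu.1) (by rw [hnr]; exact hu'.1) h3
    rfl
  · rintro ⟨g, hg⟩
    obtain ⟨b, hb, n, hn, u, hu, rfl⟩ := h.bruhat hg
    let w : T.sym.W1 := ⟨_, T.φ_mem_W1 (T.G0_le_Fix hn)⟩
    have h3 : S.φ (n * (nr w)⁻¹) = 1 := by simp [hnr, w]
    refine ⟨⟨⟨b * (n * (nr w)⁻¹ : S.N), S.B.mul_mem (S.U_le_B hb.1) (S.H_le_B (S.φ_eq_one_iff.1 h3)),
      T.G0.mul_mem hb.2 (T.G0.mul_mem hn (inv_mem (hnr0 w)))⟩, w, ⟨u, hu.1, T.G0_le_Fix hu.2⟩⟩,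
      Subtype.ext ?_⟩
    simp [mul_assoc]

end Tw

end Gen
end H5
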