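import Cfsg.Agent.H5.GT3

/-! Twisted groups: orbits of mutually orthogonal nodes; Frobenius maps of finite fields. -/

set_option autoImplicit false

namespace H5
namespace Gen

open Cfsg Equiv

section Fld

variable {K : Type*} [Field K]

theorem exists_frob [Fintype K] {q k : ℕ} (hq : IsPrimePow q) (hK : Fintype.card K = q ^ k) :
    ∃ θ : K ≃+* K, ∀ t, θ t = t ^ q := by
  obtain ⟨p, n, hp, -, rfl⟩ := (isPrimePow_nat_iff _).1 hq
  have : Fact p.Prime := ⟨hp⟩
  have : CharP K p := charP_of_card_eq_prime_pow (f := n * k) (by rw [hK, pow_mul])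
  exact ⟨iterateFrobeniusEquiv K p n, fun t => rfl⟩

theorem card_pow_eq_one [Finite K] (d : ℕ) :
    Nat.card {u : Kˣ // u ^ d = 1} = Nat.gcd d (Nat.card K - 1) := by
  have := IsCyclic.card_powMonoidHom_ker Kˣ d
  rw [Nat.card_units, Nat.gcd_comm] at this
  rw [← this]; rfl

theorem card_fixed_units [Fintype K] {q k : ℕ} (hq : 0 < q) (hK : Fintype.card K = q ^ k) :
    Nat.card {u : Kˣ // (u : K) ^ q = u} = q - 1 := by
  have := card_pow_eq_one (K := K) (q - 1)
  rw [Nat.card_eq_fintype_card (α := K), hK, Nat.gcd_eq_left (Nat.sub_one_dvd_pow_sub_one q k)] at this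
  rw [← this]
  refine Nat.card_congr (Equiv.subtypeEquivRight fun u => ?_)
  rw [← Units.val_pow_eq_pow_val, Units.val_inj, ← mul_left_inj u (b := u ^ (q - 1)), ← pow_succ,
    show q - 1 + 1 = q by omega, one_mul]

theorem card_fixed [Fintype K] {q k : ℕ} (hq : 0 < q) (hK : Fintype.card K = q ^ k) :
    Nat.card {t : K // t ^ q = t} = q := by
  have h := card_fixed_units hq hK
  have : Nat.card {t : K // t ^ q = t} = Nat.card (Option {u : Kˣ // (u : K) ^ q = u}) := by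
    symm
    refine Nat.card_eq_of_bijective (fun o => o.elim ⟨0, zero_pow hq.ne'⟩ fun u => ⟨u.1, u.2⟩) ⟨?_, ?_⟩
    · rintro (_ | u) (_ | v) e
      · rfl
      · exact absurd (congrArg Subtype.val e).symm v.1.ne_zero
      · exact absurd (congrArg Subtype.val e) u.1.ne_zero
      · exact congrArg some (Subtype.ext (Units.ext (congrArg Subtype.val e)))
    · rintro ⟨t, ht⟩
      by_cases h : t = 0
      · exact ⟨none, Subtype.ext h.symm⟩
      · exact ⟨some ⟨Units.mk0 t h, ht⟩, rfl⟩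
  rw [this, Finite.card_option, h, Nat.sub_add_cancel hq]

theorem exists_pow_ne_one [Finite K] {d : ℕ} (hd : 0 < d) (h : d + 1 < Nat.card K) :
    ∃ u : Kˣ, u ^ d ≠ 1 := by
  by_contra h1
  push Not at h1
  have := card_pow_eq_one (K := K) d
  rw [Nat.card_congr (Equiv.subtypeUnivEquiv h1), Nat.card_units] at this
  have := Nat.le_of_dvd hd (this ▸ Nat.gcd_dvd_left d _)
  omega

/-- the norm argument in `ℤ[√p]` -/
theorem zpow_norm {z : Kˣ} {s p : ℕ} (hs : (z ^ s) ^ s = z ^ p) {a b : ℤ}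
    (h : z ^ a * (z ^ s) ^ b = 1) : z ^ (a ^ 2 - p * b ^ 2) = 1 := by
  have h1 : (z ^ s) ^ a * (z ^ p) ^ b = 1 := by
    have := congrArg (powMonoidHom s) h
    rwa [map_mul, map_zpow, map_zpow, map_one, powMonoidHom_apply, powMonoidHom_apply, hs] at this
  have h2 := congrArg (· ^ a) h
  have h3 := congrArg (· ^ b) h1
  simp only [mul_zpow, one_zpow, ← zpow_mul, ← zpow_natCast z p] at h2 h3
  rw [mul_comm b a, ← eq_inv_mul_iff_mul_eq, mul_one] at h2
  rw [h2, inv_mul_eq_one] at h3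
  rw [zpow_sub, sq, sq, h3, mul_assoc, mul_inv_cancel]

end Fld

variable {D : RS} {F : Type*} [Field F] [Rep D F] {G : Type*} [Group G]

omit [Rep D F] in
theorem chi_eq_of {r : Rt D} (v : Ix D → ℤ) (h : ∀ i : Ix D, wt r i = v i) (c : Ix D → Fˣ) :
    chi c r = ∏ i, c i ^ v i := Finset.prod_congr rfl fun i _ => by rw [← h]

/-- the nodes of `J` are mutually orthogonal -/
def Orth (J : Set (Ix D)) : Prop := ∀ i ∈ J, ∀ k ∈ J, i ≠ k → wt (simple k) i = 0

theorem Orth.PhiP_eq {J : Set (Ix D)} (h : Orth J) : PhiP J = simple '' J := by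
  have key : ∀ r ∈ PhiJ J, ∃ i ∈ J, r = simple i ∨ r = neg (simple i) := by
    refine PhiJ_induction (fun i hi => ⟨i, hi, Or.inl rfl⟩) ?_
    rintro i hi r - ⟨k, hk, hr⟩
    refine ⟨k, hk, ?_⟩
    by_cases hik : i = k
    · subst hik; rcases hr with rfl | rfl <;> simp
    · have : refl i (simple k) = simple k := vec_injective (by rw [vec_refl, h i hi k hk hik]; simp)
      rcases hr with rfl | rfl <;> simp [this]
  ext r
  constructor
  · rintro ⟨h1, h2⟩
    obtain ⟨i, hi, rfl | rfl⟩ := key r h2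
    · exact ⟨i, hi, rfl⟩
    · exact absurd (pos_simple i) (pos_neg_iff.1 h1)
  · rintro ⟨i, hi, rfl⟩; exact simple_mem_PhiP hi

theorem Orth.commute {J : Set (Ix D)} (h : Orth J) (S : StSys D F G) {i k : Ix D} (hi : i ∈ J)
    (hk : k ∈ J) (hik : i ≠ k) {a b : G} (ha : a ∈ S.U {simple i, neg (simple i)})
    (hb : b ∈ S.U {simple k, neg (simple k)}) : Commute a b := by
  have : S.U {simple i, neg (simple i)} ≤ Subgroup.centralizer (S.U {simple k, neg (simple k)}) := by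
    rw [StSys.U, StSys.U, Subgroup.centralizer_closure, Subgroup.closure_le]
    rintro _ ⟨r, hr, t, rfl⟩ _ ⟨s, hs, u, rfl⟩
    exact (S.commute_orth (fun r hr => by
      rw [h.PhiP_eq] at hr; obtain ⟨i, -, rfl⟩ := hr; exact ⟨i, rfl⟩) hi hk hik hr hs t u).eq.symm
  exact (this ha b hb).symm

theorem orth_singleton (i : Ix D) : Orth {i} := by rintro _ rfl _ rfl h; exact absurd rfl h

theorem orth_pair {i k : Ix D} (h : wt (simple k) i = 0) : Orth {i, k} := by
  have h' : wt (simple i) k = 0 := by rwa [← pair_simple, pair_eq_zero_comm, pair_simple]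
  rintro _ (rfl | rfl) _ (rfl | rfl) h <;> first | assumption | exact absurd rfl h

theorem StSys.x_mul_inj (S : StSys D F G) {μ : Lat D →ₗ[ℤ] ℤ} {A : Set (Rt D)} (hA : Nil μ A)
    {r : Rt D} (hr : r ∉ A) {t t' : F} {g g' : G} (hg : g ∈ S.U A) (hg' : g' ∈ S.U A)
    (e : S.x r t * g = S.x r t' * g') : t = t' := by
  by_contra h
  refine hr (S.mem_of_x_mem_U hA (t := -t' + t) (fun h1 => h (by linear_combination h1)) ?_)
  rw [← S.add, ← S.x_inv, inv_mul_eq_iff_eq_mul.2 (by rw [← mul_assoc, ← e, mul_inv_cancel_right] :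
    S.x r t = S.x r t' * (g' * g⁻¹))]
  exact mul_mem hg' (inv_mem hg)

theorem RSym.orb_eq_of (Θ : RSym D) {i : Ix D} {J : Set (Ix D)} (hi : i ∈ J)
    (h1 : ∀ k ∈ J, Θ.τ k ∈ J) (h2 : J ⊆ Θ.orb i) : Θ.orb i = J :=
  Set.Subset.antisymm (fun _ hk => Θ.orb_induction h1 hi hk) h2

namespace Tw

variable {S : StSys D F G} [Conn D] (T : Tw S)

omit [Conn D] in
theorem f_simple (i : Ix D) (t : F) : T.f (simple i) t = T.θ (simple i) t := by
  rw [f, T.γ_simple, one_mul]

omit [Conn D] in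
theorem f_neg (r : Rt D) : T.f (neg r) = T.f r := by
  funext t; rw [f, f, T.γ_neg, T.θ_neg]

/-- a fixed unipotent element involving a given fundamental root -/
def GenAt (i : Ix D) : Prop := ∃ L t, L.Nodup ∧ (∀ r ∈ L, Pos r) ∧ simple i ∈ L ∧ t (simple i) ≠ 0 ∧
  S.pr L t ∈ T.Fix

variable {T}

section One

variable {i : Ix D} (h : T.τ i = i)
include h

theorem orb1 : T.sym.orb i = {i} :=
  T.sym.orb_eq_of rfl (by rintro _ rfl; exact h) (by rintro _ rfl; exact T.sym.mem_orb _)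

theorem PhiP1 : PhiP (T.sym.orb i) = {simple i} := by
  rw [orb1 h, (orth_singleton i).PhiP_eq, Set.image_singleton]

theorem mem_UO1 {g : G} : g ∈ T.UO i ↔ ∃ t, T.θ (simple i) t = t ∧ g = S.x (simple i) t := by
  rw [UO, PhiP1 h, T.fix1 (by rw [T.ρ_simple, h])]; simp only [f_simple]

theorem mem_VO1 {g : G} : g ∈ T.VO i ↔ ∃ t, T.θ (simple i) t = t ∧ g = S.x (neg (simple i)) t := by
  rw [VO, PhiM_eq, PhiP1 h, Set.image_singleton, T.fix1 (by rw [T.ρ_neg, T.ρ_simple, h])]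
  simp only [f_neg, f_simple]

theorem VO1_ne : T.VO i ≠ ⊥ := fun e =>
  one_ne_zero (S.x_eq_one_iff.1 (Subgroup.mem_bot.1 (e ▸ (mem_VO1 h).2 ⟨1, map_one _, rfl⟩)))

theorem genAt1 : T.GenAt i :=
  ⟨[simple i], 1, by simp, by simp [pos_simple], by simp, one_ne_zero,
    by simpa using ((mem_UO1 h).2 ⟨1, map_one _, rfl⟩).2⟩

theorem card_UO1 : Nat.card (T.UO i) = Nat.card {t // T.θ (simple i) t = t} :=
  card_eq_of_param (fun t => S.x (simple i) t.1) ((S.x_injective _).comp Subtype.val_injective)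
    fun g => by simp [mem_UO1 h]

theorem h_mem1 {t : F} (h1 : T.θ (simple i) t = t) : S.h (simple i) t ∈ T.G0 := by
  have : ∀ t, T.θ (simple i) t = t → S.n (simple i) t ∈ T.G0 := fun t h1 =>
    mul_mem (mul_mem (T.UO_le i ((mem_UO1 h).2 ⟨t, h1, rfl⟩))
      (T.VO_le i ((mem_VO1 h).2 ⟨_, by simp [h1], rfl⟩))) (T.UO_le i ((mem_UO1 h).2 ⟨t, h1, rfl⟩))
  exact mul_mem (this t h1) (this _ (by simp))

end One

section Two

variable {i k : Ix D} (h1 : T.τ i = k) (h2 : T.τ k = i)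
include h1 h2

theorem orb2 : T.sym.orb i = {i, k} :=
  T.sym.orb_eq_of (by simp) (by rintro _ (rfl | rfl); exacts [Or.inr h1, Or.inl h2]) (by
    rintro _ (rfl | rfl); exacts [T.sym.mem_orb _, h1 ▸ T.sym.τ_mem_orb.2 (T.sym.mem_orb _)])

variable (hik : i ≠ k) (ho : wt (simple k) i = 0)
include ho

theorem PhiP2 : PhiP (T.sym.orb i) = {simple i, simple k} := by
  rw [orb2 h1 h2, (orth_pair ho).PhiP_eq, Set.image_pair]

include hik

theorem card_PhiP2 : (PhiP (T.sym.orb i)).ncard = 2 := by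
  rw [PhiP2 h1 h2 ho, Set.ncard_pair (simple_injective.ne hik)]

variable (hf : ∀ t, T.θ (simple k) (T.θ (simple i) t) = t)
include hf

theorem mem_UO2 {g : G} :
    g ∈ T.UO i ↔ ∃ t, g = S.x (simple i) t * S.x (simple k) (T.θ (simple i) t) := by
  rw [UO, PhiP2 h1 h2 ho, T.fix2 (PhiP2 h1 h2 ho ▸ nil_PhiP _) (simple_injective.ne hik)
    (by rw [T.ρ_simple, h1]) (by rw [T.ρ_simple, h2]) (fun t u => (orth_pair ho).commute S (by simp)
      (by simp) hik (S.x_mem_U (by simp) _) (S.x_mem_U (by simp) _)) (by simpa only [f_simple])]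
  simp only [f_simple]

theorem mem_VO2 {g : G} :
    g ∈ T.VO i ↔ ∃ t, g = S.x (neg (simple i)) t * S.x (neg (simple k)) (T.θ (simple i) t) := by
  have e : PhiM (T.sym.orb i) = {neg (simple i), neg (simple k)} := by
    rw [PhiM_eq, PhiP2 h1 h2 ho, Set.image_pair]
  rw [VO, e, T.fix2 (e ▸ nil_PhiM _) (neg_injective.ne (simple_injective.ne hik))
    (by rw [T.ρ_neg, T.ρ_simple, h1]) (by rw [T.ρ_neg, T.ρ_simple, h2]) (fun t u =>
      (orth_pair ho).commute S (by simp) (by simp) hik (S.x_mem_U (by simp) _) (S.x_mem_U (by simp) _))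
      (by simpa only [f_neg, f_simple])]
  simp only [f_neg, f_simple]

theorem VO2_ne : T.VO i ≠ ⊥ := fun e => by
  have := Subgroup.mem_bot.1 (e ▸ (mem_VO2 h1 h2 hik ho hf).2 ⟨1, rfl⟩)
  rw [mul_eq_one_iff_eq_inv, S.x_inv] at this
  exact hik (simple_injective (neg_injective (S.x_eq_x one_ne_zero this).1))

theorem genAt2 : T.GenAt i ∧ T.GenAt k := by
  have := ((mem_UO2 h1 h2 hik ho hf).2 ⟨1, rfl⟩).2
  constructor <;> exact ⟨[simple i, simple k], 1, by simp [simple_injective.ne hik],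
    by simp [pos_simple], by simp, one_ne_zero, by simpa using this⟩

theorem card_UO2 : Nat.card (T.UO i) = Nat.card F :=
  card_eq_of_param (fun t => S.x (simple i) t * S.x (simple k) (T.θ (simple i) t))
    (fun _ _ e => S.x_mul_inj (nil_PhiP {k}) (fun h => hik (simple_mem_PhiJ (J := {k}).1 h.2))
      (S.x_mem_U (simple_mem_PhiP (Set.mem_singleton k)) _) (S.x_mem_U (simple_mem_PhiP (Set.mem_singleton k)) _) e)
    fun _ => mem_UO2 h1 h2 hik ho hf

theorem h_mem2 (t : F) : S.h (simple i) t * S.h (simple k) (T.θ (simple i) t) ∈ T.G0 := by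
  have hc : ∀ {a b : G}, a ∈ S.U {simple i, neg (simple i)} → b ∈ S.U {simple k, neg (simple k)} →
    Commute a b := (orth_pair ho).commute S (by simp) (by simp) hik
  have : ∀ t, S.n (simple i) t * S.n (simple k) (T.θ (simple i) t) ∈ T.G0 := fun t => by
    rw [StSys.n, StSys.n, mul3_comm (hc (S.x_mem_U (by simp) _) (S.x_mem_U (by simp) _))
      (hc (S.x_mem_U (by simp) _) (S.x_mem_U (by simp) _))
      (hc (S.x_mem_U (by simp) _) (S.x_mem_U (by simp) _))]
    have := T.UO_le i ((mem_UO2 h1 h2 hik ho hf).2 ⟨t, rfl⟩)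
    exact mul_mem (mul_mem this (T.VO_le i ((mem_VO2 h1 h2 hik ho hf).2 ⟨-t⁻¹, by simp⟩))) this
  rw [StSys.h, StSys.h, (hc (S.n_mem (S.x_mem_U (by simp)) (S.x_mem_U (by simp)) _)
    (S.n_mem (S.x_mem_U (by simp)) (S.x_mem_U (by simp)) _)).mul_mul_mul_comm]
  exact mul_mem (this t) (by simpa using this (-1))

end Two

section Three

variable {i j k : Ix D} (h1 : T.τ i = j) (h2 : T.τ j = k) (h3 : T.τ k = i)
include h1 h2 h3

theorem orb3 : T.sym.orb i = {i, j, k} :=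
  T.sym.orb_eq_of (by simp) (by
    rintro _ (rfl | rfl | rfl); exacts [Or.inr (Or.inl h1), Or.inr (Or.inr h2), Or.inl h3]) (by
    have := T.sym.τ_mem_orb.2 (T.sym.mem_orb i)
    rintro _ (rfl | rfl | rfl)
    exacts [T.sym.mem_orb _, h1 ▸ this, h2 ▸ T.sym.τ_mem_orb.2 (h1 ▸ this)])

variable (hn : [i, j, k].Nodup) (ho : Orth {i, j, k})
include ho

theorem PhiP3 : PhiP (T.sym.orb i) = {simple i, simple j, simple k} := by
  rw [orb3 h1 h2 h3, ho.PhiP_eq, Set.image_insert_eq, Set.image_pair]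

include hn

theorem card_PhiP3 : (PhiP (T.sym.orb i)).ncard = 3 := by
  have h6 : i ≠ j ∧ i ≠ k ∧ j ≠ k := by simpa [and_assoc] using hn
  rw [PhiP3 h1 h2 h3 ho, Set.ncard_eq_three]
  exact ⟨_, _, _, simple_injective.ne h6.1, simple_injective.ne h6.2.1, simple_injective.ne h6.2.2, rfl⟩

variable (hf : ∀ t, T.θ (simple k) (T.θ (simple j) (T.θ (simple i) t)) = t)
include hf

theorem mem_UO3 {g : G} : g ∈ T.UO i ↔ ∃ t, g = S.x (simple i) t * S.x (simple j) (T.θ (simple i) t) *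
      S.x (simple k) (T.θ (simple j) (T.θ (simple i) t)) := by
  have h6 : i ≠ j ∧ i ≠ k ∧ j ≠ k := by simpa [and_assoc] using hn
  rw [UO, PhiP3 h1 h2 h3 ho, T.fix3 (PhiP3 h1 h2 h3 ho ▸ nil_PhiP _) (hn.map simple_injective)
    (by rw [T.ρ_simple, h1]) (by rw [T.ρ_simple, h2]) (by rw [T.ρ_simple, h3])
    (fun t u => ho.commute S (by simp) (by simp) h6.1 (S.x_mem_U (by simp) _) (S.x_mem_U (by simp) _))
    (fun t u => ho.commute S (by simp) (by simp) h6.2.1 (S.x_mem_U (by simp) _) (S.x_mem_U (by simp) _))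
    (by simpa only [f_simple])]
  simp only [f_simple]

theorem mem_VO3 {g : G} : g ∈ T.VO i ↔ ∃ t, g = S.x (neg (simple i)) t *
      S.x (neg (simple j)) (T.θ (simple i) t) *
      S.x (neg (simple k)) (T.θ (simple j) (T.θ (simple i) t)) := by
  have h6 : i ≠ j ∧ i ≠ k ∧ j ≠ k := by simpa [and_assoc] using hn
  have e : PhiM (T.sym.orb i) = {neg (simple i), neg (simple j), neg (simple k)} := by
    rw [PhiM_eq, PhiP3 h1 h2 h3 ho, Set.image_insert_eq, Set.image_pair]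
  rw [VO, e, T.fix3 (r := neg (simple i)) (s := neg (simple j)) (k := neg (simple k)) (e ▸ nil_PhiM _)
    (hn.map (neg_injective.comp simple_injective))
    (by rw [T.ρ_neg, T.ρ_simple, h1]) (by rw [T.ρ_neg, T.ρ_simple, h2]) (by rw [T.ρ_neg, T.ρ_simple, h3])
    (fun t u => ho.commute S (by simp) (by simp) h6.1 (S.x_mem_U (by simp) _) (S.x_mem_U (by simp) _))
    (fun t u => ho.commute S (by simp) (by simp) h6.2.1 (S.x_mem_U (by simp) _) (S.x_mem_U (by simp) _))
    (by simpa only [f_neg, f_simple])]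
  simp only [f_neg, f_simple]

theorem VO3_ne : T.VO i ≠ ⊥ := fun e => by
  have h6 : i ≠ j ∧ i ≠ k ∧ j ≠ k := by simpa [and_assoc] using hn
  have := Subgroup.mem_bot.1 (e ▸ (mem_VO3 h1 h2 h3 hn ho hf).2 ⟨1, rfl⟩)
  have := S.pr_inj nil_neg (L := [neg (simple i), neg (simple j), neg (simple k)]) (t := 1) (t' := 0)
    (by simp [pos_neg_iff, pos_simple]) (hn.map (neg_injective.comp simple_injective))
    (by simpa [mul_assoc] using this) (neg (simple i)) (by simp)
  exact one_ne_zero this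

theorem genAt3 : T.GenAt i ∧ T.GenAt j ∧ T.GenAt k := by
  have := ((mem_UO3 h1 h2 h3 hn ho hf).2 ⟨1, rfl⟩).2
  refine ⟨?_, ?_, ?_⟩ <;> exact ⟨[simple i, simple j, simple k], 1, hn.map simple_injective,
    by simp [pos_simple], by simp, one_ne_zero, by simpa [mul_assoc] using this⟩

theorem card_UO3 : Nat.card (T.UO i) = Nat.card F := by
  have h6 : i ≠ j ∧ i ≠ k ∧ j ≠ k := by simpa [and_assoc] using hn
  have h7 : Orth {j, k} := fun a ha b hb => ho a (Or.inr ha) b (Or.inr hb)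
  refine card_eq_of_param _ (fun _ _ e => ?_) fun _ => mem_UO3 h1 h2 h3 hn ho hf
  simp only [mul_assoc] at e
  have h8 : ∀ a b, S.x (simple j) a * S.x (simple k) b ∈ S.U (PhiP {j, k}) := fun a b =>
    mul_mem (S.x_mem_U (simple_mem_PhiP (by simp)) _) (S.x_mem_U (simple_mem_PhiP (by simp)) _)
  exact S.x_mul_inj (nil_PhiP {j, k}) (fun h => by simpa [h6.1, h6.2.1] using simple_mem_PhiJ.1 h.2)
    (h8 _ _) (h8 _ _) e

theorem h_mem3 (t : F) : S.h (simple i) t * S.h (simple j) (T.θ (simple i) t) *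
    S.h (simple k) (T.θ (simple j) (T.θ (simple i) t)) ∈ T.G0 := by
  have h6 : i ≠ j ∧ i ≠ k ∧ j ≠ k := by simpa [and_assoc] using hn
  have c1 : ∀ {a b : G}, a ∈ S.U {simple i, neg (simple i)} → b ∈ S.U {simple j, neg (simple j)} →
    Commute a b := ho.commute S (by simp) (by simp) h6.1
  have c2 : ∀ {a b : G}, a ∈ S.U {simple i, neg (simple i)} → b ∈ S.U {simple k, neg (simple k)} →
    Commute a b := ho.commute S (by simp) (by simp) h6.2.1
  have c3 : ∀ {a b : G}, a ∈ S.U {simple j, neg (simple j)} → b ∈ S.U {simple k, neg (simple k)} →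
    Commute a b := ho.commute S (by simp) (by simp) h6.2.2
  have x1 : ∀ a t, S.x (simple a) t ∈ S.U {simple a, neg (simple a)} := fun a => S.x_mem_U (by simp)
  have x2 : ∀ a t, S.x (neg (simple a)) t ∈ S.U {simple a, neg (simple a)} := fun a => S.x_mem_U (by simp)
  have : ∀ t, S.n (simple i) t * S.n (simple j) (T.θ (simple i) t) *
      S.n (simple k) (T.θ (simple j) (T.θ (simple i) t)) ∈ T.G0 := fun t => by
    rw [StSys.n, StSys.n, StSys.n, mul3_comm (c1 (x2 _ _) (x1 _ _)) (c1 (x1 _ _) (x1 _ _))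
      (c1 (x1 _ _) (x2 _ _)), mul3_comm ((c2 (x2 _ _) (x1 _ _)).mul_left (c3 (x2 _ _) (x1 _ _)))
      ((c2 (x1 _ _) (x1 _ _)).mul_left (c3 (x1 _ _) (x1 _ _)))
      ((c2 (x1 _ _) (x2 _ _)).mul_left (c3 (x1 _ _) (x2 _ _)))]
    have := T.UO_le i ((mem_UO3 h1 h2 h3 hn ho hf).2 ⟨t, rfl⟩)
    exact mul_mem (mul_mem this (T.VO_le i ((mem_VO3 h1 h2 h3 hn ho hf).2 ⟨-t⁻¹, by simp⟩))) this
  have n1 : ∀ a t, S.n (simple a) t ∈ S.U {simple a, neg (simple a)} := fun a => S.n_mem (x1 a) (x2 a)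
  rw [StSys.h, StSys.h, StSys.h, (c1 (n1 _ _) (n1 _ _)).mul_mul_mul_comm,
    ((c2 (n1 _ _) (n1 _ _)).mul_left (c3 (n1 _ _) (n1 _ _))).mul_mul_mul_comm]
  exact mul_mem (this t) (by simpa using this (-1))

end Three

theorem Ne.sq_mem (h : T.Ne) (hM : S.HMul) {i a b : Ix D}
    (ha : wJ (T.sym.orb i) (simple a) = neg (simple a)) (hb : wJ (T.sym.orb i) (simple b) = neg (simple b))
    {x y : Fˣ} (hc : Pi.mulSingle a x * Pi.mulSingle b y ∈ T.C0) :
    hM.hp (Pi.mulSingle a (x ^ 2) * Pi.mulSingle b (y ^ 2)) ∈ T.G0 := by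
  obtain ⟨h1, h2⟩ := h.nJ_spec i
  have h3 := mul_mem (T.H_conj_G0 (T.hp_mem_Fix hM hc) h1) (inv_mem h1)
  have key : ∀ (a : Ix D) (x : Fˣ), wJ (T.sym.orb i) (simple a) = neg (simple a) →
      (T.nJ (T.sym.orb i) : G) * hM.hp (Pi.mulSingle a x) * (T.nJ (T.sym.orb i) : G)⁻¹ =
        (hM.hp (Pi.mulSingle a x))⁻¹ := fun a x ha => by
    rw [hM.hp_single, hM.conj_h (S.acts_φ _) (wg_neg _) _ x.ne_zero, h2, ha, hM.h_eq_hp, hM.h_eq_hp,
      ← map_inv]
    congr 1
    funext j; simp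
  have h4 : (T.nJ (T.sym.orb i) : G) * (hM.hp (Pi.mulSingle a x * Pi.mulSingle b y))⁻¹ *
      (T.nJ (T.sym.orb i) : G)⁻¹ = hM.hp (Pi.mulSingle a x * Pi.mulSingle b y) := by
    rw [← inv_inj]
    conv_rhs => rw [mul_comm, map_mul, mul_inv_rev, ← key a x ha, ← key b y hb]
    rw [map_mul]; group
  rw [mul_assoc, mul_assoc, ← mul_assoc (T.nJ _ : G), h4, ← map_mul] at h3
  convert h3 using 2
  rw [sq, sq, Pi.mulSingle_mul, Pi.mulSingle_mul, mul_mul_mul_comm]

theorem UO_le_commutator [Finite F] (hM : S.HMul) {c : Ix D → Fˣ} (hc : hM.hp c ∈ T.G0) {i : Ix D}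
    (h : ∀ r ∈ PhiP (T.sym.orb i), chi c r ≠ 1) : T.UO i ≤ ⁅T.G0, T.G0⁆ :=
  le_commutator ⟨hM.hp_mem c, hc⟩ (hM.hp_spec c).2 (nil_PhiP _)
    (fun r hr e => h r hr (Units.ext e)) (T.UO_le i)

end Tw

end Gen
end H5
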