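import Cfsg.Agent.H5.Misc1

/-! Lifting the Steinberg relations to central extensions: the general machinery. -/

set_option autoImplicit false

namespace H5

/-- central extensions -/
structure CExt {E G : Type*} [Group E] [Group G] (ψ : E →* G) : Prop where
  surj : Function.Surjective ψ
  cen : ψ.ker ≤ Subgroup.center E

/-- the commutator `a⁻¹ b⁻¹ a b` -/
def cm {E : Type*} [Group E] (a b : E) : E := a⁻¹ * b⁻¹ * a * b

section
variable {E G : Type*} [Group E] [Group G] {ψ : E →* G}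

theorem map_cm (f : E →* G) (a b : E) : f (cm a b) = cm (f a) (f b) := by simp [cm]

theorem cm_inv (a b : E) : (cm a b)⁻¹ = cm b a := by simp [cm, mul_assoc]

theorem conj_cm (g a b : E) : g * cm a b * g⁻¹ = cm (g * a * g⁻¹) (g * b * g⁻¹) := by
  simp [cm, mul_assoc]

theorem cm_mul_left (a a' b : E) : cm (a * a') b = a'⁻¹ * cm a b * a' * cm a' b := by
  simp [cm, mul_assoc]

theorem cm_eq_one {a b : E} : cm a b = 1 ↔ Commute a b := by
  rw [cm, mul_assoc, mul_assoc, inv_mul_eq_one, eq_inv_mul_iff_mul_eq, eq_comm]; rfl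

theorem CExt.commute (h : CExt ψ) {z : E} (hz : ψ z = 1) (g : E) : Commute z g :=
  (Subgroup.mem_center_iff.1 (h.cen hz) g).symm

theorem CExt.conj_eq (h : CExt ψ) {a b : E} (e : ψ a = ψ b) (g : E) :
    a * g * a⁻¹ = b * g * b⁻¹ := by
  have := (h.commute (z := b⁻¹ * a) (by simp [e]) g).eq
  calc _ = b * (b⁻¹ * a * g) * a⁻¹ := by group
    _ = _ := by rw [this]; group

theorem CExt.cm_left (h : CExt ψ) {a a' : E} (e : ψ a = ψ a') (b : E) : cm a b = cm a' b := by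
  have := h.conj_eq (a := a⁻¹) (b := a'⁻¹) (by simp [e]) b⁻¹
  simp only [inv_inv] at this
  rw [cm, cm, this]

theorem CExt.cm_congr (h : CExt ψ) {a a' b b' : E} (e : ψ a = ψ a') (e' : ψ b = ψ b') :
    cm a b = cm a' b' := by
  rw [h.cm_left e, ← cm_inv, h.cm_left e', cm_inv]

theorem CExt.commute_congr (h : CExt ψ) {a a' b : E} (e : ψ a = ψ a') (hc : Commute a b) :
    Commute a' b := cm_eq_one.1 (h.cm_left e b ▸ cm_eq_one.2 hc)

theorem CExt.commute_cm (h : CExt ψ) {g a b : E} (ha : Commute (ψ g) (ψ a))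
    (hb : Commute (ψ g) (ψ b)) : Commute g (cm a b) := by
  refine mul_inv_eq_iff_eq_mul.1 ?_
  rw [conj_cm]
  exact h.cm_congr (by simp [ha.eq]) (by simp [hb.eq])

theorem CExt.comp_ker {G' : Type*} [Group G'] (h : CExt ψ) {θ : G →* G'} (hθ : CExt θ)
    (hp : commutator G = ⊤) : CExt (θ.comp ψ) := by
  refine ⟨hθ.surj.comp h.surj, fun z hz => Subgroup.mem_center_iff.2 fun g => ?_⟩
  have h1 : Subgroup.centralizer {z} ⊔ ψ.ker = ⊤ := by
    rw [← Subgroup.comap_map_eq, eq_top_iff, ← Subgroup.comap_top ψ]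
    apply Subgroup.comap_mono
    rw [← hp, commutator_eq_closure, Subgroup.closure_le]
    rintro _ ⟨a, b, rfl⟩
    obtain ⟨a, rfl⟩ := h.surj a
    obtain ⟨b, rfl⟩ := h.surj b
    refine ⟨cm a⁻¹ b⁻¹, Subgroup.mem_centralizer_singleton_iff.2 ?_, by
      simp [cm, commutatorElement_def]⟩
    exact (h.commute_cm (hθ.commute hz _) (hθ.commute hz _)).symm
  have h2 : ψ.ker ≤ Subgroup.centralizer {z} := fun k hk =>
    Subgroup.mem_centralizer_singleton_iff.2 (h.commute hk z)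
  rw [sup_eq_left.2 h2] at h1
  exact Subgroup.mem_centralizer_singleton_iff.1 (h1 ▸ Subgroup.mem_top g)

theorem lift_unique {Γ : Type*} [Group Γ] (h : ψ.ker ≤ Subgroup.center E) (hp : commutator Γ = ⊤)
    {f g : Γ →* E} (e : ψ.comp f = ψ.comp g) : f = g := by
  have h1 : CExt ψ.rangeRestrict := ⟨ψ.rangeRestrict_surjective, by rwa [MonoidHom.ker_rangeRestrict]⟩
  refine MonoidHom.eq_of_eqOn_dense (commutator_eq_closure Γ ▸ hp) ?_
  rintro _ ⟨a, b, rfl⟩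
  have := h1.cm_congr (a := f a⁻¹) (a' := g a⁻¹) (b := f b⁻¹) (b' := g b⁻¹)
    (Subtype.ext (DFunLike.congr_fun e _)) (Subtype.ext (DFunLike.congr_fun e _))
  simpa [cm, commutatorElement_def] using this

end

namespace Chev

open Cfsg Cfsg.Lie Cfsg.Lie.ChevalleyDatum Equiv

variable {D : ChevalleyDatum} {F : Type*} [Field F] {G E : Type*} [Group G] [Group E] [Good D]

/-- an element of the torus fixes `X_r` and moves `X_s` -/
def Sep (F : Type*) [Field F] (r s : Rt D) : Prop :=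
  ∃ (γ : Rt D) (v : F), v ≠ 0 ∧ v ^ pair γ r = 1 ∧ v ^ pair γ s ≠ 1

theorem Sep.refl {r s : Rt D} (h : Sep F r s) (i : Ix D) : Sep F (refl i r) (refl i s) :=
  let ⟨γ, v, h⟩ := h; ⟨Chev.refl i γ, v, by simpa using h⟩

theorem exists_nil_btw {r s : Rt D} (h : s ≠ neg r) : ∃ μ, Nil μ {k | k = r ∨ k = s ∨ Btw r s k} := by
  obtain ⟨μ, h1, h2⟩ := exists_pos_pair r s h
  have key : ∀ k, k = r ∨ k = s ∨ Btw r s k → ∃ i j : ℕ, 0 < i + j ∧
      vec k = (i : ℤ) • vec r + (j : ℤ) • vec s := by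
    rintro k (rfl | rfl | ⟨i, j, hi, -, e⟩)
    exacts [⟨1, 0, by simp⟩, ⟨0, 1, by simp⟩, ⟨i, j, by omega, e⟩]
  refine exists_nil (μ := μ) (fun k hk => ?_) fun k hk k' hk' m hm => ?_
  · obtain ⟨i, j, h3, e⟩ := key k hk
    rw [e, map_add, map_smul, map_smul, smul_eq_mul, smul_eq_mul]
    rcases Nat.eq_zero_or_pos i with rfl | hi
    · have : 0 < j := by omega
      positivity
    · positivity
  obtain ⟨i, j, h3, e⟩ := key k hk
  obtain ⟨i', j', h3', e'⟩ := key k' hk'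
  have hm' := hm
  obtain ⟨a, b, ha, hb, e''⟩ := hm
  have e3 : vec m = ((a * i + b * i' : ℕ) : ℤ) • vec r + ((a * j + b * j' : ℕ) : ℤ) • vec s := by
    rw [e'', e, e']; push_cast; module
  rcases Nat.eq_zero_or_pos (a * i + b * i') with h4 | h4
  · obtain ⟨rfl, rfl⟩ : i = 0 ∧ i' = 0 := by constructor <;> nlinarith
    rw [zero_add] at h3 h3'
    exact absurd ⟨a * j, b * j', by positivity, by positivity, by rw [e3]; push_cast; module⟩
      (not_btw_self s m)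
  rcases Nat.eq_zero_or_pos (a * j + b * j') with h5 | h5
  · obtain ⟨rfl, rfl⟩ : j = 0 ∧ j' = 0 := by constructor <;> nlinarith
    exact absurd ⟨a * i, b * i', by positivity, by positivity, by rw [e3]; push_cast; module⟩
      (not_btw_self r m)
  exact Or.inr (Or.inr ⟨_, _, h4, h5, e3⟩)

theorem btw_sub {r s k k' m : Rt D} {μ : Lat D →ₗ[ℤ] ℤ} (h : Nil μ {k | k = r ∨ k = s ∨ Btw r s k})
    (hk : Btw r s k) (hk' : k' = r ∨ k' = s ∨ Btw r s k') (hm : Btw k k' m) : Btw r s m ∧ m ≠ k := by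
  obtain ⟨h1, h2, -⟩ := h.btw (Or.inr (Or.inr hk)) hk' hm
  obtain ⟨-, h3, h4⟩ := h.btw (Or.inl rfl) (Or.inr (Or.inl rfl)) hk
  refine ⟨?_, fun e => by simp [e] at h2⟩
  rcases h1 with rfl | rfl | h1
  exacts [by omega, by omega, h1]

variable {S : StSys D F G} {ψ : E →* G}

/-- the defect of the commutator relation for `r, s` vanishes -/
def Kill (S : StSys D F G) (ψ : E →* G) (r s : Rt D) : Prop :=
  ∀ M : Subgroup E, (∀ m ∈ M, ψ m = 1 → m = 1) →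
    (∀ b u, ψ b = S.x s u → ∀ m ∈ M, b⁻¹ * m * b ∈ M) → (∀ e, ψ e ∈ S.H → ∀ m ∈ M, e * m * e⁻¹ ∈ M) →
    (∀ t u, cm (S.x s u) (S.x r t) ∈ M.map ψ) → ∀ a b t u, ψ a = S.x r t → ψ b = S.x s u → cm b a ∈ M

theorem Sep.kill [Conn D] (hψ : CExt ψ) {r s : Rt D} (h : Sep F r s) : Kill S ψ r s := by
  intro M h1 h2 h3 h4 a b t u ha hb
  obtain ⟨γ, v, hv, h5, h6⟩ := h
  have ex : ∀ b u, ψ b = S.x s u → ∃ z, ψ z = 1 ∧ z * cm b a ∈ M := fun b u hb => by
    obtain ⟨m, h7, h8⟩ := h4 t u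
    exact ⟨m * (cm b a)⁻¹, by simp [map_cm, h8, ha, hb], by simpa using h7⟩
  obtain ⟨b₀, hb₀⟩ := hψ.surj (S.x s (u / (v ^ pair γ s - 1)))
  obtain ⟨e, he⟩ := hψ.surj (S.h γ v)
  obtain ⟨z₀, h7, h8⟩ := ex b₀ _ hb₀
  obtain ⟨z, h9, h10⟩ := ex b _ hb
  have h11 := h3 e (he ▸ S.h_mem_H γ hv) _ h8
  rw [← mul_assoc, ← (hψ.commute h7 e).eq, mul_assoc z₀, mul_assoc z₀, conj_cm,
    hψ.cm_congr (a' := b₀ * b) (b' := a) (by
      simp only [map_mul, map_inv, he, hb₀, hb, S.h_conj _ _ hv, S.add]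
      congr 1
      field_simp [sub_ne_zero.2 h6]
      ring) (by simp [he, ha, S.h_conj _ _ hv, h5]), cm_mul_left, ← mul_assoc, ← mul_assoc,
    ← mul_assoc, (hψ.commute h7 b⁻¹).eq, mul_assoc b⁻¹, M.mul_mem_cancel_left (h2 b u hb _ h8)] at h11
  exact h11

/-- lifts of elements of `X_r` and `X_s` commute -/
def LC (S : StSys D F G) (ψ : E →* G) (r s : Rt D) : Prop :=
  ∀ a b t u, ψ a = S.x r t → ψ b = S.x s u → Commute a b

omit [Good D] in
theorem LC.symm {r s : Rt D} (h : LC S ψ r s) : LC S ψ s r :=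
  fun a b t u ha hb => (h b a u t hb ha).symm

omit [Good D] in
theorem Kill.lc {r s : Rt D} (h : Kill S ψ r s) (hc : ∀ t u, Commute (S.x r t) (S.x s u)) :
    LC S ψ r s := fun _ _ _ _ ha hb =>
  (cm_eq_one.1 (h ⊥ (by simp) (by simp) (by simp)
    (fun t u => by simpa using cm_eq_one.2 (hc t u).symm) _ _ _ _ ha hb)).symm

/-- an `N`-equivariant family of lifts of the root elements -/
structure Lift (S : StSys D F G) (ψ : E →* G) where
  y : Rt D → F → E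
  ψ_y : ∀ r t, ψ (y r t) = S.x r t
  add : ∀ r t u, y r t * y r u = y r (t + u)
  conj : ∀ e, ψ e ∈ S.N → ∀ r t s u, ψ e * S.x r t * (ψ e)⁻¹ = S.x s u → e * y r t * e⁻¹ = y s u

namespace Lift
variable (L : Lift S ψ)

/-- the subgroup generated by the lifts -/
def U (A : Set (Rt D)) : Subgroup E := Subgroup.closure {g | ∃ r ∈ A, ∃ t, g = L.y r t}

omit [Good D] in
theorem y_mem {A : Set (Rt D)} {r : Rt D} (h : r ∈ A) (t : F) : L.y r t ∈ L.U A :=
  Subgroup.subset_closure ⟨r, h, t, rfl⟩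

omit [Good D] in
theorem U_mono {A B : Set (Rt D)} (h : A ⊆ B) : L.U A ≤ L.U B :=
  Subgroup.closure_mono fun _ ⟨r, hr, e⟩ => ⟨r, h hr, e⟩

omit [Good D] in
theorem map_U (A : Set (Rt D)) : (L.U A).map ψ = S.U A := by
  rw [U, MonoidHom.map_closure, StSys.U]
  congr 1
  ext g
  constructor
  · rintro ⟨_, ⟨r, hr, t, rfl⟩, rfl⟩; exact ⟨r, hr, t, L.ψ_y r t⟩
  · rintro ⟨r, hr, t, rfl⟩; exact ⟨_, ⟨r, hr, t, rfl⟩, L.ψ_y r t⟩

omit [Good D] in
@[simp] theorem y_zero (r : Rt D) : L.y r 0 = 1 := by simpa using L.add r 0 0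

omit [Good D] in
theorem y_inv (r : Rt D) (t : F) : (L.y r t)⁻¹ = L.y r (-t) :=
  inv_eq_of_mul_eq_one_right (by simp [L.add])

/-- the commutator relation, in weak form -/
def P (r s : Rt D) : Prop := ∀ t u, cm (L.y s u) (L.y r t) ∈ L.U {k | Btw r s k}

variable {L}

theorem P.symm {r s : Rt D} (h : L.P r s) : L.P s r := fun t u =>
  cm_inv (L.y s t) _ ▸ inv_mem (L.U_mono (fun _ hk => Btw.symm hk) (h u t))

theorem P_of_lc {r s : Rt D} (h : LC S ψ r s) : L.P r s := fun t u => by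
  rw [cm_eq_one.2 (h _ _ _ _ (L.ψ_y r t) (L.ψ_y s u)).symm]; exact one_mem _

theorem conj_mem_U {A : Set (Rt D)} {r : Rt D}
    (h : ∀ s ∈ A, s = r ∨ L.P r s ∧ ∀ k, Btw r s k → k ∈ A) (t : F) {g : E} (hg : g ∈ L.U A) :
    (L.y r t)⁻¹ * g * L.y r t ∈ L.U A := by
  have := conj_mem_closure (N := L.U A) (g := (L.y r t)⁻¹) ?_ g hg
  · rwa [inv_inv] at this
  rintro _ ⟨s, hs, u, rfl⟩
  rcases h s hs with rfl | ⟨h1, h2⟩
  · simpa [y_inv, L.add] using L.y_mem hs u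
  · simpa [cm, mul_assoc] using mul_mem (L.y_mem hs u) (L.U_mono h2 (h1 t u))

theorem eq_one_of_nil {μ : Lat D →ₗ[ℤ] ℤ} {A : Set (Rt D)} (h : Nil μ A)
    (hP : ∀ r ∈ A, ∀ s ∈ A, s ≠ r → L.P r s) {g : E} (hg : g ∈ L.U A) (h1 : ψ g = 1) : g = 1 := by
  obtain ⟨N, hN⟩ := exists_above_eq_empty μ A
  have key : ∀ k : ℕ, ∀ g ∈ L.U (above μ A (N - k)), ψ g = 1 → g = 1 := by
    intro k
    induction k with
    | zero => simp [hN, U]
    | succ k ih =>
      intro g hg h1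
      by_cases hm : ∃ r ∈ A, μ (vec r) = N - (k + 1 : ℕ)
      swap
      · rw [← StSys.above_succ_eq hm] at hg
        exact ih g (by push_cast at hg; rwa [show (N : ℤ) - (k + 1) + 1 = N - k by ring] at hg) h1
      obtain ⟨r, hr, hm⟩ := hm
      have e : (N : ℤ) - k = μ (vec r) + 1 := by push_cast at hm; omega
      rw [e] at ih
      rw [← hm] at hg
      have h2 : ∀ t, ∀ g ∈ L.U (above μ A (μ (vec r) + 1)),
          (L.y r t)⁻¹ * g * L.y r t ∈ L.U (above μ A (μ (vec r) + 1)) := fun t g hg =>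
        conj_mem_U (fun s hs => Or.inr ⟨hP r hr s hs.1 fun e => by simpa [e] using hs.2,
          fun k hk => by exact ⟨(h.btw hr hs.1 hk).1, (h.btw hr hs.1 hk).2.1⟩⟩) t hg
      obtain ⟨c, h3⟩ : ∃ c, (L.y r c)⁻¹ * g ∈ L.U (above μ A (μ (vec r) + 1)) := by
        clear h1
        induction hg using Subgroup.closure_induction with
        | one => exact ⟨0, by simp⟩
        | mem x hx =>
          obtain ⟨s, hs, t, rfl⟩ := hx
          rcases hs.2.eq_or_lt with e | e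
          · exact ⟨t, by simp [h.reg e]⟩
          · exact ⟨0, by simpa using L.y_mem (by exact ⟨hs.1, e⟩) t⟩
        | mul x y _ _ hx hy =>
          obtain ⟨c, hx⟩ := hx
          obtain ⟨d, hy⟩ := hy
          exact ⟨c + d, by simpa [← L.add, mul_assoc] using mul_mem (h2 d _ hx) hy⟩
        | inv x _ hx =>
          obtain ⟨c, hx⟩ := hx
          exact ⟨-c, by simpa [← y_inv, mul_assoc] using inv_mem (h2 (-c) _ hx)⟩
      have h4 := Subgroup.mem_map_of_mem ψ h3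
      rw [map_U, map_mul, h1, mul_one, map_inv, inv_mem_iff, L.ψ_y] at h4
      rw [S.eq_zero_of_x_mem_above h h4] at h3
      exact ih g (by simpa using h3) h1
  exact key N g (L.U_mono (fun r hr => by exact ⟨hr, by simpa using (h.pos r hr).le⟩) hg) h1

variable [Conn D]

theorem conj_U {e : E} (he : ψ e ∈ S.N) {A B : Set (Rt D)} (h : ∀ r ∈ A, S.φ ⟨_, he⟩ r ∈ B) :
    ∀ g ∈ L.U A, e * g * e⁻¹ ∈ L.U B := by
  obtain ⟨γ, -, -, h1⟩ := S.acts_φ ⟨_, he⟩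
  refine conj_mem_closure ?_
  rintro _ ⟨r, hr, t, rfl⟩
  exact L.conj e he _ _ _ _ (h1 r t) ▸ L.y_mem (h r hr) _

theorem P.wg (hψ : CExt ψ) {r s : Rt D} (h : L.P r s) (w : Wg D) : L.P (w r) (w s) := by
  obtain ⟨⟨n, hn⟩, rfl⟩ := S.φ_surjective w
  obtain ⟨e, rfl⟩ := hψ.surj n
  obtain ⟨γ, h0, -, h1⟩ := S.acts_φ ⟨_, hn⟩
  intro t u
  have := conj_U hn (B := {k | Btw (S.φ ⟨_, hn⟩ r) (S.φ ⟨_, hn⟩ s) k})
    (fun k hk => (wg_aut _).btw hk) _ (h ((γ r)⁻¹ * t) ((γ s)⁻¹ * u))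
  rwa [conj_cm, L.conj e hn _ _ _ _ (h1 r _), L.conj e hn _ _ _ _ (h1 s _),
    mul_inv_cancel_left₀ (h0 r), mul_inv_cancel_left₀ (h0 s)] at this

theorem rels' (hψ : CExt ψ)
    (h : ∀ r s, s ≠ r → s ≠ neg r → Kill S ψ r s ∨ Kill S ψ s r ∨ L.P r s) : Rels L.y := by
  have inj : ∀ r s, s ≠ neg r → (∀ k k', Btw r s k → k' = r ∨ k' = s ∨ Btw r s k' → k' ≠ k → L.P k k') →
      ∀ g ∈ L.U {k | Btw r s k}, ψ g = 1 → g = 1 := fun r s h2 ih g hg => by
    obtain ⟨μ, hμ⟩ := exists_nil_btw h2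
    exact eq_one_of_nil (hμ.sub (fun _ h => Or.inr (Or.inr h)) fun k hk k' hk' m hm =>
      (btw_sub hμ hk (Or.inr (Or.inr hk')) hm).1) (fun k hk k' hk' => ih k k' hk (Or.inr (Or.inr hk'))) hg
  have step : ∀ r s, s ≠ neg r → Kill S ψ r s →
      (∀ k k', Btw r s k → k' = r ∨ k' = s ∨ Btw r s k' → k' ≠ k → L.P k k') → L.P r s :=
    fun r s h2 h3 ih t u => by
      obtain ⟨μ, hμ⟩ := exists_nil_btw h2
      refine h3 _ (inj r s h2 ih) (fun b u hb m hm => ?_) (fun e he => ?_)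
        (fun t u => L.map_U _ ▸ S.comm_mem h2 (fun _ h => h) t u) _ _ _ _ (L.ψ_y r t) (L.ψ_y s u)
      · have := hψ.conj_eq (a := b⁻¹) (b := (L.y s u)⁻¹) (by simp [hb, L.ψ_y]) m
        simp only [inv_inv] at this
        exact this ▸ conj_mem_U (fun k hk => (eq_or_ne k s).imp_right fun e =>
          ⟨(ih k s hk (Or.inr (Or.inl rfl)) e.symm).symm, fun m hm =>
            (btw_sub hμ hk (Or.inr (Or.inl rfl)) hm.symm).1⟩) u hm
      · exact conj_U (S.H_le_N he) fun k hk => by rwa [S.φ_eq_one_iff.2 he]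
  have key : ∀ n r s, s ≠ r → s ≠ neg r → {k | Btw r s k}.ncard = n → L.P r s := by
    intro n
    induction n using Nat.strong_induction_on with
    | _ n ih =>
      intro r s h1 h2 hn
      obtain ⟨μ, hμ⟩ := exists_nil_btw h2
      have h3 : ∀ k k', Btw r s k → k' = r ∨ k' = s ∨ Btw r s k' → k' ≠ k → L.P k k' :=
        fun k k' hk hk' e => ih _ (hn ▸ Set.ncard_lt_ncard ⟨fun m hm => (btw_sub hμ hk hk' hm).1,
          fun h => (btw_sub hμ hk hk' (h hk)).2 rfl⟩) k k' e (hμ.ne_neg (Or.inr (Or.inr hk)) hk') rfl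
      rcases h r s h1 h2 with h | h | h
      · exact step r s h2 h h3
      · exact (step s r (fun e => h2 (by simp [e])) h fun k k' hk hk' =>
          h3 k k' hk.symm (by rcases hk' with h | h | h <;> simp [h, Btw.symm])).symm
      · exact h
  refine ⟨L.add, fun r s h1 h2 t u => ?_⟩
  obtain ⟨μ, hμ⟩ := exists_nil_btw h2
  have h3 := inj r s h2 (fun k k' hk hk' e => key _ k k' e (hμ.ne_neg (Or.inr (Or.inr hk)) hk') rfl)
    ((cm (L.y s u) (L.y r t))⁻¹ * ((cword F r s t u).map fun p => L.y p.1 p.2).prod)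
    (mul_mem (inv_mem (key _ r s h1 h2 rfl t u)) (list_prod_mem (by
      simp only [List.mem_map]
      rintro _ ⟨p, hp, rfl⟩
      exact L.y_mem (btw_of_mem_cword hp) _))) (by
      rw [map_mul, map_inv, map_cm, L.ψ_y, L.ψ_y, cm, S.comm' h1 h2, inv_mul_eq_one, map_list_prod,
        List.map_map]
      simp only [Function.comp_def, L.ψ_y, StSys.wd])
  rw [← inv_mul_eq_one.1 h3]
  simp [cm, mul_assoc]

theorem rels (hψ : CExt ψ) (h : ∀ r s, (∀ i, 0 ≤ wt r i) → (∀ i, wt r i = 0 → 0 ≤ wt s i) → s ≠ r →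
    s ≠ neg r → Sep F r s ∨ Sep F s r ∨ L.P r s) : Rels L.y := by
  replace h : ∀ r s, s ≠ r → s ≠ neg r → Sep F r s ∨ Sep F s r ∨ L.P r s :=
    pair_induction h fun i r s ih h1 h2 =>
      (ih (fun e => h1 (e ▸ rfl)) fun e => h2 (by simp [e])).imp (·.refl i)
        (.imp (·.refl i) fun h => by simpa using h.wg hψ ((wgen D).σ i))
  exact rels' hψ fun r s h1 h2 => (h r s h1 h2).imp (·.kill hψ) (.imp_left (·.kill hψ))

end Lift

/-- a complement to the kernel over a root subgroup, invariant under the stabilizer in `N` -/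
structure Base [Conn D] (S : StSys D F G) (ψ : E →* G) (r : Rt D) (Y : Subgroup E) : Prop where
  ex : ∀ t, ∃ g ∈ Y, ψ g = S.x r t
  inj : ∀ g ∈ Y, ψ g = 1 → g = 1
  le : ∀ g ∈ Y, ∃ t, ψ g = S.x r t
  conj : ∀ e (he : ψ e ∈ S.N), S.φ ⟨_, he⟩ r = r → ∀ g ∈ Y, e * g * e⁻¹ ∈ Y

theorem exists_lift [Conn D] [Dom D] (hψ : CExt ψ) (Y : Rt D → Subgroup E)
    (h : ∀ r, (∀ i, 0 ≤ wt r i) → Base S ψ r (Y r)) :
    ∃ L : Lift S ψ, ∀ r, (∀ i, 0 ≤ wt r i) → Y r ≤ L.U {r} := by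
  let I (r : Rt D) (g : E) : Prop := ∀ e (he : ψ e ∈ S.N), (∀ i, 0 ≤ wt (S.φ ⟨_, he⟩ r) i) →
    e * g * e⁻¹ ∈ Y (S.φ ⟨_, he⟩ r)
  have hm : ∀ {a b} (ha : ψ a ∈ S.N) (hb : ψ b ∈ S.N) (h : ψ (a * b) ∈ S.N) (r : Rt D),
      S.φ ⟨_, h⟩ r = S.φ ⟨_, ha⟩ (S.φ ⟨_, hb⟩ r) := fun ha hb h r => by
    rw [show (⟨_, h⟩ : S.N) = ⟨_, ha⟩ * ⟨_, hb⟩ from Subtype.ext (map_mul _ _ _), map_mul]; rfl
  have h1 : ∀ r, ∃ e, ∃ he : ψ e ∈ S.N, ∀ i, 0 ≤ wt (S.φ ⟨_, he⟩ r) i := fun r => by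
    obtain ⟨w, hw⟩ := exists_dominant r
    obtain ⟨⟨n, hn⟩, rfl⟩ := S.φ_surjective w
    obtain ⟨e, rfl⟩ := hψ.surj n
    exact ⟨e, hn, hw⟩
  have h2 : ∀ r g e (he : ψ e ∈ S.N), (∀ i, 0 ≤ wt (S.φ ⟨_, he⟩ r) i) →
      e * g * e⁻¹ ∈ Y (S.φ ⟨_, he⟩ r) → I r g := fun r g e he h2 h3 e' he' h4 => by
    have h5 : S.φ ⟨_, he'⟩ r = S.φ ⟨_, he⟩ r :=
      Dom.dom _ _ h4 h2 (by rw [(wg_aut _).isLong, (wg_aut _).isLong])
    have h6 : ψ (e' * e⁻¹) ∈ S.N := by simpa using mul_mem he' (inv_mem he)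
    have := (h _ h2).conj _ h6 (by rw [← hm h6 he (by simpa using he'), ← h5]; simp) _ h3
    simpa [h5, mul_assoc] using this
  have h3 : ∀ r t, ∃ g, I r g ∧ ψ g = S.x r t := fun r t => by
    obtain ⟨e, he, h3⟩ := h1 r
    obtain ⟨γ, -, -, h4⟩ := S.acts_φ ⟨_, he⟩
    obtain ⟨g, h5, h6⟩ := (h _ h3).ex (γ r * t)
    exact ⟨e⁻¹ * g * e, h2 r _ e he h3 (by simpa [mul_assoc] using h5), by
      simp [h6, ← h4, mul_assoc]⟩
  have h4 : ∀ r g g', I r g → I r g' → ψ g = ψ g' → g = g' := fun r g g' h4 h5 h6 => by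
    obtain ⟨e, he, h3⟩ := h1 r
    have := (h _ h3).inj _ (mul_mem (inv_mem (h4 e he h3)) (h5 e he h3)) (by simp [h6, mul_assoc])
    simpa using inv_mul_eq_one.1 this
  choose y h5 h6 using h3
  refine ⟨⟨y, h6, fun r t u => h4 r _ _ (fun e he hd => ?_) (h5 _ _) (by simp [h6, S.add]),
    fun e he r t s u h7 => ?_⟩, fun r hr g hg => ?_⟩
  · simpa [mul_assoc] using mul_mem (h5 r t e he hd) (h5 r u e he hd)
  · obtain ⟨γ, h8, -, h9⟩ := S.acts_φ ⟨_, he⟩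
    by_cases ht : t = 0
    · have h0 : ∀ r, y r 0 = 1 := fun r => h4 r _ _ (h5 _ _) (fun _ _ _ => by simp) (by simp [h6])
      obtain rfl : u = 0 := S.x_eq_one_iff.1 (by simpa [ht] using h7.symm)
      simp [ht, h0]
    obtain ⟨rfl, -⟩ := S.x_eq_x (mul_ne_zero (h8 r) ht) ((h9 r t).symm.trans h7)
    refine h4 _ _ _ (fun e' he' hd => ?_) (h5 _ _) (by simp [h6, h7])
    have h10 : ψ (e' * e) ∈ S.N := by simpa using mul_mem he' he
    have := h5 r t _ h10 (by rwa [hm he' he])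
    rw [hm he' he] at this
    simpa [mul_assoc] using this
  · obtain ⟨t, ht⟩ := (h r hr).le g hg
    have h1' : ψ 1 ∈ S.N := by simp
    have e : S.φ ⟨_, h1'⟩ = 1 := S.φ_eq_one_iff.2 (by simp)
    rw [h4 r g (y r t) (h2 r g 1 h1' (by rw [e]; exact hr) (by rw [e]; simpa using hg)) (h5 _ _)
      (by rw [ht, h6])]
    exact Subgroup.subset_closure ⟨r, rfl, t, rfl⟩

end Chev
end H5
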