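import Cfsg.Agent.H5.Misc1
import Cfsg.Agent.H5.Syl1

/-! The centralizer of the unipotent radical of a proper parabolic subgroup. -/

set_option autoImplicit false

namespace H5
namespace Chev

open Cfsg Cfsg.Lie Cfsg.Lie.ChevalleyDatum Equiv

variable {D : ChevalleyDatum} {F : Type*} [Field F] {G : Type*} [Group G] [Good D]

theorem muJ_refl {J : Set (Ix D)} {j : Ix D} (hj : j ∈ J) (r : Rt D) :
    muJ J (vec (refl j r)) = muJ J (vec r) := by
  rw [vec_refl, map_sub, map_smul, muJ_eq_zero_iff.2 (simple_mem_PhiJ.2 hj), smul_zero, sub_zero]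

theorem nil_muJ (J : Set (Ix D)) : Nil ordf {r : Rt D | 0 < muJ J (vec r)} :=
  nil_pos.sub (fun _ h => (muJ_pos_iff.1 h).1) (closed_gt _ le_rfl)

theorem exists_wt_ne [Conn D] {J : Set (Ix D)} (hJ : ∃ i, i ∉ J) {j : Ix D} (hj : j ∈ J) :
    ∃ r, 0 < muJ J (vec r) ∧ 0 < wt r j := by
  have hs : ∀ i ∉ J, 0 < muJ J (vec (simple i)) := fun i hi =>
    muJ_pos_iff.2 ⟨pos_simple i, mt simple_mem_PhiJ.1 hi⟩
  suffices ∃ r, 0 < muJ J (vec r) ∧ wt r j ≠ 0 by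
    obtain ⟨r, h1, h2⟩ := this
    rcases h2.lt_or_gt with h | h
    · exact ⟨refl j r, by rwa [muJ_refl hj], by rw [wt_refl, wt_simple_self]; omega⟩
    · exact ⟨r, h1, h⟩
  by_contra h
  obtain ⟨i₀, hi₀⟩ := hJ
  obtain ⟨i, ⟨h1, h2⟩, k, h3, h4⟩ := exists_conn (J := {j ∈ J | ¬ ∃ r, 0 < muJ J (vec r) ∧ wt r j ≠ 0})
    ⟨j, hj, h⟩ ⟨i₀, fun h => hi₀ h.1⟩
  by_cases hk : k ∈ J
  · obtain ⟨r, h5, h6⟩ : ∃ r, 0 < muJ J (vec r) ∧ wt r k ≠ 0 := by
      by_contra h5; exact h3 ⟨hk, h5⟩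
    by_cases h7 : wt r i = 0
    · exact h2 ⟨refl k r, by rwa [muJ_refl hk], by simp [wt_refl, h7, h6, h4]⟩
    · exact h2 ⟨r, h5, h7⟩
  · exact h2 ⟨_, hs k hk, h4⟩

theorem wg_eq_one_of_fix [Conn D] {J : Set (Ix D)} (hJ : ∃ i, i ∉ J) {w : Wg D}
    (h : ∀ r, 0 < muJ J (vec r) → w r = r) : w = 1 := by
  refine wg_ext fun j => ?_
  by_cases hj : j ∈ J
  · obtain ⟨r, h1, h2⟩ := exists_wt_ne hJ hj
    obtain ⟨L, hL⟩ := (wg_aut w).lin
    have h3 := hL (refl j r)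
    rw [h _ (by rwa [muJ_refl hj]), vec_refl, map_sub, map_smul, ← hL, ← hL, h r h1,
      sub_right_inj] at h3
    exact vec_injective (smul_right_injective _ h2.ne' h3).symm
  · exact h _ (muJ_pos_iff.2 ⟨pos_simple j, mt simple_mem_PhiJ.1 hj⟩)

theorem chr_eq_one_of [Conn D] {J : Set (Ix D)} (hJ : ∃ i, i ∉ J) {c : Ix D → Fˣ}
    (h : ∀ r, 0 < muJ J (vec r) → chr c r = 1) : c = 1 := by
  funext j
  rw [← chr_simple c j]
  by_cases hj : j ∈ J
  · obtain ⟨r, h1, h2⟩ := exists_wt_ne hJ hj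
    obtain ⟨k, hk⟩ := exists_cR_neg h2 fun e => by
      simp [e, muJ_eq_zero_iff.2 (simple_mem_PhiJ.2 hj)] at h1
    have h3 := vec_of_cR (i := 0) hk
    have h4 := chr_of_vec' c h3
    rw [h r h1, h k (by simpa [h3, muJ_eq_zero_iff.2 (simple_mem_PhiJ.2 hj)] using h1), chr_neg] at h4
    simpa using h4.symm
  · exact h _ (muJ_pos_iff.2 ⟨pos_simple j, mt simple_mem_PhiJ.1 hj⟩)

theorem chi_eq_chr (c : Ix D → Fˣ) (r : Rt D) : chi c r = chr (fun j => chi c (simple j)) r :=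
  chi_eq_prod c r

namespace StSys
variable (S : StSys D F G)

theorem conj_above_muJ (J : Set (Ix D)) (m : ℤ) {b g : G} (hb : b ∈ S.U {r | Pos r})
    (hg : g ∈ S.U (above ordf {r | 0 < muJ J (vec r)} m)) :
    b * g * b⁻¹ ∈ S.U (above ordf {r | 0 < muJ J (vec r)} m) := by
  refine S.U_conj_mem (fun r hr s hs => ?_) b hb g hg
  have h1 := (muJ_pos_iff.1 hs.1).1
  refine ⟨nil_pos.ne_neg hr h1, fun k hk => ⟨?_, hs.2.trans (nil_pos.btw hr h1 hk).2.2.le⟩⟩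
  have := hk.le (muJ_nonneg J hr) hs.1.le
  have := muJ_nonneg J hr
  have := hs.1
  simp only [Set.mem_ofPred_eq] at *
  omega

variable [Conn D]

theorem cent_UJ (hπ : Function.Injective S.π) {J : Set (Ix D)} (hJ : ∃ i, i ∉ J) {g : G}
    (hg : g ∈ S.U Set.univ) (h : ∀ y ∈ S.UJ J, g * y = y * g) : g ∈ S.U {r | Pos r} := by
  rw [UJ_eq] at h
  obtain ⟨u, hu, n, v, hv, rfl⟩ := S.exists_bruhat' hg
  replace hv := S.U_mono (fun _ h => h.1) hv
  obtain ⟨γ, h1, -, h2⟩ := S.acts_φ n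
  have h3 : ∀ r t, 0 < muJ J (vec r) → ∀ m, m ≤ ordf (vec r) →
      S.x (S.φ n r) (γ r * t) = u⁻¹ * (v⁻¹ * S.x r t * v) * u ∧
      v⁻¹ * S.x r t * v ∈ S.U (above ordf {r | 0 < muJ J (vec r)} m) := fun r t hr m hm => by
    have h4 := S.conj_above_muJ J m (inv_mem hv) (S.x_mem_U (by exact ⟨hr, hm⟩) t)
    rw [inv_inv] at h4
    refine ⟨?_, h4⟩
    have := h _ (S.U_mono above_subset h4)
    rw [← h2, mul_inv_eq_iff_eq_mul]
    calc _ = u⁻¹ * (u * n * v * (v⁻¹ * S.x r t * v)) * v⁻¹ := by group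
      _ = _ := by rw [this]; group
  have h4 : ∀ r, 0 < muJ J (vec r) → S.φ n r = r := fun r => by
    induction r using WellFoundedGT.induction with
    | ind r ih =>
      intro hr
      obtain ⟨h4, h5⟩ := h3 r 1 hr _ le_rfl
      have h6 := S.conj_above_muJ J _ (inv_mem hu) h5
      rw [inv_inv, ← h4] at h6
      replace h6 := S.mem_of_x_mem_U ((nil_muJ J).above _) (by simpa using h1 r) h6
      rcases h6.2.eq_or_lt with e | e
      · exact (ord_strictMono.injective e).symm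
      · exact (S.φ n : Perm (Rt D)).injective (ih _ (ord_lt_iff.1 e) h6.1)
  have h5 := S.φ_eq_one_iff.1 (wg_eq_one_of_fix hJ h4)
  obtain ⟨c, h6, h7⟩ := S.exists_chi h5
  have h8 : (fun j => chi c (simple j)) = 1 := chr_eq_one_of hJ fun r hr => by
    have h8 := (h3 r 1 hr _ le_rfl).1
    rw [← h2, h7, mul_one] at h8
    have hp := (muJ_pos_iff.1 hr).1
    have h9 := S.above_comm_mem nil_pos (ordf (vec r)) _ (S.x_mem_U (by exact ⟨hp, le_rfl⟩) 1) _
      (mul_mem hv hu)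
    rw [show ∀ x : G, x⁻¹ * (v * u)⁻¹ * x * (v * u) = x⁻¹ * (u⁻¹ * (v⁻¹ * x * v) * u) by
      intro x; group, ← h8, x_inv, S.add] at h9
    have := S.eq_zero_of_x_mem_above nil_pos h9
    rw [← chi_eq_chr]
    exact Units.ext (by simpa using (neg_add_eq_zero.1 this).symm)
  have h9 : (n : G) = 1 := hπ (by
    rw [h6, map_one, ← dg_one]
    congr 1
    funext r
    rw [chi_eq_chr, h8]; simp [chr])
  rw [h9, mul_one]
  exact mul_mem hu hv

end StSys

end Chev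
end H5
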