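import Cfsg.Agent.H5.SZ5

/-! Small Ree groups: the abstract rank one structure. -/

namespace H5.Ree
open scoped Pointwise MatrixGroups
open H5.Sz H5.Sz.SzS

section SL2
variable {F : Type*} [Field F]

def up (t : F) : SL(2, F) := ⟨!![1, t; 0, 1], by simp⟩
def lo (t : F) : SL(2, F) := ⟨!![1, 0; t, 1], by simp⟩
def JJ (F : Type*) [Field F] : SL(2, F) := ⟨!![0, 1; -1, 0], by simp⟩

@[simp] theorem coe_up (t : F) : (up t : Matrix (Fin 2) (Fin 2) F) = !![1, t; 0, 1] := rfl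
@[simp] theorem coe_lo (t : F) : (lo t : Matrix (Fin 2) (Fin 2) F) = !![1, 0; t, 1] := rfl
@[simp] theorem coe_JJ : (JJ F : Matrix (Fin 2) (Fin 2) F) = !![0, 1; -1, 0] := rfl

theorem sl2_det (g : SL(2, F)) : g 0 0 * g 1 1 - g 0 1 * g 1 0 = 1 := by
  rw [← Matrix.det_fin_two]; exact g.2

theorem sl2_decomp (g : SL(2, F)) (hg : g 1 0 ≠ 0) :
    g = up ((g 0 0 - 1) / g 1 0) * lo (g 1 0) * up ((g 1 1 - 1) / g 1 0) := by
  have hdet := sl2_det g
  ext i j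
  fin_cases i <;> fin_cases j <;> simp [Matrix.mul_apply, Fin.sum_univ_two] <;> field_simp
  · ring
  · linear_combination -hdet
  · ring

theorem JJ_eq : JJ F = up 1 * lo (-1) * up 1 := by
  ext i j
  fin_cases i <;> fin_cases j <;> simp [Matrix.mul_apply, Fin.sum_univ_two]

theorem lo_eq (t : F) : lo t = JJ F * up (-t) * (JJ F)⁻¹ := by
  rw [eq_mul_inv_iff_mul_eq]
  ext i j
  fin_cases i <;> fin_cases j <;> simp [Matrix.mul_apply, Fin.sum_univ_two]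

theorem sl2_eq_top {K : Subgroup SL(2, F)} (h1 : ∀ t, up t ∈ K) (h2 : ∀ t, lo t ∈ K) : K = ⊤ := by
  have key : ∀ g : SL(2, F), g 1 0 ≠ 0 → g ∈ K := by
    intro g hg
    rw [sl2_decomp g hg]
    exact K.mul_mem (K.mul_mem (h1 _) (h2 _)) (h1 _)
  rw [eq_top_iff]
  intro g _
  by_cases hg : g 1 0 = 0
  · have hdet := sl2_det g
    have h3 := key (g * lo 1) (by
      simp only [coe_lo, Matrix.SpecialLinearGroup.coe_mul, Matrix.mul_apply, Fin.sum_univ_two, hg]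
      intro h
      simp at h
      simp [h, hg] at hdet)
    exact (K.mul_mem_cancel_right (h2 _)).1 h3
  · exact key g hg

end SL2

structure ReeS (F : Type*) [Field F] [Fintype F] (m : ℕ) (G : Type*) [Group G] where
  hF : Fintype.card F = 3 ^ (2 * m + 1)
  σ : F →+* F
  hσ : ∀ x, σ x = x ^ 3 ^ (m + 1)
  u : F → F → F → G
  u_mul : ∀ a b c x y z, u a b c * u x y z =
    u (a + x) (b + y - a * σ x) (c + z - b * x + a * x * σ x - a ^ 2 * σ x)
  u_inj : ∀ {a b c x y z}, u a b c = u x y z → a = x ∧ b = y ∧ c = z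
  h : Fˣ →* G
  h_u : ∀ (k : Fˣ) a b c, h k * u a b c * (h k)⁻¹ = u (k * a) (k * σ k * b) (k ^ 2 * σ k * c)
  φ : SL(2, F) →* G
  φ_up : ∀ t, φ (up t) = u 0 t 0
  w : G
  φ_w : φ (JJ F) = w
  w_mul_w : w * w = 1
  w_h : ∀ k, w * h k * w⁻¹ = (h k)⁻¹
  bruhat : ∀ g, (∃ a b c k, g = u a b c * h k) ∨ ∃ a b c k x y z, g = u a b c * w * (u x y z * h k)
  disj : ∀ a b c x y z k, w * u a b c * w⁻¹ = u x y z * h k → a = 0 ∧ b = 0 ∧ c = 0
  rel1 : w * u 0 0 1 * w = u 1 (-1) 1 * w * u 1 0 (-1)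
  rel2 : w * u 1 0 0 * w = u 1 0 0 * w * (u 1 1 1 * h (-1))
  ρ : G →* Matrix (Fin 7) (Fin 7) F
  ρ_ne : ∃ g, ρ g ≠ 1
  simple' : 1 ≤ m → IsSimpleGroup G
  fld : ∀ α : F ≃+* F, ∃ ψ : MulAut G, (∀ a b c, ψ (u a b c) = u (α a) (α b) (α c)) ∧ ψ w = w

namespace ReeS
variable {F : Type*} [Field F] [Fintype F] {m : ℕ} {G : Type*} [Group G] (S : ReeS F m G)

/-- transport along an isomorphism -/
def comp {H : Type*} [Group H] (e : H ≃* G) : ReeS F m H where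
  hF := S.hF
  σ := S.σ
  hσ := S.hσ
  u a b c := e.symm (S.u a b c)
  u_mul a b c x y z := by rw [← map_mul, S.u_mul]
  u_inj h := S.u_inj (e.symm.injective h)
  h := e.symm.toMonoidHom.comp S.h
  h_u k a b c := by
    rw [← S.h_u]; simp
  φ := e.symm.toMonoidHom.comp S.φ
  φ_up t := by simp [S.φ_up t]
  w := e.symm S.w
  φ_w := by simp [S.φ_w]
  w_mul_w := by rw [← map_mul, S.w_mul_w, map_one]
  w_h k := by
    apply e.injective
    simpa using S.w_h k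
  bruhat g := by
    rcases S.bruhat (e g) with ⟨a, b, c, k, h⟩ | ⟨a, b, c, k, x, y, z, h⟩
    · exact Or.inl ⟨a, b, c, k, e.injective (by simpa using h)⟩
    · exact Or.inr ⟨a, b, c, k, x, y, z, e.injective (by simpa using h)⟩
  disj a b c x y z k h := S.disj a b c x y z k (by simpa using congrArg e h)
  rel1 := e.injective (by simpa using S.rel1)
  rel2 := e.injective (by simpa using S.rel2)
  ρ := S.ρ.comp e.toMonoidHom
  ρ_ne := by
    obtain ⟨g, hg⟩ := S.ρ_ne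
    exact ⟨e.symm g, by simpa using hg⟩
  simple' hm := haveI := S.simple' hm; e.isSimpleGroup
  fld α := by
    obtain ⟨ψ, h1, h2⟩ := S.fld α
    exact ⟨e.trans (ψ.trans e.symm), fun a b c => by simp [h1], by simp [h2]⟩

include S in
theorem charP : CharP F 3 := haveI := Fact.mk Nat.prime_three; charP_of_card_eq_prime_pow S.hF

theorem σσ (x : F) : S.σ (S.σ x) = x ^ 3 := by
  rw [S.hσ, S.hσ, ← pow_mul, ← pow_add, show m + 1 + (m + 1) = (2 * m + 1) + 1 by ring, pow_succ,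
    pow_mul, ← S.hF, FiniteField.pow_card]

include S in
theorem three_le : 3 ≤ Fintype.card F := by
  rw [S.hF]
  exact Nat.le_self_pow (by omega) 3

include S in
theorem big (hm : 1 ≤ m) : 27 ≤ Fintype.card F := by
  rw [S.hF]
  calc 27 = 3 ^ 3 := rfl
    _ ≤ _ := Nat.pow_le_pow_right (by norm_num) (by omega)

include S in
theorem card_mod : Fintype.card F % 8 = 3 := by
  rw [S.hF, pow_succ, pow_mul, Nat.mul_mod, Nat.pow_mod]; simp

include S in
theorem three_dvd : 3 ∣ Fintype.card F := by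
  rw [S.hF]; exact dvd_pow_self _ (by omega)

include S in
theorem neg_one_ne : (-1 : F) ≠ 1 := by
  have := S.charP
  grind

include S in
theorem two_ne : (2 : F) ≠ 0 := by
  have := S.charP
  grind

include S in
theorem sq_ne_neg_one (x : F) : x ^ 2 ≠ -1 := by
  intro h
  have := FiniteField.isSquare_neg_one_iff.1 ⟨x, by rw [← h, pow_two]⟩
  have := S.card_mod
  omega

theorem σ_surj : Function.Surjective S.σ := Finite.surjective_of_injective S.σ.injective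

theorem σ_ne {k : F} (hk : k ≠ 0) : S.σ k ≠ 0 := (map_ne_zero _).2 hk

theorem σ_fix {x : F} (h : S.σ x = x) : x = 0 ∨ x = 1 ∨ x = -1 := by
  have := S.σσ x
  rw [h, h] at this
  have h2 : x * ((x - 1) * (x + 1)) = 0 := by linear_combination -this
  rcases mul_eq_zero.1 h2 with h | h
  · exact Or.inl h
  · rcases mul_eq_zero.1 h with h | h
    · exact Or.inr (Or.inl (sub_eq_zero.1 h))
    · exact Or.inr (Or.inr (eq_neg_of_add_eq_zero_left h))

theorem χ2_eq_one {t : F} (h : t * S.σ t = 1) : t = 1 ∨ t = -1 := by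
  have h1 := congrArg S.σ h
  rw [map_mul, S.σσ, map_one] at h1
  have h2 : t ^ 2 = 1 := by linear_combination h1 - t ^ 2 * h
  exact sq_eq_one_iff.1 h2

theorem χ3_eq_one {t : F} (h : t ^ 2 * S.σ t = 1) : t = 1 := by
  have h1 := congrArg S.σ h
  rw [map_mul, map_pow, S.σσ, map_one] at h1
  linear_combination (t ^ 2 * S.σ t + 1) * h - t * h1

theorem χ3_inj {s t : F} (h : s ^ 2 * S.σ s = t ^ 2 * S.σ t) : s = t := by
  by_cases ht : t = 0
  · subst ht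
    simpa using h
  · have := S.σ_ne ht
    have h1 := S.χ3_eq_one (t := s / t) (by rw [map_div₀]; field_simp; exact h)
    exact (div_eq_one_iff_eq ht).1 h1

theorem χ3_surj (c : F) : ∃ t, t ^ 2 * S.σ t = c :=
  Finite.surjective_of_injective (f := fun t => t ^ 2 * S.σ t) (fun _ _ h => S.χ3_inj h) c

@[simp] theorem u_zero : S.u 0 0 0 = 1 := by
  have := S.u_mul 0 0 0 0 0 0
  simpa using this

theorem u_eq_iff {a b c x y z : F} : S.u a b c = S.u x y z ↔ a = x ∧ b = y ∧ c = z :=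
  ⟨S.u_inj, by rintro ⟨rfl, rfl, rfl⟩; rfl⟩

theorem u_eq_one {a b c : F} : S.u a b c = 1 ↔ a = 0 ∧ b = 0 ∧ c = 0 := by rw [← S.u_zero, u_eq_iff]

theorem u_inv (a b c : F) :
    (S.u a b c)⁻¹ = S.u (-a) (-b - a * S.σ a) (-c - a * b + a ^ 2 * S.σ a) := by
  have := S.charP
  rw [inv_eq_iff_mul_eq_one, S.u_mul, u_eq_one, map_neg]
  refine ⟨?_, ?_, ?_⟩ <;> grind

theorem u_cube (a b c : F) : S.u a b c ^ 3 = S.u 0 0 (-(a ^ 2 * S.σ a)) := by
  have := S.charP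
  rw [pow_succ, pow_two, S.u_mul, S.u_mul, u_eq_iff]
  refine ⟨?_, ?_, ?_⟩ <;> grind

theorem u_pow_nine (a b c : F) : S.u a b c ^ 9 = 1 := by
  rw [show 9 = 3 * 3 from rfl, pow_mul, u_cube, u_cube]
  simp

theorem u_cube_eq_one {a b c : F} : S.u a b c ^ 3 = 1 ↔ a = 0 := by
  rw [u_cube, u_eq_one]
  simp

theorem h_mul_u (t : Fˣ) (a b c : F) :
    S.h t * S.u a b c = S.u (t * a) (t * S.σ t * b) (t ^ 2 * S.σ t * c) * S.h t := by
  rw [← S.h_u, inv_mul_cancel_right]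

theorem w_inv : S.w⁻¹ = S.w := inv_eq_of_mul_eq_one_right S.w_mul_w

theorem h_mul_w (t : Fˣ) : S.h t * S.w = S.w * S.h t⁻¹ := by
  rw [← inv_inv (S.h t), ← map_inv, ← S.w_h, inv_mul_cancel_right]

theorem w_mul_h (t : Fˣ) : S.w * S.h t = S.h t⁻¹ * S.w := by rw [h_mul_w, inv_inv]

theorem h_inj : Function.Injective S.h := by
  intro s t h
  have := S.h_u s 1 0 0
  rw [h, S.h_u, u_eq_iff] at this
  exact Units.ext (by simpa using this.1.symm)

theorem h_eq_one {t : Fˣ} : S.h t = 1 ↔ t = 1 := by rw [← map_one S.h, S.h_inj.eq_iff]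

/-! ### subgroups -/

def U : Subgroup G where
  carrier := {g | ∃ a b c, g = S.u a b c}
  mul_mem' := by
    rintro _ _ ⟨a, b, c, rfl⟩ ⟨x, y, z, rfl⟩
    exact ⟨_, _, _, S.u_mul a b c x y z⟩
  one_mem' := ⟨0, 0, 0, S.u_zero.symm⟩
  inv_mem' := by
    rintro _ ⟨a, b, c, rfl⟩
    exact ⟨_, _, _, S.u_inv a b c⟩

theorem y_mul (b c y z : F) : S.u 0 b c * S.u 0 y z = S.u 0 (b + y) (c + z) := by
  rw [S.u_mul]; simp

theorem y_inv (b c : F) : (S.u 0 b c)⁻¹ = S.u 0 (-b) (-c) := by rw [S.u_inv]; simp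

def Y : Subgroup G where
  carrier := {g | ∃ b c, g = S.u 0 b c}
  mul_mem' := by
    rintro _ _ ⟨b, c, rfl⟩ ⟨y, z, rfl⟩
    exact ⟨_, _, S.y_mul b c y z⟩
  one_mem' := ⟨0, 0, S.u_zero.symm⟩
  inv_mem' := by
    rintro _ ⟨b, c, rfl⟩
    exact ⟨_, _, S.y_inv b c⟩

def Z : Subgroup G where
  carrier := {g | ∃ c, g = S.u 0 0 c}
  mul_mem' := by
    rintro _ _ ⟨b, rfl⟩ ⟨d, rfl⟩
    exact ⟨b + d, by rw [S.y_mul]; simp⟩
  one_mem' := ⟨0, S.u_zero.symm⟩
  inv_mem' := by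
    rintro _ ⟨b, rfl⟩
    exact ⟨-b, by rw [S.y_inv]; simp⟩

def B : Subgroup G where
  carrier := {g | ∃ a b c k, g = S.u a b c * S.h k}
  mul_mem' := by
    rintro _ _ ⟨a, b, c, k, rfl⟩ ⟨x, y, z, l, rfl⟩
    exact ⟨_, _, _, k * l, by
      rw [mul_assoc, ← mul_assoc (S.h k), h_mul_u, ← mul_assoc, ← mul_assoc, S.u_mul, mul_assoc,
        ← map_mul]⟩
  one_mem' := ⟨0, 0, 0, 1, by simp⟩
  inv_mem' := by
    rintro _ ⟨a, b, c, k, rfl⟩
    exact ⟨_, _, _, k⁻¹, by rw [mul_inv_rev, ← map_inv, u_inv, h_mul_u]⟩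

theorem mem_U {g : G} : g ∈ S.U ↔ ∃ a b c, g = S.u a b c := Iff.rfl
theorem mem_Y {g : G} : g ∈ S.Y ↔ ∃ b c, g = S.u 0 b c := Iff.rfl
theorem mem_Z {g : G} : g ∈ S.Z ↔ ∃ c, g = S.u 0 0 c := Iff.rfl
theorem mem_B {g : G} : g ∈ S.B ↔ ∃ a b c k, g = S.u a b c * S.h k := Iff.rfl
theorem u_mem (a b c : F) : S.u a b c ∈ S.U := ⟨a, b, c, rfl⟩
theorem y_mem (b c : F) : S.u 0 b c ∈ S.Y := ⟨b, c, rfl⟩
theorem z_mem (c : F) : S.u 0 0 c ∈ S.Z := ⟨c, rfl⟩
theorem u_mem_B (a b c : F) : S.u a b c ∈ S.B := ⟨a, b, c, 1, by simp⟩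
theorem h_mem_B (k : Fˣ) : S.h k ∈ S.B := ⟨0, 0, 0, k, by simp⟩
theorem Z_le_Y : S.Z ≤ S.Y := by
  rintro _ ⟨c, rfl⟩
  exact S.y_mem 0 c
theorem Y_le_U : S.Y ≤ S.U := by
  rintro _ ⟨b, c, rfl⟩
  exact S.u_mem 0 b c
theorem Z_le_U : S.Z ≤ S.U := S.Z_le_Y.trans S.Y_le_U
theorem U_le_B : S.U ≤ S.B := by
  rintro _ ⟨a, b, c, rfl⟩
  exact S.u_mem_B a b c

theorem mem_comp_U {H : Type*} [Group H] (e : H ≃* G) {g : H} : g ∈ (S.comp e).U ↔ e g ∈ S.U :=
  exists₃_congr fun _ _ _ => e.eq_symm_apply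

theorem mem_comp_H {H : Type*} [Group H] (e : H ≃* G) {g : H} :
    g ∈ (S.comp e).h.range ↔ e g ∈ S.h.range :=
  exists_congr fun _ => e.symm_apply_eq

theorem mem_comp_B {H : Type*} [Group H] (e : H ≃* G) {g : H} : g ∈ (S.comp e).B ↔ e g ∈ S.B :=
  exists₄_congr fun _ _ _ _ => by rw [← e.eq_symm_apply, map_mul]; rfl

theorem z_comm (a b c d : F) : S.u 0 0 d * S.u a b c = S.u a b c * S.u 0 0 d := by
  rw [S.u_mul, S.u_mul]; simp [add_comm]

theorem w_not_mem : S.w ∉ S.B := fun h => by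
  obtain ⟨a, b, c, k, h1⟩ := S.B.mul_mem (S.B.mul_mem h (S.u_mem_B 1 0 0)) (S.B.inv_mem h)
  exact one_ne_zero (S.disj _ _ _ _ _ _ _ h1).1

theorem card_U : Nat.card S.U = Fintype.card F ^ 3 := by
  have : Nat.card (F × F × F) = Nat.card S.U :=
    Nat.card_congr (Equiv.ofBijective (fun p => ⟨S.u p.1 p.2.1 p.2.2, S.u_mem _ _ _⟩) ⟨fun p r h => by
      have := S.u_inj (Subtype.ext_iff.1 h : S.u p.1 p.2.1 p.2.2 = S.u r.1 r.2.1 r.2.2)
      exact Prod.ext this.1 (Prod.ext this.2.1 this.2.2),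
      by rintro ⟨_, a, b, c, rfl⟩; exact ⟨(a, b, c), rfl⟩⟩)
  rw [← this]
  simp [pow_three]

theorem card_Y : Nat.card S.Y = Fintype.card F ^ 2 := by
  have : Nat.card (F × F) = Nat.card S.Y :=
    Nat.card_congr (Equiv.ofBijective (fun p => ⟨S.u 0 p.1 p.2, S.y_mem _ _⟩) ⟨fun p r h => by
      have := S.u_inj (Subtype.ext_iff.1 h : S.u 0 p.1 p.2 = S.u 0 r.1 r.2)
      exact Prod.ext this.2.1 this.2.2, by rintro ⟨_, a, b, rfl⟩; exact ⟨(a, b), rfl⟩⟩)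
  rw [← this]
  simp [pow_two]

theorem card_Z : Nat.card S.Z = Fintype.card F := by
  have : Nat.card F = Nat.card S.Z :=
    Nat.card_congr (Equiv.ofBijective (fun p => ⟨S.u 0 0 p, S.z_mem _⟩) ⟨fun p r h =>
      (S.u_inj (Subtype.ext_iff.1 h : S.u 0 0 p = S.u 0 0 r)).2.2,
      by rintro ⟨_, b, rfl⟩; exact ⟨b, rfl⟩⟩)
  rw [← this]
  simp

/-! ### the action -/

def Ω : Type _ := G ⧸ S.B

instance instMulActionΩ : MulAction G S.Ω := inferInstanceAs (MulAction G (G ⧸ S.B))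

def inf : S.Ω := ((1 : G) : G ⧸ S.B)
def pt (x y z : F) : S.Ω := ((S.u x y z * S.w : G) : G ⧸ S.B)

theorem smul_inf (g : G) : g • S.inf = ((g : G) : G ⧸ S.B) := by
  show ((g * 1 : G) : G ⧸ S.B) = _
  rw [mul_one]

theorem smul_inf_eq {g k : G} : g • S.inf = k • S.inf ↔ g⁻¹ * k ∈ S.B := by
  rw [smul_inf, smul_inf]; exact QuotientGroup.eq

theorem fix_inf {g : G} : g • S.inf = S.inf ↔ g ∈ S.B := by
  have := S.smul_inf_eq (g := g) (k := 1)
  rwa [one_smul, mul_one, inv_mem_iff] at this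

theorem stab_inf : MulAction.stabilizer G S.inf = S.B := by
  ext g; exact S.fix_inf

theorem pt_eq (x y z : F) : S.pt x y z = (S.u x y z * S.w) • S.inf := (S.smul_inf _).symm

theorem exists_smul_inf (ω : S.Ω) : ∃ g : G, g • S.inf = ω := by
  obtain ⟨g, rfl⟩ := QuotientGroup.mk_surjective (ω : G ⧸ S.B)
  exact ⟨g, S.smul_inf g⟩

theorem Ω_cases (ω : S.Ω) : ω = S.inf ∨ ∃ x y z, ω = S.pt x y z := by
  obtain ⟨g, rfl⟩ := S.exists_smul_inf ω
  rcases S.bruhat g with h | ⟨a, b, c, k, x, y, z, rfl⟩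
  · exact Or.inl (S.fix_inf.2 h)
  · refine Or.inr ⟨a, b, c, ?_⟩
    rw [pt_eq, mul_smul _ (_ * _), S.fix_inf.2 ⟨x, y, z, k, rfl⟩]

theorem pt_ne_inf (x y z : F) : S.pt x y z ≠ S.inf := by
  rw [pt_eq, Ne, fix_inf, mul_mem_cancel_left (S.u_mem_B x y z)]
  exact S.w_not_mem

theorem pt_inj {x y z x' y' z' : F} : S.pt x y z = S.pt x' y' z' ↔ x = x' ∧ y = y' ∧ z = z' := by
  refine ⟨fun h => ?_, by rintro ⟨rfl, rfl, rfl⟩; rfl⟩
  rw [pt_eq, pt_eq, smul_inf_eq] at h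
  obtain ⟨a, b, c, e⟩ := S.U.mul_mem (S.U.inv_mem (S.u_mem x y z)) (S.u_mem x' y' z')
  obtain ⟨a', b', c', k, h⟩ := h
  have := S.disj a b c a' b' c' k (by rw [← h, ← e, w_inv]; simp [mul_assoc, w_inv])
  rw [← S.u_eq_one, ← e, inv_mul_eq_one] at this
  exact S.u_inj this

theorem exists_pt {ω : S.Ω} (h : ω ≠ S.inf) : ∃ x y z, ω = S.pt x y z := (S.Ω_cases ω).resolve_left h

theorem card_Ω : Nat.card S.Ω = Fintype.card F ^ 3 + 1 := by
  have : Nat.card (Option (F × F × F)) = Nat.card S.Ω :=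
    Nat.card_congr (Equiv.ofBijective (fun p => p.elim S.inf fun p => S.pt p.1 p.2.1 p.2.2) ⟨by
      rintro (_ | ⟨x, y, z⟩) (_ | ⟨x', y', z'⟩) h
      · rfl
      · exact absurd h.symm (S.pt_ne_inf _ _ _)
      · exact absurd h (S.pt_ne_inf _ _ _)
      · obtain ⟨rfl, rfl, rfl⟩ := S.pt_inj.1 h
        rfl, fun ω => by
      rcases S.Ω_cases ω with rfl | ⟨x, y, z, rfl⟩
      exacts [⟨none, rfl⟩, ⟨some (x, y, z), rfl⟩]⟩)
  rw [← this]
  simp [pow_three]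

instance instFiniteΩ : Finite S.Ω := Nat.finite_of_card_ne_zero (by rw [card_Ω]; omega)

theorem u_inf (a b c : F) : S.u a b c • S.inf = S.inf := S.fix_inf.2 (S.u_mem_B a b c)

theorem h_inf (t : Fˣ) : S.h t • S.inf = S.inf := S.fix_inf.2 (S.h_mem_B t)

theorem u_pt (a b c x y z : F) : S.u a b c • S.pt x y z =
    S.pt (a + x) (b + y - a * S.σ x) (c + z - b * x + a * x * S.σ x - a ^ 2 * S.σ x) := by
  rw [pt_eq, pt_eq, ← mul_smul, ← mul_assoc, S.u_mul]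

theorem u_zero_pt (a b c : F) : S.u a b c • S.pt 0 0 0 = S.pt a b c := by rw [u_pt]; simp

theorem h_pt (t : Fˣ) (x y z : F) :
    S.h t • S.pt x y z = S.pt (t * x) (t * S.σ t * y) (t ^ 2 * S.σ t * z) := by
  rw [pt_eq, pt_eq, ← mul_smul, ← mul_assoc, h_mul_u, mul_assoc, h_mul_w, ← mul_assoc, mul_smul,
    h_inf]

theorem h_zero (t : Fˣ) : S.h t • S.pt 0 0 0 = S.pt 0 0 0 := by rw [h_pt]; simp

theorem w_inf : S.w • S.inf = S.pt 0 0 0 := by rw [pt_eq]; simp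

theorem w_zero : S.w • S.pt 0 0 0 = S.inf := by rw [← w_inf, ← mul_smul, S.w_mul_w, one_smul]

theorem fix1 {g : G} (h1 : g • S.inf = S.inf) : ∃ a b c t, g = S.u a b c * S.h t := S.fix_inf.1 h1

theorem fix2 {g : G} (h1 : g • S.inf = S.inf) (h2 : g • S.pt 0 0 0 = S.pt 0 0 0) :
    ∃ t, g = S.h t := by
  obtain ⟨a, b, c, t, rfl⟩ := S.fix1 h1
  rw [mul_smul, h_zero, u_zero_pt, pt_inj] at h2
  obtain ⟨rfl, rfl, rfl⟩ := h2
  exact ⟨t, by simp⟩

theorem h_fix_pt {t : Fˣ} {x y z : F} (h : S.h t • S.pt x y z = S.pt x y z) :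
    t = 1 ∨ (x = 0 ∧ z = 0 ∧ (t = -1 ∨ y = 0)) := by
  rw [h_pt, pt_inj] at h
  by_cases ht : t = 1
  · exact Or.inl ht
  right
  have h1 : (t : F) ≠ 1 := fun h => ht (Units.ext h)
  have h2 : (t : F) ^ 2 * S.σ t ≠ 1 := fun h => h1 (S.χ3_eq_one h)
  refine ⟨?_, ?_, ?_⟩
  · by_contra hx
    exact h1 (mul_right_cancel₀ hx (by rw [h.1, one_mul]))
  · by_contra hy
    exact h2 (mul_right_cancel₀ hy (by rw [h.2.2, one_mul]))
  · by_cases hy : y = 0
    · exact Or.inr hy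
    · exact Or.inl (Units.ext ((S.χ2_eq_one (mul_right_cancel₀ hy
        (by rw [h.2.1, one_mul]))).resolve_left h1))

theorem exists_smul2 {α β : S.Ω} (h : α ≠ β) : ∃ g : G, g • S.inf = α ∧ g • S.pt 0 0 0 = β := by
  obtain ⟨g, rfl⟩ := S.exists_smul_inf α
  obtain ⟨x, y, z, hxy⟩ := S.exists_pt (ω := g⁻¹ • β) (by
    intro h1; exact h (by rw [← h1, smul_inv_smul]))
  refine ⟨g * S.u x y z, by rw [mul_smul, u_inf], ?_⟩
  rw [mul_smul, u_zero_pt, ← eq_inv_smul_iff, hxy]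

instance instIsPretransitive : MulAction.IsPretransitive G S.Ω where
  exists_smul_eq α β := by
    obtain ⟨g, rfl⟩ := S.exists_smul_inf α
    obtain ⟨k, rfl⟩ := S.exists_smul_inf β
    exact ⟨k * g⁻¹, by simp [mul_smul]⟩

theorem two_trans {α β γ δ : S.Ω} (h : α ≠ β) (h' : γ ≠ δ) : ∃ g : G, g • α = γ ∧ g • β = δ := by
  obtain ⟨g, rfl, rfl⟩ := S.exists_smul2 h
  obtain ⟨k, rfl, rfl⟩ := S.exists_smul2 h'
  exact ⟨k * g⁻¹, by simp [mul_smul], by simp [mul_smul]⟩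

theorem eq_one_of_fix {g : G} (h : ∀ ω : S.Ω, g • ω = ω) : g = 1 := by
  obtain ⟨t, rfl⟩ := S.fix2 (h _) (h _)
  rcases S.h_fix_pt (h (S.pt 1 0 0)) with rfl | h
  · exact map_one _
  · exact absurd h.1 one_ne_zero

instance instFaithful : FaithfulSMul G S.Ω where
  eq_of_smul_eq_smul {g k} h := by
    have : k⁻¹ * g = 1 := S.eq_one_of_fix fun ω => by rw [mul_smul, h, inv_smul_smul]
    exact (inv_mul_eq_one.1 this).symm

include S in
theorem finite : Finite G := Finite.of_injective _ (MulAction.toPerm_injective (α := G) (β := S.Ω))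

theorem range_h :
    S.h.range = MulAction.stabilizer G S.inf ⊓ MulAction.stabilizer G (S.pt 0 0 0) := by
  ext g
  constructor
  · rintro ⟨t, rfl⟩
    exact ⟨S.h_inf t, S.h_zero t⟩
  · rintro ⟨h1, h2⟩
    obtain ⟨t, rfl⟩ := S.fix2 h1 h2
    exact ⟨t, rfl⟩

theorem card_T : Nat.card S.h.range = Fintype.card F - 1 := by
  classical
  rw [← Nat.card_congr (MonoidHom.ofInjective S.h_inj).toEquiv, Nat.card_eq_fintype_card,
    Fintype.card_units]

theorem uh_inj {a b c x y z : F} {s t : Fˣ} (h : S.u a b c * S.h s = S.u x y z * S.h t) :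
    a = x ∧ b = y ∧ c = z ∧ s = t := by
  have h1 := congrArg (· • S.pt 0 0 0) h
  simp only [mul_smul, h_zero, u_zero_pt, pt_inj] at h1
  obtain ⟨rfl, rfl, rfl⟩ := h1
  exact ⟨rfl, rfl, rfl, S.h_inj (mul_left_cancel h)⟩

theorem card_B : Nat.card S.B = Fintype.card F ^ 3 * (Fintype.card F - 1) := by
  classical
  have : Nat.card ((F × F × F) × Fˣ) = Nat.card S.B :=
    Nat.card_congr (Equiv.ofBijective (fun p => ⟨S.u p.1.1 p.1.2.1 p.1.2.2 * S.h p.2,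
      ⟨_, _, _, _, rfl⟩⟩) ⟨fun p r h => by
      have := S.uh_inj (congrArg Subtype.val h)
      exact Prod.ext (Prod.ext this.1 (Prod.ext this.2.1 this.2.2.1)) this.2.2.2, by
        rintro ⟨g, a, b, c, t, rfl⟩
        exact ⟨((a, b, c), t), rfl⟩⟩)
  rw [← this]
  simp [pow_three, Fintype.card_units]

theorem index_stab (ω : S.Ω) : (MulAction.stabilizer G ω).index = Fintype.card F ^ 3 + 1 := by
  rw [MulAction.index_stabilizer_of_transitive, card_Ω]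

include S in
theorem card_G :
    Nat.card G = Fintype.card F ^ 3 * (Fintype.card F ^ 3 + 1) * (Fintype.card F - 1) := by
  rw [← (MulAction.stabilizer G S.inf).card_mul_index, index_stab, stab_inf, card_B]
  ring

theorem card_stab (ω : S.Ω) :
    Nat.card (MulAction.stabilizer G ω) = Fintype.card F ^ 3 * (Fintype.card F - 1) := by
  have h1 := (MulAction.stabilizer G ω).card_mul_index
  rw [S.card_G, index_stab] at h1
  apply Nat.eq_of_mul_eq_mul_right (m := Fintype.card F ^ 3 + 1) (by positivity)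
  rw [h1]
  ring

end ReeS

end H5.Ree
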