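import Cfsg.Agent.H5.RE9

/-! Small Ree groups: consequences of the description of the tori. -/

namespace H5.Ree
open scoped Pointwise MatrixGroups
open H5.Sz H5.Sz.SzS

theorem orderOf_sq_eq {G : Type*} [Group G] {t : G} {i : ℕ} (hi : Odd i) :
    orderOf (t * t) = i ↔ orderOf t = i ∨ orderOf t = 2 * i := by
  rw [← pow_two, orderOf_pow' t two_ne_zero]
  rcases Nat.even_or_odd (orderOf t) with h | h
  · rw [Nat.gcd_eq_right h.two_dvd]
    obtain ⟨k, hk⟩ := h
    obtain ⟨j, rfl⟩ := hi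
    omega
  · rw [Nat.coprime_two_right.2 h]
    obtain ⟨k, hk⟩ := h
    omega

theorem Tor.card_two_mul {G : Type*} [Group G] [Finite G] {A C : Subgroup G} (h : Tor A C)
    (hc : ∀ x ∈ C, ∀ y ∈ C, x * y = y * x) (hsq : ∀ c ∈ C, c * c ∈ A) {e i : ℕ}
    (he : Nat.card C = (e + 1) * Nat.card A) (h1 : 1 < i) (hi : i ∣ Nat.card A) :
    Nat.card {g : G // orderOf g = 2 * i} = (Subgroup.normalizer (A : Set G)).index * (e * Nat.totient i) := by
  have hA : A ≠ ⊥ := by rintro rfl; simp at hi; omega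
  obtain ⟨⟨z, hz⟩, h4⟩ := Subgroup.ne_bot_iff_exists_ne_one.1 hA
  have hle := h.le_C hz fun e => h4 (Subtype.ext e)
  have h5 : ¬ 2 * i ∣ 2 := fun e => by have := Nat.le_of_dvd two_pos e; omega
  rw [h.card_cent (fun c hc => h.odd_of_dvd (Subgroup.orderOf_dvd_natCard _ (hsq c hc))) (orderOf · = 2 * i)
    (fun c x hx => by rwa [orderOf_conj']) (fun x hx => h.conj_two (hx ▸ h5) (hx ▸ Nat.mul_dvd_mul_left 2 hi))
    (fun x hx e => h5 (hx ▸ orderOf_dvd_of_pow_eq_one ((pow_two x).trans e))) hA]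
  congr 1
  have h2 := h.card_sq hc hsq hle he (orderOf · = i)
  have h3 : Nat.card {t : C // orderOf (t : G) = i} = Nat.card {t : A // orderOf (t : G) = i} :=
    Nat.card_congr ⟨fun t => ⟨⟨t.1, h.mem _ t.1.2 (h.odd_of_dvd (t.2.dvd.trans hi))⟩, t.2⟩,
      fun t => ⟨⟨t.1, hle t.1.2⟩, t.2⟩,
      fun _ => rfl, fun _ => rfl⟩
  have h6 : {t : C | orderOf (t * t : G) = i} = {t : C | orderOf (t : G) = i} ∪ {t : C | orderOf (t : G) = 2 * i} :=
    Set.ext fun t => orderOf_sq_eq (h.odd_of_dvd hi)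
  have h7 := Set.ncard_union_eq (s := {t : C | orderOf (t : G) = i}) (t := {t : C | orderOf (t : G) = 2 * i})
    (Set.disjoint_left.2 fun t (a : _ = _) (b : _ = _) => by omega)
  rw [← h6] at h7
  rw [card_order_cyclic h.cyc hi] at h2 h3
  have h8 : Nat.card {t : C // orderOf (t * t : G) = i} = Nat.card {t : C // orderOf (t : G) = i} +
    Nat.card {t : C // orderOf (t : G) = 2 * i} := h7
  rw [h2, h3] at h8
  linarith

namespace ReeS
variable {F : Type*} [Field F] [Fintype F] {m : ℕ} {G : Type*} [Group G] (S : ReeS F m G)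

theorem card_A1' : Nat.card S.A1 = (3 ^ (2 * m + 1) - 1) / 2 := by rw [← S.hF, ← S.card_A1]; simp

theorem card_A' : Nat.card S.A = (3 ^ (2 * m + 1) + 1) / 4 := by rw [← S.hF, S.card_A, n4]

/-- the orders of the four cyclic Hall subgroups -/
def IsTorOrd (m k : ℕ) : Prop := k = (3 ^ (2 * m + 1) - 1) / 2 ∨ k = (3 ^ (2 * m + 1) + 1) / 4 ∨
  k = 3 ^ (2 * m + 1) - 3 ^ (m + 1) + 1 ∨ k = 3 ^ (2 * m + 1) + 3 ^ (m + 1) + 1

include S in
theorem exists_tor (hm : 1 ≤ m) {p : ℕ} (hp : p.Prime) (h2 : p ≠ 2) (h3 : p ≠ 3) (hd : p ∣ Nat.card G) :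
    ∃ A C : Subgroup G, Tor A C ∧ p ∣ Nat.card A ∧ IsTorOrd m (Nat.card A) := by
  rw [S.card_G'', hp.dvd_mul] at hd
  rcases hd with h | h
  · rcases S.prime_cases hp h with h | h | h | h
    · exact absurd h h2
    · exact absurd h h3
    · exact ⟨_, _, S.tor_A1, h, Or.inl S.card_A1'⟩
    · exact ⟨_, _, S.tor_A, S.card_A ▸ h, Or.inr (Or.inl S.card_A')⟩
  · obtain ⟨A, B, hA, hB, a, b, -, -, e, -⟩ := S.tori hm
    rw [← e, hp.dvd_mul] at h
    rcases h with h | h
    · exact ⟨_, _, hA, h, Or.inr (Or.inr (Or.inl a))⟩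
    · exact ⟨_, _, hB, h, Or.inr (Or.inr (Or.inr b))⟩

include S in
theorem isCyclic_of_pgroup (hm : 1 ≤ m) {p : ℕ} [hp : Fact p.Prime] (h2 : p ≠ 2) (h3 : p ≠ 3) {X : Subgroup G}
    (hX : IsPGroup p X) : IsCyclic X := by
  have := S.finite
  rcases hX.card_eq_or_dvd with h | h
  · rw [Subgroup.eq_bot_of_card_eq X h]; infer_instance
  · obtain ⟨A, C, hT, hd, -⟩ := S.exists_tor hm hp.out h2 h3 (h.trans X.card_subgroup_dvd_card)
    exact hT.isCyclic_pgroup hd hX

include S in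
theorem index_tor {A B : Subgroup G} (h1 : Nat.card (Subgroup.normalizer (A : Set G)) = 6 * Nat.card A)
    (h2 : Nat.card A * Nat.card B = Qn F) : 6 * (Subgroup.normalizer (A : Set G)).index =
      Fintype.card F ^ 3 * (Fintype.card F ^ 2 - 1) * Nat.card B := by
  have := S.finite
  have h := (Subgroup.normalizer (A : Set G)).index_mul_card
  rw [h1, S.card_G'', Mn, ← h2] at h
  rw [show Fintype.card F ^ 2 - 1 = (Fintype.card F + 1) * (Fintype.card F - 1) from Nat.sq_sub_sq _ 1]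
  exact Nat.eq_of_mul_eq_mul_right (Nat.card_pos (α := A)) (by linear_combination h)

include S in
theorem card_order_H (hm : 1 ≤ m) {i : ℕ} (h1 : 2 < i) (hi : i ∣ Fintype.card F - 1) :
    2 * Nat.card {g : G // orderOf g = i} = Nat.totient i * Fintype.card F ^ 3 * (Fintype.card F ^ 3 + 1) := by
  have := S.finite
  have h5 : ¬ i ∣ 2 := fun e => by have := Nat.le_of_dvd two_pos e; omega
  rw [S.tor_A1.card_cent (fun c hc => S.tor_A1.odd_of_dvd (Subgroup.orderOf_dvd_natCard _ (S.sq_mem_A1 hc)))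
    (orderOf · = i) (fun c x hx => by rwa [orderOf_conj']) (fun x hx => S.tor_A1.conj_two (hx ▸ h5) (by rwa [hx, card_A1]))
    (fun x hx e => h5 (hx ▸ orderOf_dvd_of_pow_eq_one ((pow_two x).trans e))) (S.A1_ne hm),
    card_order_cyclic S.isCyclic_H (by rwa [card_T]), ← mul_assoc, S.index_A1 hm]
  ring

end ReeS

end H5.Ree
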