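import Cfsg.Agent.H5.SZ11
import Cfsg.Prelude.Def_KGroupFacts

/-! Suzuki groups: automorphisms and Schur multiplier. -/

namespace H5.Sz
open scoped Pointwise commutatorElement

theorem card_ringAut_two {F : Type*} [Field F] [Fintype F] {n : ℕ} (h : Fintype.card F = 2 ^ n) :
    Nat.card (F ≃+* F) = n := by
  have : CharP F 2 := charP_of_card_eq_prime_pow h
  letI := ZMod.algebra F 2
  have h1 : Module.finrank (ZMod 2) F = n := by
    have := Module.card_eq_pow_finrank (K := ZMod 2) (V := F)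
    rw [h, ZMod.card] at this
    exact (Nat.pow_right_injective le_rfl this).symm
  rw [← h1, ← IsGalois.card_aut_eq_finrank]
  exact Nat.card_congr
    { toFun := fun f => AlgEquiv.ofRingEquiv (f := f) fun x =>
        RingHom.congr_fun (Subsingleton.elim (f.toRingHom.comp (algebraMap (ZMod 2) F)) _) x
      invFun := fun f => f.toRingEquiv
      left_inv := fun _ => rfl
      right_inv := fun _ => rfl }

theorem biadd_trivial {F Γ : Type*} [Field F] [CharP F 2] [Group Γ] (β : F → F → Γ) (ν : F → F)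
    (h1 : ∀ a a' d, β (a + a') d = β a d * β a' d) (h2 : ∀ a d d', β a (d + d') = β a d * β a d')
    (h3 : ∀ t a d, t ≠ 0 → β (t * a) (ν t * d) = β a d) (h4 : ∀ t, t ≠ 0 → ν t ≠ 0)
    {x : F} (hx : x ≠ 0) (hx1 : x + 1 ≠ 0) (hc : (ν (x + 1))⁻¹ + ((ν x)⁻¹ + 1) ≠ 0) (a d : F) :
    β a d = 1 := by
  have e0 : ∀ a, β a 0 = 1 := fun a => by simpa using h2 a 0 0
  have e1 : ∀ t d, t ≠ 0 → β t d = β 1 ((ν t)⁻¹ * d) := by
    intro t d ht
    rw [← h3 t 1 _ ht, mul_one, mul_inv_cancel_left₀ (h4 t ht)]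
  have e2 : ∀ d, β 1 d = 1 := by
    intro d
    obtain ⟨e, rfl⟩ : ∃ e, d = ((ν (x + 1))⁻¹ + ((ν x)⁻¹ + 1)) * e :=
      ⟨_, (mul_inv_cancel_left₀ hc d).symm⟩
    have := h1 x 1 e
    rw [e1 _ _ hx1, e1 _ _ hx, ← h2] at this
    rw [add_mul, h2, this, add_mul, one_mul, ← h2, CharTwo.add_self_eq_zero, e0]
  by_cases ha : a = 0
  · simpa [ha] using h1 0 0 d
  · rw [e1 _ _ ha, e2]

namespace SzS
variable {F : Type*} [Field F] [Fintype F] {m : ℕ} {G : Type*} [Group G] (S : SzS F m G)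

/-! ### automorphisms -/

theorem aut_smul_P (β : MulAut G) (ω : S.Ω) : ∃ ω', β • S.P ω = S.P ω' := by
  have := S.finite
  obtain ⟨ω', h⟩ := S.le_P_of_isPGroup (Q := β • S.P ω) ((S.isPGroup_P ω).map _)
  refine ⟨ω', Subgroup.eq_of_le_of_card_ge h ?_⟩
  rw [card_P, ← S.card_P ω]
  exact (Nat.card_congr (Subgroup.equivSMul β _).toEquiv).le

theorem aut_P_smul {β : MulAut G} {ω ω' : S.Ω} (h : β • S.P ω = S.P ω') (g : G) :
    β • S.P (g • ω) = S.P (β g • ω') := by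
  rw [P_smul, P_smul, ← h, smul_smul, smul_smul]
  congr 1
  ext x
  simp

noncomputable def fdAut (φ : F ≃+* F) : MulAut G :=
  haveI := S.finite
  MulEquiv.ofBijective (S.subHom S dvd_rfl φ.toRingHom)
    (Finite.injective_iff_bijective.1 (S.subHom_inj S dvd_rfl _))

theorem ρ_fdAut (φ : F ≃+* F) (g : G) : S.ρ (S.fdAut φ g) = (S.ρ g).map φ :=
  S.ρ_subHom S dvd_rfl φ.toRingHom g

noncomputable def fd : (F ≃+* F) →* MulAut G := MonoidHom.mk' S.fdAut (by
  intro φ ψ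
  ext g
  apply S.inj
  rw [MulAut.mul_apply, ρ_fdAut, ρ_fdAut, ρ_fdAut, Matrix.map_map]
  rfl)

theorem fd_u (φ : F ≃+* F) (a b : F) : S.fd φ (S.u a b) = S.u (φ a) (φ b) :=
  S.subHom_u S dvd_rfl φ.toRingHom a b

theorem fd_w (φ : F ≃+* F) : S.fd φ S.w = S.w := S.subHom_w S dvd_rfl φ.toRingHom

theorem fd_P_inf (φ : F ≃+* F) : S.fd φ • S.P S.inf = S.P S.inf := by
  rw [P_inf]
  ext g
  rw [Subgroup.mem_pointwise_smul_iff_inv_smul_mem, ← map_inv]
  constructor
  · rintro ⟨a, b, h⟩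
    refine ⟨φ a, φ b, ?_⟩
    rw [← fd_u, ← h, map_inv]
    simp
  · rintro ⟨a, b, rfl⟩
    exact ⟨_, _, S.fd_u _ a b⟩

theorem fd_P_zero (φ : F ≃+* F) : S.fd φ • S.P (S.pt 0 0) = S.P (S.pt 0 0) := by
  rw [← w_inf, S.aut_P_smul (S.fd_P_inf φ), fd_w]

theorem aut_u {β : MulAut G} (h1 : β • S.P S.inf = S.P S.inf) (a b : F) : ∃ c d, β (S.u a b) = S.u c d := by
  rw [P_inf] at h1
  have := Subgroup.smul_mem_pointwise_smul _ β _ (S.u_mem a b)
  rwa [h1] at this

theorem aut_z {β : MulAut G} (h1 : β • S.P S.inf = S.P S.inf) (b : F) : ∃ d, β (S.u 0 b) = S.u 0 d := by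
  obtain ⟨c, d, h⟩ := S.aut_u h1 0 b
  have : S.u c d ^ 2 = 1 := by rw [← h, ← map_pow, S.u_sq_eq_one.2 rfl, map_one]
  obtain rfl := S.u_sq_eq_one.1 this
  exact ⟨d, h⟩

theorem aut_h {β : MulAut G} (h1 : β • S.P S.inf = S.P S.inf) (h2 : β • S.P (S.pt 0 0) = S.P (S.pt 0 0))
    (t : Fˣ) : ∃ s, β (S.h t) = S.h s := by
  have e1 := S.aut_P_smul h1 (S.h t)
  have e2 := S.aut_P_smul h2 (S.h t)
  rw [h_inf, h1] at e1
  rw [h_zero, h2] at e2
  exact S.fix2 (S.P_injective e1).symm (S.P_injective e2).symm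

theorem aut_eq_one {β : MulAut G} (h1 : β • S.P S.inf = S.P S.inf)
    (h2 : β • S.P (S.pt 0 0) = S.P (S.pt 0 0)) (h3 : ∀ b, β (S.u 0 b) = S.u 0 b) : β = 1 := by
  have := S.charP
  have hh : ∀ t, β (S.h t) = S.h t := by
    intro t
    obtain ⟨s, hs⟩ := S.aut_h h1 h2 t
    have := congrArg β (S.h_u t 0 1)
    rw [map_mul, map_mul, map_inv, hs, h3, mul_zero, h3, h_u] at this
    rw [hs, Units.ext (S.θ_mul_inj (by simpa using (S.u_inj this).2) : (s : F) = t)]
  obtain ⟨f, hf⟩ : ∃ f, β (S.u 1 0) = S.u 1 f := by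
    obtain ⟨c, d, h⟩ := S.aut_u h1 1 0
    have := congrArg (· ^ 2) h
    simp only [← map_pow, u_sq, h3] at this
    obtain rfl := S.θ_mul_inj (s := 1) (t := c) (by simpa [mul_comm] using (S.u_inj this).2)
    exact ⟨d, h⟩
  have hu : ∀ a, β (S.u a 0) = S.u a (a * S.θ a * f) := by
    intro a
    by_cases ha : a = 0
    · simp [ha]
    have := congrArg β (S.h_u (Units.mk0 a ha) 1 0)
    rw [map_mul, map_mul, map_inv, hh, hf, h_u] at this
    simpa using this.symm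
  have hf0 : f = 0 := by
    obtain ⟨x, h0, h1⟩ := S.exists_ne01
    have e : S.u 1 0 * S.u x 0 = S.u (1 + x) 0 * S.u 0 x := by rw [u_mul, u_mul]; simp
    have := congrArg β e
    rw [map_mul, map_mul, hu, hu, hu, h3, u_mul, u_mul] at this
    have e2 := (S.u_inj this).2
    simp only [map_add, map_one] at e2
    have e3 : x + S.θ x ≠ 0 := fun h => (S.θ_fix (x := x) (by grind)).elim h0 h1
    have : (x + S.θ x) * f = 0 := by grind
    exact (mul_eq_zero.1 this).resolve_left e3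
  have hU : ∀ a b, β (S.u a b) = S.u a b := by
    intro a b
    have e : S.u a b = S.u a 0 * S.u 0 b := by rw [u_mul]; simp
    rw [e, map_mul, hu, h3, hf0, mul_zero]
  have hP : ∀ ω, β • S.P ω = S.P ω := by
    intro ω
    rcases S.Ω_cases ω with rfl | ⟨x, y, rfl⟩
    · exact h1
    · have := S.aut_P_smul h2 (S.u x y)
      rw [hU, u_pt] at this
      simpa using this
  ext g
  refine S.instFaithful.eq_of_smul_eq_smul fun ω => S.P_injective ?_
  rw [← S.aut_P_smul (hP ω), hP]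
  rfl

theorem aut_eq_fd {β : MulAut G} (h1 : β • S.P S.inf = S.P S.inf)
    (h2 : β • S.P (S.pt 0 0) = S.P (S.pt 0 0)) (h3 : β (S.u 0 1) = S.u 0 1) : ∃ φ, β = S.fd φ := by
  choose f hf using S.aut_z h1
  have f1 : f 1 = 1 := (S.u_inj ((hf 1).symm.trans h3)).2
  have f0 : f 0 = 0 := (S.u_eq_one.1 (by rw [← hf, u_zero, map_one])).2
  let φ : F →+* F :=
    { toFun := f
      map_one' := f1
      map_zero' := f0
      map_add' := fun a b => by
        have := congrArg β (S.z_mul a b)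
        rw [map_mul, hf, hf, hf, z_mul] at this
        exact (S.u_inj this).2.symm
      map_mul' := fun a b => by
        by_cases ha : a = 0
        · simp [ha, f0]
        obtain ⟨t, ht⟩ := S.exists_conj_z ha
        obtain ⟨s, hs⟩ := S.aut_h h1 h2 t
        have key : ∀ b, f (a * b) = s * S.θ s * f b := by
          intro b
          have := congrArg β (ht b)
          rw [map_mul, map_mul, map_inv, hs, hf, hf, h_u] at this
          exact (S.u_inj this).2.symm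
        have := key 1
        rw [mul_one, f1, mul_one] at this
        rw [key, this] }
  let ψ := RingEquiv.ofBijective φ (Finite.injective_iff_bijective.1 φ.injective)
  refine ⟨ψ, ?_⟩
  rw [← mul_one (S.fd ψ), ← inv_mul_eq_iff_eq_mul, ← map_inv]
  apply S.aut_eq_one
  · rw [mul_smul, h1, fd_P_inf]
  · rw [mul_smul, h2, fd_P_zero]
  · intro b
    rw [MulAut.mul_apply, hf, fd_u, map_zero]
    congr 1
    exact ψ.symm_apply_apply b

theorem exists_conj_fd (α : MulAut G) : ∃ g φ, α = MulAut.conj g * S.fd φ := by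
  obtain ⟨ω1, h1⟩ := S.aut_smul_P α S.inf
  obtain ⟨ω2, h2⟩ := S.aut_smul_P α (S.pt 0 0)
  have hne : ω1 ≠ ω2 := by
    rintro rfl
    exact S.pt_ne_inf 0 0 (S.P_injective (MulAction.injective α (h2.trans h1.symm)))
  obtain ⟨k, rfl, rfl⟩ := S.exists_smul2 hne
  have e1 : (MulAut.conj k⁻¹ * α) • S.P S.inf = S.P S.inf := by
    rw [mul_smul, h1, ← P_smul, inv_smul_smul]
  have e2 : (MulAut.conj k⁻¹ * α) • S.P (S.pt 0 0) = S.P (S.pt 0 0) := by
    rw [mul_smul, h2, ← P_smul, inv_smul_smul]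
  obtain ⟨b, hb⟩ := S.aut_z e1 1
  have hb0 : b ≠ 0 := by
    rintro rfl
    rw [u_zero, map_eq_one_iff _ (MulEquiv.injective _), u_eq_one] at hb
    exact one_ne_zero hb.2
  obtain ⟨t, ht⟩ := S.exists_conj_z (inv_ne_zero hb0)
  obtain ⟨φ, h⟩ := S.aut_eq_fd (β := MulAut.conj (S.h t) * (MulAut.conj k⁻¹ * α))
    (by rw [mul_smul, e1, ← P_smul, h_inf]) (by rw [mul_smul, e2, ← P_smul, h_zero])
    (by rw [MulAut.mul_apply, hb, MulAut.conj_apply, ht, inv_mul_cancel₀ hb0])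
  refine ⟨k * (S.h t)⁻¹, φ, ?_⟩
  rw [← h, map_mul, map_inv, map_inv]
  group

theorem fd_inner {φ : F ≃+* F} {g : G} (h : MulAut.conj g = S.fd φ) : φ = 1 := by
  have h1 := S.fd_P_inf φ
  rw [← h, ← P_smul] at h1
  obtain ⟨c, d, t, rfl⟩ := S.fix1 (S.P_injective h1)
  have key : ∀ a, φ a = t * a := by
    intro a
    have := S.fd_u φ a 0
    rw [← h, MulAut.conj_apply, conj_u] at this
    exact (S.u_inj this).1.symm
  have ht := key 1
  rw [map_one, mul_one] at ht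
  ext a
  rw [key, ← ht, one_mul]
  rfl

include S in
theorem card_out : Nat.card (Cfsg.Out G) = 2 * m + 1 := by
  rw [← card_ringAut_two S.hF]
  symm
  refine Nat.card_congr (Equiv.ofBijective ((QuotientGroup.mk' (Cfsg.Inn G)).comp S.fd) ⟨?_, ?_⟩)
  · rw [injective_iff_map_eq_one]
    intro φ h
    obtain ⟨g, hg⟩ := (QuotientGroup.eq_one_iff _).1 h
    exact S.fd_inner hg
  · rintro ⟨α⟩
    obtain ⟨g, φ, rfl⟩ := S.exists_conj_fd α
    refine ⟨φ, QuotientGroup.eq_iff_div_mem.2 ⟨g⁻¹, ?_⟩⟩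
    rw [div_eq_mul_inv, map_inv]
    group

/-! ### central extensions -/

section
variable {Γ : Type*} [Group Γ] {σ : Γ →* G} (hs : Function.Surjective σ) (hc : σ.ker ≤ Subgroup.center Γ)

omit S in
include hc in
theorem conj_congr {a b : Γ} (h : σ a = σ b) (x : Γ) : a * x * a⁻¹ = b * x * b⁻¹ := by
  have := Subgroup.mem_center_iff.1 (hc (show b⁻¹ * a ∈ σ.ker by simp [h])) x
  calc a * x * a⁻¹ = b * (b⁻¹ * a * x) * a⁻¹ := by group
    _ = _ := by rw [← this]; group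

omit S in
include hc in
theorem comm_congr {a b a' b' : Γ} (h : σ a = σ a') (h' : σ b = σ b') : ⁅a, b⁆ = ⁅a', b'⁆ := by
  rw [commutatorElement_def, conj_congr hc h, ← commutatorElement_def, ← commutatorElement_inv,
    commutatorElement_def, conj_congr hc h', ← commutatorElement_def, commutatorElement_inv]

omit S in
theorem comm_mul_left {a a' b : Γ} (h : a * ⁅a', b⁆ = ⁅a', b⁆ * a) : ⁅a * a', b⁆ = ⁅a', b⁆ * ⁅a, b⁆ := by
  calc ⁅a * a', b⁆ = a * ⁅a', b⁆ * (b * a⁻¹ * b⁻¹) := by simp only [commutatorElement_def]; group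
    _ = _ := by rw [h]; simp only [commutatorElement_def]; group

omit S in
theorem comm_mul_right {a b b' : Γ} (h : b * ⁅a, b'⁆ = ⁅a, b'⁆ * b) : ⁅a, b * b'⁆ = ⁅a, b⁆ * ⁅a, b'⁆ := by
  calc ⁅a, b * b'⁆ = ⁅a, b⁆ * (b * ⁅a, b'⁆) * b⁻¹ := by simp only [commutatorElement_def]; group
    _ = _ := by rw [h]; group

include S in
theorem exists_gen : ∃ x : F, x ≠ 0 ∧ x + 1 ≠ 0 ∧ (x + 1)⁻¹ + (x⁻¹ + 1) ≠ 0 := by
  have := S.charP
  obtain ⟨x, h0, h1⟩ := S.exists_ne01
  have h2 : x + 1 ≠ 0 := fun h => h1 (by grind)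
  refine ⟨x, h0, h2, fun h => ?_⟩
  field_simp at h
  have h3 : x ^ 3 = 1 := by grind
  have h4 : 3 ∣ Nat.card G := by
    have := orderOf_eq_prime (p := 3) (x := S.h (Units.mk0 x h0))
      (by rw [← map_pow, ← map_one S.h]; congr 1; exact Units.ext h3)
      (fun h => h1 (congrArg Units.val (S.h_inj (h.trans (map_one S.h).symm))))
    exact this ▸ orderOf_dvd_natCard _
  exact S.not_three_dvd h4

theorem exists_gen2 (hm : 2 ≤ m) : ∃ x : F, x ≠ 0 ∧ x + 1 ≠ 0 ∧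
    ((x + 1) * S.θ (x + 1))⁻¹ + ((x * S.θ x)⁻¹ + 1) ≠ 0 := by
  classical
  have := S.charP
  obtain ⟨x, hx⟩ : ∃ x : F, x ^ 8 ≠ x := by
    by_contra h
    push Not at h
    have h1 : (Finset.univ : Finset F) ⊆ (Polynomial.X ^ 8 - Polynomial.X : Polynomial F).roots.toFinset := by
      intro x _
      simp [FiniteField.X_pow_card_sub_X_ne_zero F (show 1 < 8 by norm_num), h x]
    have h2 := (Finset.card_le_card h1).trans ((Multiset.toFinset_card_le _).trans (Polynomial.card_roots' _))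
    rw [FiniteField.X_pow_card_sub_X_natDegree_eq F (show 1 < 8 by norm_num), Finset.card_univ, S.hF] at h2
    have : 2 ^ 5 ≤ 2 ^ (2 * m + 1) := Nat.pow_le_pow_right (by norm_num) (by omega)
    omega
  have h0 : x ≠ 0 := by rintro rfl; simp at hx
  have h1 : x + 1 ≠ 0 := fun h => hx (by grind)
  refine ⟨x, h0, h1, fun h => hx ?_⟩
  have h2 : S.θ x ≠ 0 := (map_ne_zero _).2 h0
  have h3 : S.θ x + 1 ≠ 0 := by simpa using (map_ne_zero S.θ).2 h1
  rw [map_add, map_one] at h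
  field_simp at h
  have e1 : 1 + x + S.θ x + x * S.θ x * (1 + x) * (1 + S.θ x) = 0 := by grind
  have e2 := congrArg S.θ e1
  simp only [map_add, map_mul, map_one, θθ, map_zero] at e2
  generalize S.θ x = y at *
  have e3 : (x ^ 2 + x + 1) * y = (x + 1) ^ 3 := by grind
  have e4 : (x + 1) * (x * (x ^ 6 + x ^ 5 + x ^ 4 + x ^ 3 + x ^ 2 + x + 1)) = 0 := by grind
  have e5 := (mul_eq_zero.1 e4).resolve_left h1
  grind

include hs hc in
theorem commutator_comap (hm : 2 ≤ m) {z : Γ} (hz : σ z = 1) (h : z ∈ ⁅S.U.comap σ, S.U.comap σ⁆) : z = 1 := by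
  have := S.charP
  choose l hl using hs
  have hcen : ∀ {z : Γ}, σ z = 1 → ∀ x, x * z = z * x := fun hz x => Subgroup.mem_center_iff.1 (hc hz) x
  have hconj : ∀ g a b : Γ, g * ⁅a, b⁆ * g⁻¹ = ⁅g * a * g⁻¹, g * b * g⁻¹⁆ := by
    intro g a b
    simp only [commutatorElement_def]
    group
  have hfix : ∀ {z : Γ}, σ z = 1 → ∀ g, g * z * g⁻¹ = z := fun hz g => by
    rw [hcen hz, mul_inv_cancel_right]
  have hker : ∀ a b d, σ ⁅l (S.u a b), l (S.u 0 d)⁆ = 1 := by
    intro a b d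
    rw [map_commutatorElement, hl, hl, commutatorElement_eq_one_iff_mul_comm, z_comm]
  -- step 1
  obtain ⟨x, hx0, hx1, hx⟩ := S.exists_gen
  have s1 : ∀ b d, ⁅l (S.u 0 b), l (S.u 0 d)⁆ = 1 := by
    refine biadd_trivial (fun b d => ⁅l (S.u 0 b), l (S.u 0 d)⁆) id ?_ ?_ ?_ (fun _ h => h) hx0 hx1 hx
    · intro a a' d
      rw [add_comm, ← comm_mul_left (hcen (hker _ _ _) _)]
      exact comm_congr hc (by rw [map_mul, hl, hl, hl, z_mul]) rfl
    · intro a d d'
      rw [← comm_mul_right (hcen (hker _ _ _) _)]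
      exact comm_congr hc rfl (by rw [map_mul, hl, hl, hl, z_mul])
    · intro s a d hs
      obtain ⟨t, ht⟩ := S.exists_conj_z hs
      rw [← hfix (hker 0 a d) (l (S.h t)), hconj]
      exact comm_congr hc (by simp [hl, ht]) (by simp [hl, ht])
  -- step 3
  obtain ⟨y, hy0, hy1, hy⟩ := S.exists_gen2 hm
  have s3 : ∀ a d, ⁅l (S.u a 0), l (S.u 0 d)⁆ = 1 := by
    have hadd : ∀ a b d, ⁅l (S.u a b), l (S.u 0 d)⁆ = ⁅l (S.u a 0), l (S.u 0 d)⁆ := by
      intro a b d
      rw [← mul_one ⁅l (S.u a 0), _⁆, ← s1 b d, ← comm_mul_left (hcen (hker _ _ _) _)]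
      exact comm_congr hc (by rw [map_mul, hl, hl, hl, u_mul]; simp) rfl
    refine biadd_trivial (fun a d => ⁅l (S.u a 0), l (S.u 0 d)⁆) (fun t => t * S.θ t) ?_ ?_ ?_
      (fun _ h => by simpa using h) hy0 hy1 hy
    · intro a a' d
      rw [add_comm, ← comm_mul_left (hcen (hker _ _ _) _), ← hadd _ (0 + 0 + S.θ a' * a)]
      exact comm_congr hc (by rw [map_mul, hl, hl, hl, u_mul]) rfl
    · intro a d d'
      rw [← comm_mul_right (hcen (hker _ _ _) _)]
      exact comm_congr hc rfl (by rw [map_mul, hl, hl, hl, z_mul])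
    · intro t a d ht
      rw [← hfix (hker a 0 d) (l (S.h (Units.mk0 t ht))), hconj]
      exact comm_congr hc (by simp [hl, h_u]) (by simp [hl, h_u])
  have hZ : ∀ {g k : Γ} {d}, σ g ∈ S.U → σ k = S.u 0 d → g * k = k * g := by
    rintro g k d ⟨a, b, hg⟩ hk
    rw [← commutatorElement_eq_one_iff_mul_comm, comm_congr hc (a' := l (S.u 0 b) * l (S.u a 0))
      (b' := l (S.u 0 d)) (by rw [map_mul, hl, hl, hg, u_mul]; simp) (by rw [hl, hk]),
      comm_mul_left (hcen (hker _ _ _) _), s1, s3, mul_one]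
  -- step 2: the canonical lift of `Z`
  obtain ⟨t0, ht0⟩ := S.exists_unit_ne
  have hν : (t0 : F) * S.θ t0 + 1 ≠ 0 := fun h => ht0 (S.θ_mul_eq_one (by grind))
  let s : F → Γ := fun b => ⁅l (S.h t0), l (S.u 0 (b / (t0 * S.θ t0 + 1)))⁆
  have hs1 : ∀ b, σ (s b) = S.u 0 b := by
    intro b
    rw [map_commutatorElement, hl, hl, commutatorElement_def, h_u, u_inv, u_mul, u_eq_iff]
    simp
    field_simp
  have hs2 : ∀ b d, s (b + d) = s b * s d := by
    intro b d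
    rw [← comm_mul_right (hZ (by rw [hl]; exact S.u_mem _ _) (hs1 d))]
    exact comm_congr hc rfl (by rw [map_mul, hl, hl, hl, z_mul, add_div])
  have hs3 : ∀ (t : Fˣ) b, l (S.h t) * s b * (l (S.h t))⁻¹ = s (t * S.θ t * b) := by
    intro t b
    rw [hconj]
    refine comm_congr hc ?_ (by simp [hl, h_u, mul_div_assoc])
    simp only [map_mul, map_inv, hl]
    rw [← map_mul, mul_comm t, map_mul, mul_inv_cancel_right]
  have hs0 : s 0 = 1 := by simpa using hs2 0 0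
  have hσ : ∀ a c, σ ⁅l (S.u a 0), l (S.u c 0)⁆ = S.u 0 (S.θ a * c + S.θ c * a) := by
    intro a c
    rw [map_commutatorElement, hl, hl, commutatorElement_def, u_comm]
  have hU : ∀ a b, σ (l (S.u a b)) ∈ S.U := fun a b => by rw [hl]; exact S.u_mem _ _
  have hred : ∀ {g k : Γ} {a b c d}, σ g = S.u a b → σ k = S.u c d → ⁅g, k⁆ = ⁅l (S.u a 0), l (S.u c 0)⁆ := by
    intro g k a b c d hg hk
    rw [comm_congr hc (a' := l (S.u a 0) * l (S.u 0 b)) (b' := l (S.u c 0) * l (S.u 0 d))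
      (by rw [map_mul, hl, hl, hg, u_mul]; simp) (by rw [map_mul, hl, hl, hk, u_mul]; simp)]
    have e1 := hZ (hU a 0) (hl (S.u 0 d))
    have e2 := hZ (hU c 0) (hl (S.u 0 b))
    have e3 := hZ (hU 0 b) (hl (S.u 0 d))
    have e4 := hZ (hU c 0) (hl (S.u 0 d))
    generalize l (S.u a 0) = A at *
    generalize l (S.u c 0) = C at *
    generalize l (S.u 0 b) = B at *
    generalize l (S.u 0 d) = D at *
    simp only [commutatorElement_def]
    calc A * B * (C * D) * (A * B)⁻¹ * (C * D)⁻¹ = A * (B * C) * (D * B⁻¹) * A⁻¹ * D⁻¹ * C⁻¹ := by group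
      _ = A * C * (B * D) * B⁻¹ * A⁻¹ * D⁻¹ * C⁻¹ := by rw [← e2]; group
      _ = A * C * (A⁻¹ * (A * D)) * A⁻¹ * D⁻¹ * C⁻¹ := by rw [e3]; group
      _ = _ := by rw [e1]; group
  have s4 : ∀ a c, ⁅l (S.u a 0), l (S.u c 0)⁆ * (s (S.θ a * c + S.θ c * a))⁻¹ = 1 := by
    have hk : ∀ a c, σ (⁅l (S.u a 0), l (S.u c 0)⁆ * (s (S.θ a * c + S.θ c * a))⁻¹) = 1 := by
      intro a c
      rw [map_mul, map_inv, hσ, hs1, mul_inv_cancel]
    refine biadd_trivial (fun a c => ⁅l (S.u a 0), l (S.u c 0)⁆ * (s (S.θ a * c + S.θ c * a))⁻¹) id ?_ ?_ ?_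
      (fun _ h => h) hx0 hx1 hx
    · intro a a' c
      have e1 : ⁅l (S.u (a + a') 0), l (S.u c 0)⁆ = ⁅l (S.u a 0), l (S.u c 0)⁆ * ⁅l (S.u a' 0), l (S.u c 0)⁆ := by
        rw [← comm_mul_left (hZ (hU a' 0) (hσ a c)), add_comm]
        exact (hred (by rw [map_mul, hl, hl, u_mul]) (hl _)).symm
      rw [e1, show S.θ (a + a') * c + S.θ c * (a + a') = (S.θ a * c + S.θ c * a) + (S.θ a' * c + S.θ c * a') by
        rw [map_add]; ring, hs2, mul_assoc _ (s _)⁻¹, hcen (hk a' c)]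
      group
    · intro a c c'
      have e1 : ⁅l (S.u a 0), l (S.u (c + c') 0)⁆ = ⁅l (S.u a 0), l (S.u c 0)⁆ * ⁅l (S.u a 0), l (S.u c' 0)⁆ := by
        rw [← comm_mul_right (hZ (hU c 0) (hσ a c'))]
        exact (hred (hl _) (by rw [map_mul, hl, hl, u_mul])).symm
      rw [e1, show S.θ a * (c + c') + S.θ (c + c') * a = (S.θ a * c + S.θ c * a) + (S.θ a * c' + S.θ c' * a) by
        rw [map_add]; ring, hs2, mul_assoc _ (s _)⁻¹, hcen (hk a c')]
      group
    · intro t a c ht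
      rw [← hfix (hk a c) (l (S.h (Units.mk0 t ht)))]
      have e1 := hs3 (Units.mk0 t ht) (S.θ a * c + S.θ c * a)
      have e2 : l (S.h (Units.mk0 t ht)) * ⁅l (S.u a 0), l (S.u c 0)⁆ * (l (S.h (Units.mk0 t ht)))⁻¹ =
          ⁅l (S.u (t * a) 0), l (S.u (t * c) 0)⁆ := by
        rw [hconj]
        exact comm_congr hc (by simp [hl, h_u]) (by simp [hl, h_u])
      simp only [id, Units.val_mk0] at e1 ⊢
      rw [show S.θ (t * a) * (t * c) + S.θ (t * c) * (t * a) = t * S.θ t * (S.θ a * c + S.θ c * a) by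
        simp only [map_mul]; ring, ← e1, ← e2]
      group
  let Z0 : Subgroup Γ :=
    { carrier := Set.range s
      mul_mem' := by
        rintro _ _ ⟨b, rfl⟩ ⟨d, rfl⟩
        exact ⟨_, hs2 b d⟩
      one_mem' := ⟨0, hs0⟩
      inv_mem' := by
        rintro _ ⟨b, rfl⟩
        exact ⟨b, eq_inv_of_mul_eq_one_left (by rw [← hs2, CharTwo.add_self_eq_zero, hs0])⟩ }
  have hle : ⁅S.U.comap σ, S.U.comap σ⁆ ≤ Z0 := by
    rw [Subgroup.commutator_le]
    rintro g ⟨a, b, hg⟩ k ⟨c, d, hk⟩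
    rw [hred hg hk]
    exact ⟨_, (mul_inv_eq_one.1 (s4 a c)).symm⟩
  obtain ⟨b, rfl⟩ := hle h
  rw [hs1, u_eq_one] at hz
  rw [hz.2, hs0]

end

omit S in
theorem pow_index_mem {Γ : Type*} [Group Γ] [Finite G] {σ : Γ →* G} (hσ : Cfsg.IsStemExtension σ)
    (H : Subgroup G) {z : Γ} (hz : σ z = 1) : z ^ H.index ∈ ⁅H.comap σ, H.comap σ⁆ := by
  have h1 : (H.comap σ).index = H.index := Subgroup.index_comap_of_surjective _ hσ.1
  have : (H.comap σ).FiniteIndex := ⟨h1 ▸ Subgroup.index_ne_zero_of_finite⟩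
  have h2 := MonoidHom.transfer_eq_pow (Abelianization.of (G := H.comap σ)) z fun k g _ => by
    rw [mul_assoc, ← Subgroup.mem_center_iff.1 (pow_mem (hσ.2.1 hz) k), inv_mul_cancel_left]
  rw [Abelianization.commutator_subset_ker _ (hσ.2.2 hz), eq_comm, ← MonoidHom.mem_ker,
    Abelianization.ker_of] at h2
  rw [← h1, ← Subgroup.map_subtype_commutator]
  exact ⟨_, h2, rfl⟩

include S in
theorem stem_trivial (hm : 2 ≤ m) {Γ : Type*} [Group Γ] [Finite Γ] {σ : Γ →* G}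
    (hσ : Cfsg.IsStemExtension σ) {z : Γ} (hz : σ z = 1) : z = 1 := by
  have := S.finite
  rw [← orderOf_eq_one_iff]
  by_contra h
  obtain ⟨p, hp, hd⟩ := Nat.exists_prime_and_dvd h
  have := Fact.mk hp
  obtain ⟨Q⟩ : Nonempty (Sylow p G) := inferInstance
  refine Q.not_dvd_index (hd.trans (orderOf_dvd_of_pow_eq_one ?_))
  have h1 := pow_index_mem hσ (Q : Subgroup G) hz
  by_cases h2 : p = 2
  · subst h2
    obtain ⟨S', hS⟩ := S.exists_S_sylow Q
    exact S'.commutator_comap hσ.1 hσ.2.1 hm (by simp [hz]) (hS ▸ h1)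
  · obtain ⟨c, hc⟩ := (Subgroup.isCyclic_iff_exists_zpowers_eq_top _).1 (S.isCyclic_of_odd h2 Q.isPGroup')
    obtain ⟨c, rfl⟩ := hσ.1 c
    rw [← Subgroup.mem_bot]
    refine Subgroup.commutator_le.2 ?_ h1
    intro a ha b hb
    rw [Subgroup.mem_comap, ← hc] at ha hb
    obtain ⟨i, hi⟩ := ha
    obtain ⟨j, hj⟩ := hb
    rw [Subgroup.mem_bot, comm_congr hσ.2.1 (a' := c ^ i) (b' := c ^ j) (by simp [← hi]) (by simp [← hj]),
      commutatorElement_eq_one_iff_commute]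
    exact Commute.zpow_zpow_self c i j

include S in
theorem multiplier_trivial (hm : 2 ≤ m) : Cfsg.HasCyclicSchurMultiplier G 1 := by
  have := S.finite
  refine ⟨⟨G, inferInstance, inferInstance, MonoidHom.id G, ⟨Function.surjective_id, by simp, by simp⟩, ?_⟩, ?_⟩
  · have : Unique (MonoidHom.id G).ker := by
      rw [MonoidHom.ker_id]; infer_instance
    exact ⟨MulEquiv.ofUnique⟩
  · intro Γ _ _ σ hσ
    exact ⟨1, fun z => ⟨1, Subtype.ext (S.stem_trivial hm hσ z.2).symm⟩⟩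

end SzS

end H5.Sz
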