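import Cfsg.Agent.H5.RE10
import Cfsg.Agent.H5.SZ12

/-! Small Ree groups: two generators, solvable subgroups, automorphisms. -/

namespace H5.Ree
open scoped Pointwise MatrixGroups commutatorElement
open H5.Sz H5.Sz.SzS

theorem exists_abelian_normal' {G : Type*} [Group G] {M : Subgroup G} (hM : Group.IsSolvable M) (h1 : M ≠ ⊥) :
    ∃ A : Subgroup G, A ≠ ⊥ ∧ (A = M ∨ A ≤ ⁅M, M⁆) ∧ M ≤ Subgroup.normalizer (A : Set G) ∧
      ∀ a ∈ A, ∀ b ∈ A, a * b = b * a := by
  classical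
  have hex : ∃ n, derivedSeries M n = ⊥ := hM.solvable
  have h0 : Nat.find hex ≠ 0 := by
    intro h
    have := Nat.find_spec hex
    rw [h, derivedSeries_zero] at this
    apply h1
    rw [← M.range_subtype, MonoidHom.range_eq_map, this, Subgroup.map_bot]
  obtain ⟨n, hn⟩ := Nat.exists_eq_succ_of_ne_zero h0
  have h2 : derivedSeries M n ≠ ⊥ := Nat.find_min hex (by omega)
  have h3 : derivedSeries M (n + 1) = ⊥ := by
    have := Nat.find_spec hex
    rwa [hn] at this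
  refine ⟨(derivedSeries M n).map M.subtype, ?_, ?_, ?_, ?_⟩
  · rwa [Ne, Subgroup.map_eq_bot_iff_of_injective _ M.subtype_injective]
  · rcases n with _ | n
    · left; rw [derivedSeries_zero, ← MonoidHom.range_eq_map, Subgroup.range_subtype]
    · right
      rw [derivedSeries_succ, Subgroup.map_commutator]
      exact Subgroup.commutator_mono (Subgroup.map_subtype_le _) (Subgroup.map_subtype_le _)
  · have := Subgroup.le_normalizer_map (H := derivedSeries M n) M.subtype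
    rwa [Subgroup.normalizer_eq_top, ← MonoidHom.range_eq_map, Subgroup.range_subtype] at this
  · rintro _ ⟨a, ha, rfl⟩ _ ⟨b, hb, rfl⟩
    have := Subgroup.commutator_mem_commutator ha hb
    rw [← derivedSeries_succ, h3, Subgroup.mem_bot, commutatorElement_eq_one_iff_mul_comm] at this
    rw [← map_mul, this, map_mul]

theorem card_ringAut_three {F : Type*} [Field F] [Fintype F] {n : ℕ} (h : Fintype.card F = 3 ^ n) :
    Nat.card (F ≃+* F) = n := by
  have := Fact.mk Nat.prime_three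
  have : CharP F 3 := charP_of_card_eq_prime_pow h
  letI := ZMod.algebra F 3
  have h1 : Module.finrank (ZMod 3) F = n := by
    have := Module.card_eq_pow_finrank (K := ZMod 3) (V := F)
    rw [h, ZMod.card] at this
    exact (Nat.pow_right_injective (by norm_num) this).symm
  rw [← h1, ← IsGalois.card_aut_eq_finrank]
  exact Nat.card_congr
    { toFun := fun f => AlgEquiv.ofRingEquiv (f := f) fun x =>
        RingHom.congr_fun (Subsingleton.elim (f.toRingHom.comp (algebraMap (ZMod 3) F)) _) x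
      invFun := fun f => f.toRingEquiv
      left_inv := fun _ => rfl
      right_inv := fun _ => rfl }

namespace ReeS
variable {F : Type*} [Field F] [Fintype F] {m : ℕ} {G : Type*} [Group G] (S : ReeS F m G)

theorem exists_σ_ne (hm : 1 ≤ m) : ∃ x : F, x ≠ 0 ∧ S.σ x ≠ x := by
  classical
  by_contra h
  push Not at h
  have h1 : (Finset.univ : Finset F) ⊆ {0, 1, -1} := fun x _ => by
    by_cases e : x = 0
    · simp [e]
    · simpa using S.σ_fix (h x e)
  have h2 := (Finset.card_le_card h1).trans Finset.card_le_three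
  have := S.big hm
  rw [Finset.card_univ] at h2
  omega

theorem χ2_surj (b : F) {c : F} (hc : c ≠ 0) : b = 0 ∨ ∃ t : Fˣ, b = t * S.σ t * c ∨ b = -(t * S.σ t * c) := by
  by_cases hb : b = 0
  · exact Or.inl hb
  right
  obtain ⟨s, hs⟩ | ⟨s, hs⟩ := S.sq_or (Units.mk0 b hb * (Units.mk0 c hc)⁻¹) <;>
    obtain ⟨_, t, -, ht⟩ := S.exists_diag s <;>
    have := congrArg Units.val hs <;> simp only [Units.val_mul, Units.val_mk0, Units.val_inv_eq_inv_val,
      Units.val_neg, Units.val_pow_eq_pow_val, mul_inv_eq_iff_eq_mul₀ hc] at this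
  · exact ⟨t, Or.inl (by rw [ht, this])⟩
  · exact ⟨t, Or.inr (by rw [ht, this, neg_mul])⟩

theorem χ3_surj' {c : F} (hc : c ≠ 0) : ∃ t : Fˣ, (t : F) ^ 2 * S.σ t = c := by
  obtain ⟨t, rfl⟩ := S.χ3_surj c
  exact ⟨Units.mk0 t (by rintro rfl; simp at hc), rfl⟩

theorem u_split (a b c : F) : S.u a b c = S.u a 0 0 * (S.u 0 b 0 * S.u 0 0 c) := by
  rw [y_mul, S.u_mul]; simp

theorem U_le_of (hm : 1 ≤ m) {M : Subgroup G} (hH : ∀ t, S.h t ∈ M) {a b c : F} (ha : a ≠ 0)
    (h : S.u a b c ∈ M) : S.U ≤ M := by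
  have hc : ∀ t : Fˣ, ∀ {a b c}, S.u a b c ∈ M → S.u (t * a) (t * S.σ t * b) (t ^ 2 * S.σ t * c) ∈ M :=
    fun t a b c h => S.h_u t a b c ▸ mul_mem (mul_mem (hH t) h) (inv_mem (hH t))
  have hZ : ∀ z, S.u 0 0 z ∈ M := fun z => by
    by_cases hz : z = 0
    · rw [hz, u_zero]; exact one_mem M
    have h1 : -(a ^ 2 * S.σ a) ≠ 0 := by simpa using ha
    obtain ⟨t, ht⟩ := S.χ3_surj' (div_ne_zero hz h1)
    have := hc t (S.u_cube a b c ▸ pow_mem h 3)
    rwa [ht, div_mul_cancel₀ _ h1, mul_zero, mul_zero] at this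
  have hY : ∀ y, S.u 0 y 0 ∈ M := fun y => by
    obtain ⟨x, h0, hx⟩ := S.exists_σ_ne hm
    have h1 := hc (Units.mk0 x h0) h
    have h2 := mul_mem (mul_mem h h1) (inv_mem (mul_mem h1 h))
    rw [S.u_mul, S.u_mul, u_inv, S.u_mul, u_split, add_comm a, add_neg_cancel, u_zero, one_mul,
      mul_mem_cancel_right (hZ _)] at h2
    have h3 : S.u 0 (a * S.σ a * (x - S.σ x)) 0 ∈ M := by
      convert h2 using 2
      simp only [Units.val_mk0, map_mul, map_neg, map_add]
      ring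
    rcases S.χ2_surj y (mul_ne_zero (mul_ne_zero ha (S.σ_ne ha)) (sub_ne_zero.2 hx.symm)) with rfl | ⟨t, rfl | rfl⟩
    · exact hZ 0
    · simpa using hc t h3
    · simpa [y_inv] using inv_mem (hc t h3)
  rintro _ ⟨x, y, z, rfl⟩
  rw [u_split, mul_mem_cancel_right (mul_mem (hY _) (hZ _))] at h ⊢
  by_cases hx : x = 0
  · rw [hx]; exact hZ 0
  · simpa [ha] using hc (Units.mk0 (x / a) (div_ne_zero hx ha)) h

theorem eq_top_of {M : Subgroup G} (hH : ∀ t, S.h t ∈ M) (hU : S.U ≤ M) (hw : S.w ∈ M) : M = ⊤ := by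
  rw [eq_top_iff]
  intro g _
  rcases S.bruhat g with ⟨a, b, c, k, rfl⟩ | ⟨a, b, c, k, x, y, z, rfl⟩
  · exact mul_mem (hU (S.u_mem _ _ _)) (hH _)
  · exact mul_mem (mul_mem (hU (S.u_mem _ _ _)) hw) (mul_mem (hU (S.u_mem _ _ _)) (hH _))

include S in
theorem two_generated (hm : 1 ≤ m) : ∃ a b : G, Subgroup.closure ({a, b} : Set G) = ⊤ := by
  obtain ⟨k, hk⟩ := IsCyclic.exists_generator (α := Fˣ)
  refine ⟨S.h k, S.u 1 0 0 * S.w, ?_⟩
  set M := Subgroup.closure ({S.h k, S.u 1 0 0 * S.w} : Set G)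
  have h1 : S.u 1 0 0 * S.w ∈ M := Subgroup.subset_closure (by simp)
  have hH : ∀ t, S.h t ∈ M := fun t => by
    obtain ⟨n, rfl⟩ := hk t
    rw [map_zpow]
    exact zpow_mem (Subgroup.subset_closure (by simp)) n
  have h2 := mul_mem (mul_mem (hH (-1)) h1) (inv_mem (mul_mem h1 (hH (-1))))
  rw [← ReeS.a, mul_assoc _ S.w, ← a_mul_w, ← mul_assoc, ← mul_assoc, a_mul_u, mul_inv_rev, mul_inv_rev,
    mul_assoc, mul_inv_cancel_left, mul_assoc, mul_inv_cancel_left, u_inv, S.u_mul] at h2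
  have hU := S.U_le_of hm hH (by have := S.charP; grind) h2
  exact S.eq_top_of hH hU ((mul_mem_cancel_left (hU (S.u_mem _ _ _))).1 h1)

/-! ### solvable subgroups -/

/-- contained in the normaliser of a Sylow 2- or 3-subgroup or of one of the cyclic Hall subgroups -/
def LocN (m : ℕ) (M : Subgroup G) : Prop := ∃ A : Subgroup G, M ≤ Subgroup.normalizer (A : Set G) ∧
  ((∃ P : Sylow 2 G, A = P) ∨ (∃ P : Sylow 3 G, A = P) ∨ (IsCyclic A ∧ IsTorOrd m (Nat.card A)))

theorem locN_four {E : Subgroup G} (hE : IsPGroup 2 E) (ha : S.a ∈ E) (hw : S.w ∈ E) :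
    LocN m (Subgroup.normalizer (E : Set G)) := by
  by_cases h : E ≤ S.T4
  · exact ⟨S.A, fun g hg => S.mem_normalizer_A (h ((Subgroup.mem_normalizer_iff''.1 hg _).1 ha))
      (h ((Subgroup.mem_normalizer_iff''.1 hg _).1 hw)), Or.inr (Or.inr ⟨S.isCyclic_A, Or.inr (Or.inl S.card_A')⟩)⟩
  obtain ⟨Q, hQ⟩ := hE.exists_le_sylow
  obtain ⟨y, hy, h1⟩ := SetLike.not_le_iff_exists.1 h
  have h2 : ∀ x ∈ (Q : Subgroup G), x ∈ S.T4 → x ∈ E := fun x hx h3 => by
    rcases S.inv_T4 h3 (S.sq_of_two Q.isPGroup' hx) with rfl | rfl | rfl | rfl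
    exacts [one_mem E, ha, hw, mul_mem ha hw]
  refine ⟨E, le_rfl, Or.inl ⟨Q, le_antisymm hQ fun x hx => ?_⟩⟩
  have hD := sylow_le_D (hQ ha) (hQ hw)
  rcases S.D_cases (hD hx) with h3 | h3
  · exact h2 x hx h3
  · have h4 := mul_mem (inv_mem ((S.D_cases (hD (hQ hy))).resolve_left h1)) h3
    rw [mul_inv_rev, mul_assoc, inv_mul_cancel_left] at h4
    exact (mul_mem_cancel_left (inv_mem hy)).1 (h2 _ (mul_mem (inv_mem (hQ hy)) hx) h4)

include S in
theorem locN_odd (hm : 1 ≤ m) {E : Subgroup G} {p : ℕ} [hp : Fact p.Prime] (h2 : p ≠ 2) (hE : IsPGroup p E)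
    (h1 : E ≠ ⊥) : LocN m (Subgroup.normalizer (E : Set G)) := by
  have := S.finite
  by_cases h3 : p = 3
  · subst h3
    obtain ⟨ω, h⟩ := S.le_P_of_isPGroup hE
    obtain ⟨⟨y, hy⟩, h4⟩ := Subgroup.ne_bot_iff_exists_ne_one.1 h1
    refine ⟨S.P ω, fun g hg => ?_, Or.inr (Or.inl ((S.exists_sylow ω).imp fun _ h => h.symm))⟩
    rw [normalizer_P]
    exact S.P_fix (h hy) (fun e => h4 (Subtype.ext e))
      (S.conj_fix.1 (h ((Subgroup.mem_normalizer_iff''.1 hg _).1 hy)).1)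
  · obtain ⟨A, C, hT, hd, h4⟩ := S.exists_tor hm hp.out h2 h3 ((hE.card_eq_or_dvd.resolve_left
      fun e => h1 (Subgroup.eq_bot_of_card_eq E e)).trans E.card_subgroup_dvd_card)
    obtain ⟨c, hc⟩ := hT.conj_pgroup hd hE
    exact ⟨_, ((hT.smul c⁻¹).normalizer_eq (fun x hx => ⟨_, hc x hx, by simp [mul_assoc]⟩) h1).le,
      Or.inr (Or.inr ⟨(hT.smul _).cyc, by rwa [card_smul]⟩)⟩

theorem a_not_mem : S.a ∉ ⁅Subgroup.centralizer {S.a}, Subgroup.centralizer {S.a}⁆ := fun h => by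
  obtain ⟨M, hM⟩ : S.a ∈ S.φ.range := by
    refine Subgroup.commutator_le.2 (fun x hx y hy => ?_) h
    obtain ⟨M, hx⟩ := S.comm_a_iff.1 (Subgroup.mem_centralizer_singleton_iff.1 hx)
    obtain ⟨N, hy⟩ := S.comm_a_iff.1 (Subgroup.mem_centralizer_singleton_iff.1 hy)
    refine ⟨⁅M, N⁆, ?_⟩
    have e : ∀ N, S.φ N * S.a = S.a * S.φ N := fun N => (S.a_comm_φ N).symm
    have e' : ∀ N x, S.φ N * (S.a * x) = S.a * (S.φ N * x) := fun N x => by rw [← mul_assoc, e, mul_assoc]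
    have e'' : ∀ x, S.a * (S.a * x) = x := fun x => by rw [← mul_assoc, a_mul_a, one_mul]
    rcases hx with rfl | rfl <;> rcases hy with rfl | rfl <;>
      simp only [commutatorElement_def, map_mul, mul_inv_rev, ← map_inv, a_inv, mul_assoc, e, e', e'']
  exact S.φ_ne_a M hM

theorem comp_a {H : Type*} [Group H] (e : H ≃* G) : (S.comp e).a = e.symm S.a := rfl

include S in
theorem locN_solvable (hm : 1 ≤ m) {M : Subgroup G} (hM : Group.IsSolvable M) : LocN m M := by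
  have := S.finite
  have key : ∀ {M : Subgroup G}, IsPGroup 2 M → LocN m M := fun h => by
    obtain ⟨Q, hQ⟩ := h.exists_le_sylow
    exact ⟨Q, hQ.trans Subgroup.le_normalizer, Or.inl ⟨Q, rfl⟩⟩
  have mono : ∀ {N : Subgroup G}, M ≤ N → LocN m N → LocN m M := fun h ⟨A, h1, h2⟩ => ⟨A, h.trans h1, h2⟩
  by_cases h0 : M = ⊥
  · exact key (h0 ▸ IsPGroup.of_bot)
  obtain ⟨A, h1, h2, h3, h4⟩ := exists_abelian_normal' hM h0
  by_cases h : ∀ p, p.Prime → p ∣ Nat.card A → p = 2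
  · have hA : IsPGroup 2 A := IsPGroup.of_card (Nat.eq_prime_pow_of_unique_prime_dvd Nat.card_pos.ne' fun {d} => h d)
    rcases h2 with rfl | h2
    · exact key hA
    obtain ⟨⟨x, hx⟩, h5⟩ := Subgroup.ne_bot_iff_exists_ne_one.1 h1
    have h5 : x ≠ 1 := fun e => h5 (Subtype.ext e)
    have h6 := S.sq_of_two hA hx
    by_cases h7 : ∃ y ∈ A, y ≠ 1 ∧ y ≠ x
    · obtain ⟨y, hy, h8, h9⟩ := h7
      obtain ⟨g, e1, e2⟩ := S.four_conj h5 h6 h8 (S.sq_of_two hA hy) h9 (h4 y hy x hx)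
      have e3 : (S.comp (MulAut.conj g)).a = x := by rw [comp_a, ← e1]; simp [mul_assoc]
      refine mono h3 ((S.comp (MulAut.conj g)).locN_four hA (e3 ▸ hx) ?_)
      rcases e2 with e2 | e2
      · simpa [comp, ← e2, mul_assoc] using hy
      · have : S.w = g * (x * y) * g⁻¹ := by
          rw [← one_mul S.w, ← S.a_mul_a, mul_assoc, ← e2, ← e1]; group
        simpa [comp, this, mul_assoc] using mul_mem hx hy
    · push Not at h7
      obtain ⟨g, e1⟩ := isConj_iff.1 (S.isConj_a h5 h6).symm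
      have e3 : (S.comp (MulAut.conj g)).a = x := by rw [comp_a, ← e1]; simp [mul_assoc]
      have h8 : M ≤ Subgroup.centralizer {x} := fun c hc => Subgroup.mem_centralizer_singleton_iff.2
        (mul_inv_eq_iff_eq_mul.1 (h7 _ ((Subgroup.mem_normalizer_iff.1 (h3 hc) x).1 hx) (by simpa using h5)))
      exact absurd (e3 ▸ Subgroup.commutator_mono h8 h8 (h2 hx)) (S.comp (MulAut.conj g)).a_not_mem
  push Not at h
  obtain ⟨p, hp, hd, h5⟩ := h
  have := Fact.mk hp
  let E : Subgroup G :=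
    { carrier := {x | x ∈ A ∧ x ^ p = 1}
      mul_mem' := fun {x y} hx hy => ⟨mul_mem hx.1 hy.1, by
        rw [Commute.mul_pow (h4 x hx.1 y hy.1), hx.2, hy.2, one_mul]⟩
      one_mem' := ⟨one_mem A, one_pow p⟩
      inv_mem' := fun hx => ⟨inv_mem hx.1, by rw [inv_pow, hx.2, inv_one]⟩ }
  refine mono (fun g hg => ?_) (S.locN_odd hm (E := E) h5 (fun x => ⟨1, Subtype.ext (by simpa using x.2.2)⟩) ?_)
  · exact Subgroup.mem_normalizer_iff.2 fun x => and_congr (Subgroup.mem_normalizer_iff.1 (h3 hg) x)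
      (by rw [conj_pow, conj_eq_one_iff])
  · obtain ⟨⟨x, hx⟩, h6⟩ := exists_prime_orderOf_dvd_card' p hd
    rw [Subgroup.orderOf_mk] at h6
    exact fun e => ne_one_of_prime hp h6 (e.le (⟨hx, h6 ▸ pow_orderOf_eq_one x⟩ : x ∈ E))

end ReeS

end H5.Ree
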