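import Cfsg.Agent.H5.RE1
import Cfsg.Agent.H5.TwG2
import Cfsg.Agent.H5.Fld1

/-! Small Ree groups: the concrete group carries the rank one structure. -/

set_option autoImplicit false

namespace H5.Chev
open Cfsg Cfsg.Lie Cfsg.Lie.ChevalleyDatum Equiv H5.Ree
open scoped MatrixGroups

variable {K : Type*} [Field K]

theorem mulU_G2 [CharP K 3] (A B C E M L a b c e m l : K) :
    (grpSys chevG2 K).wd [(rG 7, A), (rG 6, B), (rG 8, C), (rG 9, E), (rG 10, M), (rG 11, L),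
      (rG 7, a), (rG 6, b), (rG 8, c), (rG 9, e), (rG 10, m), (rG 11, l)] =
    (grpSys chevG2 K).wd [(rG 7, A + a), (rG 6, B + b), (rG 8, c + C + B * a),
      (rG 9, e + E - C * a + B * a ^ 2), (rG 10, M + m - B * a ^ 3),
      (rG 11, L + l - M * b + B * b * a ^ 3 - B ^ 2 * a ^ 3)] :=
  wd_eq_of_chk (p := 3) (ptL [A, B, C, E, M, L, a, b, c, e, m, l]) (k := 12)
    (W := [(7, [(1, [1])]), (6, [(1, [0, 1])]), (8, [(1, [0, 0, 1])]), (9, [(1, [0, 0, 0, 1])]),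
      (10, [(1, [0, 0, 0, 0, 1])]), (11, [(1, [0, 0, 0, 0, 0, 1])]),
      (7, [(1, [0, 0, 0, 0, 0, 0, 1])]), (6, [(1, [0, 0, 0, 0, 0, 0, 0, 1])]),
      (8, [(1, [0, 0, 0, 0, 0, 0, 0, 0, 1])]), (9, [(1, [0, 0, 0, 0, 0, 0, 0, 0, 0, 1])]),
      (10, [(1, [0, 0, 0, 0, 0, 0, 0, 0, 0, 0, 1])]), (11, [(1, [0, 0, 0, 0, 0, 0, 0, 0, 0, 0, 0, 1])])])
    (W' := [(7, [(1, [0, 0, 0, 0, 0, 0, 1]), (1, [1])]),
      (6, [(1, [0, 0, 0, 0, 0, 0, 0, 1]), (1, [0, 1])]),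
      (8, [(1, [0, 0, 0, 0, 0, 0, 0, 0, 1]), (1, [0, 0, 1]), (1, [0, 1, 0, 0, 0, 0, 1])]),
      (9, [(1, [0, 0, 0, 0, 0, 0, 0, 0, 0, 1]), (1, [0, 0, 0, 1]), (-1, [0, 0, 1, 0, 0, 0, 1]),
        (1, [0, 1, 0, 0, 0, 0, 2])]),
      (10, [(1, [0, 0, 0, 0, 0, 0, 0, 0, 0, 0, 1]), (1, [0, 0, 0, 0, 1]), (-1, [0, 1, 0, 0, 0, 0, 3])]),
      (11, [(1, [0, 0, 0, 0, 0, 0, 0, 0, 0, 0, 0, 1]), (1, [0, 0, 0, 0, 0, 1]),
        (-1, [0, 0, 0, 0, 1, 0, 0, 1]), (1, [0, 1, 0, 0, 0, 0, 3, 1]), (-1, [0, 2, 0, 0, 0, 0, 3])])])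
    (by decide +kernel) (by simp [evW, evM, ptL, rG])
    (by simp [evW, evM, ptL, rG]; refine ⟨?_, ?_, ?_, ?_, ?_, ?_⟩ <;> ring)

theorem comm_G2 [CharP K 3] {r s : Fin 12} (hr : r = 8 ∨ r = 3) (hs : s = 10 ∨ s = 1) (t u : K) :
    (grpSys chevG2 K).x (rG r) t * (grpSys chevG2 K).x (rG s) u =
      (grpSys chevG2 K).x (rG s) u * (grpSys chevG2 K).x (rG r) t := by
  have : (grpSys chevG2 K).wd [(rG r, t), (rG s, u)] = (grpSys chevG2 K).wd [(rG s, u), (rG r, t)] := by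
    refine wd_eq_of_chk (p := 3) (ptL [t, u]) (k := 2)
      (W := [(r, [(1, [1])]), (s, [(1, [0, 1])])]) (W' := [(s, [(1, [0, 1])]), (r, [(1, [1])])])
      ?_ (by simp [evW, evM, ptL, rG]) (by simp [evW, evM, ptL, rG])
    rcases hr with rfl | rfl <;> rcases hs with rfl | rfl <;> decide +kernel
  simpa using this

theorem ww_G2 [CharP K 3] :
    (grpSys chevG2 K).n (rG 8) 1 * (grpSys chevG2 K).n (rG 10) 1 *
      ((grpSys chevG2 K).n (rG 8) 1 * (grpSys chevG2 K).n (rG 10) 1) = 1 := by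
  have : (grpSys chevG2 K).wd [(rG 8, 1), (rG 3, -1), (rG 8, 1), (rG 10, 1), (rG 1, -1), (rG 10, 1),
      (rG 8, 1), (rG 3, -1), (rG 8, 1), (rG 10, 1), (rG 1, -1), (rG 10, 1)] =
      (grpSys chevG2 K).wd [] :=
    wd_eq_of_chk (p := 3) (ptL []) (k := 0)
      (W := [(8, [(1, [])]), (3, [(-1, [])]), (8, [(1, [])]), (10, [(1, [])]), (1, [(-1, [])]),
        (10, [(1, [])]), (8, [(1, [])]), (3, [(-1, [])]), (8, [(1, [])]), (10, [(1, [])]),
        (1, [(-1, [])]), (10, [(1, [])])]) (W' := [])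
      (by decide +kernel) (by simp [evW, evM, ptL, rG]) (by simp [evW])
  simp only [StSys.wd_cons, StSys.wd_nil, mul_one] at this
  rw [← this]
  simp only [StSys.n, mul_assoc, inv_one]
  rfl

/-- the word of the Weyl element -/
def wW (K : Type*) [Field K] : List (Rt chevG2 × K) :=
  [(rG 8, 1), (rG 3, -1), (rG 8, 1), (rG 10, 1), (rG 1, -1), (rG 10, 1)]

theorem wd_wW : (grpSys chevG2 K).n (rG 8) 1 * (grpSys chevG2 K).n (rG 10) 1 =
    (grpSys chevG2 K).wd (wW K) := by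
  simp only [StSys.n, mul_assoc, inv_one, wW, StSys.wd_cons, StSys.wd_nil, mul_one]
  rfl

theorem rel1_G2 [CharP K 3] {e : ℕ} (he : Odd e) :
    (grpSys chevG2 K).wd (wW K ++ wU e 0 0 1 ++ wW K) =
      (grpSys chevG2 K).wd (wU e 1 (-1) 1 ++ wW K ++ wU e 1 0 (-1)) := by
  have h0 : e ≠ 0 := he.pos.ne'
  refine wd_eq_of_chk (p := 3) (ptL []) (k := 0)
    (W := [(8, [(1, [])]), (3, [(-1, [])]), (8, [(1, [])]), (10, [(1, [])]), (1, [(-1, [])]), (10, [(1, [])]), (7, []), (6, []), (8, []), (9, [(1, [])]), (10, []), (11, [(1, [])]), (8, [(1, [])]), (3, [(-1, [])]), (8, [(1, [])]), (10, [(1, [])]), (1, [(-1, [])]), (10, [(1, [])])])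
    (W' := [(7, [(1, [])]), (6, [(1, [])]), (8, []), (9, [(2, [])]), (10, [(-1, [])]), (11, [(1, [])]), (8, [(1, [])]), (3, [(-1, [])]), (8, [(1, [])]), (10, [(1, [])]), (1, [(-1, [])]), (10, [(1, [])]), (7, [(1, [])]), (6, [(1, [])]), (8, [(1, [])]), (9, []), (10, []), (11, [(-1, [])])])
    (by decide +kernel) ?_ ?_ <;>
  simp [evW, evM, ptL, rG, wU, wW, h0, he.neg_one_pow, pow_succ, one_add_one_eq_two]

theorem rel2_G2 [CharP K 3] {e : ℕ} (he : Odd e) :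
    (grpSys chevG2 K).wd (wW K ++ wU e 1 0 0 ++ wW K) =
      (grpSys chevG2 K).wd (wU e 1 0 0 ++ wW K ++ wU e 1 1 1) *
      ((grpSys chevG2 K).h (simple (iG 0)) (-1) * (grpSys chevG2 K).h (simple (iG 1)) (-1)) := by
  have h0 : e ≠ 0 := he.pos.ne'
  have h1 : (grpSys chevG2 K).h (simple (iG 0)) (-1) * (grpSys chevG2 K).h (simple (iG 1)) (-1) =
      (grpSys chevG2 K).wd [(rG 7, -1), (rG 4, 1), (rG 7, -1), (rG 7, -1), (rG 4, 1), (rG 7, -1),
        (rG 6, -1), (rG 5, 1), (rG 6, -1), (rG 6, -1), (rG 5, 1), (rG 6, -1)] := by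
    simp only [StSys.h, StSys.n, StSys.wd_cons, StSys.wd_nil, mul_assoc, inv_neg, inv_one, neg_neg, mul_one]
    rfl
  rw [h1, ← StSys.wd_append]
  refine wd_eq_of_chk (p := 3) (ptL []) (k := 0)
    (W := [(8, [(1, [])]), (3, [(-1, [])]), (8, [(1, [])]), (10, [(1, [])]), (1, [(-1, [])]), (10, [(1, [])]), (7, [(1, [])]), (6, [(1, [])]), (8, [(1, [])]), (9, [(1, [])]), (10, []), (11, []), (8, [(1, [])]), (3, [(-1, [])]), (8, [(1, [])]), (10, [(1, [])]), (1, [(-1, [])]), (10, [(1, [])])])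
    (W' := [(7, [(1, [])]), (6, [(1, [])]), (8, [(1, [])]), (9, [(1, [])]), (10, []), (11, []), (8, [(1, [])]), (3, [(-1, [])]), (8, [(1, [])]), (10, [(1, [])]), (1, [(-1, [])]), (10, [(1, [])]), (7, [(1, [])]), (6, [(1, [])]), (8, [(2, [])]), (9, [(2, [])]), (10, [(1, [])]), (11, [(1, [])]), (7, [(-1, [])]), (4, [(1, [])]), (7, [(-1, [])]), (7, [(-1, [])]), (4, [(1, [])]), (7, [(-1, [])]), (6, [(-1, [])]), (5, [(1, [])]), (6, [(-1, [])]), (6, [(-1, [])]), (5, [(1, [])]), (6, [(-1, [])])])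
    (by decide +kernel) ?_ ?_ <;>
  simp [evW, evM, ptL, rG, wU, wW, h0, he.neg_one_pow, pow_succ, one_add_one_eq_two]

/-- the coordinates spanning the short root ideal -/
def i7 : Fin 7 → chevG2.Idx :=
  ![Sum.inl (iG 0), Sum.inr (rG 2), Sum.inr (rG 3), Sum.inr (rG 4), Sum.inr (rG 7), Sum.inr (rG 8),
    Sum.inr (rG 9)]

/-- the other coordinates -/
def j7 : Fin 7 → chevG2.Idx :=
  ![Sum.inl (iG 1), Sum.inr (rG 0), Sum.inr (rG 1), Sum.inr (rG 5), Sum.inr (rG 6), Sum.inr (rG 10),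
    Sum.inr (rG 11)]

theorem sum_idx {M : Type*} [AddCommMonoid M] (f : chevG2.Idx → M) :
    ∑ i, f i = ∑ i, f (i7 i) + ∑ i, f (j7 i) := by
  have : Function.Bijective (Sum.elim i7 j7) := by decide
  rw [← (Equiv.ofBijective _ this).sum_comp, Fintype.sum_sum_type]
  rfl

/-- matrices preserving the short root ideal -/
def blk (K : Type*) [Field K] : Submonoid (Matrix chevG2.Idx chevG2.Idx K) where
  carrier := {A | ∀ i j, A (j7 i) (i7 j) = 0}
  one_mem' i j := Matrix.one_apply_ne (by revert i j; decide)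
  mul_mem' {A B} hA hB i j := by
    rw [Matrix.mul_apply, sum_idx]
    simp [hA i, hB _ j]

/-- the action on the short root ideal -/
def res7 (K : Type*) [Field K] : blk K →* Matrix (Fin 7) (Fin 7) K where
  toFun A := A.1.submatrix i7 i7
  map_one' := Matrix.submatrix_one _ (by decide)
  map_mul' A B := by
    ext i j
    simp only [Submonoid.coe_mul, Matrix.submatrix_apply, Matrix.mul_apply]
    rw [sum_idx]
    simp [B.2 _ j]

/-- the entries of the root elements as integer polynomials -/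
def ent (D : ChevalleyDatum) (r : Fin D.nroots) : D.Idx → D.Idx → List (ℕ × ℤ)
  | Sum.inl i', Sum.inl i => if i' = i then [(0, 1)] else []
  | Sum.inr u, Sum.inl i => if u = r then [(1, -((D.cartanSR.getD i.val #[]).getD r.val 0))] else []
  | Sum.inl i, Sum.inr s => if s = r then [] else if s.val = D.negIdx.getD r.val 0 then
      [(1, (D.coroot.getD r.val #[]).getD i.val 0)] else []
  | Sum.inr u, Sum.inr s => if s = r then (if u = r then [(0, 1)] else [])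
      else if s.val = D.negIdx.getD r.val 0 then
        (if u = s then [(0, 1)] else if u = r then [(2, -1)] else [])
      else (if u = s then [(0, 1)] else []) ++ D.chainCoeff r.val s.val u.val

theorem xMat_ent (D : ChevalleyDatum) (r : Fin D.nroots) (t : K) (a b : D.Idx) :
    D.xMat K r t a b = ((ent D r a b).map fun km => ((km.2 : ℤ) : K) * t ^ km.1).sum := by
  rcases a with a | a <;> rcases b with b | b <;> simp only [xMat, ent, Matrix.of_apply] <;>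
    split_ifs <;> simp

theorem xMat_blk [CharP K 3] (r : Rt chevG2) (t : K) : chevG2.xMat K r t ∈ blk K := by
  have h1 : ∀ (r : Fin 12) (i j : Fin 7), ∀ km ∈ ent chevG2 r (j7 i) (i7 j), (3 : ℤ) ∣ km.2 := by
    decide +kernel
  intro i j
  rw [xMat_ent]
  refine List.sum_eq_zero fun x hx => ?_
  obtain ⟨km, hk, rfl⟩ := List.mem_map.1 hx
  rw [(CharP.intCast_eq_zero_iff K 3 _).2 (h1 r i j km hk), zero_mul]

theorem π_blk [CharP K 3] (g : chevG2.group K) : (grpSys chevG2 K).π g ∈ blk K := by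
  have hg : g ∈ (grpSys chevG2 K).U Set.univ := grpSys_top (D := chevG2) (F := K) ▸ Subgroup.mem_top g
  induction hg using Subgroup.closure_induction'' with
  | mem x hx =>
    obtain ⟨r, -, t, rfl⟩ := hx
    rw [StSys.π_x]; exact xMat_blk r t
  | inv_mem x hx =>
    obtain ⟨r, -, t, rfl⟩ := hx
    rw [StSys.x_inv, StSys.π_x]; exact xMat_blk r _
  | one => rw [map_one]; exact one_mem _
  | mul x y _ _ hx hy => rw [map_mul]; exact mul_mem hx hy

/-- the seven dimensional representation -/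
noncomputable def ρ7 (K : Type*) [Field K] [CharP K 3] : chevG2.group K →* Matrix (Fin 7) (Fin 7) K :=
  (res7 K).comp ((grpSys chevG2 K).π.codRestrict _ π_blk)

theorem ρ7_ne [CharP K 3] {g : chevG2.group K} {c : Ix chevG2 → Kˣ}
    (h : (grpSys chevG2 K).π g = dg fun r => (chi c r : K)) (hc : chi c (rG 7) ≠ 1) : ρ7 K g ≠ 1 := by
  intro e
  have : (grpSys chevG2 K).π g (i7 4) (i7 4) = 1 := by
    have := congrFun (congrFun e 4) 4
    rwa [Matrix.one_apply_eq] at this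
  rw [h] at this
  apply hc
  simpa [dg, i7] using this

theorem w0_G2 (r : Rt chevG2) : wJ (Set.univ : Set (Ix chevG2)) r = neg r := by
  have h1 : chkPhi fastG2 [0, 1] [6, 7, 8, 9, 10, 11] [0, 1, 0, 1, 0, 1] = true := by decide +kernel
  have h2 : (Set.univ : Set (Ix chevG2)) = {i : Ix chevG2 | (i : ℕ) ∈ [0, 1]} :=
    (Set.eq_univ_of_forall (iG_ind (by decide) (by decide))).symm
  rw [h2]
  refine Fin.ext ((wJ_apply (D := chevG2) h1 _).trans ?_)
  revert r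
  decide +kernel

theorem StSys.HMul.h_neg {D : ChevalleyDatum} [Good D] [Conn D] {G : Type*} [Group G] {S : StSys D K G}
    (hS : S.HMul) (r : Rt D) (t : Kˣ) : S.h (neg r) t = (S.h r t)⁻¹ := by
  rw [hS.h_eq_hp, hS.h_eq_hp, ← map_inv]
  congr 1
  ext i
  simp

namespace IsG2

variable {T : Tw (grpSys chevG2 K)} {e : ℕ} (h : IsG2 T e)
include h

local notation "S" => grpSys chevG2 K

variable [CharP K 3]

theorem eq_wU {g : chevG2.group K} (hg : g ∈ (S).U {r | Pos r} ⊓ T.Fix) {A B C E M L : K}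
    (e1 : g = (S).wd [(rG 7, A), (rG 6, B), (rG 8, C), (rG 9, E), (rG 10, M), (rG 11, L)]) :
    g = (S).wd (wU e B M L) := by
  obtain ⟨t, u, v, h1⟩ := h.mem_U.1 hg
  have := (S).wd_inj (pos_G2 ▸ nil_pos) (by rfl) (by exact (by decide : [rG 7, rG 6, rG 8, rG 9, rG 10,
    rG 11].Nodup)) (by simp) (e1.symm.trans h1)
  simp only [wU, List.cons.injEq, Prod.mk.injEq, true_and, and_true] at this
  rw [h1, this.2.1, this.2.2.2.2.1, this.2.2.2.2.2]

theorem wU_mul (a b c x y z : K) : (S).wd (wU e a b c) * (S).wd (wU e x y z) =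
    (S).wd (wU e (a + x) (b + y - a * (x ^ e) ^ 3) (c + z - b * x + a * x * (x ^ e) ^ 3 -
      a ^ 2 * (x ^ e) ^ 3)) :=
  h.eq_wU (mul_mem (h.mem_U.2 ⟨_, _, _, rfl⟩) (h.mem_U.2 ⟨_, _, _, rfl⟩))
    (by rw [← StSys.wd_append]; exact mulU_G2 ..)

theorem hp_wU (y : Kˣ) (a b c : K) :
    grpSys_hmul.hp (cG e y) * (S).wd (wU e a b c) * (grpSys_hmul.hp (cG e y))⁻¹ =
      (S).wd (wU e (((y ^ e) ^ (-3 : ℤ) * y ^ (2 : ℤ) : Kˣ) * a)
        (((y ^ e) ^ (3 : ℤ) * y ^ (-1 : ℤ) : Kˣ) * b) (y * c)) := by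
  have h0 : grpSys_hmul.hp (cG e y) ∈ T.Fix := by
    have : grpSys_hmul.hp (cG e y) ∈ (S).H ⊓ T.Fix := by
      rw [T.H_fix _ (grpSys_hmul.hp_injective ker_G2)]
      exact ⟨_, h.mem_C0'.2 ⟨y, rfl⟩, rfl⟩
    exact this.2
  have h1 := h.mem_U.2 ⟨a, b, c, rfl⟩
  have h2 := ((grpSys_hmul (D := chevG2) (F := K)).hp_spec (cG e y)).2
  have h3 : ∀ r, chi (cG e y) r = (y ^ e) ^ wt r (iG 0) * y ^ wt r (iG 1) := fun r => by
    rw [cG, chi_two]
  have h4 : ∀ w : List (Rt chevG2 × K), grpSys_hmul.hp (cG e y) * (S).wd w * (grpSys_hmul.hp (cG e y))⁻¹ =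
      (S).wd (w.map fun p => (p.1, chi (cG e y) p.1 * p.2)) := fun w => by
    induction w with
    | nil => simp
    | cons p w ih => rw [List.map_cons, StSys.wd_cons, StSys.wd_cons, ← ih, ← h2]; group
  have := h.eq_wU (g := grpSys_hmul.hp (cG e y) * (S).wd (wU e a b c) * (grpSys_hmul.hp (cG e y))⁻¹)
    ⟨(S).H_conj_U (grpSys_hmul.hp_mem _) _ _ h1.1, T.Fix.mul_mem (mul_mem h0 h1.2) (inv_mem h0)⟩
    (h4 _)
  rw [this, h3, h3, h3, show wt (rG 6) (iG 0) = -3 by decide +kernel,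
    show wt (rG 6) (iG 1) = 2 by decide +kernel, show wt (rG 10) (iG 0) = 3 by decide +kernel,
    show wt (rG 10) (iG 1) = -1 by decide +kernel, show wt (rG 11) (iG 0) = 0 by decide +kernel,
    show wt (rG 11) (iG 1) = 1 by decide +kernel]
  simp

omit h in
theorem exists_φ (θ : K →+* K) (hθ : ∀ t, θ t = t ^ e) (he : Odd e) :
    ∃ φ : SL(2, K) →* chevG2.group K,
    (∀ t, φ (up t) = (S).wd (wU e 0 t 0)) ∧ (∀ t, φ (lo t) = (S).wd (wV e 0 (-t) 0)) ∧
    φ (JJ K) = (S).n (rG 8) 1 * (S).n (rG 10) 1 := by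
  obtain ⟨f, f1, f2, f3⟩ := (S).exists_sl2 grpSys_hmul (rG 8)
  obtain ⟨g, g1, g2, g3⟩ := (S).exists_sl2 grpSys_hmul (rG 10)
  have hc : ∀ a b, Commute (f a) (g b) := by
    have : (S).U {rG 8, neg (rG 8)} ≤ Subgroup.centralizer ((S).U {rG 10, neg (rG 10)}) := by
      rw [StSys.U, StSys.U, Subgroup.centralizer_closure, Subgroup.closure_le]
      rintro _ ⟨r, hr, t, rfl⟩ _ ⟨s, hs, u, rfl⟩
      exact (comm_G2 (r := r) (s := s) hr hs t u).symm
    intro a b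
    exact (this (f3 ▸ ⟨a, rfl⟩) _ (g3 ▸ ⟨b, rfl⟩)).symm
  have h0 : e ≠ 0 := he.pos.ne'
  let φ : SL(2, K) →* chevG2.group K := MonoidHom.mk'
    (fun a => f (Matrix.SpecialLinearGroup.map θ a) * g a) fun a b => by
      rw [map_mul, map_mul, map_mul, mul_assoc, mul_assoc, ← mul_assoc (g a), ← (hc _ a).eq, mul_assoc]
  have e1 : ∀ t, φ (up t) = (S).x (rG 8) (θ t) * (S).x (rG 10) t := fun t => by
    rw [← g1 (up t) t rfl, ← f1 (Matrix.SpecialLinearGroup.map θ (up t)) (θ t) (by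
      ext i j; fin_cases i <;> fin_cases j <;> simp)]
    rfl
  have e2 : ∀ t, φ (lo t) = (S).x (rG 3) (θ t) * (S).x (rG 1) t := fun t => by
    have := f2 (Matrix.SpecialLinearGroup.map θ (lo t)) (θ t) (by
      ext i j; fin_cases i <;> fin_cases j <;> simp)
    show f _ * g _ = _
    rw [this, g2 (lo t) t rfl]
    rfl
  refine ⟨φ, fun t => ?_, fun t => ?_, ?_⟩
  · rw [e1, hθ]; simp [wU, h0]
  · rw [e2, hθ]; simp [wV, h0, he.neg_pow]
  · show f _ * g _ = _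
    have : Matrix.SpecialLinearGroup.map θ (JJ K) = JJ K := by
      ext i j; fin_cases i <;> fin_cases j <;> simp
    rw [this, JJ_eq, map_mul, map_mul, map_mul, map_mul, f1 _ _ rfl, f2 _ _ rfl, g1 _ _ rfl, g2 _ _ rfl]
    simp [StSys.n]

theorem φ_w0 (hw : (S).n (rG 8) 1 * (S).n (rG 10) 1 ∈ T.G0) :
    (S).φ ⟨(S).n (rG 8) 1 * (S).n (rG 10) 1, mul_mem ((S).n_mem_N _ one_ne_zero)
      ((S).n_mem_N _ one_ne_zero)⟩ = wJ Set.univ := by
  refine (h.mem_W1.1 (T.φ_mem_W1 (T.G0_le_Fix hw))).resolve_left fun e1 => ?_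
  have := map_mul (S).φ ⟨_, (S).n_mem_N (rG 8) one_ne_zero⟩ ⟨_, (S).n_mem_N (rG 10) one_ne_zero⟩
  rw [StSys.φ_n _ _ one_ne_zero, StSys.φ_n _ _ one_ne_zero] at this
  have h2 := congrArg (fun w : Wg chevG2 => (w : Perm (Rt chevG2)) (rG 10)) (e1.symm.trans this)
  simp only [Subgroup.coe_mul, Perm.mul_apply, rp_apply, rrefl_self, rrefl_neg_right,
    rrefl_of_pair_eq_zero (show pair (rG 8) (rG 10) = 0 by decide +kernel)] at h2
  exact absurd h2 (by decide)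

theorem w_hp {n : (S).N} (hn : (S).φ n = wJ Set.univ) (y : Kˣ) :
    n * grpSys_hmul.hp (cG e y) * (n : chevG2.group K)⁻¹ = (grpSys_hmul.hp (cG e y))⁻¹ := by
  have h1 := (S).acts_φ n
  rw [hn, show ⇑(wJ (Set.univ : Set (Ix chevG2))) = neg from funext w0_G2] at h1
  have h2 : ∀ i (t : Kˣ), (n : chevG2.group K) * grpSys_hmul.hp (Pi.mulSingle i t) * (n : chevG2.group K)⁻¹ =
      (grpSys_hmul.hp (Pi.mulSingle i t))⁻¹ := fun i t => by
    rw [StSys.HMul.hp_single, grpSys_hmul.conj_h h1 (fun _ => rfl) _ t.ne_zero, grpSys_hmul.h_neg]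
  rw [cG, ← map_inv, mul_inv, map_mul, map_mul, map_inv, map_inv, ← h2, ← h2]
  group

omit h [CharP K 3] in
theorem grpMap_wd (α : K →+* K) (w : List (Rt chevG2 × K)) :
    grpMap chevG2 α ((S).wd w) = (S).wd (w.map fun p => (p.1, α p.2)) := by
  induction w with
  | nil => simp
  | cons p w ih => simp [ih, grpMap_x]

theorem grpMap_mem (α : K →+* K) {g : chevG2.group K} (hg : g ∈ T.G0) : grpMap chevG2 α g ∈ T.G0 := by
  refine (T.G0_le_iff (K := T.G0.comap (grpMap chevG2 α))).2 (fun i => ⟨fun g hg => ?_, fun g hg => ?_⟩) hg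
  · obtain ⟨t, u, v, rfl⟩ := h.mem_U.1 (h.UO_eq i ▸ hg)
    rw [Subgroup.mem_comap, grpMap_wd]
    simpa [wU] using h.wU_mem (α t) (α u) (α v)
  · obtain ⟨t, u, v, rfl⟩ := h.mem_V.1 (h.VO_eq i ▸ hg)
    rw [Subgroup.mem_comap, grpMap_wd]
    simpa [wV] using h.wV_mem (α t) (α u) (α v)

end IsG2

theorem exists_reeS0 [Fintype K] {m : ℕ} (hK : Fintype.card K = 3 ^ (2 * m + 1)) [CharP K 3]
    {T : Tw (grpSys chevG2 K)} (h : IsG2 T (3 ^ m)) (h4 : Nat.card K % 4 = 3) :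
    ∃ R : ReeS K m T.G0, (∀ g : T.G0, g ∈ R.U ↔ (g : chevG2.group K) ∈ (grpSys chevG2 K).U {r | Pos r}) ∧
      (∀ g : T.G0, g ∈ R.h.range ↔ (g : chevG2.group K) ∈ (grpSys chevG2 K).H) ∧
      (∀ g : T.G0, g ∈ R.B ↔ (g : chevG2.group K) ∈ (grpSys chevG2 K).B) := by
  have : Fact (Nat.Prime 3) := ⟨Nat.prime_three⟩
  have hσ : ∀ t : K, iterateFrobenius K 3 (m + 1) t = (t ^ 3 ^ m) ^ 3 := fun t => by
    rw [← pow_mul, ← pow_succ]; rfl
  generalize he : 3 ^ m = e at h hσ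
  obtain ⟨φ, φ1, φ2, φ3⟩ := IsG2.exists_φ (e := e) (iterateFrobenius K 3 m) (fun t => he ▸ rfl) h.odd
  have hφ : ∀ a, φ a ∈ T.G0 := fun a => by
    have : T.G0.comap φ = ⊤ := sl2_eq_top
      (fun t => by rw [Subgroup.mem_comap, φ1]; exact h.wU_mem _ _ _)
      (fun t => by rw [Subgroup.mem_comap, φ2]; exact h.wV_mem _ _ _)
    exact (this ▸ Subgroup.mem_top a : a ∈ T.G0.comap φ)
  let c : Kˣ →* (Ix chevG2 → Kˣ) := MonoidHom.mk' (fun k => IsG2.cG e (k ^ 2 * (k ^ e) ^ 3)) fun a b => by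
    rw [← IsG2.cG_mul]; congr 1; simp only [mul_pow]; ac_rfl
  obtain ⟨hh, ehh⟩ : ∃ hh : Kˣ →* T.G0, ∀ k, (hh k : chevG2.group K) =
      grpSys_hmul.hp (IsG2.cG e (k ^ 2 * (k ^ e) ^ 3)) :=
    ⟨(grpSys_hmul.hp.comp c).codRestrict _ fun k => h.hp_mem h4 _ (h.mem_C0'.2 ⟨_, rfl⟩), fun _ => rfl⟩
  clear c
  obtain ⟨uu, euu⟩ : ∃ uu : K → K → K → T.G0, ∀ a b c, (uu a b c : chevG2.group K) =
      (grpSys chevG2 K).wd (wU e a b c) := ⟨fun a b c => ⟨_, h.wU_mem a b c⟩, fun _ _ _ => rfl⟩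
  have h3 : ∀ z : Kˣ, ((z ^ e) ^ e) ^ 3 = z := fun z => Units.ext (by simpa using h.he z)
  have hs : ∀ k : Kˣ, ((k ^ 2 * (k ^ e) ^ 3) ^ e) ^ 3 = ((k ^ e) ^ 3) ^ 2 * k ^ 3 := fun k => by
    rw [mul_pow, mul_pow, pow_right_comm (k ^ e) 3 e, h3, pow_right_comm k 2 e, pow_right_comm _ 2 3]
  have e1 : ∀ k : Kˣ, ((k ^ 2 * (k ^ e) ^ 3) ^ e) ^ (-3 : ℤ) * (k ^ 2 * (k ^ e) ^ 3) ^ (2 : ℤ) = k :=
    fun k => by
      rw [zpow_neg, zpow_ofNat, zpow_ofNat, hs, inv_mul_eq_iff_eq_mul]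
      generalize (k ^ e) ^ 3 = s
      apply Units.ext; push_cast; ring
  have e2 : ∀ k : Kˣ, ((k ^ 2 * (k ^ e) ^ 3) ^ e) ^ (3 : ℤ) * (k ^ 2 * (k ^ e) ^ 3) ^ (-1 : ℤ) =
      k * (k ^ e) ^ 3 := fun k => by
    rw [zpow_neg, zpow_ofNat, zpow_one, hs, mul_inv_eq_iff_eq_mul]
    generalize (k ^ e) ^ 3 = s
    apply Units.ext; push_cast; ring
  have hsurj : Function.Surjective fun k : Kˣ => k ^ 2 * (k ^ e) ^ 3 :=
    Finite.surjective_of_injective fun a b hab => by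
      rw [← e1 a, ← e1 b, show a ^ 2 * (a ^ e) ^ 3 = b ^ 2 * (b ^ e) ^ 3 from hab]
  have hU : ∀ g ∈ (grpSys chevG2 K).U {r | Pos r} ⊓ T.G0, ∃ a b c, g = uu a b c :=
    fun g hg => by simpa only [euu] using h.mem_U.1 (h.ne.U_inf ▸ hg)
  have hU' : ∀ a b c, (uu a b c : chevG2.group K) ∈ (grpSys chevG2 K).U {r | Pos r} := fun a b c =>
    euu a b c ▸ (h.mem_U.2 ⟨a, b, c, rfl⟩).1
  have hH : ∀ g ∈ (grpSys chevG2 K).H ⊓ T.G0, ∃ k, g = hh k := fun g hg => by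
    rw [h.H_inf h4] at hg
    obtain ⟨_, hc, rfl⟩ := hg
    obtain ⟨y, rfl⟩ := h.mem_C0'.1 hc
    obtain ⟨k, rfl⟩ := hsurj y
    exact ⟨k, (ehh k).symm⟩
  have hH' : ∀ k, (hh k : chevG2.group K) ∈ (grpSys chevG2 K).H := fun k =>
    ehh k ▸ grpSys_hmul.hp_mem _
  have hB : ∀ g : T.G0, (g : chevG2.group K) ∈ (grpSys chevG2 K).B → ∃ a b c k,
      g = uu a b c * hh k := fun g hg => by
    obtain ⟨u, hu, a, ha, e3⟩ := h.ne.B_split hg g.2
    obtain ⟨x, y, z, rfl⟩ := hU u hu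
    obtain ⟨k, rfl⟩ := hH a ha
    exact ⟨x, y, z, k, Subtype.ext e3⟩
  have hB' : ∀ a b c k, ((uu a b c * hh k : T.G0) : chevG2.group K) ∈ (grpSys chevG2 K).B :=
    fun a b c k => mul_mem (StSys.U_le_B _ (hU' a b c)) (StSys.H_le_B _ (hH' k))
  have hw : (grpSys chevG2 K).n (rG 8) 1 * (grpSys chevG2 K).n (rG 10) 1 ∈ T.G0 := φ3 ▸ hφ _
  obtain ⟨n, en, hn⟩ : ∃ n : (grpSys chevG2 K).N, (n : chevG2.group K) =
      (grpSys chevG2 K).n (rG 8) 1 * (grpSys chevG2 K).n (rG 10) 1 ∧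
      (grpSys chevG2 K).φ n = wJ Set.univ := ⟨_, rfl, h.φ_w0 hw⟩
  obtain ⟨w, ew⟩ : ∃ w : T.G0, (w : chevG2.group K) = n := ⟨⟨_, hw⟩, en.symm⟩
  have q1 : ∀ (k : Kˣ) a b c, hh k * uu a b c * (hh k)⁻¹ = uu (k * a)
      (k * iterateFrobenius K 3 (m + 1) k * b) (k ^ 2 * iterateFrobenius K 3 (m + 1) k * c) := by
    intro k a b c
    apply Subtype.ext
    rw [Subgroup.coe_mul, Subgroup.coe_mul, Subgroup.coe_inv, ehh, euu, euu, h.hp_wU, e1, e2, hσ]
    simp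
  have q2 : ∀ g : T.G0, (∃ a b c k, g = uu a b c * hh k) ∨
      ∃ a b c k x y z, g = uu a b c * w * (uu x y z * hh k) := by
    intro g
    obtain ⟨u, hu, n', hn', v, hv, e3⟩ := h.ne.bruhat g.2
    have hv' : v ∈ (grpSys chevG2 K).U {r | Pos r} := (grpSys chevG2 K).U_mono (fun _ h => h.1) hv.1
    rcases h.mem_W1.1 (T.φ_mem_W1 (T.G0_le_Fix hn')) with e4 | e4
    · refine Or.inl (hB g ?_)
      rw [e3]
      exact mul_mem (mul_mem (StSys.U_le_B _ hu.1) (StSys.H_le_B _ ((StSys.φ_eq_one_iff _).1 e4)))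
        (StSys.U_le_B _ hv')
    · have h5 := (StSys.φ_eq_φ_iff _).1 (hn.trans e4.symm)
      obtain ⟨a, b, c, rfl⟩ := hU u hu
      obtain ⟨x, y, z, k, e5⟩ := hB ⟨_, mul_mem (mul_mem (inv_mem (ew ▸ w.2)) hn') hv.2⟩
        (mul_mem (StSys.H_le_B _ h5) (StSys.U_le_B _ hv'))
      refine Or.inr ⟨a, b, c, k, x, y, z, ?_⟩
      rw [← e5]
      apply Subtype.ext
      rw [e3]
      simp [mul_assoc, ew]
  have q3 : ∀ a b c x y z k, w * uu a b c * w⁻¹ = uu x y z * hh k → a = 0 ∧ b = 0 ∧ c = 0 := by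
    intro a b c x y z k e3
    have h5 := (grpSys chevG2 K).N_conj_U n (A := {r | Pos r}) (B := {r | ¬ Pos r})
      (fun r hr => by rw [hn]; simpa [pos_wJ_univ] using hr) (hU' a b c)
    have h6 := eq_one_of_inf (grpSys chevG2 K).V_inf_B h5 (by
      rw [← ew]; exact (e3 ▸ hB' x y z k :))
    rw [conj_eq_one_iff, euu] at h6
    exact IsG2.wU_inj (e := e) (h6.trans (by simp [wU, h.odd.pos.ne']))
  have q4 : ρ7 K (hh (-1)) ≠ 1 := by
    refine ρ7_ne (ehh _ ▸ (grpSys_hmul.hp_spec _).1) ?_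
    rw [IsG2.cG, chi_two, show wt (rG 7) (iG 0) = 2 by decide +kernel,
      show wt (rG 7) (iG 1) = -1 by decide +kernel]
    have : (-1 : K) ≠ 1 := by grind
    simpa [h.odd.neg_one_pow, Units.ext_iff, show Odd 3 by decide, Odd.neg_one_pow] using this
  have q5 : 1 ≤ m → IsSimpleGroup T.G0 := fun hm => by
    have : IsSimpleGroup (T.G0.map (chevG2.group K).subtype) := (h.ne.simple_M h.gen (h.perfect h4 (by
      rw [Nat.card_eq_fintype_card, hK]
      exact lt_of_lt_of_le (by norm_num)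
        (Nat.pow_le_pow_right (by norm_num) (show 2 ≤ 2 * m + 1 by omega))))).1
    exact (T.G0.equivMapOfInjective _ (Subgroup.subtype_injective _)).isSimpleGroup
  have q6 : ∀ α : K ≃+* K, ∃ ψ : MulAut T.G0, (∀ a b c, ψ (uu a b c) = uu (α a) (α b) (α c)) ∧
      ψ w = w := fun α => by
    let ψ : T.G0 →* T.G0 := ((grpMap chevG2 α.toRingHom).comp T.G0.subtype).codRestrict _
      fun g => h.grpMap_mem _ g.2
    have hψ : Function.Injective ψ := fun a b e =>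
      Subtype.ext (grpMap_injective _ (congrArg Subtype.val e))
    refine ⟨MulEquiv.ofBijective ψ (Finite.injective_iff_bijective.1 hψ), fun a b c => Subtype.ext ?_,
      Subtype.ext ?_⟩
    · show grpMap chevG2 _ (uu a b c : chevG2.group K) = _
      rw [euu, euu, IsG2.grpMap_wd]
      simp [wU]
    · show grpMap chevG2 _ (w : chevG2.group K) = _
      rw [ew, en]
      simp [StSys.n, grpMap_x]
  refine ⟨{ hF := hK
            σ := iterateFrobenius K 3 (m + 1)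
            hσ := fun _ => rfl
            u := uu
            u_mul := fun a b c x y z => Subtype.ext (by
              rw [hσ, Subgroup.coe_mul, euu, euu, euu, h.wU_mul])
            u_inj := fun e => IsG2.wU_inj (by rw [← euu, ← euu, e])
            h := hh
            h_u := q1
            φ := φ.codRestrict _ hφ
            φ_up := fun t => Subtype.ext ((φ1 t).trans (euu _ _ _).symm)
            w := w
            φ_w := Subtype.ext (φ3.trans (ew.trans en).symm)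
            w_mul_w := Subtype.ext (by rw [Subgroup.coe_mul, ew, en]; exact ww_G2)
            w_h := fun k => Subtype.ext (by
              rw [Subgroup.coe_mul, Subgroup.coe_mul, Subgroup.coe_inv, Subgroup.coe_inv, ew, ehh,
                h.w_hp hn])
            bruhat := q2
            disj := q3
            rel1 := Subtype.ext (by
              simpa only [Subgroup.coe_mul, ew, en, euu, wd_wW, StSys.wd_append] using rel1_G2 h.odd)
            rel2 := Subtype.ext (by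
              have : IsG2.cG e ((-1 : Kˣ) ^ 2 * ((-1) ^ e) ^ 3) =
                  Pi.mulSingle (iG 0) (-1) * Pi.mulSingle (iG 1) (-1) := by
                simp [IsG2.cG, h.odd.neg_one_pow, show Odd 3 by decide, Odd.neg_one_pow]
              simpa only [Subgroup.coe_mul, ew, en, euu, wd_wW, StSys.wd_append, ehh, this, map_mul,
                StSys.HMul.hp_single, Units.coe_neg_one, mul_assoc] using rel2_G2 h.odd)
            ρ := (ρ7 K).comp T.G0.subtype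
            ρ_ne := ⟨hh (-1), q4⟩
            simple' := q5
            fld := q6 }, fun g => ?_, fun g => ?_, fun g => ?_⟩
  · exact ⟨by rintro ⟨a, b, c, rfl⟩; exact hU' a b c, fun hg => by
      obtain ⟨a, b, c, e3⟩ := hU g ⟨hg, g.2⟩
      exact ⟨a, b, c, Subtype.ext e3⟩⟩
  · exact ⟨by rintro ⟨k, rfl⟩; exact hH' k, fun hg => by
      obtain ⟨k, e3⟩ := hH g ⟨hg, g.2⟩
      exact ⟨k, Subtype.ext e3.symm⟩⟩
  · exact ⟨by rintro ⟨a, b, c, k, rfl⟩; exact hB' a b c k, hB g⟩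

theorem exists_reeS [Fintype K] {m : ℕ} (hK : Fintype.card K = 3 ^ (2 * m + 1)) :
    ∃ R : ReeS K m (twistedG2 K (3 ^ m)),
      R.U = (chevG2.posUnipotent K).subgroupOf _ ∧ R.h.range = (chevG2.diagonalSubgroup K).subgroupOf _ ∧
      R.B = (chevG2.borelSubgroup K).subgroupOf _ := by
  obtain ⟨_, T, h, e, h4⟩ := exists_isG2 hK
  obtain ⟨R, h1, h2, h3⟩ := exists_reeS0 hK h h4
  rw [e]
  let ε : T.M ≃* T.G0 := (T.G0.equivMapOfInjective _ (Subgroup.subtype_injective _)).symm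
  have hε : ∀ g, ((ε g : chevG2.group K) : GL chevG2.Idx K) = g := fun g =>
    congrArg Subtype.val (ε.symm_apply_apply g)
  refine ⟨R.comp ε, ?_, ?_, ?_⟩ <;> ext g
  · rw [R.mem_comp_U, h1, grpSys_U, ← posUnipotent_eq, Subgroup.mem_subgroupOf, Subgroup.mem_subgroupOf, hε]
  · rw [R.mem_comp_H, h2, grpSys_H, Subgroup.mem_subgroupOf, Subgroup.mem_subgroupOf, hε]
  · rw [R.mem_comp_B, h3, grpSys_B, Subgroup.mem_subgroupOf, Subgroup.mem_subgroupOf, hε]

theorem ree [Fintype K] {m : ℕ} (hK : Fintype.card K = 3 ^ (2 * m + 1)) :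
    Nonempty (ReeS K m (twistedG2 K (3 ^ m))) := ⟨(exists_reeS hK).choose⟩

end H5.Chev
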