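import Cfsg.Agent.H5.RE1

/-! Small Ree groups: Sylow 3-subgroups, the split torus, the involution centraliser. -/

namespace H5.Ree
open scoped Pointwise MatrixGroups
open H5.Sz H5.Sz.SzS

namespace ReeS
variable {F : Type*} [Field F] [Fintype F] {m : ℕ} {G : Type*} [Group G] (S : ReeS F m G)

theorem uh_pow (a b c : F) (t : Fˣ) (n : ℕ) :
    ∃ x y z, (S.u a b c * S.h t) ^ n = S.u x y z * S.h (t ^ n) := by
  induction n with
  | zero => exact ⟨0, 0, 0, by simp⟩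
  | succ n ih =>
    obtain ⟨x, y, z, h⟩ := ih
    exact ⟨_, _, _, by
      rw [pow_succ, h, mul_assoc, ← mul_assoc (S.h _), h_mul_u, ← mul_assoc, ← mul_assoc, S.u_mul,
        mul_assoc, ← map_mul, ← pow_succ]⟩

theorem pow_eq_one_of {a b c : F} {t : Fˣ} {n : ℕ} (h : (S.u a b c * S.h t) ^ n = 1) : t ^ n = 1 := by
  obtain ⟨x, y, z, h1⟩ := S.uh_pow a b c t n
  rw [h] at h1
  exact (S.uh_inj (by simpa using h1 : S.u 0 0 0 * S.h 1 = _)).2.2.2.symm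

include S in
theorem units_pow_three {t : Fˣ} {k : ℕ} (h : t ^ 3 ^ k = 1) : t = 1 := by
  have := S.charP
  have := Fact.mk Nat.prime_three
  apply Units.ext
  have h1 : (t : F) ^ 3 ^ k = 1 := by rw [← Units.val_pow_eq_pow_val, h, Units.val_one]
  have h2 : ((t : F) - 1) ^ 3 ^ k = 0 := by rw [sub_pow_char_pow, h1, one_pow, sub_self]
  exact sub_eq_zero.1 (pow_eq_zero_iff (by positivity) |>.1 h2)

theorem mem_U_of_pow {g : G} {k : ℕ} (h1 : g • S.inf = S.inf) (h2 : g ^ 3 ^ k = 1) : g ∈ S.U := by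
  obtain ⟨a, b, c, t, rfl⟩ := S.fix1 h1
  obtain rfl := S.units_pow_three (S.pow_eq_one_of h2)
  rw [map_one, mul_one]
  exact S.u_mem a b c

theorem mem_U_iff {g : G} : g ∈ S.U ↔ g • S.inf = S.inf ∧ g ^ 9 = 1 := by
  constructor
  · rintro ⟨a, b, c, rfl⟩
    exact ⟨S.u_inf a b c, S.u_pow_nine a b c⟩
  · rintro ⟨h1, h2⟩
    exact S.mem_U_of_pow (k := 2) h1 h2

theorem conj_fix {g k : G} {ω : S.Ω} : (k⁻¹ * g * k) • ω = ω ↔ g • (k • ω) = k • ω := by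
  rw [mul_smul, mul_smul, inv_smul_eq_iff]

/-- the Sylow 3-subgroup fixing `ω` -/
def P (ω : S.Ω) : Subgroup G where
  carrier := {g | g • ω = ω ∧ g ^ 9 = 1}
  mul_mem' := by
    obtain ⟨k, rfl⟩ := S.exists_smul_inf ω
    intro a b ha hb
    have h1 : k⁻¹ * a * k ∈ S.U := S.mem_U_iff.2 ⟨S.conj_fix.2 ha.1, conj_pow_eq_one.2 ha.2⟩
    have h2 : k⁻¹ * b * k ∈ S.U := S.mem_U_iff.2 ⟨S.conj_fix.2 hb.1, conj_pow_eq_one.2 hb.2⟩
    have h3 := S.mem_U_iff.1 (S.U.mul_mem h1 h2)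
    rw [show k⁻¹ * a * k * (k⁻¹ * b * k) = k⁻¹ * (a * b) * k by group] at h3
    exact ⟨S.conj_fix.1 h3.1, conj_pow_eq_one.1 h3.2⟩
  one_mem' := ⟨one_smul _ _, one_pow _⟩
  inv_mem' := by
    rintro g ⟨h1, h2⟩
    exact ⟨by rw [inv_smul_eq_iff, h1], by rw [inv_pow, h2, inv_one]⟩

theorem mem_P {ω : S.Ω} {g : G} : g ∈ S.P ω ↔ g • ω = ω ∧ g ^ 9 = 1 := Iff.rfl
theorem P_inf : S.P S.inf = S.U := by ext g; rw [mem_P, mem_U_iff]

theorem mem_P_smul {ω : S.Ω} {g k : G} : g ∈ S.P (k • ω) ↔ k⁻¹ * g * k ∈ S.P ω := by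
  rw [mem_P, mem_P, conj_fix, conj_pow_eq_one]

theorem P_smul (k : G) (ω : S.Ω) : S.P (k • ω) = MulAut.conj k • S.P ω := by
  ext g
  rw [mem_P_smul, Subgroup.mem_pointwise_smul_iff_inv_smul_mem]
  simp

theorem P_le_stab (ω : S.Ω) : S.P ω ≤ MulAction.stabilizer G ω := fun _ hg => hg.1

theorem mem_P_of_pow {ω : S.Ω} {g : G} {n : ℕ} (h1 : g • ω = ω) (h2 : g ^ 3 ^ n = 1) : g ∈ S.P ω := by
  obtain ⟨k, rfl⟩ := S.exists_smul_inf ω
  rw [mem_P_smul, P_inf]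
  exact S.mem_U_of_pow (S.conj_fix.2 h1) (conj_pow_eq_one.2 h2)

theorem U_fix {g : G} (hg : g ∈ S.U) (h1 : g ≠ 1) {ω : S.Ω} (h : g • ω = ω) : ω = S.inf := by
  by_contra hne
  obtain ⟨x, y, z, rfl⟩ := S.exists_pt hne
  obtain ⟨a, b, c, rfl⟩ := hg
  rw [u_pt, pt_inj] at h
  have ha : a = 0 := by simpa using h.1
  subst ha
  have hb : b = 0 := by simpa using h.2.1
  subst hb
  have hc : c = 0 := by simpa using h.2.2
  subst hc
  exact h1 S.u_zero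

theorem P_fix {ω ω' : S.Ω} {g : G} (hg : g ∈ S.P ω) (h1 : g ≠ 1) (h : g • ω' = ω') : ω' = ω := by
  obtain ⟨k, rfl⟩ := S.exists_smul_inf ω
  rw [mem_P_smul, P_inf] at hg
  rw [← inv_smul_eq_iff]
  refine S.U_fix hg (fun e => h1 ?_) (by rw [conj_fix, smul_inv_smul, h])
  simpa using conj_pow_eq_one (n := 1) |>.1 (by simpa using e)

theorem exists_ne_one_P (ω : S.Ω) : ∃ z ∈ S.P ω, z ≠ 1 := by
  obtain ⟨k, rfl⟩ := S.exists_smul_inf ω
  refine ⟨k * S.u 0 0 1 * k⁻¹, ?_, ?_⟩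
  · rw [mem_P_smul, P_inf]
    simpa [mul_assoc] using S.u_mem _ _ _
  · rw [Ne, conj_eq_one_iff, u_eq_one]
    simp

theorem eq_of_P_le_stab {α β : S.Ω} (h : S.P α ≤ MulAction.stabilizer G β) : α = β := by
  obtain ⟨z, hz, h1⟩ := S.exists_ne_one_P α
  exact (S.P_fix hz h1 (h hz)).symm

theorem P_injective : Function.Injective S.P := fun _ β h =>
  S.eq_of_P_le_stab (h ▸ S.P_le_stab β)

theorem normalizer_P (ω : S.Ω) : Subgroup.normalizer (S.P ω : Set G) = MulAction.stabilizer G ω := by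
  ext g
  rw [← Subgroup.conjAct_pointwise_smul_iff, MulAction.mem_stabilizer_iff]
  show MulAut.conj g • S.P ω = S.P ω ↔ _
  rw [← P_smul, S.P_injective.eq_iff]

theorem normalizer_U : Subgroup.normalizer (S.U : Set G) = S.B := by
  rw [← P_inf, normalizer_P, stab_inf]

theorem not_three_dvd_Ω : ¬ 3 ∣ Nat.card S.Ω := by
  rw [card_Ω]
  have := S.three_dvd.trans (dvd_pow_self _ three_ne_zero)
  omega

theorem isPGroup_P (ω : S.Ω) : IsPGroup 3 (S.P ω) := fun g =>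
  ⟨2, Subtype.ext (by simpa using g.2.2)⟩

theorem le_P_of_isPGroup {Q : Subgroup G} (hQ : IsPGroup 3 Q) : ∃ ω, Q ≤ S.P ω := by
  have := Fact.mk Nat.prime_three
  obtain ⟨ω, hω⟩ := hQ.nonempty_fixed_point_of_prime_not_dvd_card S.Ω S.not_three_dvd_Ω
  refine ⟨ω, fun g hg => ?_⟩
  obtain ⟨n, hn⟩ := hQ ⟨g, hg⟩
  exact S.mem_P_of_pow (n := n) (hω ⟨g, hg⟩) (by simpa using congrArg Subtype.val hn)

theorem mem_P_of_three {g : G} {n : ℕ} (h : g ^ 3 ^ n = 1) : ∃ ω, g ∈ S.P ω := by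
  obtain ⟨ω, hω⟩ := S.le_P_of_isPGroup (Q := Subgroup.zpowers g) (by
    rintro ⟨_, k, rfl⟩
    refine ⟨n, Subtype.ext ?_⟩
    show (g ^ k) ^ 3 ^ n = 1
    rw [← zpow_natCast, ← zpow_mul, mul_comm, zpow_mul, zpow_natCast, h, one_zpow])
  exact ⟨ω, hω (Subgroup.mem_zpowers g)⟩

theorem sylow_eq (Q : Sylow 3 G) : ∃ ω, (Q : Subgroup G) = S.P ω := by
  obtain ⟨ω, h⟩ := S.le_P_of_isPGroup Q.isPGroup'
  exact ⟨ω, (Q.is_maximal' (S.isPGroup_P ω) h).symm⟩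

theorem exists_sylow (ω : S.Ω) : ∃ Q : Sylow 3 G, (Q : Subgroup G) = S.P ω := by
  obtain ⟨Q, hQ⟩ := (S.isPGroup_P ω).exists_le_sylow
  obtain ⟨ω', h⟩ := S.sylow_eq Q
  have : ω = ω' := S.eq_of_P_le_stab (hQ.trans (h ▸ S.P_le_stab ω'))
  exact ⟨Q, this ▸ h⟩

theorem P_inf_P {α β : S.Ω} (h : α ≠ β) : S.P α ⊓ S.P β = ⊥ := by
  rw [eq_bot_iff]
  rintro g ⟨h1, h2⟩
  by_contra h3
  exact h (S.P_fix h2 h3 h1.1)

/-- an element commuting with a non-trivial 3-element fixes a point -/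
theorem fix_of_comm_three {g x : G} {n : ℕ} (hx : x ^ 3 ^ n = 1) (h1 : x ≠ 1) (hc : g * x = x * g) :
    ∃ ω, x ∈ S.P ω ∧ g • ω = ω := by
  obtain ⟨ω, h⟩ := S.mem_P_of_three hx
  exact ⟨ω, h, S.P_fix h h1 (by rw [← mul_smul, ← hc, mul_smul, h.1])⟩

/-! ### the involution -/

/-- the involution of the split torus -/
def a : G := S.h (-1)

theorem a_mul_a : S.a * S.a = 1 := by rw [a, ← map_mul]; simp

theorem a_inv : S.a⁻¹ = S.a := inv_eq_of_mul_eq_one_right S.a_mul_a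

theorem a_ne : S.a ≠ 1 := by
  rw [a, Ne, h_eq_one, Units.ext_iff]
  exact S.neg_one_ne

theorem a_mul_u (x y z : F) : S.a * S.u x y z = S.u (-x) y (-z) * S.a := by
  rw [a, h_mul_u]; simp

theorem a_mul_h (k : Fˣ) : S.a * S.h k = S.h k * S.a := by rw [a, ← map_mul, mul_comm, map_mul]

theorem a_mul_w : S.a * S.w = S.w * S.a := by rw [a, h_mul_w]; simp

theorem a_inf : S.a • S.inf = S.inf := S.h_inf _

theorem a_pt (x y z : F) : S.a • S.pt x y z = S.pt (-x) y (-z) := by rw [a, h_pt]; simp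

theorem a_fix {ω : S.Ω} (h : S.a • ω = ω) : ω = S.inf ∨ ∃ y, ω = S.pt 0 y 0 := by
  rcases S.Ω_cases ω with h1 | ⟨x, y, z, rfl⟩
  · exact Or.inl h1
  · rcases S.h_fix_pt h with h1 | ⟨rfl, rfl, -⟩
    · exact absurd (congrArg S.h h1 |>.trans (map_one _)) S.a_ne
    · exact Or.inr ⟨y, rfl⟩

theorem h_sq_eq_one {k : Fˣ} (h : S.h k * S.h k = 1) : S.h k = 1 ∨ S.h k = S.a := by
  rw [← map_mul, h_eq_one, ← sq, Units.ext_iff] at h
  rcases sq_eq_one_iff.1 (by simpa using h : (k : F) ^ 2 = 1) with h | h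
  · exact Or.inl (S.h_eq_one.2 (Units.ext h))
  · exact Or.inr (congrArg S.h (Units.ext h))

/-- normal form of the elements of `B` outside `U` -/
theorem B_conj (a b c : F) {k : Fˣ} (hk : k ≠ 1) : ∃ v ∈ S.U, ∃ b',
    S.u a b c * S.h k = v * (S.u 0 b' 0 * S.h k) * v⁻¹ ∧ (k ≠ -1 → b' = 0) := by
  have h1 : 1 - (k : F) ≠ 0 := fun h => hk (Units.ext (sub_eq_zero.1 h).symm)
  have h3 : 1 - (k : F) ^ 2 * S.σ k ≠ 0 := fun h =>
    hk (Units.ext (S.χ3_eq_one (sub_eq_zero.1 h).symm))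
  obtain ⟨x, hx⟩ : ∃ x, x = a + k * x := ⟨a / (1 - k), by field_simp; ring⟩
  obtain ⟨y, b', hy, hb⟩ : ∃ y b', y + b' = b + k * S.σ k * y - a * S.σ (k * x) ∧ (k ≠ -1 → b' = 0) := by
    by_cases h : k = -1
    · exact ⟨0, _, by rw [zero_add], fun h' => absurd h h'⟩
    · have h2 : 1 - (k : F) * S.σ k ≠ 0 := fun e => by
        rcases S.χ2_eq_one (sub_eq_zero.1 e).symm with e | e
        exacts [hk (Units.ext e), h (Units.ext e)]
      exact ⟨(b - a * S.σ (k * x)) / (1 - k * S.σ k), 0, by field_simp; ring, fun _ => rfl⟩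
  obtain ⟨z, hz⟩ : ∃ z, z = c + k ^ 2 * S.σ k * z - b * (k * x) + a * (k * x) * S.σ (k * x) -
      a ^ 2 * S.σ (k * x) := ⟨(c - b * (k * x) + a * (k * x) * S.σ (k * x) - a ^ 2 * S.σ (k * x)) /
        (1 - k ^ 2 * S.σ k), by field_simp; ring⟩
  refine ⟨S.u x y z, S.u_mem _ _ _, b', ?_, hb⟩
  rw [eq_mul_inv_iff_mul_eq, mul_assoc, h_mul_u, ← mul_assoc, ← mul_assoc, S.u_mul, S.u_mul, ← hx,
    ← hy, ← hz]
  simp

theorem isConj_a_of_fix {x : G} (h1 : x ≠ 1) (h2 : x * x = 1) {ω : S.Ω} (h : x • ω = ω) :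
    IsConj S.a x := by
  obtain ⟨g, rfl⟩ := S.exists_smul_inf ω
  obtain ⟨a, b, c, k, e⟩ := S.fix1 (S.conj_fix.2 h)
  have e2 : (g⁻¹ * x * g) ^ 2 = 1 := conj_pow_eq_one.2 (by rw [pow_two, h2])
  have e1 : g⁻¹ * x * g ≠ 1 := fun e => h1 (by simpa using conj_pow_eq_one (n := 1) |>.1 (by simpa using e))
  refine IsConj.trans ?_ (isConj_iff.2 ⟨g, by group⟩ : IsConj (g⁻¹ * x * g) x)
  rw [e] at e1 e2 ⊢
  have hk : k ≠ 1 := by
    rintro rfl
    rw [map_one, mul_one] at e1 e2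
    apply e1
    calc S.u a b c = S.u a b c ^ 9 * ((S.u a b c ^ 2) ^ 4)⁻¹ := by group
      _ = 1 := by rw [e2, u_pow_nine]; simp
  obtain rfl : k = -1 := S.h_inj ((S.h_sq_eq_one (by
    rw [← map_mul, ← pow_two, S.pow_eq_one_of e2, map_one])).resolve_left (by rwa [h_eq_one]))
  obtain ⟨v, -, b', e, -⟩ := S.B_conj a b c hk
  rw [e, conj_pow, conj_eq_one_iff, pow_two] at e2
  have e3 : S.u 0 b' 0 * S.a * (S.u 0 b' 0 * S.a) = S.u 0 (2 * b') 0 := by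
    rw [mul_assoc, ← mul_assoc S.a, a_mul_u, mul_assoc, a_mul_a, neg_zero, mul_one, y_mul, two_mul,
      add_zero]
  have : b' = 0 := by simpa [S.two_ne] using (S.u_eq_one.1 (e3.symm.trans e2)).2.1
  rw [e, this]
  exact isConj_iff.2 ⟨v, by simp [ReeS.a]⟩

theorem w_ne : S.w ≠ 1 := fun h => S.w_not_mem (h ▸ S.B.one_mem)

theorem isConj_w : IsConj S.a S.w :=
  S.isConj_a_of_fix S.w_ne S.w_mul_w (ω := S.pt 1 0 0) (by
    rw [pt_eq, ← mul_smul, ← mul_assoc, S.rel2, mul_smul, S.fix_inf.2 ⟨_, _, _, _, rfl⟩])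

theorem wa_ne : S.w * S.a ≠ 1 := fun h =>
  S.w_not_mem ((S.B.mul_mem_cancel_right (S.h_mem_B (-1))).1 (h ▸ S.B.one_mem))

theorem wa_sq : S.w * S.a * (S.w * S.a) = 1 := by
  rw [mul_assoc, ← mul_assoc S.a, a_mul_w, mul_assoc, a_mul_a, mul_one, S.w_mul_w]

theorem isConj_wa : IsConj S.a (S.w * S.a) := by
  have := S.charP
  refine S.isConj_a_of_fix S.wa_ne S.wa_sq (ω := S.pt 1 0 (-1)) ?_
  have h1 : S.w • S.pt 1 0 (-1) = S.pt (-1) 0 1 := by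
    have h2 : S.w * S.u 1 0 (-1) * S.w = (S.u 1 (-1) 1)⁻¹ * S.w * S.u 0 0 1 := by
      calc _ = (S.u 1 (-1) 1)⁻¹ * (S.u 1 (-1) 1 * S.w * S.u 1 0 (-1)) * S.w := by group
        _ = _ := by rw [← S.rel1, mul_assoc, mul_assoc, S.w_mul_w]; group
    rw [pt_eq, ← mul_smul, ← mul_assoc, h2, mul_smul, u_inf, u_inv, ← pt_eq, pt_inj]
    refine ⟨rfl, ?_, ?_⟩ <;> grind
  rw [mul_smul, a_pt, neg_neg, ← h1, ← mul_smul, S.w_mul_w, one_smul]

theorem swap_eq {c : G} (h1 : c • S.inf = S.pt 0 0 0) (h2 : c • S.pt 0 0 0 = S.inf) :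
    ∃ k, c = S.w * S.h k := by
  obtain ⟨k, hk⟩ := S.fix2 (g := S.w * c) (by rw [mul_smul, h1, w_zero]) (by rw [mul_smul, h2, w_inf])
  exact ⟨k, by rw [← hk, ← mul_assoc, S.w_mul_w, one_mul]⟩

include S in
theorem sq_or (k : Fˣ) : (∃ s : Fˣ, k = s ^ 2) ∨ ∃ s : Fˣ, k = -s ^ 2 := by
  classical
  have := S.charP
  have h2 : ringChar F ≠ 2 := by rw [ringChar.eq F 3]; decide
  have h1 : quadraticChar F (-1) = -1 := quadraticChar_neg_one_iff_not_isSquare.2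
    (fun ⟨x, hx⟩ => S.sq_ne_neg_one x (by rw [hx, pow_two]))
  have : IsSquare (k : F) ∨ IsSquare (-k : F) := by
    rw [← quadraticChar_one_iff_isSquare k.ne_zero,
      ← quadraticChar_one_iff_isSquare (neg_ne_zero.2 k.ne_zero), ← neg_one_mul, map_mul, h1]
    rcases quadraticChar_dichotomy k.ne_zero with e | e <;> simp [e]
  rcases this with ⟨z, hz⟩ | ⟨z, hz⟩
  · have h0 : z ≠ 0 := by rintro rfl; simp at hz
    exact Or.inl ⟨Units.mk0 z h0, Units.ext (by simp [hz, sq])⟩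
  · have h0 : z ≠ 0 := by rintro rfl; simp at hz
    exact Or.inr ⟨Units.mk0 z h0, Units.ext (by simp [← hz, sq])⟩

theorem h_conj_w (s : Fˣ) : (S.h s)⁻¹ * S.w * S.h s = S.w * S.h (s ^ 2) := by
  rw [← map_inv, h_mul_w, inv_inv, mul_assoc, ← map_mul, pow_two]

/-- all involutions are conjugate -/
theorem isConj_a {x : G} (h1 : x ≠ 1) (h2 : x * x = 1) : IsConj S.a x := by
  by_cases h : x • S.inf = S.inf
  · exact S.isConj_a_of_fix h1 h2 h
  obtain ⟨g, e1, e2⟩ := S.exists_smul2 (Ne.symm h)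
  obtain ⟨k, hk⟩ := S.swap_eq (c := g⁻¹ * x * g) (by rw [mul_smul, mul_smul, e1, ← e2, inv_smul_smul])
    (by rw [mul_smul, mul_smul, e2, ← mul_smul x, h2, one_smul, inv_smul_eq_iff, e1])
  refine IsConj.trans ?_ (isConj_iff.2 ⟨g, by group⟩ : IsConj (g⁻¹ * x * g) x)
  rw [hk]
  rcases S.sq_or k with ⟨s, rfl⟩ | ⟨s, rfl⟩
  · exact S.isConj_w.trans (isConj_iff.2 ⟨(S.h s)⁻¹, by rw [inv_inv, h_conj_w]⟩)
  · refine S.isConj_wa.trans (isConj_iff.2 ⟨(S.h s)⁻¹, ?_⟩)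
    rw [inv_inv, mul_assoc, mul_assoc, a_mul_h, ← mul_assoc, ← mul_assoc, h_conj_w, mul_assoc, a,
      ← map_mul, mul_neg_one]

theorem exists_fix_of_sq {x : G} (h2 : x * x = 1) : ∃ ω : S.Ω, x • ω = ω := by
  by_cases h1 : x = 1
  · exact ⟨S.inf, by rw [h1, one_smul]⟩
  obtain ⟨c, rfl⟩ := isConj_iff.1 (S.isConj_a h1 h2)
  exact ⟨c • S.inf, by rw [mul_smul, inv_smul_smul, mul_smul, a_inf]⟩

/-! ### the split torus -/

theorem h_fix {k : Fˣ} (hk : S.h k * S.h k ≠ 1) {ω : S.Ω} (h : S.h k • ω = ω) :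
    ω = S.inf ∨ ω = S.pt 0 0 0 := by
  rcases S.Ω_cases ω with h1 | ⟨x, y, z, rfl⟩
  · exact Or.inl h1
  · rcases S.h_fix_pt h with rfl | ⟨rfl, rfl, rfl | rfl⟩
    · simp at hk
    · exact absurd S.a_mul_a hk
    · exact Or.inr rfl

theorem conj_h {k : Fˣ} (hk : S.h k * S.h k ≠ 1) {c : G} (hc : c * S.h k * c⁻¹ ∈ S.h.range) :
    c ∈ S.h.range ∨ ∃ s, c = S.w * S.h s := by
  obtain ⟨l, hl⟩ := hc
  have h2 : S.h l * S.h l ≠ 1 := by
    rwa [hl, ← pow_two, conj_pow, Ne, conj_eq_one_iff, pow_two]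
  have ha := S.h_fix h2 (ω := c • S.inf) (by rw [hl, mul_smul, inv_smul_smul, mul_smul, h_inf])
  have hb := S.h_fix h2 (ω := c • S.pt 0 0 0) (by rw [hl, mul_smul, inv_smul_smul, mul_smul, h_zero])
  have hne : c • S.pt 0 0 0 ≠ c • S.inf := (MulAction.injective c).ne (S.pt_ne_inf _ _ _)
  rcases ha with ha | ha <;> rcases hb with hb | hb
  · exact absurd (hb.trans ha.symm) hne
  · exact Or.inl (S.range_h ▸ ⟨ha, hb⟩)
  · exact Or.inr (S.swap_eq ha hb)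
  · exact absurd (hb.trans ha.symm) hne

theorem wh_conj (s k : Fˣ) : S.w * S.h s * S.h k * (S.w * S.h s)⁻¹ = (S.h k)⁻¹ := by
  rw [← S.w_h, mul_assoc S.w, ← map_mul, mul_comm s, map_mul]; group

theorem centralizer_h {k : Fˣ} (hk : S.h k * S.h k ≠ 1) : Subgroup.centralizer {S.h k} = S.h.range := by
  ext c
  rw [Subgroup.mem_centralizer_singleton_iff]
  constructor
  · intro hc
    have h2 : c * S.h k * c⁻¹ = S.h k := by rw [hc, mul_inv_cancel_right]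
    rcases S.conj_h hk ⟨k, h2.symm⟩ with h3 | ⟨s, rfl⟩
    · exact h3
    · rw [wh_conj, inv_eq_iff_mul_eq_one] at h2
      exact absurd h2 hk
  · rintro ⟨s, rfl⟩
    rw [← map_mul, mul_comm, map_mul]

theorem isCyclic_H : IsCyclic S.h.range :=
  isCyclic_of_surjective _ (MonoidHom.ofInjective S.h_inj).surjective

theorem mem_normalizer_H {X : Subgroup G} (hX : X ≤ S.h.range) {g : G} (hg : g ∈ X) (h1 : g * g ≠ 1)
    {c : G} : c ∈ Subgroup.normalizer (X : Set G) ↔ c ∈ S.h.range ∨ ∃ s, c = S.w * S.h s := by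
  have := S.finite
  constructor
  · intro hc
    obtain ⟨k, rfl⟩ := hX hg
    exact S.conj_h h1 (hX ((Subgroup.mem_normalizer_iff.1 hc _).1 hg))
  · intro hc
    apply Subgroup.mem_normalizer_fintype
    intro g hg
    obtain ⟨k, rfl⟩ := hX hg
    rcases hc with ⟨s, rfl⟩ | ⟨s, rfl⟩
    · rwa [← map_mul, mul_comm s, map_mul, mul_inv_cancel_right]
    · rw [wh_conj]
      exact X.inv_mem hg

theorem card_normalizer_H {X : Subgroup G} (hX : X ≤ S.h.range) {g : G} (hg : g ∈ X) (h1 : g * g ≠ 1) :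
    Nat.card (Subgroup.normalizer (X : Set G)) = 2 * (Fintype.card F - 1) := by
  have hle : S.h.range ≤ Subgroup.normalizer (X : Set G) := fun g hg' =>
    (S.mem_normalizer_H hX hg h1).2 (Or.inl hg')
  have hw : ∀ s, S.w * S.h s ∉ S.h.range := by
    rintro s ⟨t, e⟩
    exact S.w_not_mem ((S.B.mul_mem_cancel_right (S.h_mem_B s)).1 (e ▸ S.h_mem_B t))
  have h2 : (S.h.range.subgroupOf (Subgroup.normalizer (X : Set G))).index = 2 := by
    rw [Subgroup.index_eq_two_iff]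
    refine ⟨⟨S.w, (S.mem_normalizer_H hX hg h1).2 (Or.inr ⟨1, by simp⟩)⟩, ?_⟩
    rintro ⟨c, hc⟩
    simp only [Subgroup.mem_subgroupOf, Subgroup.coe_mul]
    rcases (S.mem_normalizer_H hX hg h1).1 hc with ⟨s, rfl⟩ | ⟨s, rfl⟩
    · exact Or.inr ⟨⟨s, rfl⟩, by rw [h_mul_w]; exact hw _⟩
    · exact Or.inl ⟨⟨s⁻¹, by rw [w_mul_h, mul_assoc, S.w_mul_w, mul_one]⟩, hw _⟩
  rw [← (S.h.range.subgroupOf _).index_mul_card, h2, ← S.card_T]
  congr 1
  exact Nat.card_congr (Subgroup.subgroupOfEquivOfLe hle).toEquiv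

/-- three point stabilisers -/
theorem card_stab3 {α β γ : S.Ω} (h1 : α ≠ β) (h2 : α ≠ γ) (h3 : β ≠ γ) :
    Nat.card ↥(MulAction.stabilizer G α ⊓ MulAction.stabilizer G β ⊓ MulAction.stabilizer G γ) ≤ 2 := by
  obtain ⟨k, rfl, rfl⟩ := S.exists_smul2 h1
  rw [← SetLike.coe_sort_coe, Nat.card_coe_set_eq]
  refine (Set.ncard_le_ncard (t := {1, k * S.a * k⁻¹}) ?_).trans (Set.ncard_insert_le _ _ |>.trans (by simp))
  rintro g ⟨⟨ha, hb⟩, hc⟩
  obtain ⟨t, ht⟩ := S.fix2 (S.conj_fix.2 ha) (S.conj_fix.2 hb)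
  have hg : g = k * S.h t * k⁻¹ := by rw [← ht]; group
  by_cases h : S.h t * S.h t = 1
  · rcases S.h_sq_eq_one h with h | h <;> simp [hg, h]
  · rcases S.h_fix h (ω := k⁻¹ • γ) (by rw [← ht, conj_fix, smul_inv_smul]; exact hc) with h | h
    · exact absurd (by rw [← h, smul_inv_smul]) h2
    · exact absurd (by rw [← h, smul_inv_smul]) h3

theorem card_stab3' : Nat.card ↥(MulAction.stabilizer G S.inf ⊓ MulAction.stabilizer G (S.pt 0 0 0) ⊓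
    MulAction.stabilizer G (S.pt 0 1 0)) = 2 := by
  have := S.finite
  refine le_antisymm (S.card_stab3 (S.pt_ne_inf _ _ _).symm (S.pt_ne_inf _ _ _).symm
    (by rw [Ne, pt_inj]; simp)) ?_
  rw [Nat.succ_le_iff, Finite.one_lt_card_iff_nontrivial]
  exact ⟨⟨S.a, ⟨S.a_inf, S.h_zero _⟩, (S.a_pt 0 1 0).trans (by simp)⟩, 1,
    fun h => S.a_ne (congrArg Subtype.val h)⟩

end ReeS

end H5.Ree
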