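import Cfsg.Agent.H5.RE3
import Cfsg.Agent.H4.SLBasic

/-! Small Ree groups: the centraliser of an involution. -/

namespace H5.Ree
open scoped Pointwise MatrixGroups
open H5.Sz H5.Sz.SzS

section SL2
variable {F : Type*} [Field F]

theorem sl2_ext {M N : SL(2, F)} (h00 : M 0 0 = N 0 0) (h01 : M 0 1 = N 0 1) (h10 : M 1 0 = N 1 0)
    (h11 : M 1 1 = N 1 1) : M = N := by
  ext i j
  fin_cases i <;> fin_cases j <;> assumption

theorem sl2_mul (M N : SL(2, F)) (i j : Fin 2) : (M * N) i j = M i 0 * N 0 j + M i 1 * N 1 j := by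
  simp [Matrix.mul_apply, Fin.sum_univ_two]

theorem sl2_neg (M : SL(2, F)) (i j : Fin 2) : (-M) i j = -M i j := by simp

theorem sl2_eq_iff {M N : SL(2, F)} :
    M = N ↔ M 0 0 = N 0 0 ∧ M 0 1 = N 0 1 ∧ M 1 0 = N 1 0 ∧ M 1 1 = N 1 1 :=
  ⟨by rintro rfl; simp, fun h => sl2_ext h.1 h.2.1 h.2.2.1 h.2.2.2⟩

theorem sl2_pm {M : SL(2, F)} (h1 : M 0 1 = 0) (h2 : M 1 0 = 0) (h3 : M 0 0 = M 1 1) :
    M = 1 ∨ M = -1 := by
  have := sl2_det M
  rw [h1, ← h3, zero_mul, sub_zero, ← pow_two] at this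
  rcases sq_eq_one_iff.1 this with h | h
  · exact Or.inl (sl2_ext (by simpa) (by simpa) (by simpa) (by simpa [← h3]))
  · exact Or.inr (sl2_ext (by simpa) (by simpa) (by simpa) (by simpa [← h3]))

theorem sl2_comm {M N N' : SL(2, F)} (hM : ¬ (M = 1 ∨ M = -1)) (h : N * M = M * N)
    (h' : N' * M = M * N') : N * N' = N' * N := by
  simp only [sl2_eq_iff, sl2_mul] at h h' ⊢
  have key : M 0 1 ≠ 0 ∨ M 1 0 ≠ 0 ∨ M 0 0 - M 1 1 ≠ 0 := by
    by_contra hc
    push Not at hc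
    exact hM (sl2_pm hc.1 hc.2.1 (sub_eq_zero.1 hc.2.2))
  obtain ⟨h1, h2, h3, -⟩ := h
  obtain ⟨k1, k2, k3, -⟩ := h'
  rcases key with e | e | e <;> refine ⟨?_, ?_, ?_, ?_⟩ <;> apply mul_left_cancel₀ e <;> grind

theorem sl2_anti (h2 : (2 : F) ≠ 0) {M N : SL(2, F)} (h : N * M = -(M * N)) : M * M = -1 := by
  have ht : M 0 0 + M 1 1 = 0 := by
    have h1 : N * M * N⁻¹ = -M := by rw [h, neg_mul, mul_inv_cancel_right]
    have h3 := congrArg (fun A : SL(2, F) => Matrix.trace (A : Matrix (Fin 2) (Fin 2) F)) h1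
    simp only [Matrix.SpecialLinearGroup.coe_mul, Matrix.SpecialLinearGroup.coe_neg,
      Matrix.trace_neg] at h3
    rw [Matrix.trace_mul_cycle, ← Matrix.SpecialLinearGroup.coe_mul, inv_mul_cancel,
      Matrix.SpecialLinearGroup.coe_one, one_mul, Matrix.trace_fin_two] at h3
    apply mul_left_cancel₀ h2
    linear_combination h3
  have hd := sl2_det M
  refine sl2_ext ?_ ?_ ?_ ?_ <;> simp only [sl2_mul, sl2_neg] <;> simp
  · linear_combination M 0 0 * ht - hd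
  · linear_combination M 0 1 * ht
  · linear_combination M 1 0 * ht
  · linear_combination M 1 1 * ht - hd

theorem JJ_sq : JJ F * JJ F = -1 := by
  refine sl2_ext ?_ ?_ ?_ ?_ <;> simp [sl2_mul]

/-- the non-split torus -/
def KJ (F : Type*) [Field F] : Subgroup SL(2, F) := Subgroup.centralizer {JJ F}

theorem mem_KJ {M : SL(2, F)} : M ∈ KJ F ↔ M 1 0 = -M 0 1 ∧ M 1 1 = M 0 0 := by
  rw [KJ, Subgroup.mem_centralizer_singleton_iff, sl2_eq_iff]
  simp only [sl2_mul, coe_JJ]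
  simp
  grind

theorem JJ_mem : JJ F ∈ KJ F := Subgroup.mem_centralizer_singleton_iff.2 rfl

theorem neg_one_mem_KJ : -1 ∈ KJ F := mem_KJ.2 (by simp)

theorem isCyclic_KJ [Finite F] (h : ∀ x : F, x ^ 2 ≠ -1) : IsCyclic (KJ F) := by
  have : Fact (∀ r : F, r ^ 2 ≠ -1 + 0 * r) := ⟨by simpa using h⟩
  refine isCyclic_of_injective_ringHom
    ({ toFun := fun M => ⟨M.1 0 0, M.1 0 1⟩
       map_one' := by ext <;> simp [QuadraticAlgebra.re_one, QuadraticAlgebra.im_one]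
       map_mul' := fun M N => by
         have := mem_KJ.1 N.2
         ext <;> simp [sl2_mul, this.1, this.2] <;> ring } : KJ F →* QuadraticAlgebra F (-1) 0) ?_
  intro M N e
  have h1 := mem_KJ.1 M.2
  have h2 := mem_KJ.1 N.2
  have e1 : M.1 0 0 = N.1 0 0 := congrArg QuadraticAlgebra.re e
  have e2 : M.1 0 1 = N.1 0 1 := congrArg QuadraticAlgebra.im e
  exact Subtype.ext (sl2_ext e1 e2 (by rw [h1.1, h2.1, e2]) (by rw [h1.2, h2.2, e1]))

theorem card_KJ [Fintype F] (h : ∀ x : F, x ^ 2 ≠ -1) (h2 : (2 : F) ≠ 0) :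
    Nat.card (KJ F) = Fintype.card F + 1 := by
  have h1 : ∀ t : F, 1 + t ^ 2 ≠ 0 := fun t e => h t (by linear_combination e)
  let f : F → KJ F := fun t => ⟨⟨!![(1 - t ^ 2) / (1 + t ^ 2), 2 * t / (1 + t ^ 2);
    -(2 * t / (1 + t ^ 2)), (1 - t ^ 2) / (1 + t ^ 2)], by
      have := h1 t
      rw [Matrix.det_fin_two_of]; field_simp; ring⟩, mem_KJ.2 ⟨rfl, rfl⟩⟩
  have hf : ∀ t, (f t).1 0 0 = (1 - t ^ 2) / (1 + t ^ 2) ∧ (f t).1 0 1 = 2 * t / (1 + t ^ 2) :=
    fun t => ⟨rfl, rfl⟩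
  have : Nat.card (Option F) = Nat.card (KJ F) := by
    refine Nat.card_congr (Equiv.ofBijective (fun p => p.elim ⟨-1, neg_one_mem_KJ⟩ f) ⟨?_, ?_⟩)
    · have key : ∀ t, f t ≠ ⟨-1, neg_one_mem_KJ⟩ := fun t e => by
        have e1 := (hf t).1
        have := h1 t
        rw [e] at e1
        simp at e1
        field_simp at e1
        exact h2 (by linear_combination -e1)
      rintro (_ | s) (_ | t) e
      · rfl
      · exact absurd e.symm (key _)
      · exact absurd e (key _)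
      · have e1 := (hf s).1
        have e2 := (hf s).2
        rw [show f s = f t from e] at e1 e2
        rw [(hf t).1] at e1
        rw [(hf t).2] at e2
        have := h1 s
        have := h1 t
        field_simp at e1 e2
        have e3 : s ^ 2 = t ^ 2 := mul_left_cancel₀ h2 (by linear_combination e1)
        rw [e3] at e2
        exact congrArg some (mul_right_cancel₀ (h1 t) (by linear_combination -e2))
    · rintro ⟨M, hM⟩
      have h3 := mem_KJ.1 hM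
      have hd := sl2_det M
      rw [h3.1, h3.2] at hd
      by_cases e : 1 + M 0 0 = 0
      · have e0 : M 0 0 = -1 := by linear_combination e
        have e1 : M 0 1 = 0 := by
          apply pow_eq_zero_iff (n := 2) two_ne_zero |>.1
          rw [e0] at hd; linear_combination hd
        exact ⟨none, Subtype.ext (sl2_ext (by simp [e0]) (by simp [e1]) (by simp [h3.1, e1])
          (by simp [h3.2, e0]))⟩
      · have e2 : 1 + (M 0 1 / (1 + M 0 0)) ^ 2 = 2 / (1 + M 0 0) := by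
          field_simp; linear_combination hd
        have e3 : (f (M 0 1 / (1 + M 0 0))).1 0 0 = M 0 0 := by
          rw [(hf _).1, show 1 - (M 0 1 / (1 + M 0 0)) ^ 2 = 2 - (1 + (M 0 1 / (1 + M 0 0)) ^ 2) by ring,
            e2]
          field_simp; ring
        have e4 : (f (M 0 1 / (1 + M 0 0))).1 0 1 = M 0 1 := by
          rw [(hf _).2, e2]; field_simp
        have h4 := mem_KJ.1 (f (M 0 1 / (1 + M 0 0))).2
        exact ⟨some _, Subtype.ext (sl2_ext e3 e4 (h4.1.trans (by rw [h3.1, e4]))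
          (h4.2.trans (by rw [h3.2, e3])))⟩
  rw [← this]
  simp

theorem center_sl2 {M : SL(2, F)} : M ∈ Subgroup.center SL(2, F) ↔ M = 1 ∨ M = -1 := by
  constructor
  · intro h
    rw [Subgroup.mem_center_iff] at h
    have h1 := h (up 1)
    have h2 := h (lo 1)
    simp only [sl2_eq_iff, sl2_mul, coe_up, coe_lo] at h1 h2
    simp at h1 h2
    exact sl2_pm h2.1 h1.1 (by grind)
  · rintro (rfl | rfl)
    · exact one_mem _
    · rw [Subgroup.mem_center_iff]; simp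

end SL2

theorem mem_zpowers_two {G : Type*} [Group G] {a x : G} (h : orderOf a = 2) :
    x ∈ Subgroup.zpowers a ↔ x = 1 ∨ x = a := by
  constructor
  · rintro ⟨k, rfl⟩
    have h2 : a ^ (2 : ℤ) = 1 := by rw [zpow_ofNat, ← h, pow_orderOf_eq_one]
    rcases Int.even_or_odd' k with ⟨n, rfl | rfl⟩ <;> simp [zpow_add, zpow_mul, h2]
  · rintro (rfl | rfl)
    exacts [one_mem _, Subgroup.mem_zpowers _]

namespace ReeS
variable {F : Type*} [Field F] [Fintype F] {m : ℕ} {G : Type*} [Group G] (S : ReeS F m G)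

theorem φ_lo (t : F) : S.φ (lo t) = S.w * S.u 0 (-t) 0 * S.w⁻¹ := by
  rw [lo_eq, map_mul, map_mul, map_inv, S.φ_w, S.φ_up]

theorem φ_neg_one : S.φ (-1) = 1 := by rw [← JJ_sq, map_mul, S.φ_w, S.w_mul_w]

theorem φ_neg (M : SL(2, F)) : S.φ (-M) = S.φ M := by rw [← neg_one_mul, map_mul, φ_neg_one, one_mul]

theorem lower_eq_zero {M : SL(2, F)} (h : S.φ M ∈ S.B) : M 1 0 = 0 := by
  by_contra hc
  rw [sl2_decomp M hc, map_mul, map_mul, S.φ_up, S.φ_up, φ_lo, mul_mem_cancel_right (S.u_mem_B _ _ _),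
    mul_mem_cancel_left (S.u_mem_B _ _ _)] at h
  obtain ⟨x, y, z, k, e⟩ := h
  exact hc (neg_eq_zero.1 (S.disj _ _ _ _ _ _ _ e).2.1)

theorem diag_of {M : SL(2, F)} {k : Fˣ} (h : S.φ M = S.h k) :
    M 0 1 = 0 ∧ M 1 0 = 0 ∧ M 0 0 ^ 2 = k * S.σ k := by
  have h1 := S.lower_eq_zero (h ▸ S.h_mem_B k)
  have h2 : M 0 1 = 0 := by
    have := S.lower_eq_zero (M := (JJ F)⁻¹ * M * JJ F) (by
      rw [map_mul, map_mul, map_inv, S.φ_w, h, w_inv, mul_assoc, h_mul_w, ← mul_assoc, S.w_mul_w, one_mul]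
      exact S.h_mem_B _)
    rw [inv_eq_of_mul_eq_one_right (by rw [mul_neg, JJ_sq, neg_neg] : JJ F * -JJ F = 1)] at this
    simp only [sl2_mul, sl2_neg, coe_JJ] at this
    simpa [h1] using this
  have hd := sl2_det M
  rw [h2, zero_mul, sub_zero] at hd
  have h3 : M * up 1 = up (M 0 0 ^ 2) * M := by
    refine sl2_ext ?_ ?_ ?_ ?_ <;> simp [sl2_mul, h1, h2]
    linear_combination -M 0 0 * hd
  have h4 := congrArg S.φ h3
  rw [map_mul, map_mul, h, S.φ_up, S.φ_up, h_mul_u, mul_left_inj, u_eq_iff] at h4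
  exact ⟨h2, h1, by simpa using h4.2.1.symm⟩

theorem pm_of {M : SL(2, F)} {k : Fˣ} (h : S.φ M = S.h k) (hk : k * S.σ k = 1) : M = 1 ∨ M = -1 := by
  obtain ⟨h1, h2, h3⟩ := S.diag_of h
  have hd := sl2_det M
  rw [hk] at h3
  exact sl2_pm h1 h2 (by linear_combination M 1 1 * h3 - M 0 0 * hd - M 0 0 * M 1 0 * h1)

theorem φ_eq_one {M : SL(2, F)} : S.φ M = 1 ↔ M = 1 ∨ M = -1 :=
  ⟨fun h => S.pm_of (k := 1) (by rw [h, map_one]) (by simp),
    by rintro (rfl | rfl); exacts [map_one _, S.φ_neg_one]⟩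

theorem φ_eq_φ {M N : SL(2, F)} : S.φ M = S.φ N ↔ M = N ∨ M = -N := by
  rw [← mul_inv_eq_one, ← map_inv, ← map_mul, φ_eq_one, mul_inv_eq_one, mul_inv_eq_iff_eq_mul, neg_one_mul]

theorem φ_ne_a (M : SL(2, F)) : S.φ M ≠ S.a := fun h =>
  S.a_ne (h ▸ S.φ_eq_one.2 (S.pm_of h (by simp)))

theorem a_comm_φ (M : SL(2, F)) : S.a * S.φ M = S.φ M * S.a := by
  have : (Subgroup.centralizer {S.a}).comap S.φ = ⊤ := sl2_eq_top (fun t => by
    rw [Subgroup.mem_comap, Subgroup.mem_centralizer_singleton_iff, S.φ_up, a_mul_u]; simp) (fun t => by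
    rw [Subgroup.mem_comap, φ_lo]
    have := Subgroup.mem_centralizer_singleton_iff.2 S.a_mul_w.symm
    exact mul_mem (mul_mem this (by
      rw [Subgroup.mem_centralizer_singleton_iff, a_mul_u]; simp)) (inv_mem this))
  exact (Subgroup.mem_centralizer_singleton_iff.1 (this ▸ Subgroup.mem_top M :
    M ∈ (Subgroup.centralizer {S.a}).comap S.φ)).symm

theorem exists_diag (s : Fˣ) : ∃ (M : SL(2, F)) (k : Fˣ), S.φ M = S.h k ∧ k * S.σ k = s ^ 2 := by
  obtain ⟨M, hM⟩ : ∃ M : SL(2, F), (M : Matrix (Fin 2) (Fin 2) F) = !![(s : F), 0; 0, (s : F)⁻¹] :=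
    ⟨⟨_, by simp⟩, rfl⟩
  have h1 : M * up 1 = up ((s : F) ^ 2) * M := by
    refine sl2_ext ?_ ?_ ?_ ?_ <;> simp only [sl2_mul] <;> simp [hM, pow_two]
  have h2 : M * JJ F * M = JJ F := by
    refine sl2_ext ?_ ?_ ?_ ?_ <;> simp only [sl2_mul] <;> simp [hM]
  have h3 : S.φ M • S.inf = S.inf := S.U_fix (S.u_mem 0 (s ^ 2) 0) (by simp [u_eq_one]) (by
    rw [← S.φ_up, ← mul_smul, ← map_mul, ← h1, map_mul, mul_smul, S.φ_up, u_inf])
  obtain ⟨k, hk⟩ := S.fix2 h3 (by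
    rw [← w_inf, ← S.φ_w]
    nth_rw 1 [← h3]
    rw [← mul_smul, ← mul_smul, ← map_mul, ← map_mul, h2])
  exact ⟨M, k, hk, by simpa [hM] using (S.diag_of hk).2.2.symm⟩

theorem h_mem_L (k : Fˣ) : ∃ M, S.h k = S.φ M ∨ S.h k = S.a * S.φ M := by
  obtain ⟨n, hn⟩ : Even (1 + 3 ^ (m + 1)) := Odd.add_odd odd_one (Odd.pow (by decide))
  obtain ⟨M, l, h1, h2⟩ := S.exists_diag (k ^ n)
  have h3 : (k : F) * S.σ k = l * S.σ l := by
    rw [h2, S.hσ, ← pow_succ', add_comm, hn, Units.val_pow_eq_pow_val, pow_add, pow_two]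
  have := S.σ_ne l.ne_zero
  have h4 : ((k / l : Fˣ) : F) * S.σ (k / l : Fˣ) = 1 := by
    rw [Units.val_div_eq_div_val, map_div₀]; field_simp; exact h3
  refine ⟨M, ?_⟩
  rcases S.χ2_eq_one h4 with h | h
  · exact Or.inl (by rw [h1, div_eq_one.1 (Units.ext h : k / l = 1)])
  · exact Or.inr (by rw [h1, div_eq_iff_eq_mul.1 (Units.ext h : k / l = -1), map_mul]; rfl)

theorem exists_φ_fix {ω : S.Ω} (h : S.a • ω = ω) : ∃ M, S.φ M • S.inf = ω := by
  rcases S.a_fix h with rfl | ⟨y, rfl⟩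
  · exact ⟨1, by simp⟩
  · exact ⟨up y * JJ F, by rw [map_mul, S.φ_up, S.φ_w, pt_eq]⟩

theorem comm_a_iff {g : G} : g * S.a = S.a * g ↔ ∃ M, g = S.φ M ∨ g = S.a * S.φ M := by
  constructor
  · intro h
    obtain ⟨M, hM⟩ := S.exists_φ_fix (ω := g • S.inf) (by rw [← mul_smul, ← h, mul_smul, a_inf])
    have h1 : ((S.φ M)⁻¹ * g) • S.inf = S.inf := by rw [mul_smul, ← hM, inv_smul_smul]
    have h2 : (S.φ M)⁻¹ * g * S.a = S.a * ((S.φ M)⁻¹ * g) := by
      rw [mul_assoc, h, ← map_inv, ← mul_assoc, ← a_comm_φ, mul_assoc]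
    obtain ⟨x, y, z, k, e⟩ := S.fix1 h1
    rw [e, ← mul_assoc, a_mul_u, mul_assoc, mul_assoc, a_mul_h, mul_left_inj, u_eq_iff] at h2
    have hx : x = 0 := mul_left_cancel₀ S.two_ne (by linear_combination h2.1)
    have hz : z = 0 := mul_left_cancel₀ S.two_ne (by linear_combination h2.2.2)
    subst hx hz
    rw [inv_mul_eq_iff_eq_mul, ← S.φ_up] at e
    obtain ⟨N, hN | hN⟩ := S.h_mem_L k
    · exact ⟨M * (up y * N), Or.inl (by rw [e, hN, map_mul, map_mul])⟩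
    · exact ⟨M * (up y * N), Or.inr (by
        rw [e, hN, map_mul, map_mul, ← mul_assoc (S.φ (up y)), ← a_comm_φ, ← mul_assoc, ← mul_assoc,
          ← a_comm_φ]; simp only [mul_assoc])⟩
  · rintro ⟨M, rfl | rfl⟩
    · exact (S.a_comm_φ M).symm
    · rw [mul_assoc, a_comm_φ]

theorem ker_φ : S.φ.ker = Subgroup.center SL(2, F) := by
  ext M; rw [MonoidHom.mem_ker, φ_eq_one, center_sl2]

theorem orderOf_a : orderOf S.a = 2 := orderOf_eq_prime (by rw [pow_two, a_mul_a]) S.a_ne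

theorem centralizer_a_equiv : Nonempty (Subgroup.centralizer {S.a} ≃*
    Multiplicative (ZMod 2) × Matrix.ProjectiveSpecialLinearGroup (Fin 2) F) := by
  have hc : ∀ (x : Subgroup.zpowers S.a) (y : S.φ.range), Commute ((Subgroup.zpowers S.a).subtype x)
      (S.φ.range.subtype y) := by
    rintro ⟨_, k, rfl⟩ ⟨_, M, rfl⟩
    exact Commute.zpow_left (S.a_comm_φ M) k
  have hi : Function.Injective (MonoidHom.noncommCoprod _ _ hc) := by
    rw [MonoidHom.noncommCoprod_injective]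
    refine ⟨Subgroup.subtype_injective _, Subgroup.subtype_injective _, ?_⟩
    rw [Subgroup.range_subtype, Subgroup.range_subtype, Subgroup.disjoint_def]
    rintro x hx ⟨M, rfl⟩
    rw [mem_zpowers_two S.orderOf_a] at hx
    exact hx.resolve_right (S.φ_ne_a M)
  have hr : (MonoidHom.noncommCoprod _ _ hc).range = Subgroup.centralizer {S.a} := by
    ext g
    rw [Subgroup.mem_centralizer_singleton_iff, comm_a_iff]
    constructor
    · rintro ⟨⟨⟨x, hx⟩, _, M, rfl⟩, rfl⟩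
      rw [mem_zpowers_two S.orderOf_a] at hx
      rcases hx with rfl | rfl
      · exact ⟨M, Or.inl (by simp)⟩
      · exact ⟨M, Or.inr (by simp)⟩
    · rintro ⟨M, rfl | rfl⟩
      · exact ⟨(1, ⟨_, M, rfl⟩), by simp⟩
      · exact ⟨(⟨_, Subgroup.mem_zpowers _⟩, ⟨_, M, rfl⟩), by simp⟩
  have := Fact.mk Nat.prime_two
  exact ⟨(MulEquiv.subgroupCongr hr).symm.trans ((MonoidHom.ofInjective hi).symm.trans
    (MulEquiv.prodCongr (mulEquivOfPrimeCardEq (p := 2) (by rw [Nat.card_zpowers, orderOf_a]) (by simp))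
      ((QuotientGroup.quotientKerEquivRange S.φ).symm.trans
        (QuotientGroup.quotientMulEquivOfEq S.ker_φ))))⟩

theorem card_centralizer_a : Nat.card (Subgroup.centralizer {S.a}) =
    Fintype.card F * (Fintype.card F - 1) * (Fintype.card F + 1) := by
  obtain ⟨e⟩ := S.centralizer_a_equiv
  have h1 := H4.card_psl_mul (ι := Fin 2) (F := F)
  have h2 := S.card_mod
  rw [H4.card_sl2, Nat.card_eq_fintype_card (α := F), Fintype.card_fin,
    Nat.gcd_eq_left (by omega)] at h1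
  rw [Nat.card_congr e.toEquiv, Nat.card_prod, ← h1]
  simp

theorem φ_comm {M N : SL(2, F)} (hM : S.φ M * S.φ M ≠ 1) (h : S.φ N * S.φ M = S.φ M * S.φ N) :
    N * M = M * N := by
  rw [← map_mul, ← map_mul, φ_eq_φ] at h
  exact h.resolve_right fun h => hM (by rw [← map_mul, sl2_anti S.two_ne h, φ_neg_one])

theorem exists_φ {g : G} (h : g * S.a = S.a * g) : ∃ M, (g = S.φ M ∨ g = S.a * S.φ M) ∧
    g * g = S.φ M * S.φ M ∧ ∀ x, x * S.a = S.a * x → (x * g = g * x ↔ x * S.φ M = S.φ M * x) := by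
  obtain ⟨M, rfl | rfl⟩ := S.comm_a_iff.1 h
  · exact ⟨M, Or.inl rfl, rfl, fun _ _ => Iff.rfl⟩
  · refine ⟨M, Or.inr rfl, ?_, fun x hx => ?_⟩
    · rw [mul_assoc, ← mul_assoc (S.φ M), ← a_comm_φ, ← mul_assoc, ← mul_assoc, a_mul_a, one_mul]
    · rw [← mul_assoc, hx, mul_assoc, mul_assoc, mul_right_inj]

theorem comm_of_a {y c d : G} (hy : y * y ≠ 1) (h0 : y * S.a = S.a * y) (h1 : c * S.a = S.a * c)
    (h2 : c * y = y * c) (h3 : d * S.a = S.a * d) (h4 : d * y = y * d) : c * d = d * c := by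
  obtain ⟨M, -, e1, e2⟩ := S.exists_φ h0
  obtain ⟨N, -, -, e3⟩ := S.exists_φ h1
  obtain ⟨N', -, -, e4⟩ := S.exists_φ h3
  rw [e1] at hy
  have k1 := ((e3 _ (S.a_comm_φ M).symm).1 ((e2 c h1).1 h2).symm).symm
  have k2 := ((e4 _ (S.a_comm_φ M).symm).1 ((e2 d h3).1 h4).symm).symm
  have := sl2_comm (fun h => hy (by rw [S.φ_eq_one.2 h, one_mul])) (S.φ_comm hy k1) (S.φ_comm hy k2)
  refine (e4 c h1).2 ((e3 _ (S.a_comm_φ N').symm).2 ?_).symm
  rw [← map_mul, ← this, map_mul]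

include S in
/-- the centraliser of an involution and a non-involution is abelian -/
theorem comm_of_inv {x y c d : G} (hx : x ≠ 1) (hx2 : x * x = 1) (hy : y * y ≠ 1) (h0 : y * x = x * y)
    (h1 : c * x = x * c) (h2 : c * y = y * c) (h3 : d * x = x * d) (h4 : d * y = y * d) :
    c * d = d * c := by
  obtain ⟨g, rfl⟩ := isConj_iff.1 (S.isConj_a hx hx2)
  have key : ∀ {s t : G}, s * t = t * s ↔ g⁻¹ * s * g * (g⁻¹ * t * g) = g⁻¹ * t * g * (g⁻¹ * s * g) := by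
    intro s t
    simp only [mul_assoc, mul_inv_cancel_left, mul_right_inj]
    simp only [← mul_assoc, mul_left_inj]
  have e : g⁻¹ * (g * S.a * g⁻¹) * g = S.a := by group
  rw [key] at h0 h1 h2 h3 h4 ⊢
  rw [e] at h0 h1 h3
  refine S.comm_of_a (fun h => hy ?_) h0 h1 h2 h3 h4
  rw [← pow_two] at h ⊢
  exact conj_pow_eq_one.1 h

include S in
theorem sq_eq_one_of_four {g : G} (h : g ^ 4 = 1) : g * g = 1 := by
  by_contra hne
  have h2 : g * g * (g * g) = 1 := by rw [← h]; simp [pow_succ, mul_assoc]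
  obtain ⟨c, hc⟩ := isConj_iff.1 (S.isConj_a hne h2).symm
  obtain ⟨M, -, e, -⟩ := S.exists_φ (g := c * g * c⁻¹) (by rw [← hc]; group)
  exact S.φ_ne_a (M * M) (by rw [map_mul, ← e, ← hc]; group)

include S in
theorem sq_eq_one_of_two_pow {g : G} {n : ℕ} (h : g ^ 2 ^ n = 1) : g * g = 1 := by
  induction n generalizing g with
  | zero => rw [pow_zero, pow_one] at h; simp [h]
  | succ n ih =>
    rw [pow_succ', pow_mul] at h
    exact S.sq_eq_one_of_four (by rw [← ih h]; simp [pow_succ, mul_assoc])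

theorem conj_w_of_φ {M : SL(2, F)} (h1 : S.φ M ≠ 1) (h2 : S.φ M * S.φ M = 1) :
    ∃ N, S.φ N * S.w * (S.φ N)⁻¹ = S.φ M := by
  have h3 : S.φ M • S.inf ≠ S.inf := fun h => by
    have h4 := S.lower_eq_zero (S.fix_inf.1 h)
    rw [← map_mul, φ_eq_one] at h2
    have hd := sl2_det M
    rcases h2 with h2 | h2 <;> simp only [sl2_eq_iff, sl2_mul, sl2_neg, h4] at h2 hd <;> simp at h2 hd
    · have e : M 0 0 = M 1 1 := by linear_combination M 1 1 * h2.1 - M 0 0 * hd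
      refine h1 (S.φ_eq_one.2 (sl2_pm ?_ h4 e))
      apply mul_left_cancel₀ S.two_ne
      linear_combination M 0 0 * h2.2.1 - M 0 1 * (h2.1 + hd)
    · exact S.sq_ne_neg_one (M 0 0) (by linear_combination h2.1)
  obtain ⟨y, hy⟩ := (S.a_fix (ω := S.φ M • S.inf)
    (by rw [← mul_smul, a_comm_φ, mul_smul, a_inf])).resolve_left h3
  obtain ⟨k, hk⟩ := S.swap_eq (c := (S.u 0 y 0)⁻¹ * S.φ M * S.u 0 y 0)
    (by rw [mul_smul, mul_smul, u_inf, hy, inv_smul_eq_iff, u_zero_pt])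
    (by rw [mul_smul, mul_smul, u_zero_pt, ← hy, ← mul_smul (S.φ M), h2, one_smul, inv_smul_eq_iff, u_inf])
  have key : ∀ s : Fˣ, ∃ N, (S.φ N)⁻¹ * S.w * S.φ N = S.w * S.h (s ^ 2) := fun s => by
    obtain ⟨N, e | e⟩ := S.h_mem_L s
    · exact ⟨N, by rw [← e, h_conj_w]⟩
    · refine ⟨N, ?_⟩
      rw [← h_conj_w, e, mul_inv_rev, a_inv, mul_assoc _ S.a, a_mul_w]
      simp only [mul_assoc]
      rw [← mul_assoc S.a, a_mul_a, one_mul]
  rcases S.sq_or k with ⟨s, rfl⟩ | ⟨s, rfl⟩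
  · obtain ⟨N, e⟩ := key s
    refine ⟨up y * N⁻¹, ?_⟩
    rw [map_mul, map_inv, S.φ_up, mul_inv_rev, inv_inv, mul_assoc, mul_assoc, ← mul_assoc S.w,
      ← mul_assoc (S.φ N)⁻¹, ← mul_assoc (S.φ N)⁻¹, e, ← hk]
    group
  · obtain ⟨N, e⟩ := key s
    refine absurd ?_ (S.φ_ne_a ((N⁻¹ * JJ F * N)⁻¹ * ((up y)⁻¹ * M * up y)))
    simp only [map_mul, map_inv, S.φ_w, S.φ_up]
    rw [e, hk, ← mul_neg_one, map_mul]
    simp [a]

end ReeS

end H5.Ree
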