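import Cfsg.Agent.H5.RE4

/-! Small Ree groups: four-groups, the torus of order `q + 1`, Sylow 2-subgroups. -/

namespace H5.Ree
open scoped Pointwise MatrixGroups
open H5.Sz H5.Sz.SzS

section Gen
variable {G : Type*} [Group G]

theorem card_eq_orbit (N : Subgroup G) (x : G) :
    Nat.card N = {y | ∃ n ∈ N, n * x * n⁻¹ = y}.ncard * Nat.card ↥(N ⊓ Subgroup.centralizer {x}) := by
  letI : MulAction N G := MulAction.compHom G (MulAut.conj.comp N.subtype)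
  have h1 : MulAction.stabilizer N x = (N ⊓ Subgroup.centralizer {x}).subgroupOf N := by
    ext n
    rw [MulAction.mem_stabilizer_iff, Subgroup.mem_subgroupOf, Subgroup.mem_inf,
      Subgroup.mem_centralizer_singleton_iff]
    exact ⟨fun h => ⟨n.2, mul_inv_eq_iff_eq_mul.1 h⟩, fun h => mul_inv_eq_iff_eq_mul.2 h.2⟩
  have h2 : MulAction.orbit N x = {y | ∃ n ∈ N, n * x * n⁻¹ = y} := by
    ext y
    exact ⟨fun ⟨n, h⟩ => ⟨n, n.2, h⟩, fun ⟨n, hn, h⟩ => ⟨⟨n, hn⟩, h⟩⟩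
  rw [← (MulAction.stabilizer N x).index_mul_card, MulAction.index_stabilizer, h2, h1,
    Nat.card_congr (Subgroup.subgroupOfEquivOfLe inf_le_left).toEquiv]

theorem sylow_conj_in [Finite G] {p : ℕ} [Fact p.Prime] {K : Subgroup G} (P Q : Sylow p G)
    (hP : (P : Subgroup G) ≤ K) (hQ : (Q : Subgroup G) ≤ K) : ∃ d ∈ K, d • P = Q := by
  obtain ⟨d, hd⟩ := MulAction.exists_smul_eq K (P.subtype hP) (Q.subtype hQ)
  rw [Sylow.smul_subtype] at hd
  exact ⟨d, d.2, Sylow.subtype_injective hd⟩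

theorem dihedral_cases [Finite G] {x y : G} (hx : x * x = 1) (hy : y * y = 1) :
    (∃ k : ℕ, (x * y) ^ k * y * ((x * y) ^ k)⁻¹ = x) ∨ ∃ k : ℕ, (x * y) ^ k ≠ 1 ∧
      (x * y) ^ k * (x * y) ^ k = 1 ∧ x * (x * y) ^ k = (x * y) ^ k * x ∧ y * (x * y) ^ k = (x * y) ^ k * y := by
  have h1 : y * (x * y) * y⁻¹ = (x * y)⁻¹ := by
    rw [mul_inv_rev, inv_eq_of_mul_eq_one_right hx, inv_eq_of_mul_eq_one_right hy, mul_assoc, mul_assoc,
      hy, mul_one]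
  have h2 : ∀ k : ℕ, y * ((x * y) ^ k)⁻¹ = (x * y) ^ k * y := fun k => by
    rw [← inv_pow, ← h1, conj_pow, ← mul_assoc, ← mul_assoc, hy, one_mul, inv_eq_of_mul_eq_one_right hy]
  rcases Nat.even_or_odd' (orderOf (x * y)) with ⟨k, h | h⟩
  · have h3 : (x * y) ^ k * (x * y) ^ k = 1 := by rw [← pow_add, ← two_mul, ← h, pow_orderOf_eq_one]
    have h4 : y * (x * y) ^ k = (x * y) ^ k * y := by rw [← h2, inv_eq_of_mul_eq_one_right h3]
    have := orderOf_pos (x * y)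
    refine Or.inr ⟨k, pow_ne_one_of_lt_orderOf (by omega) (by omega), h3, ?_, h4⟩
    calc x * (x * y) ^ k = x * y * (y * (x * y) ^ k) := by rw [mul_assoc, ← mul_assoc y, hy, one_mul]
      _ = (x * y) ^ k * (x * y * y) := by rw [h4, ← mul_assoc, ← pow_succ', pow_succ, mul_assoc]
      _ = _ := by rw [mul_assoc x, hy, mul_one]
  · refine Or.inl ⟨k + 1, ?_⟩
    rw [mul_assoc, h2, ← mul_assoc, ← pow_add, show k + 1 + (k + 1) = 2 * k + 1 + 1 by ring, ← h,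
      pow_succ, pow_orderOf_eq_one, one_mul, mul_assoc, hy, mul_one]

theorem card_eq_two_mul {H K : Subgroup G} (h : H ≤ K) {a : G} (ha : a ∈ K) (h1 : a ∉ H)
    (h2 : ∀ k ∈ K, k ∈ H ∨ a * k ∈ H) : Nat.card K = 2 * Nat.card H := by
  have : (H.subgroupOf K).index = 2 := by
    rw [Subgroup.index_eq_two_iff']
    refine ⟨⟨a, ha⟩, fun ⟨k, hk⟩ => ?_⟩
    simp only [Subgroup.mem_subgroupOf, Subgroup.coe_mul]
    by_cases h3 : k ∈ H
    · exact Or.inr ⟨h3, fun h4 => h1 ((H.mul_mem_cancel_right h3).1 h4)⟩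
    · exact Or.inl ⟨(h2 k hk).resolve_left h3, h3⟩
  rw [← (H.subgroupOf K).index_mul_card, this, Nat.card_congr (Subgroup.subgroupOfEquivOfLe h).toEquiv]

end Gen

namespace ReeS
variable {F : Type*} [Field F] [Fintype F] {m : ℕ} {G : Type*} [Group G] (S : ReeS F m G)

/-- `(q + 1) / 4` -/
def n4 (F : Type*) [Fintype F] : ℕ := (Fintype.card F + 1) / 4

include S in
theorem n4_spec : 4 * n4 F = Fintype.card F + 1 ∧ Odd (n4 F) := by
  have := S.card_mod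
  rw [n4, Nat.odd_iff]
  omega

def R : Subgroup G := (KJ F).map S.φ

theorem isCyclic_R : IsCyclic S.R :=
  haveI := isCyclic_KJ S.sq_ne_neg_one
  isCyclic_of_surjective _ (S.φ.subgroupMap_surjective (KJ F))

theorem card_R : Nat.card S.R = 2 * n4 F := by
  have h1 := (S.φ.comp (KJ F).subtype).ker.card_mul_index
  have h2 : (S.φ.comp (KJ F).subtype).ker = Subgroup.zpowers ⟨-1, neg_one_mem_KJ⟩ := by
    ext M
    rw [mem_zpowers_two (orderOf_eq_prime (Subtype.ext (by simp)) (fun h => S.neg_one_ne (by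
      simpa using (sl2_eq_iff.1 (congrArg Subtype.val h)).1)))]
    rw [MonoidHom.mem_ker, Subtype.ext_iff, Subtype.ext_iff]
    exact S.φ_eq_one
  rw [Subgroup.index_ker, MonoidHom.range_comp, Subgroup.range_subtype, h2, Nat.card_zpowers,
    orderOf_eq_prime (p := 2) (Subtype.ext (by simp)) (fun h => S.neg_one_ne (by
      simpa using (sl2_eq_iff.1 (congrArg Subtype.val h)).1)), card_KJ S.sq_ne_neg_one S.two_ne,
    ← S.n4_spec.1] at h1
  rw [R]; omega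

theorem w_mem_R : S.w ∈ S.R := ⟨_, JJ_mem, S.φ_w⟩

theorem R_comm {x y : G} (hx : x ∈ S.R) (hy : y ∈ S.R) : x * y = y * x := by
  have := S.isCyclic_R
  exact congrArg Subtype.val (mul_comm' (⟨x, hx⟩ : S.R) ⟨y, hy⟩)

theorem a_comm_R {x : G} (hx : x ∈ S.R) : S.a * x = x * S.a := by
  obtain ⟨M, -, rfl⟩ := hx
  exact S.a_comm_φ M

/-- the abelian subgroup of order `q + 1` -/
def T4 : Subgroup G where
  carrier := {g | ∃ r ∈ S.R, g = r ∨ g = S.a * r}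
  mul_mem' := by
    rintro _ _ ⟨r, hr, rfl | rfl⟩ ⟨s, hs, rfl | rfl⟩
    · exact ⟨_, mul_mem hr hs, Or.inl rfl⟩
    · exact ⟨_, mul_mem hr hs, Or.inr (by rw [← mul_assoc, ← S.a_comm_R hr, mul_assoc])⟩
    · exact ⟨_, mul_mem hr hs, Or.inr (by rw [mul_assoc])⟩
    · exact ⟨_, mul_mem hr hs, Or.inl (by
        rw [S.a_comm_R hr, mul_assoc, ← mul_assoc S.a, a_mul_a, one_mul])⟩
  one_mem' := ⟨1, one_mem _, Or.inl rfl⟩
  inv_mem' := by
    rintro _ ⟨r, hr, rfl | rfl⟩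
    · exact ⟨_, inv_mem hr, Or.inl rfl⟩
    · exact ⟨_, inv_mem hr, Or.inr (by rw [S.a_comm_R hr, mul_inv_rev, a_inv])⟩

theorem R_le_T4 : S.R ≤ S.T4 := fun r hr => ⟨r, hr, Or.inl rfl⟩
theorem a_mem_T4 : S.a ∈ S.T4 := ⟨1, one_mem _, Or.inr (mul_one _).symm⟩
theorem w_mem_T4 : S.w ∈ S.T4 := S.R_le_T4 S.w_mem_R

theorem T4_comm {x y : G} (hx : x ∈ S.T4) (hy : y ∈ S.T4) : x * y = y * x := by
  have key : ∀ r ∈ S.R, ∀ y ∈ S.T4, Commute r y ∧ Commute S.a y := by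
    rintro r hr _ ⟨s, hs, rfl | rfl⟩
    · exact ⟨S.R_comm hr hs, S.a_comm_R hs⟩
    · exact ⟨Commute.mul_right (S.a_comm_R hr).symm (S.R_comm hr hs),
        (Commute.refl _).mul_right (S.a_comm_R hs)⟩
  obtain ⟨r, hr, rfl | rfl⟩ := hx
  · exact (key _ hr y hy).1
  · exact (key _ hr y hy).2.mul_left (key _ hr y hy).1

theorem card_T4 : Nat.card S.T4 = Fintype.card F + 1 := by
  rw [card_eq_two_mul S.R_le_T4 S.a_mem_T4 (by rintro ⟨M, -, h⟩; exact S.φ_ne_a M h) (by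
    rintro _ ⟨r, hr, rfl | rfl⟩
    · exact Or.inl hr
    · exact Or.inr (by rwa [← mul_assoc, a_mul_a, one_mul])), card_R, ← S.n4_spec.1]
  ring

theorem T4_pow {t : G} (ht : t ∈ S.T4) : t ^ (2 * n4 F) = 1 := by
  have key : ∀ r ∈ S.R, r ^ (2 * n4 F) = 1 := fun r hr => by
    rw [← S.card_R]
    exact congrArg Subtype.val (pow_card_eq_one' (x := (⟨r, hr⟩ : S.R)))
  obtain ⟨r, hr, rfl | rfl⟩ := ht
  · exact key _ hr
  · rw [Commute.mul_pow (S.a_comm_R hr), key _ hr, pow_mul, pow_two, a_mul_a, one_pow, one_mul]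

theorem inv_T4 {t : G} (ht : t ∈ S.T4) (h : t * t = 1) :
    t = 1 ∨ t = S.a ∨ t = S.w ∨ t = S.a * S.w := by
  have key : ∀ r ∈ S.R, r * r = 1 → r = 1 ∨ r = S.w := by
    rintro _ ⟨M, hM, rfl⟩ h
    have h3 := mem_KJ.1 hM
    have hd := sl2_det M
    have h4 : M 0 0 * M 0 1 = 0 := by
      rw [← map_mul, φ_eq_one] at h
      apply mul_left_cancel₀ S.two_ne
      rcases h with h | h <;> have := (sl2_eq_iff.1 h).2.1 <;> simp only [sl2_mul, sl2_neg, h3.2] at this <;>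
        simp at this <;> linear_combination this
    rcases mul_eq_zero.1 h4 with h5 | h5
    · rw [h3.1, h5] at hd
      rw [← S.φ_w, φ_eq_φ]
      rcases sq_eq_one_iff.1 (show M 0 1 ^ 2 = 1 by linear_combination hd) with h6 | h6
      · exact Or.inr (Or.inl (sl2_ext (by simpa) (by simpa) (by simp [h3.1, h6]) (by simp [h3.2, h5])))
      · exact Or.inr (Or.inr (sl2_ext (by simpa) (by simpa) (by simp [h3.1, h6]) (by simp [h3.2, h5])))
    · exact Or.inl (S.φ_eq_one.2 (sl2_pm h5 (by simp [h3.1, h5]) h3.2.symm))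
  obtain ⟨r, hr, rfl | rfl⟩ := ht
  · rcases key _ hr h with h | h <;> simp [h]
  · rw [S.a_comm_R hr, mul_assoc, ← S.a_comm_R hr, ← mul_assoc S.a, a_mul_a, one_mul] at h
    rcases key _ hr h with h | h <;> simp [h]

theorem mem_T4_of {y c : G} (hy : y ∈ S.T4) (h1 : y * y ≠ 1) (h2 : c * S.a = S.a * c)
    (h3 : c * y = y * c) : c ∈ S.T4 := by
  obtain ⟨M, hM, e1, e2⟩ : ∃ M ∈ KJ F, y * y = S.φ M * S.φ M ∧ c * S.φ M = S.φ M * c := by
    obtain ⟨_, ⟨M, hM, rfl⟩, rfl | rfl⟩ := hy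
    · exact ⟨M, hM, rfl, h3⟩
    · refine ⟨M, hM, ?_, ?_⟩
      · rw [a_comm_φ, mul_assoc, ← a_comm_φ, ← mul_assoc S.a, a_mul_a, one_mul]
      · rwa [← mul_assoc, h2, mul_assoc, mul_assoc, mul_right_inj] at h3
  obtain ⟨N, e3, -, e4⟩ := S.exists_φ h2
  rw [e1] at h1
  have := sl2_comm (fun h => h1 (by rw [S.φ_eq_one.2 h, one_mul]))
    (S.φ_comm h1 ((e4 _ (S.a_comm_φ M).symm).1 e2.symm).symm)
    (Subgroup.mem_centralizer_singleton_iff.1 hM).symm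
  exact ⟨_, ⟨N, Subgroup.mem_centralizer_singleton_iff.2 this, rfl⟩, e3⟩

theorem T4_free {y : G} (hy : y ∈ S.T4) (h1 : y * y ≠ 1) (ω : S.Ω) : y • ω ≠ ω := fun h => by
  have h2 : orderOf y ∣ Fintype.card F ^ 3 * (Fintype.card F - 1) :=
    S.card_stab ω ▸ Subgroup.orderOf_dvd_natCard (MulAction.stabilizer G ω) h
  have h3 : orderOf y ∣ 2 * n4 F := orderOf_dvd_of_pow_eq_one (S.T4_pow hy)
  have h4 := S.n4_spec.1
  have h5 := S.three_le
  have h6 : orderOf y ∣ Fintype.card F + 1 := h3.trans ⟨2, by omega⟩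
  have h7 : orderOf y ∣ Fintype.card F - 1 :=
    (Nat.Coprime.pow_right 3 (Nat.Coprime.of_dvd_left h6 (by simp))).dvd_of_dvd_mul_left h2
  have h8 := Nat.dvd_sub h6 h7
  rw [show Fintype.card F + 1 - (Fintype.card F - 1) = 2 by omega] at h8
  exact h1 (by rw [← pow_two]; exact orderOf_dvd_iff_pow_eq_one.1 h8)

theorem coprime_three {y c : G} (h : ∀ ω : S.Ω, y • ω ≠ ω) (hc : c * y = y * c) :
    Nat.Coprime 3 (orderOf c) := by
  have := S.finite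
  rw [Nat.Prime.coprime_iff_not_dvd Nat.prime_three]
  rintro ⟨k, hk⟩
  have := orderOf_pos c
  obtain ⟨ω, -, h2⟩ := S.fix_of_comm_three (x := c ^ k) (n := 1) (g := y)
    (by rw [← pow_mul, pow_one, mul_comm, ← hk, pow_orderOf_eq_one])
    (pow_ne_one_of_lt_orderOf (by omega) (by omega)) (Commute.pow_left hc k).symm
  exact h ω h2

theorem w_ne_a : S.w ≠ S.a := fun h => S.w_not_mem (h ▸ S.h_mem_B _)

theorem aw_sq : S.a * S.w * (S.a * S.w) = 1 := by rw [a_mul_w, wa_sq]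

theorem not_fused {y c : G} (hy : y ∈ S.T4) (h1 : y * y ≠ 1) (hc : c * y = y * c)
    (h : c * S.a * c⁻¹ ∈ S.T4) : c * S.a * c⁻¹ = S.a := by
  have ha := S.a_mem_T4
  have hv1 : c * S.a * c⁻¹ ≠ 1 := by rw [Ne, conj_eq_one_iff]; exact S.a_ne
  have hv2 : c * S.a * c⁻¹ * (c * S.a * c⁻¹) = 1 := by rw [← pow_two, conj_pow, pow_two, a_mul_a]; simp
  have h2 : ∀ t ∈ S.T4, c * t * c⁻¹ ∈ S.T4 := fun t ht => by
    have e : c * t * c⁻¹ * y = y * (c * t * c⁻¹) :=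
      (Commute.mul_left (Commute.mul_left hc (S.T4_comm ht hy)) (Commute.inv_left hc))
    refine S.mem_T4_of hy h1 (S.comm_of_inv hv1 hv2 h1 (S.T4_comm hy h) ?_ e (S.T4_comm ha h)
      (S.T4_comm ha hy)) e
    simp only [mul_assoc, inv_mul_cancel_left, mul_right_inj]
    rw [← mul_assoc, S.T4_comm ht ha, mul_assoc]
  by_contra hne
  generalize hv : c * S.a * c⁻¹ = v at *
  have h3 : c * (S.a * v) * c⁻¹ = v * (c * v * c⁻¹) := by rw [← hv]; group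
  have h4 : c * v * c⁻¹ ≠ v := fun e => hne (by
    rw [← hv, mul_left_inj, mul_assoc, mul_right_inj] at e
    rw [← hv, mul_assoc, e])
  have h5 : c * v * c⁻¹ ≠ S.a := fun e => hne (by
    rw [e, S.T4_comm h ha, mul_inv_eq_iff_eq_mul] at h3
    have h6 := mul_mem ha h
    rw [← hv, S.comm_of_inv (x := S.a * v) (fun e => hne (by rw [← a_inv]; exact eq_inv_of_mul_eq_one_right e))
      (by rw [S.T4_comm ha h, mul_assoc, ← S.T4_comm ha h, ← mul_assoc S.a, a_mul_a, one_mul, hv2]) h1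
      (S.T4_comm hy h6) h3 hc (S.T4_comm ha h6) (S.T4_comm ha hy), mul_inv_cancel_right])
  have h6 : c * v * c⁻¹ = S.a * v := by
    have e1 := S.inv_T4 h hv2
    have e2 := S.inv_T4 (h2 v h) (by rw [← pow_two, conj_pow, pow_two, hv2]; simp)
    have e3 : c * v * c⁻¹ ≠ 1 := by rwa [Ne, conj_eq_one_iff]
    have e4 : S.a * (S.a * S.w) = S.w := by rw [← mul_assoc, a_mul_a, one_mul]
    grind
  have h7 : c ^ 3 * S.a = S.a * c ^ 3 := by
    rw [← mul_inv_eq_iff_eq_mul]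
    calc _ = c * (c * (c * S.a * c⁻¹) * c⁻¹) * c⁻¹ := by simp [pow_succ, mul_assoc]
      _ = _ := by rw [hv, h6, h3, h6, S.T4_comm ha h, ← mul_assoc, hv2, one_mul]
  obtain ⟨k, hk⟩ := exists_pow_eq_self_of_coprime (S.coprime_three (S.T4_free hy h1) hc)
  exact hne (by rw [← hv, ← hk, (Commute.pow_left h7 k).eq, mul_inv_cancel_right])

theorem centralizer_T4 {y : G} (hy : y ∈ S.T4) (h1 : y * y ≠ 1) : Subgroup.centralizer {y} = S.T4 := by
  have := S.finite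
  ext c
  rw [Subgroup.mem_centralizer_singleton_iff]
  refine ⟨fun hc => S.mem_T4_of hy h1 ?_ hc, fun hc => S.T4_comm hc hy⟩
  have ha := S.T4_comm S.a_mem_T4 hy
  have hw := S.T4_comm S.w_mem_T4 hy
  have hx : Commute (c * S.a * c⁻¹) y := Commute.mul_left (Commute.mul_left hc ha) (Commute.inv_left hc)
  rw [← mul_inv_eq_iff_eq_mul]
  rcases dihedral_cases (x := c * S.a * c⁻¹) (y := S.w)
    (by rw [← pow_two, conj_pow, pow_two, a_mul_a]; simp) S.w_mul_w with ⟨k, h⟩ | ⟨k, h2, h3, h4, h5⟩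
  · have h6 : Commute ((c * S.a * c⁻¹ * S.w) ^ k) y := (hx.mul_left hw).pow_left k
    generalize (c * S.a * c⁻¹ * S.w) ^ k = g at h h6
    have h7 : g⁻¹ * c * S.a * (g⁻¹ * c)⁻¹ = S.w := by
      calc _ = g⁻¹ * (c * S.a * c⁻¹) * g := by group
        _ = _ := by rw [← h]; group
    exact absurd (h7.symm.trans (S.not_fused hy h1 (h6.inv_left.mul_left hc) (h7 ▸ S.w_mem_T4))) S.w_ne_a
  · have h6 := S.comm_of_inv h2 h3 h1 ((hx.mul_left hw).pow_left k).symm h4 hx h5 hw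
    exact S.not_fused hy h1 hc (S.mem_T4_of hy h1
      (S.comm_of_inv S.w_ne S.w_mul_w h1 hw.symm h6 hx S.a_mul_w ha) hx)

/-- an involution inverting the non-split torus -/
def b0 : SL(2, F) := ⟨!![1, 1; 1, -1], by have := S.charP; rw [Matrix.det_fin_two_of]; grind⟩

theorem coe_b0 : (S.b0 : Matrix (Fin 2) (Fin 2) F) = !![1, 1; 1, -1] := rfl

def b : G := S.φ S.b0

theorem b_mul_b : S.b * S.b = 1 := by
  have := S.charP
  rw [b, ← map_mul, φ_eq_one]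
  refine Or.inr (sl2_ext ?_ ?_ ?_ ?_) <;> simp only [sl2_mul, sl2_neg, coe_b0] <;> simp <;> grind

theorem b_R {r : G} (hr : r ∈ S.R) : r * S.b * r = S.b := by
  obtain ⟨M, hM, rfl⟩ := hr
  have h3 := mem_KJ.1 hM
  have hd := sl2_det M
  rw [b, ← map_mul, ← map_mul]
  congr 1
  refine sl2_ext ?_ ?_ ?_ ?_ <;> simp only [sl2_mul, coe_b0, h3.1, h3.2] at hd ⊢ <;> simp <;> grind

theorem b_T4 {t : G} (ht : t ∈ S.T4) : t * S.b * t = S.b := by
  obtain ⟨r, hr, rfl | rfl⟩ := ht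
  · exact S.b_R hr
  · rw [S.a_comm_R hr, mul_assoc r, b, a_comm_φ, ← S.a_comm_R hr, mul_assoc, mul_assoc, ← mul_assoc S.a,
      a_mul_a, one_mul, ← mul_assoc]
    exact S.b_R hr

theorem b_not_mem : S.b ∉ S.T4 := by
  rintro ⟨_, ⟨M, hM, rfl⟩, h | h⟩
  · have h3 := mem_KJ.1 hM
    rcases S.φ_eq_φ.1 h.symm with rfl | rfl
    · exact S.neg_one_ne h3.2
    · exact S.neg_one_ne (neg_injective h3.2)
  · exact S.φ_ne_a (S.b0 * M⁻¹) (by rw [map_mul, map_inv, mul_inv_eq_iff_eq_mul]; exact h)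

/-- the centraliser of the four-group -/
def D : Subgroup G := Subgroup.centralizer {S.a} ⊓ Subgroup.centralizer {S.w}

theorem mem_D {c : G} : c ∈ S.D ↔ c * S.a = S.a * c ∧ c * S.w = S.w * c := by
  simp only [D, Subgroup.mem_inf, Subgroup.mem_centralizer_singleton_iff]

theorem T4_le_D : S.T4 ≤ S.D := fun _ h =>
  S.mem_D.2 ⟨S.T4_comm h S.a_mem_T4, S.T4_comm h S.w_mem_T4⟩

theorem b_mem_D : S.b ∈ S.D := S.mem_D.2 ⟨(S.a_comm_φ _).symm, by
  rw [← S.b_R S.w_mem_R, mul_assoc, S.w_mul_w, mul_one, S.b_R S.w_mem_R]⟩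

theorem D_cases {c : G} (hc : c ∈ S.D) : c ∈ S.T4 ∨ S.b * c ∈ S.T4 := by
  obtain ⟨h1, h2⟩ := S.mem_D.1 hc
  obtain ⟨M, e1, -, e2⟩ := S.exists_φ h1
  have h3 := (e2 _ S.a_mul_w.symm).1 h2.symm
  rw [← S.φ_w, ← map_mul, ← map_mul, φ_eq_φ] at h3
  rcases h3 with h3 | h3
  · exact Or.inl ⟨_, ⟨M, Subgroup.mem_centralizer_singleton_iff.2 h3.symm, rfl⟩, e1⟩
  · have h4 : S.b0 * M ∈ KJ F := by
      simp only [sl2_eq_iff, sl2_mul, sl2_neg, coe_JJ, mem_KJ, coe_b0] at h3 ⊢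
      simp at h3 ⊢
      grind
    refine Or.inr ⟨_, ⟨_, h4, rfl⟩, ?_⟩
    rcases e1 with rfl | rfl
    · exact Or.inl (map_mul _ _ _).symm
    · exact Or.inr (by rw [map_mul, ← mul_assoc, b, ← a_comm_φ, mul_assoc])

theorem card_D : Nat.card S.D = 2 * (Fintype.card F + 1) := by
  rw [card_eq_two_mul S.T4_le_D S.b_mem_D S.b_not_mem fun _ h => S.D_cases h, card_T4]

theorem D_inv {c t : G} (hc : c ∈ S.D) (h : c ∉ S.T4) (ht : t ∈ S.T4) : t * c * t = c := by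
  have h1 := (S.D_cases hc).resolve_left h
  calc t * c * t = t * S.b * (S.b * c * t) := by
        rw [mul_assoc S.b, mul_assoc t S.b, ← mul_assoc S.b, b_mul_b, one_mul, mul_assoc]
    _ = c := by
        rw [S.T4_comm h1 ht, ← mul_assoc, S.b_T4 ht, ← mul_assoc, b_mul_b, one_mul]

theorem D_sq {c : G} (hc : c ∈ S.D) (h : c ∉ S.T4) : c * c = 1 := by
  have := S.b_T4 ((S.D_cases hc).resolve_left h)
  rw [mul_assoc, mul_assoc, ← mul_assoc S.b S.b, b_mul_b, one_mul] at this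
  simpa using this

theorem four_conj {x x' : G} (h1 : x ≠ 1) (h2 : x * x = 1) (h3 : x' ≠ 1) (h4 : x' * x' = 1)
    (h5 : x' ≠ x) (h6 : x' * x = x * x') :
    ∃ g, g * x * g⁻¹ = S.a ∧ (g * x' * g⁻¹ = S.w ∨ g * x' * g⁻¹ = S.a * S.w) := by
  obtain ⟨g, hg⟩ := isConj_iff.1 (S.isConj_a h1 h2).symm
  obtain ⟨M, e1, e2, -⟩ := S.exists_φ (g := g * x' * g⁻¹) (by
    rw [← hg]; simp only [mul_assoc, inv_mul_cancel_left]; rw [← mul_assoc x', h6, mul_assoc])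
  obtain ⟨N, hN⟩ := S.conj_w_of_φ (M := M) (fun h => by
    rw [h, mul_one, ← hg] at e1
    simp [h3, h5] at e1) (by rw [← e2, ← pow_two, conj_pow, pow_two, h4]; simp)
  have ha : (S.φ N)⁻¹ * S.a * S.φ N = S.a := by rw [mul_assoc, a_comm_φ, inv_mul_cancel_left]
  refine ⟨(S.φ N)⁻¹ * g, ?_, ?_⟩
  · rw [← ha, ← hg]; group
  · have e : (S.φ N)⁻¹ * g * x' * ((S.φ N)⁻¹ * g)⁻¹ = (S.φ N)⁻¹ * (g * x' * g⁻¹) * S.φ N := by group
    rw [e]
    rcases e1 with e1 | e1 <;> rw [e1, ← hN]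
    · exact Or.inl (by group)
    · exact Or.inr (by nth_rw 2 [← ha]; group)

/-- the cyclic subgroup of order `(q + 1) / 4` -/
def A : Subgroup G where
  carrier := {g | g ∈ S.T4 ∧ g ^ n4 F = 1}
  mul_mem' {x y} hx hy := ⟨mul_mem hx.1 hy.1, by
    rw [Commute.mul_pow (S.T4_comm hx.1 hy.1), hx.2, hy.2, one_mul]⟩
  one_mem' := ⟨one_mem _, one_pow _⟩
  inv_mem' h := ⟨inv_mem h.1, by rw [inv_pow, h.2, inv_one]⟩

include S in
theorem eq_one_of_n4 {g : G} (h1 : g ^ n4 F = 1) (h2 : g * g = 1) : g = 1 := by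
  obtain ⟨k, hk⟩ := S.n4_spec.2
  rwa [hk, pow_succ, pow_mul, pow_two, h2, one_pow, one_mul] at h1

theorem A_le_R : S.A ≤ S.R := by
  rintro g ⟨⟨r, hr, h⟩, h2⟩
  obtain ⟨k, hk⟩ := S.n4_spec.2
  have h3 : g ^ 2 ∈ S.R := by
    rcases h with rfl | rfl
    · exact pow_mem hr 2
    · rw [Commute.mul_pow (S.a_comm_R hr), pow_two, a_mul_a, one_mul]; exact pow_mem hr 2
  rw [hk, pow_succ, pow_mul, mul_eq_one_iff_eq_inv] at h2
  exact (inv_mem_iff.1 (h2 ▸ pow_mem h3 k))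

theorem isCyclic_A : IsCyclic S.A :=
  haveI := S.isCyclic_R
  Subgroup.isCyclic_of_le S.A_le_R

theorem card_A : Nat.card S.A = n4 F := by
  have := S.isCyclic_R
  have := S.finite
  letI : CommGroup S.R := IsCyclic.commGroup
  have h := IsCyclic.card_powMonoidHom_ker S.R (n4 F)
  rw [card_R, Nat.gcd_eq_right (dvd_mul_left _ _)] at h
  rw [← h]
  exact Nat.card_congr ⟨fun g => ⟨⟨g, S.A_le_R g.2⟩, Subtype.ext g.2.2⟩,
    fun g => ⟨g.1, S.R_le_T4 g.1.2, congrArg Subtype.val g.2⟩, fun _ => rfl, fun _ => rfl⟩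

theorem mem_A_iff {g : G} : g ∈ S.A ↔ g ∈ S.D ∧ g ^ n4 F = 1 :=
  ⟨fun h => ⟨S.T4_le_D h.1, h.2⟩, fun h => ⟨by
    by_contra h1
    exact h1 (S.eq_one_of_n4 h.2 (S.D_sq h.1 h1) ▸ one_mem _), h.2⟩⟩

theorem centralizer_A {y : G} (hy : y ∈ S.A) (h1 : y ≠ 1) : Subgroup.centralizer {y} = S.T4 :=
  S.centralizer_T4 hy.1 fun h => h1 (S.eq_one_of_n4 hy.2 h)

theorem mem_normalizer_A {g : G} (h1 : g⁻¹ * S.a * g ∈ S.T4) (h2 : g⁻¹ * S.w * g ∈ S.T4) :
    g ∈ Subgroup.normalizer (S.A : Set G) := by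
  have := S.finite
  apply Subgroup.mem_normalizer_fintype
  intro t ht
  have key : ∀ x, g⁻¹ * x * g ∈ S.T4 → g * t * g⁻¹ * x = x * (g * t * g⁻¹) := fun x hx => by
    calc _ = g * (t * (g⁻¹ * x * g)) * g⁻¹ := by group
      _ = _ := by rw [S.T4_comm ht.1 hx]; group
  exact S.mem_A_iff.2 ⟨S.mem_D.2 ⟨key _ h1, key _ h2⟩, by rw [conj_pow, ht.2]; simp⟩

theorem exists_A (hm : 1 ≤ m) : ∃ y ∈ S.A, y ≠ 1 := by
  have h1 := S.big hm
  have h2 := S.n4_spec.1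
  have := S.finite
  obtain ⟨⟨y, hy⟩, h⟩ := Subgroup.ne_bot_iff_exists_ne_one.1
    ((Subgroup.one_lt_card_iff_ne_bot S.A).1 (by rw [card_A]; omega))
  exact ⟨y, hy, fun e => h (Subtype.ext e)⟩

theorem conj_T4 (hm : 1 ≤ m) {g t : G} (hg : g ∈ Subgroup.normalizer (S.A : Set G)) (ht : t ∈ S.T4) :
    g * t * g⁻¹ ∈ S.T4 := by
  obtain ⟨y, hy, h1⟩ := S.exists_A hm
  rw [← S.centralizer_A ((Subgroup.mem_normalizer_iff.1 hg y).1 hy) (by rwa [Ne, conj_eq_one_iff]),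
    Subgroup.mem_centralizer_singleton_iff]
  simp only [mul_assoc, inv_mul_cancel_left, mul_right_inj]
  rw [← mul_assoc, S.T4_comm ht hy.1, mul_assoc]

theorem aw_not_φ (M : SL(2, F)) : S.φ M ≠ S.a * S.w := fun h =>
  S.φ_ne_a (M * (JJ F)⁻¹) (by rw [map_mul, map_inv, h, S.φ_w, mul_inv_cancel_right])

theorem conj_w_eq {c : G} (hc : c * S.a = S.a * c) (h : c * S.w * c⁻¹ ∈ S.T4) : c * S.w = S.w * c := by
  obtain ⟨M, e⟩ : ∃ M, c * S.w * c⁻¹ = S.φ M := by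
    obtain ⟨M, rfl | rfl⟩ := S.comm_a_iff.1 hc
    · exact ⟨M * JJ F * M⁻¹, by simp [S.φ_w]⟩
    · exact ⟨M * JJ F * M⁻¹, by
        rw [a_comm_φ, mul_assoc _ S.a, a_mul_w, ← mul_assoc]; simp [S.φ_w, mul_assoc]⟩
  rcases S.inv_T4 h (by rw [← pow_two, conj_pow, pow_two, S.w_mul_w]; simp) with h | h | h | h
  · exact absurd (conj_eq_one_iff.1 h) S.w_ne
  · exact absurd (e.symm.trans h) (S.φ_ne_a M)
  · exact mul_inv_eq_iff_eq_mul.1 h
  · exact absurd (e.symm.trans h) (S.aw_not_φ M)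

theorem card_normalizer_A (hm : 1 ≤ m) :
    Nat.card (Subgroup.normalizer (S.A : Set G)) = 6 * (Fintype.card F + 1) := by
  have h1 : Subgroup.normalizer (S.A : Set G) ⊓ Subgroup.centralizer {S.a} = S.D := by
    ext c
    rw [Subgroup.mem_inf, Subgroup.mem_centralizer_singleton_iff, mem_D]
    refine ⟨fun h => ⟨h.2, S.conj_w_eq h.2 (S.conj_T4 hm h.1 S.w_mem_T4)⟩, fun h => ⟨?_, h.1⟩⟩
    exact S.mem_normalizer_A (by rw [mul_assoc, ← h.1]; simpa using S.a_mem_T4)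
      (by rw [mul_assoc, ← h.2]; simpa using S.w_mem_T4)
  have haw := mul_mem S.a_mem_T4 S.w_mem_T4
  have h3 : S.a * S.w ≠ S.a := by simpa using S.w_ne
  have h4 : ∀ x ∈ S.T4, x ≠ 1 → x * x = 1 → S.a ≠ x →
      ∃ n ∈ Subgroup.normalizer (S.A : Set G), n * S.a * n⁻¹ = x := fun x hx e1 e2 e3 => by
    obtain ⟨g, e4, e5⟩ := S.four_conj e1 e2 S.a_ne S.a_mul_a e3 (S.T4_comm S.a_mem_T4 hx)
    have e6 : g⁻¹ * S.a * g = x := by rw [← e4]; group
    refine ⟨g⁻¹, inv_mem (S.mem_normalizer_A (e6 ▸ hx) ?_), by rw [inv_inv, e6]⟩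
    rcases e5 with e5 | e5
    · rw [← e5]; simpa [mul_assoc] using S.a_mem_T4
    · rw [show S.w = S.a * (S.a * S.w) by rw [← mul_assoc, a_mul_a, one_mul], ← e5]
      nth_rw 1 [← e4]
      simpa [mul_assoc] using mul_mem hx S.a_mem_T4
  have h2 : {y | ∃ n ∈ Subgroup.normalizer (S.A : Set G), n * S.a * n⁻¹ = y} = {S.a, S.w, S.a * S.w} := by
    ext y
    constructor
    · rintro ⟨n, hn, rfl⟩
      exact (S.inv_T4 (S.conj_T4 hm hn S.a_mem_T4)
        (by rw [← pow_two, conj_pow, pow_two, a_mul_a]; simp)).resolve_left (by simpa using S.a_ne)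
    · rintro (rfl | rfl | rfl)
      · exact ⟨1, one_mem _, by simp⟩
      · exact h4 _ S.w_mem_T4 S.w_ne S.w_mul_w S.w_ne_a.symm
      · exact h4 _ haw (S.a_mul_w ▸ S.wa_ne) S.aw_sq h3.symm
  rw [card_eq_orbit _ S.a, h1, h2, card_D, Set.ncard_eq_three.2 ⟨_, _, _, S.w_ne_a.symm, h3.symm,
    by simpa using S.a_ne, rfl⟩]
  ring

end ReeS

end H5.Ree
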