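import Cfsg.Agent.H5.SZ5

/-! Suzuki groups: the non-split tori. -/

namespace H5.Sz
open scoped Pointwise
open Polynomial

namespace SzS
variable {F : Type*} [Field F] [Fintype F] {m : ℕ} {G : Type*} [Group G] (S : SzS F m G)

theorem ker_eq_bot {x : G} {p : ℕ} (hp : p.Prime) (hx : orderOf x = p) (hd : p ∣ Fintype.card F ^ 2 + 1)
    {W : Submodule F (Fin 4 → F)} (hW : ∀ v ∈ W, Matrix.toLin' (S.ρ x) v ∈ W) (h : W ≠ ⊤) : W = ⊥ := by
  have := Fact.mk hp
  set L : Module.End F (Fin 4 → F) := Matrix.toLin' (S.ρ x) with hL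
  have hLp : L ^ p = 1 := by
    rw [hL, ← Matrix.toLin'_pow, ← map_pow, ← hx, pow_orderOf_eq_one, map_one, Matrix.toLin'_one]
    rfl
  have h1 : (Fintype.card F : ZMod p) ^ 2 + 1 = 0 := by
    have := (ZMod.natCast_eq_zero_iff _ _).2 hd
    simpa using this
  have h2 : (2 : ZMod p) ≠ 0 := by
    intro h2
    have h3 : p ∣ 2 := (ZMod.natCast_eq_zero_iff 2 p).1 (by simpa using h2)
    have h4 := S.odd_card_Ω
    rw [card_Ω] at h4
    exact h4 (((Nat.prime_dvd_prime_iff_eq hp Nat.prime_two).1 h3) ▸ hd)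
  have hlt : ∀ W : Submodule F (Fin 4 → F), W ≠ ⊤ → Module.finrank F W < 4 := by
    intro W hW
    simpa using Submodule.finrank_lt hW
  have hK : LinearMap.ker (L - 1) = ⊥ := by
    have h3 := finrank_modEq L hLp ⊤ (fun _ _ => trivial)
    rw [top_inf_eq, finrank_top, Module.finrank_fin_fun] at h3
    apply Submodule.finrank_eq_zero.1
    refine pow_lt_four h1 h2 (hlt _ ?_) (by rw [← h3]; linear_combination ((Fintype.card F : ZMod p) ^ 2 - 1) * h1)
    intro h4
    rw [LinearMap.ker_eq_top, sub_eq_zero, hL] at h4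
    have h5 : S.ρ x = S.ρ 1 := by
      apply Matrix.toLin'.injective
      rw [h4, map_one, Matrix.toLin'_one]
      rfl
    rw [S.inj h5, orderOf_one] at hx
    exact hp.one_lt.ne hx
  have h3 := finrank_modEq L hLp W hW
  rw [hK, inf_bot_eq, finrank_bot, pow_zero] at h3
  exact Submodule.finrank_eq_zero.1 (pow_lt_four h1 h2 (hlt _ h) h3)

theorem isDomain_cent {x : G} {p : ℕ} (hp : p.Prime) (hx : orderOf x = p)
    (hd : p ∣ Fintype.card F ^ 2 + 1) : IsDomain (Subalgebra.centralizer F ({S.ρ x} : Set (M4 F))) := by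
  have : NoZeroDivisors (Subalgebra.centralizer F ({S.ρ x} : Set (M4 F))) := by
    constructor
    rintro ⟨a, ha⟩ ⟨b, hb⟩ hab
    have hab' : a * b = 0 := congrArg Subtype.val hab
    by_cases h0 : a = 0
    · exact Or.inl (Subtype.ext h0)
    right
    apply Subtype.ext
    have ha' : S.ρ x * a = a * S.ρ x := (Subalgebra.mem_centralizer_iff F).1 ha _ rfl
    have hk := S.ker_eq_bot hp hx hd (W := LinearMap.ker (Matrix.toLin' a)) (by
      intro v hv
      rw [LinearMap.mem_ker] at hv ⊢
      rw [← Matrix.toLin'_mul_apply, ← ha', Matrix.toLin'_mul_apply, hv, map_zero]) (by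
      rw [Ne, LinearMap.ker_eq_top]
      simpa using h0)
    apply Matrix.toLin'.injective
    refine LinearMap.ext fun v => ?_
    have : Matrix.toLin' b v ∈ LinearMap.ker (Matrix.toLin' a) := by
      rw [LinearMap.mem_ker, ← Matrix.toLin'_mul_apply, hab']
      simp
    rw [hk, Submodule.mem_bot] at this
    simpa using this
  exact NoZeroDivisors.to_isDomain _

theorem cent_comm {x : G} {p : ℕ} (hp : p.Prime) (hx : orderOf x = p)
    (hd : p ∣ Fintype.card F ^ 2 + 1) (a b : Subalgebra.centralizer F ({S.ρ x} : Set (M4 F))) :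
    a * b = b * a :=
  haveI := S.isDomain_cent hp hx hd
  (Finite.isDomain_to_isField _).mul_comm a b

def centHom (x : G) :
    Subgroup.centralizer ({x} : Set G) →* Subalgebra.centralizer F ({S.ρ x} : Set (M4 F)) where
  toFun c := ⟨S.ρ c, (Subalgebra.mem_centralizer_iff F).2 (by
    rintro _ rfl
    rw [← map_mul, ← map_mul, Subgroup.mem_centralizer_singleton_iff.1 c.2])⟩
  map_one' := Subtype.ext (map_one _)
  map_mul' a b := Subtype.ext (map_mul _ _ _)

theorem centHom_inj (x : G) : Function.Injective (S.centHom x) := fun _ _ h =>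
  Subtype.ext (S.inj (congrArg Subtype.val h))

include S in
theorem isCyclic_cent_prime {x : G} {p : ℕ} (hp : p.Prime) (hx : orderOf x = p)
    (hd : p ∣ Fintype.card F ^ 2 + 1) : IsCyclic (Subgroup.centralizer ({x} : Set G)) :=
  haveI := S.isDomain_cent hp hx hd
  haveI := S.finite
  isCyclic_of_comm_domain (S.cent_comm hp hx hd) _ (S.centHom_inj x)

include S in
theorem card_normalizer_prime {x : G} {p : ℕ} (hp : p.Prime) (hx : orderOf x = p)
    (hd : p ∣ Fintype.card F ^ 2 + 1) :
    Nat.card (Subgroup.normalizer (Subgroup.centralizer ({x} : Set G) : Set G)) ≤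
      4 * Nat.card (Subgroup.centralizer ({x} : Set G)) := by
  classical
  have := S.isDomain_cent hp hx hd
  have := S.finite
  set A := Subgroup.centralizer ({x} : Set G) with hA
  set N := Subgroup.normalizer (A : Set G) with hN
  have hxA : x ∈ A := Subgroup.mem_centralizer_singleton_iff.2 rfl
  letI := Fintype.ofFinite N
  let f : N → A := fun n => ⟨n * x * (n : G)⁻¹, (Subgroup.mem_normalizer_iff.1 n.2 x).1 hxA⟩
  have h1 : (Finset.univ.image f).card ≤ 4 := by
    rw [← Finset.card_image_of_injective _ (S.centHom_inj x)]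
    refine (card_roots_le (S.cent_comm hp hx hd) (S.ρ x).charpoly (Matrix.charpoly_monic _).ne_zero _ ?_).trans
      (by simp)
    intro y hy
    simp only [Finset.mem_image, Finset.mem_univ, true_and, exists_exists_eq_and] at hy
    obtain ⟨n, rfl⟩ := hy
    apply Subtype.ext
    rw [Polynomial.aeval_subalgebra_coe]
    show aeval (S.ρ (n * x * (n : G)⁻¹)) _ = 0
    have h2 : (S.ρ (n * x * (n : G)⁻¹)).charpoly = (S.ρ x).charpoly := by
      rw [map_mul, Matrix.charpoly_mul_comm, ← map_mul]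
      simp
    rw [← h2, Matrix.aeval_self_charpoly]
  have h2 := Finset.card_le_mul_card_image (f := f) Finset.univ (Nat.card A) (by
    intro y hy
    simp only [Finset.mem_image, Finset.mem_univ, true_and] at hy
    obtain ⟨n, rfl⟩ := hy
    rw [← Nat.card_eq_finsetCard]
    refine Nat.card_le_card_of_injective (fun k => ⟨(n : G)⁻¹ * k.1, ?_⟩) ?_
    · have h3 := congrArg Subtype.val (Finset.mem_filter.1 k.2).2
      simp only [f] at h3
      rw [Subgroup.mem_centralizer_singleton_iff]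
      calc (n : G)⁻¹ * k.1 * x = (n : G)⁻¹ * (k.1 * x * (k.1 : G)⁻¹) * k.1 := by group
        _ = _ := by rw [h3]; group
    · intro k k' h
      exact Subtype.ext (Subtype.ext (mul_left_cancel (congrArg Subtype.val h))))
  rw [Finset.card_univ, ← Nat.card_eq_fintype_card] at h2
  calc _ ≤ _ := h2
    _ ≤ Nat.card A * 4 := Nat.mul_le_mul_left _ h1
    _ = _ := mul_comm _ _

variable {S}

theorem Free.exists_prime {g : G} (h : S.Free g) : ∃ x p, p.Prime ∧ orderOf x = p ∧
    p ∣ Fintype.card F ^ 2 + 1 ∧ Subgroup.centralizer ({g} : Set G) = Subgroup.centralizer {x} := by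
  have := S.finite
  have h1 : orderOf g ≠ 1 := fun h' => h.ne_one (orderOf_eq_one_iff.1 h')
  obtain ⟨p, hp, hd⟩ := Nat.exists_prime_and_dvd h1
  have h2 := orderOf_pow_orderOf_div (orderOf_pos g).ne' hd
  refine ⟨_, p, hp, h2, hd.trans h.orderOf_dvd, le_antisymm ?_ ?_⟩
  · intro c hc
    rw [Subgroup.mem_centralizer_singleton_iff] at hc ⊢
    exact (Commute.pow_right hc _)
  · intro c hc
    have := S.isCyclic_cent_prime hp h2 (hd.trans h.orderOf_dvd)
    have hg : g ∈ Subgroup.centralizer ({g ^ (orderOf g / p)} : Set G) :=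
      Subgroup.mem_centralizer_singleton_iff.2 (Commute.self_pow g _)
    exact Subgroup.mem_centralizer_singleton_iff.2
      (congrArg Subtype.val (mul_comm' (⟨c, hc⟩ : Subgroup.centralizer ({g ^ (orderOf g / p)} : Set G)) ⟨g, hg⟩))

theorem Free.isCyclic {g : G} (h : S.Free g) : IsCyclic (Subgroup.centralizer ({g} : Set G)) := by
  obtain ⟨x, p, hp, h1, h2, h3⟩ := h.exists_prime
  rw [h3]
  exact S.isCyclic_cent_prime hp h1 h2

theorem Free.card_normalizer_le {g : G} (h : S.Free g) :
    Nat.card (Subgroup.normalizer (Subgroup.centralizer ({g} : Set G) : Set G)) ≤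
      4 * Nat.card (Subgroup.centralizer ({g} : Set G)) := by
  obtain ⟨x, p, hp, h1, h2, h3⟩ := h.exists_prime
  rw [h3]
  exact S.card_normalizer_prime hp h1 h2

theorem Free.free_of_mem {g x : G} (h : S.Free g) (hx : x ∈ Subgroup.centralizer ({g} : Set G))
    (h1 : x ≠ 1) : S.Free x := h.of_comm h1 (Subgroup.mem_centralizer_singleton_iff.1 hx).symm

theorem Free.cent_eq {g x : G} (h : S.Free g) (hx : x ∈ Subgroup.centralizer ({g} : Set G))
    (h1 : x ≠ 1) : Subgroup.centralizer ({x} : Set G) = Subgroup.centralizer {g} := by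
  have key : ∀ {g x : G}, S.Free g → x ∈ Subgroup.centralizer ({g} : Set G) →
      Subgroup.centralizer ({g} : Set G) ≤ Subgroup.centralizer {x} := by
    intro g x h hx c hc
    have := h.isCyclic
    exact Subgroup.mem_centralizer_singleton_iff.2
      (congrArg Subtype.val (mul_comm' (⟨c, hc⟩ : Subgroup.centralizer ({g} : Set G)) ⟨x, hx⟩))
  refine le_antisymm (key (h.free_of_mem hx h1) ?_) (key h hx)
  rw [Subgroup.mem_centralizer_singleton_iff] at hx ⊢
  exact hx.symm

omit S in
theorem centralizer_conj (g c : G) :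
    Subgroup.centralizer ({c * g * c⁻¹} : Set G) = MulAut.conj c • Subgroup.centralizer {g} := by
  ext x
  rw [Subgroup.mem_pointwise_smul_iff_inv_smul_mem, Subgroup.mem_centralizer_singleton_iff,
    Subgroup.mem_centralizer_singleton_iff]
  simp only [MulAut.smul_def, MulAut.inv_apply, MulAut.conj_symm_apply]
  constructor
  · intro h
    calc c⁻¹ * x * c * g = c⁻¹ * (x * (c * g * c⁻¹)) * c := by group
      _ = _ := by rw [h]; group
  · intro h
    calc x * (c * g * c⁻¹) = c * (c⁻¹ * x * c * g) * c⁻¹ := by group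
      _ = _ := by rw [h]; group

theorem Free.ti {g : G} (h : S.Free g) (c : G) (y : G) (hy : y ∈ Subgroup.centralizer ({g} : Set G))
    (h1 : y ≠ 1) (hc : c * y * c⁻¹ ∈ Subgroup.centralizer ({g} : Set G)) :
    c ∈ Subgroup.normalizer (Subgroup.centralizer ({g} : Set G) : Set G) := by
  rw [← Subgroup.conjAct_pointwise_smul_iff]
  show MulAut.conj c • Subgroup.centralizer ({g} : Set G) = _
  have h2 := h.cent_eq hc (by rwa [Ne, conj_eq_one_iff])
  rwa [centralizer_conj, h.cent_eq hy h1] at h2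

/-- the conjugates of non-identity elements of the centraliser of `g` -/
abbrev DD (g : G) : Set G := conjSet (Subgroup.centralizer ({g} : Set G))

theorem Free.free_of_DD {g x : G} (h : S.Free g) (hx : x ∈ DD g) : S.Free x := by
  obtain ⟨c, y, hy, h1, rfl⟩ := hx
  exact (h.free_of_mem hy h1).conj c

theorem Free.mem_DD {g : G} (h : S.Free g) : g ∈ DD g :=
  ⟨1, g, Subgroup.mem_centralizer_singleton_iff.2 rfl, h.ne_one, by simp⟩

theorem Free.cent_of_DD {g x : G} (h : S.Free g) (hx : x ∈ DD g) :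
    ∃ c : G, Subgroup.centralizer ({x} : Set G) = MulAut.conj c • Subgroup.centralizer ({g} : Set G) := by
  obtain ⟨c, y, hy, h1, rfl⟩ := hx
  exact ⟨c, by rw [centralizer_conj, h.cent_eq hy h1]⟩

omit S in
theorem conjSet_smul (A : Subgroup G) (c : G) : conjSet (MulAut.conj c • A) = conjSet A := by
  ext x
  constructor
  · rintro ⟨d, _, ⟨y, hy, rfl⟩, h1, rfl⟩
    refine ⟨d * c, y, hy, fun h => h1 (by simp [h]), ?_⟩
    simp [mul_assoc]
  · rintro ⟨d, y, hy, h1, rfl⟩
    refine ⟨d * c⁻¹, c * y * c⁻¹, ⟨y, hy, rfl⟩, by rwa [Ne, conj_eq_one_iff], by group⟩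

theorem Free.DD_eq {g x : G} (h : S.Free g) (hx : x ∈ DD g) : DD x = DD g := by
  obtain ⟨c, hc⟩ := h.cent_of_DD hx
  rw [DD, hc, conjSet_smul]

omit S in
theorem card_smul (c : G) (A : Subgroup G) : Nat.card ↥(MulAut.conj c • A) = Nat.card A :=
  Nat.card_congr (Subgroup.equivSMul (MulAut.conj c) A).toEquiv.symm

omit S in
theorem card_normalizer_smul (c : G) (A : Subgroup G) :
    Nat.card (Subgroup.normalizer ((MulAut.conj c • A : Subgroup G) : Set G)) =
      Nat.card (Subgroup.normalizer (A : Set G)) := by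
  rw [← card_smul c (Subgroup.normalizer (A : Set G))]
  have : Subgroup.normalizer ((MulAut.conj c • A : Subgroup G) : Set G) =
      MulAut.conj c • Subgroup.normalizer (A : Set G) :=
    (Subgroup.map_equiv_normalizer_eq A (MulAut.conj c)).symm
  rw [this]

theorem Free.card_cent_DD {g x : G} (h : S.Free g) (hx : x ∈ DD g) :
    Nat.card (Subgroup.centralizer ({x} : Set G)) = Nat.card (Subgroup.centralizer ({g} : Set G)) ∧
    Nat.card (Subgroup.normalizer (Subgroup.centralizer ({x} : Set G) : Set G)) =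
      Nat.card (Subgroup.normalizer (Subgroup.centralizer ({g} : Set G) : Set G)) := by
  obtain ⟨c, hc⟩ := h.cent_of_DD hx
  rw [hc, card_smul, card_normalizer_smul]
  exact ⟨rfl, rfl⟩

theorem Free.sylow_le {g : G} (h : S.Free g) {p : ℕ} [hp : Fact p.Prime]
    (hd : p ∣ Nat.card (Subgroup.centralizer ({g} : Set G))) :
    ∃ Q : Sylow p G, (Q : Subgroup G) ≤ Subgroup.centralizer {g} ∧ (Q : Subgroup G) ≠ ⊥ := by
  have := S.finite
  obtain ⟨⟨x, hx⟩, h1⟩ := exists_prime_orderOf_dvd_card' p hd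
  rw [Subgroup.orderOf_mk] at h1
  have hx1 : x ≠ 1 := by
    rintro rfl
    rw [orderOf_one] at h1
    exact hp.out.one_lt.ne h1
  obtain ⟨Q, hQ⟩ := (IsPGroup.of_card (n := 1) (G := Subgroup.zpowers x)
    (by rw [Nat.card_zpowers, h1, pow_one])).exists_le_sylow
  have hxQ : x ∈ (Q : Subgroup G) := hQ (Subgroup.mem_zpowers x)
  have hne : (Q : Subgroup G) ≠ ⊥ := fun h => hx1 (by rwa [h, Subgroup.mem_bot] at hxQ)
  refine ⟨Q, ?_, hne⟩
  have : Nontrivial (Q : Subgroup G) := (Subgroup.nontrivial_iff_ne_bot _).2 hne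
  have := Q.isPGroup'.center_nontrivial
  obtain ⟨⟨z, hz⟩, hz1⟩ := exists_ne (1 : Subgroup.center (Q : Subgroup G))
  have hz2 : (z : G) ≠ 1 := fun h => hz1 (Subtype.ext (Subtype.ext h))
  have hz3 : (z : G) ∈ Subgroup.centralizer ({g} : Set G) := by
    rw [← h.cent_eq hx hx1, Subgroup.mem_centralizer_singleton_iff]
    exact (congrArg Subtype.val (Subgroup.mem_center_iff.1 hz ⟨x, hxQ⟩)).symm
  rw [← h.cent_eq hz3 hz2]
  intro y hy
  rw [Subgroup.mem_centralizer_singleton_iff]
  exact congrArg Subtype.val (Subgroup.mem_center_iff.1 hz ⟨y, hy⟩)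

theorem Free.DD_eq_of_dvd {g g' : G} (h : S.Free g) (h' : S.Free g') {p : ℕ} (hp : p.Prime)
    (hd : p ∣ Nat.card (Subgroup.centralizer ({g} : Set G)))
    (hd' : p ∣ Nat.card (Subgroup.centralizer ({g'} : Set G))) : DD g = DD g' := by
  have := S.finite
  have := Fact.mk hp
  obtain ⟨Q, hQ, hne⟩ := h.sylow_le hd
  obtain ⟨Q', hQ', -⟩ := h'.sylow_le hd'
  obtain ⟨c, rfl⟩ := MulAction.exists_smul_eq G Q Q'
  obtain ⟨⟨y, hy⟩, h1⟩ := Subgroup.ne_bot_iff_exists_ne_one.1 hne
  have h2 : y ≠ 1 := fun h => h1 (Subtype.ext h)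
  have h3 : c * y * c⁻¹ ∈ DD g := ⟨c, y, hQ hy, h2, rfl⟩
  have h4 : c * y * c⁻¹ ∈ DD g' := ⟨1, c * y * c⁻¹, hQ' ⟨y, hy, rfl⟩, by rwa [Ne, conj_eq_one_iff], by simp⟩
  rw [← h.DD_eq h3, h'.DD_eq h4]

theorem dvd_of_cover {K : ℕ} (hK : K ≠ 0)
    (h : ∀ x, S.Free x → Nat.card (Subgroup.centralizer ({x} : Set G)) ∣ K) :
    Fintype.card F ^ 2 + 1 ∣ K := by
  have := S.finite
  rw [Nat.dvd_iff_prime_pow_dvd_dvd]
  intro p k hp hk
  rcases Nat.eq_zero_or_pos k with rfl | hk0
  · simp
  have := Fact.mk hp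
  have hG : Fintype.card F ^ 2 + 1 ∣ Nat.card G := by
    rw [S.card_G]
    exact Dvd.dvd.mul_right (Dvd.intro_left _ rfl) _
  have hpd : p ∣ Fintype.card F ^ 2 + 1 := (dvd_pow_self p hk0.ne').trans hk
  obtain ⟨x, hx⟩ := exists_prime_orderOf_dvd_card' p (hpd.trans hG)
  have hx1 : x ≠ 1 := by
    rintro rfl
    rw [orderOf_one] at hx
    exact hp.one_lt.ne hx
  have hf := S.free_of_orderOf_dvd hx1 (hx ▸ hpd)
  obtain ⟨Q, hQ, -⟩ := hf.sylow_le (p := p) (hx ▸ Subgroup.orderOf_dvd_natCard _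
    (Subgroup.mem_centralizer_singleton_iff.2 rfl))
  refine dvd_trans ?_ ((Subgroup.card_dvd_of_le hQ).trans (h x hf))
  rw [Q.card_eq_multiplicity]
  exact pow_dvd_pow p ((hp.pow_dvd_iff_le_factorization Nat.card_pos.ne').1 (hk.trans hG))

variable (S)

theorem card_free : 2 * Nat.card {g | S.Free g} = Fintype.card F ^ 3 * (Fintype.card F - 1) ^ 2 := by
  classical
  have := S.finite
  letI := Fintype.ofFinite G
  let f : G → ℤ := fun g => ∑ ω : S.Ω, if g • ω = ω then 1 else 0
  have hΩ : (Fintype.card S.Ω : ℤ) = Fintype.card F ^ 2 + 1 := by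
    rw [← Nat.card_eq_fintype_card, card_Ω]; simp
  have h8 := S.eight_le
  have : Nonempty S.Ω := ⟨S.inf⟩
  have hq : ((Fintype.card F - 1 : ℕ) : ℤ) = Fintype.card F - 1 := by omega
  have hsub : ∀ A : Subgroup G, ∑ g : G, (if g ∈ A then (1 : ℤ) else 0) = Nat.card A := by
    intro A
    simp [Fintype.card_subtype]
  have h1 : ∑ g, f g = (Fintype.card F ^ 2 + 1) * (Fintype.card F ^ 2 * (Fintype.card F - 1)) := by
    rw [Finset.sum_comm]
    have : ∀ ω : S.Ω, ∑ g : G, (if g • ω = ω then (1 : ℤ) else 0) =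
        Fintype.card F ^ 2 * (Fintype.card F - 1) := by
      intro ω
      have := hsub (MulAction.stabilizer G ω)
      rw [card_stab, Nat.cast_mul, hq] at this
      simpa using this
    simp only [this, Finset.sum_const, Finset.card_univ, nsmul_eq_mul, hΩ]
  have h2 : ∑ g, f g ^ 2 = (Fintype.card F ^ 2 + 1) * (2 * (Fintype.card F ^ 2 * (Fintype.card F - 1))) := by
    have e1 : ∀ g, f g ^ 2 = ∑ α : S.Ω, ∑ β : S.Ω, if g ∈ S.T α β then (1 : ℤ) else 0 := by
      intro g
      rw [pow_two, Finset.sum_mul_sum]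
      refine Finset.sum_congr rfl fun α _ => Finset.sum_congr rfl fun β _ => ?_
      simp only [mem_T, ite_and, mul_ite, mul_one, mul_zero]
      split_ifs <;> rfl
    simp only [e1]
    rw [Finset.sum_comm]
    have : ∀ α : S.Ω, ∑ g : G, ∑ β : S.Ω, (if g ∈ S.T α β then (1 : ℤ) else 0) =
        2 * (Fintype.card F ^ 2 * (Fintype.card F - 1)) := by
      intro α
      rw [Finset.sum_comm]
      simp only [hsub]
      rw [← Finset.add_sum_erase _ _ (Finset.mem_univ α)]
      rw [Finset.sum_congr rfl (g := fun _ => (Fintype.card F : ℤ) - 1) (fun β hβ => by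
        rw [S.card_TT (Finset.ne_of_mem_erase hβ).symm, hq])]
      rw [T, inf_idem, card_stab, Nat.cast_mul, hq, Finset.sum_const, Finset.card_erase_of_mem (Finset.mem_univ _),
        Finset.card_univ, nsmul_eq_mul, Nat.cast_sub Fintype.card_pos, hΩ]
      push_cast
      ring
    simp only [this, Finset.sum_const, Finset.card_univ, nsmul_eq_mul, hΩ]
  have h3 : ∀ g, (f g - 1) * (f g - 2) = (if S.Free g then 2 else 0) +
      if g = 1 then (Fintype.card F : ℤ) ^ 2 * (Fintype.card F ^ 2 - 1) else 0 := by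
    intro g
    have e : f g = (Finset.univ.filter fun ω : S.Ω => g • ω = ω).card := by simp [f]
    by_cases hg : g = 1
    · have : ¬ S.Free g := fun h => h.ne_one hg
      rw [e, if_neg this]
      simp [hg, hΩ]
      ring
    by_cases hf : S.Free g
    · have : (Finset.univ.filter fun ω : S.Ω => g • ω = ω) = ∅ := by
        ext ω
        simpa using hf ω
      rw [e, this]
      simp [hf, hg]
    · have e1 : 0 < (Finset.univ.filter fun ω : S.Ω => g • ω = ω).card := by
        simp only [Free, not_forall, not_not] at hf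
        obtain ⟨ω, hω⟩ := hf
        exact Finset.card_pos.2 ⟨ω, by simpa using hω⟩
      have e2 : (Finset.univ.filter fun ω : S.Ω => g • ω = ω).card ≤ 2 := by
        by_contra h
        obtain ⟨a, b, c, ha, hb, hc, h1, h2, h3⟩ := Finset.two_lt_card_iff.1 (not_le.1 h)
        simp only [Finset.mem_filter, Finset.mem_univ, true_and] at ha hb hc
        exact hg (S.fix3 h1 h3 h2 ha hb hc)
      rw [e]
      generalize (Finset.univ.filter fun ω : S.Ω => g • ω = ω).card = n at e1 e2
      interval_cases n <;> simp [hf, hg]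
  have h4 : ∑ g, (f g - 1) * (f g - 2) = ∑ g, f g ^ 2 - 3 * ∑ g, f g + 2 * Nat.card G := by
    rw [Finset.mul_sum, ← Finset.sum_sub_distrib, Nat.card_eq_fintype_card, ← Finset.card_univ,
      mul_comm, ← nsmul_eq_mul, ← Finset.sum_const, ← Finset.sum_add_distrib]
    exact Finset.sum_congr rfl fun g _ => by ring
  rw [h1, h2, S.card_G] at h4
  simp only [h3, Finset.sum_add_distrib, Finset.sum_ite_eq', Finset.mem_univ, if_true] at h4
  have h5 : ∑ g : G, (if S.Free g then (2 : ℤ) else 0) = 2 * Nat.card {g | S.Free g} := by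
    simp [Finset.sum_ite, Fintype.card_subtype, mul_comm]
  rw [h5] at h4
  push_cast [hq] at h4
  zify
  rw [hq]
  linear_combination h4

end SzS

end H5.Sz
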