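import Cfsg.Agent.H5.RE5
import Cfsg.Agent.H5.SZ6

/-! Cyclic Hall subgroups with constant centralisers; Sylow 2-normalisers of the small Ree groups. -/

namespace H5.Ree
open scoped Pointwise MatrixGroups
open H5.Sz H5.Sz.SzS

section Gen
variable {G : Type*} [Group G]

theorem mem_of_cyclic [Finite G] {A X : Subgroup G} (hA : IsCyclic A) (hX : X ≤ A) {x : G} (hx : x ∈ A)
    (h : x ^ Nat.card X = 1) : x ∈ X := by
  classical
  letI := Fintype.ofFinite A
  have h1 := IsCyclic.card_pow_eq_one_le (α := A) (n := Nat.card X) Nat.card_pos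
  have h2 : (Finset.univ.filter fun a : A => (a : G) ∈ X) ⊆
      Finset.univ.filter fun a : A => a ^ Nat.card X = 1 := fun a ha => by
    simp only [Finset.mem_filter, Finset.mem_univ, true_and] at ha ⊢
    have : (a : G) ^ Nat.card X = 1 := congrArg Subtype.val (pow_card_eq_one' (x := (⟨a, ha⟩ : X)))
    exact Subtype.ext this
  have h3 : (Finset.univ.filter fun a : A => (a : G) ∈ X).card = Nat.card X := by
    rw [← Nat.card_congr (Subgroup.subgroupOfEquivOfLe hX).toEquiv, ← Nat.card_eq_finsetCard]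
    exact Nat.card_congr (Equiv.subtypeEquivRight (by simp [Subgroup.mem_subgroupOf]))
  have h4 := Finset.eq_of_subset_of_card_le h2 (h3 ▸ h1)
  have : (⟨x, hx⟩ : A) ∈ Finset.univ.filter fun a : A => a ^ Nat.card X = 1 := by
    simpa [Subtype.ext_iff] using h
  simpa [← h4] using this

theorem card_conj_inv [Finite G] (C N : Subgroup G) (p : G → Prop)
    (h1 : ∀ c x, p x → p (c * x * c⁻¹)) (h2 : ∀ x, p x → ∃ c, c * x * c⁻¹ ∈ C)
    (h3 : ∀ c, ∀ y ∈ C, p y → c * y * c⁻¹ ∈ C → c ∈ N) (h4 : ∀ c ∈ N, ∀ y ∈ C, c * y * c⁻¹ ∈ C) :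
    Nat.card {g // p g} = N.index * Nat.card {y : C // p y} := by
  rw [Subgroup.index, ← Nat.card_prod]
  symm
  refine Nat.card_congr (Equiv.ofBijective (fun x => ⟨x.1.out * x.2.1 * x.1.out⁻¹, h1 _ _ x.2.2⟩) ⟨?_, ?_⟩)
  · rintro ⟨c, y⟩ ⟨c', y'⟩ h
    have e2 : c.out * y.1 * c.out⁻¹ = c'.out * y'.1 * c'.out⁻¹ := congrArg Subtype.val h
    have e3 : c'.out⁻¹ * c.out ∈ N := h3 _ _ y.1.2 y.2 (by
      have : c'.out⁻¹ * c.out * y.1 * (c'.out⁻¹ * c.out)⁻¹ = y'.1 := by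
        calc _ = c'.out⁻¹ * (c.out * y.1 * c.out⁻¹) * c'.out := by group
          _ = _ := by rw [e2]; group
      rw [this]; exact y'.1.2)
    have e4 : c' = c := by
      rw [← QuotientGroup.out_eq' c, ← QuotientGroup.out_eq' c']
      exact QuotientGroup.eq.2 e3
    subst e4
    have : (y.1 : G) = y'.1 := by simpa using e2
    exact Prod.ext rfl (Subtype.ext (Subtype.ext this))
  · rintro ⟨x, hx⟩
    obtain ⟨c, hc⟩ := h2 x hx
    obtain ⟨n, hn⟩ := QuotientGroup.mk_out_eq_mul N c⁻¹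
    refine ⟨⟨(c⁻¹ : G), ⟨⟨_, h4 _ (N.inv_mem n.2) _ hc⟩, h1 _ _ (h1 _ _ hx)⟩⟩, Subtype.ext ?_⟩
    simp only [hn]
    group

theorem card_order_cyclic [Finite G] {A : Subgroup G} (hA : IsCyclic A) {i : ℕ} (hi : i ∣ Nat.card A) :
    Nat.card {y : A // orderOf (y : G) = i} = Nat.totient i := by
  classical
  letI := Fintype.ofFinite A
  rw [← IsCyclic.card_orderOf_eq_totient (α := A) (by rwa [← Nat.card_eq_fintype_card])]
  simp [Fintype.card_subtype]

theorem exists_prime_pow [Finite G] {g : G} {p : ℕ} (hd : p ∣ orderOf g) :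
    ∃ y, orderOf y = p ∧ y ∈ Subgroup.zpowers g :=
  ⟨_, orderOf_pow_orderOf_div (orderOf_pos g).ne' hd, Subgroup.npow_mem_zpowers _ _⟩

theorem ne_one_of_prime {y : G} {p : ℕ} (hp : p.Prime) (h : orderOf y = p) : y ≠ 1 := by
  rintro rfl
  exact hp.one_lt.ne (by simpa using h)

theorem orderOf_conj' (c x : G) : orderOf (c * x * c⁻¹) = orderOf x :=
  MulEquiv.orderOf_eq (MulAut.conj c) x

/-- a cyclic subgroup of odd order whose non-identity elements have the same centraliser -/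
structure Tor (A C : Subgroup G) : Prop where
  cyc : IsCyclic A
  odd : Odd (Nat.card A)
  cent : ∀ y ∈ A, y ≠ 1 → Subgroup.centralizer {y} = C
  mem : ∀ c ∈ C, Odd (orderOf c) → c ∈ A

namespace Tor
variable [Finite G] {A C : Subgroup G} (h : Tor A C)
include h

theorem odd_of_dvd {n : ℕ} (hn : n ∣ Nat.card A) : Odd n := h.odd.of_dvd_nat hn

theorem sylow_le {p : ℕ} [hp : Fact p.Prime] (hd : p ∣ Nat.card A) : ∃ Q : Sylow p G, (Q : Subgroup G) ≤ A := by
  obtain ⟨⟨x, hx⟩, h1⟩ := exists_prime_orderOf_dvd_card' p hd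
  rw [Subgroup.orderOf_mk] at h1
  have hx1 := ne_one_of_prime hp.out h1
  obtain ⟨Q, hQ⟩ := (IsPGroup.of_card (n := 1) (G := Subgroup.zpowers x)
    (by rw [Nat.card_zpowers, h1, pow_one])).exists_le_sylow
  have hxQ : x ∈ (Q : Subgroup G) := hQ (Subgroup.mem_zpowers x)
  have hodd : ∀ y ∈ (Q : Subgroup G), Odd (orderOf y) := fun y hy => by
    obtain ⟨n, hn⟩ := (IsPGroup.iff_orderOf.1 Q.isPGroup') ⟨y, hy⟩
    rw [Subgroup.orderOf_mk] at hn
    exact hn ▸ (h.odd_of_dvd hd).pow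
  refine ⟨Q, ?_⟩
  have : Nontrivial (Q : Subgroup G) := ⟨⟨x, hxQ⟩, 1, fun e => hx1 (congrArg Subtype.val e)⟩
  have := Q.isPGroup'.center_nontrivial
  obtain ⟨⟨z, hz⟩, hz1⟩ := exists_ne (1 : Subgroup.center (Q : Subgroup G))
  have hz2 : (z : G) ≠ 1 := fun h => hz1 (Subtype.ext (Subtype.ext h))
  have hz3 : (z : G) ∈ A := h.mem _ (by
    rw [← h.cent x hx hx1, Subgroup.mem_centralizer_singleton_iff]
    exact (congrArg Subtype.val (Subgroup.mem_center_iff.1 hz ⟨x, hxQ⟩)).symm) (hodd _ z.2)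
  intro y hy
  refine h.mem _ ?_ (hodd y hy)
  rw [← h.cent _ hz3 hz2, Subgroup.mem_centralizer_singleton_iff]
  exact congrArg Subtype.val (Subgroup.mem_center_iff.1 hz ⟨y, hy⟩)

theorem conj_pgroup {p : ℕ} [hp : Fact p.Prime] (hd : p ∣ Nat.card A) {X : Subgroup G} (hX : IsPGroup p X) :
    ∃ c : G, ∀ x ∈ X, c * x * c⁻¹ ∈ A := by
  obtain ⟨Q, hQ⟩ := h.sylow_le hd
  obtain ⟨Q', hQ'⟩ := hX.exists_le_sylow
  obtain ⟨c, rfl⟩ := MulAction.exists_smul_eq G Q' Q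
  exact ⟨c, fun x hx => hQ ⟨x, hQ' hx, rfl⟩⟩

theorem isCyclic_pgroup {p : ℕ} [hp : Fact p.Prime] (hd : p ∣ Nat.card A) {X : Subgroup G}
    (hX : IsPGroup p X) : IsCyclic X := by
  obtain ⟨c, hc⟩ := h.conj_pgroup hd hX
  have := h.cyc
  exact isCyclic_of_injective (((MulAut.conj c).toMonoidHom.comp X.subtype).codRestrict A
    fun x => hc x x.2) fun x y e => Subtype.ext (by simpa using congrArg Subtype.val e)

theorem conj_cent {g : G} {p : ℕ} (hp : p.Prime) (h1 : p ∣ orderOf g) (hd : p ∣ Nat.card A) :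
    ∃ c, c * g * c⁻¹ ∈ C := by
  have := Fact.mk hp
  obtain ⟨y, hy, k, rfl⟩ := exists_prime_pow h1
  obtain ⟨c, hc⟩ := h.conj_pgroup hd (IsPGroup.of_card (n := 1) (G := Subgroup.zpowers (g ^ k))
    (by rw [Nat.card_zpowers, hy, pow_one]))
  refine ⟨c, ?_⟩
  rw [← h.cent _ (hc _ (Subgroup.mem_zpowers _))
    (by rw [Ne, conj_eq_one_iff]; exact ne_one_of_prime hp hy), Subgroup.mem_centralizer_singleton_iff]
  group

theorem conj_mem {g : G} (hg : orderOf g ∣ Nat.card A) : ∃ c, c * g * c⁻¹ ∈ A := by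
  by_cases h1 : orderOf g = 1
  · exact ⟨1, by simp [orderOf_eq_one_iff.1 h1, A.one_mem]⟩
  obtain ⟨p, hp, hd⟩ := Nat.exists_prime_and_dvd h1
  obtain ⟨c, hc⟩ := h.conj_cent hp hd (hd.trans hg)
  exact ⟨c, h.mem _ hc (by rw [orderOf_conj']; exact h.odd_of_dvd hg)⟩

theorem conj_C {c y : G} (hy : y ∈ A) (h1 : y ≠ 1) (hc : c * y * c⁻¹ ∈ A) {x : G} (hx : x ∈ C) :
    c * x * c⁻¹ ∈ C := by
  rw [← h.cent _ hc (by rwa [Ne, conj_eq_one_iff]), centralizer_conj, h.cent y hy h1]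
  exact ⟨x, hx, rfl⟩

theorem le_C {y : G} (hy : y ∈ A) (h1 : y ≠ 1) : A ≤ C := fun x hx => by
  have := h.cyc
  rw [← h.cent y hy h1, Subgroup.mem_centralizer_singleton_iff]
  exact congrArg Subtype.val (mul_comm' (⟨x, hx⟩ : A) ⟨y, hy⟩)

theorem ti {c y : G} (hy : y ∈ A) (h1 : y ≠ 1) (hc : c * y * c⁻¹ ∈ A) :
    c ∈ Subgroup.normalizer (A : Set G) :=
  Subgroup.mem_normalizer_fintype fun x hx => h.mem _ (h.conj_C hy h1 hc (h.le_C hy h1 hx))
    (by rw [orderOf_conj']; exact h.odd_of_dvd (Subgroup.orderOf_dvd_natCard _ hx))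

theorem normalizer_eq {X : Subgroup G} (hX : X ≤ A) (h1 : X ≠ ⊥) :
    Subgroup.normalizer (X : Set G) = Subgroup.normalizer (A : Set G) := by
  obtain ⟨⟨y, hy⟩, h2⟩ := Subgroup.ne_bot_iff_exists_ne_one.1 h1
  refine le_antisymm (fun c hc => h.ti (hX hy) (fun e => h2 (Subtype.ext e))
    (hX ((Subgroup.mem_normalizer_iff.1 hc y).1 hy))) fun c hc => ?_
  refine Subgroup.mem_normalizer_fintype fun x hx => mem_of_cyclic h.cyc hX
    ((Subgroup.mem_normalizer_iff.1 hc x).1 (hX hx)) ?_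
  rw [conj_pow, show x ^ Nat.card X = 1 from congrArg Subtype.val (pow_card_eq_one' (x := (⟨x, hx⟩ : X)))]
  simp

theorem centralizer_eq {X : Subgroup G} (hX : X ≤ A) (h1 : X ≠ ⊥) :
    Subgroup.centralizer (X : Set G) = C := by
  obtain ⟨⟨y, hy⟩, h2⟩ := Subgroup.ne_bot_iff_exists_ne_one.1 h1
  refine le_antisymm (h.cent y (hX hy) (fun e => h2 (Subtype.ext e)) ▸
    Subgroup.centralizer_le (Set.singleton_subset_iff.2 hy)) fun c hc x hx => ?_
  by_cases h3 : x = 1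
  · simp [h3]
  · exact (Subgroup.mem_centralizer_singleton_iff.1 (h.cent x (hX hx) h3 ▸ hc)).symm

theorem conj_le {X : Subgroup G} (hX : IsCyclic X) (hd : Nat.card X ∣ Nat.card A) :
    ∃ c : G, MulAut.conj c • X ≤ A := by
  obtain ⟨g, rfl⟩ := (Subgroup.isCyclic_iff_exists_zpowers_eq_top X).1 hX
  obtain ⟨c, hc⟩ := h.conj_mem (g := g) (by rwa [← Nat.card_zpowers])
  refine ⟨c, ?_⟩
  rintro _ ⟨_, ⟨k, rfl⟩, rfl⟩
  simpa using A.zpow_mem hc k

theorem conj_cyclic {X Y : Subgroup G} (hX : IsCyclic X) (hY : IsCyclic Y) (h1 : Nat.card X = Nat.card Y)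
    (hd : Nat.card X ∣ Nat.card A) : ∃ c : G, Y = MulAut.conj c • X := by
  obtain ⟨c, hc⟩ := h.conj_le hX hd
  obtain ⟨d, hd⟩ := h.conj_le hY (h1 ▸ hd)
  have : MulAut.conj d • Y = MulAut.conj c • X := Subgroup.eq_of_le_of_card_ge (fun x hx =>
    mem_of_cyclic h.cyc hc (hd hx) (by
      rw [card_smul, h1, ← card_smul d Y]
      exact congrArg Subtype.val (pow_card_eq_one' (x := (⟨x, hx⟩ : ↥(MulAut.conj d • Y))))))
    (by rw [card_smul, card_smul, h1])
  exact ⟨d⁻¹ * c, by rw [map_mul, mul_smul, ← this, map_inv, inv_smul_smul]⟩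

theorem card_order {i : ℕ} (h1 : 1 < i) (hi : i ∣ Nat.card A) :
    Nat.card {g : G // orderOf g = i} = (Subgroup.normalizer (A : Set G)).index * Nat.totient i := by
  rw [← card_order_cyclic h.cyc hi]
  exact card_conj_inv A _ _ (fun c x hx => by rwa [orderOf_conj']) (fun x hx => h.conj_mem (hx ▸ hi))
    (fun c y hy e hc => h.ti hy (by rintro rfl; simp at e; omega) hc)
    fun c hc y hy => (Subgroup.mem_normalizer_iff.1 hc y).1 hy

/-- counting elements conjugate into `C` when `C / A` has exponent two -/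
theorem card_cent (hC : ∀ c ∈ C, Odd (orderOf (c * c))) (p : G → Prop)
    (h1 : ∀ c x, p x → p (c * x * c⁻¹)) (h2 : ∀ x, p x → ∃ c, c * x * c⁻¹ ∈ C)
    (h3 : ∀ x, p x → x * x ≠ 1) (hA : A ≠ ⊥) :
    Nat.card {g // p g} = (Subgroup.normalizer (A : Set G)).index * Nat.card {y : C // p y} := by
  obtain ⟨⟨z, hz⟩, h4⟩ := Subgroup.ne_bot_iff_exists_ne_one.1 hA
  refine card_conj_inv C _ p h1 h2 (fun c y hy e hc => h.ti (h.mem _ (mul_mem hy hy) (hC y hy)) (h3 y e) ?_)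
    fun c hc y hy => h.conj_C hz (fun e => h4 (Subtype.ext e)) ((Subgroup.mem_normalizer_iff.1 hc z).1 hz) hy
  have := h.mem _ (mul_mem hc hc) (hC _ hc)
  simpa [mul_assoc] using this

theorem smul (c : G) : Tor (MulAut.conj c • A) (MulAut.conj c • C) where
  cyc := haveI := h.cyc; isCyclic_of_surjective _ (Subgroup.equivSMul (MulAut.conj c) A).surjective
  odd := by rw [card_smul]; exact h.odd
  cent := by
    rintro _ ⟨y, hy, rfl⟩ h1
    rw [← h.cent y hy (by rintro rfl; simp at h1), ← centralizer_conj]; rfl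
  mem := by
    rintro _ ⟨y, hy, rfl⟩ h1
    exact ⟨y, h.mem y hy (by rwa [← orderOf_conj' c]), rfl⟩

end Tor

end Gen

namespace ReeS
variable {F : Type*} [Field F] [Fintype F] {m : ℕ} {G : Type*} [Group G] (S : ReeS F m G)

/-- the squares in the split torus -/
def A1 : Subgroup G := (S.h.comp (powMonoidHom 2)).range

theorem A1_le : S.A1 ≤ S.h.range := by
  rintro _ ⟨k, rfl⟩; exact ⟨_, rfl⟩

theorem card_A1 : 2 * Nat.card S.A1 = Fintype.card F - 1 := by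
  rw [← S.card_T, card_eq_two_mul S.A1_le (a := S.a) ⟨_, rfl⟩ (by
    rintro ⟨k, hk⟩
    exact S.sq_ne_neg_one k (by simpa [Units.ext_iff] using S.h_inj hk)) (by
    rintro _ ⟨k, rfl⟩
    rcases S.sq_or k with ⟨s, rfl⟩ | ⟨s, rfl⟩
    · exact Or.inl ⟨s, rfl⟩
    · exact Or.inr ⟨s, by rw [a, ← map_mul]; simp⟩)]

theorem odd_A1 : Odd (Nat.card S.A1) := by
  have h1 := S.card_A1
  have h2 := S.card_mod
  rw [Nat.odd_iff]; omega

omit S in
theorem mem_of_odd {H : Subgroup G} {c : G} (h : Odd (orderOf c)) (h2 : c * c ∈ H) : c ∈ H := by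
  obtain ⟨k, hk⟩ := h
  have := pow_orderOf_eq_one c
  rw [hk, pow_succ, pow_mul, mul_eq_one_iff_eq_inv, pow_two] at this
  exact inv_mem_iff.1 (this ▸ pow_mem h2 k)

omit S in
theorem sq_ne_of_odd {c : G} (h : Odd (orderOf c)) (h1 : c ≠ 1) : c * c ≠ 1 := fun e =>
  h1 (Subgroup.mem_bot.1 (mem_of_odd h (Subgroup.mem_bot.2 e)))

theorem sq_mem_A1 {c : G} (hc : c ∈ S.h.range) : c * c ∈ S.A1 := by
  obtain ⟨k, rfl⟩ := hc
  exact ⟨k, by simp [pow_two]⟩

theorem tor_A1 : Tor S.A1 S.h.range where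
  cyc := haveI := S.isCyclic_H; Subgroup.isCyclic_of_le S.A1_le
  odd := S.odd_A1
  cent y hy h1 := by
    have := S.finite
    have h2 := sq_ne_of_odd (S.odd_A1.of_dvd_nat (Subgroup.orderOf_dvd_natCard _ hy)) h1
    obtain ⟨k, rfl⟩ := S.A1_le hy
    exact S.centralizer_h h2
  mem c hc h := mem_of_odd h (S.sq_mem_A1 hc)

theorem sq_mem_A {c : G} (hc : c ∈ S.T4) : c * c ∈ S.A :=
  ⟨mul_mem hc hc, by rw [← pow_two, ← pow_mul, S.T4_pow hc]⟩

theorem tor_A : Tor S.A S.T4 where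
  cyc := S.isCyclic_A
  odd := S.card_A ▸ S.n4_spec.2
  cent _ := S.centralizer_A
  mem c hc h := mem_of_odd h (S.sq_mem_A hc)

theorem exists_A1 (hm : 1 ≤ m) : ∃ y ∈ S.A1, y ≠ 1 := by
  have h1 := S.big hm
  have h2 := S.card_A1
  have := S.finite
  obtain ⟨⟨y, hy⟩, h⟩ := Subgroup.ne_bot_iff_exists_ne_one.1
    ((Subgroup.one_lt_card_iff_ne_bot S.A1).1 (by omega))
  exact ⟨y, hy, fun e => h (Subtype.ext e)⟩

theorem card_normalizer_A1 (hm : 1 ≤ m) :
    Nat.card (Subgroup.normalizer (S.A1 : Set G)) = 2 * (Fintype.card F - 1) := by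
  have := S.finite
  obtain ⟨y, hy, h⟩ := S.exists_A1 hm
  exact S.card_normalizer_H S.A1_le hy
    (sq_ne_of_odd (S.odd_A1.of_dvd_nat (Subgroup.orderOf_dvd_natCard _ hy)) h)

/-- `q² - q + 1` -/
def Qn (F : Type*) [Fintype F] : ℕ := Fintype.card F ^ 2 - Fintype.card F + 1

omit [Field F] in
theorem Qn_add : Qn F + Fintype.card F = Fintype.card F ^ 2 + 1 := by
  have : Fintype.card F ≤ Fintype.card F ^ 2 := Nat.le_self_pow two_ne_zero _
  rw [Qn]; omega

omit [Field F] in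
theorem Qn_mul : (Fintype.card F + 1) * Qn F = Fintype.card F ^ 3 + 1 := by
  have := Qn_add (F := F)
  zify at this ⊢
  linear_combination (Fintype.card F + 1) * this

include S in
theorem card_G' : Nat.card G = Fintype.card F ^ 3 * (2 * Nat.card S.A1) * (4 * n4 F) * Qn F := by
  rw [S.card_G, card_A1, S.n4_spec.1, ← Qn_mul]; ring

include S in
theorem odd_Qn : Odd (Qn F) := by
  have h1 := Qn_add (F := F)
  have h2 := S.card_mod
  have h3 : Odd (Fintype.card F ^ 2) := Odd.pow (by rw [Nat.odd_iff]; omega)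
  rw [Nat.odd_iff] at h3 ⊢
  omega

include S in
theorem card_sylow_two (Q : Sylow 2 G) : Nat.card Q = 8 := by
  have := S.finite
  have h1 : Odd (Fintype.card F ^ 3 * Nat.card S.A1 * n4 F * Qn F) :=
    (((Odd.pow (by have := S.card_mod; rw [Nat.odd_iff]; omega)).mul S.odd_A1).mul S.n4_spec.2).mul S.odd_Qn
  rw [Q.card_eq_multiplicity, S.card_G', show Fintype.card F ^ 3 * (2 * Nat.card S.A1) * (4 * n4 F) * Qn F =
    2 ^ 3 * (Fintype.card F ^ 3 * Nat.card S.A1 * n4 F * Qn F) by ring,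
    Nat.factorization_mul (by norm_num) h1.pos.ne', Finsupp.add_apply, Nat.Prime.factorization_pow Nat.prime_two,
    Nat.factorization_eq_zero_of_not_dvd h1.not_two_dvd_nat]
  simp

include S in
theorem sq_of_two {X : Subgroup G} (hX : IsPGroup 2 X) {x : G} (hx : x ∈ X) : x * x = 1 := by
  obtain ⟨n, hn⟩ := hX ⟨x, hx⟩
  exact S.sq_eq_one_of_two_pow (n := n) (by simpa using congrArg Subtype.val hn)

include S in
theorem comm_of_two {X : Subgroup G} (hX : IsPGroup 2 X) {x y : G} (hx : x ∈ X) (hy : y ∈ X) :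
    x * y = y * x := by
  rw [← inv_eq_of_mul_eq_one_right (S.sq_of_two hX (mul_mem hx hy)), mul_inv_rev,
    inv_eq_of_mul_eq_one_right (S.sq_of_two hX hx), inv_eq_of_mul_eq_one_right (S.sq_of_two hX hy)]

omit S in
theorem isPGroup_of_sq {X : Subgroup G} (h : ∀ x ∈ X, x * x = 1) : IsPGroup 2 X := fun x =>
  ⟨1, Subtype.ext (by simpa [pow_two] using h x x.2)⟩

theorem exists_sylow_two : ∃ Q : Sylow 2 G, S.a ∈ Q ∧ S.w ∈ Q := by
  have : IsPGroup 2 (Subgroup.closure {S.a, S.w}) := isPGroup_of_sq fun x hx => by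
    have h1 : Subgroup.closure {S.a, S.w} ≤ S.T4 := (Subgroup.closure_le _).2 (by
      rintro _ (rfl | rfl); exacts [S.a_mem_T4, S.w_mem_T4])
    induction hx using Subgroup.closure_induction with
    | mem x hx => rcases hx with rfl | rfl; exacts [S.a_mul_a, S.w_mul_w]
    | one => simp
    | mul x y hx hy h2 h3 =>
      rw [mul_assoc, ← mul_assoc y, S.T4_comm (h1 hy) (h1 hx), mul_assoc, h3, mul_one, h2]
    | inv x _ h2 => rw [← mul_inv_rev, h2, inv_one]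
  obtain ⟨Q, hQ⟩ := this.exists_le_sylow
  exact ⟨Q, hQ (Subgroup.subset_closure (by simp)), hQ (Subgroup.subset_closure (by simp))⟩

section Q
variable {S} {Q : Sylow 2 G} (ha : S.a ∈ Q) (hw : S.w ∈ Q)
include ha hw

theorem sylow_le_D : (Q : Subgroup G) ≤ S.D := fun _ hx =>
  S.mem_D.2 ⟨S.comm_of_two Q.isPGroup' hx ha, S.comm_of_two Q.isPGroup' hx hw⟩

omit ha hw in
theorem sylow_not_le : ¬ (Q : Subgroup G) ≤ S.T4 := fun h => by
  have h1 := Subgroup.card_dvd_of_le h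
  have h2 := S.card_mod
  rw [S.card_sylow_two, card_T4] at h1
  omega

theorem centralizer_sylow : Subgroup.centralizer ((Q : Subgroup G) : Set G) = Q := by
  refine Q.is_maximal' (isPGroup_of_sq fun c hc => ?_) fun x hx y hy => S.comm_of_two Q.isPGroup' hy hx
  by_contra h
  have h1 : c ∈ S.D := S.mem_D.2 ⟨(hc _ ha).symm, (hc _ hw).symm⟩
  have h2 : c ∈ S.T4 := by_contra fun h2 => h (S.D_sq h1 h2)
  exact sylow_not_le (Q := Q) fun x hx =>
    S.centralizer_T4 h2 h ▸ Subgroup.mem_centralizer_singleton_iff.2 (hc x hx)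

theorem normalizer_inf_D : Subgroup.normalizer ((Q : Subgroup G) : Set G) ⊓ S.D = Q := by
  refine le_antisymm ?_ (le_inf Subgroup.le_normalizer (sylow_le_D ha hw))
  rintro c ⟨h1, h2⟩
  have h3 : c * c = 1 := by
    by_contra h
    have h4 := S.sq_mem_A (by_contra fun h2' => h (S.D_sq h2 h2'))
    obtain ⟨s, hs, hs'⟩ := SetLike.not_le_iff_exists.1 (sylow_not_le (S := S) (Q := Q))
    have h5 := S.D_inv (sylow_le_D ha hw hs) hs' (inv_mem h4.1)
    generalize hy : c * c = y at h h4 h5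
    have h6 : y * s * y⁻¹ * s⁻¹ ∈ (Q : Subgroup G) :=
      mul_mem ((Subgroup.mem_normalizer_iff.1 (hy ▸ mul_mem h1 h1) s).1 hs) (inv_mem hs)
    have h7 : y * s * y⁻¹ * s⁻¹ = y * y := by
      calc _ = y * y * (y⁻¹ * s * y⁻¹) * s⁻¹ := by group
        _ = _ := by rw [h5]; group
    rw [h7] at h6
    exact h (S.eq_one_of_n4 h4.2 (S.eq_one_of_n4 (mul_mem h4 h4).2 (S.sq_of_two Q.isPGroup' h6)))
  have h4 := IsPGroup.inf_normalizer_sylow (P := Subgroup.zpowers c) (isPGroup_of_sq (by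
    rintro _ ⟨k, rfl⟩
    show c ^ k * c ^ k = 1
    rw [← Commute.mul_zpow (Commute.refl c), h3, one_zpow])) Q
  exact (h4.le ⟨Subgroup.mem_zpowers c, h1⟩).2

theorem card_normalizer_sylow : Nat.card (Subgroup.normalizer ((Q : Subgroup G) : Set G)) = 168 := by
  have := S.finite
  have hQ := S.card_sylow_two Q
  have hc : ∀ {x}, x ∈ (Q : Subgroup G) → (Q : Subgroup G) ≤ Subgroup.centralizer {x} := fun hx y hy =>
    Subgroup.mem_centralizer_singleton_iff.2 (S.comm_of_two Q.isPGroup' hy hx)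
  have hn : ∀ {K : Subgroup G} {g : G}, (Q : Subgroup G) ≤ K → ((g • Q : Sylow 2 G) : Subgroup G) ≤ K →
      ∃ d ∈ K, d * g ∈ Subgroup.normalizer ((Q : Subgroup G) : Set G) := fun {K g} h1 h2 => by
    obtain ⟨d, hd, e⟩ := sylow_conj_in (g • Q) Q h2 h1
    exact ⟨d, hd, Sylow.smul_eq_iff_mem_normalizer.1 (by rw [mul_smul, e])⟩
  have hs : ∀ {g x : G}, x ∈ (Q : Subgroup G) → g * x * g⁻¹ ∈ ((g • Q : Sylow 2 G) : Subgroup G) :=
    fun hx => ⟨_, hx, rfl⟩
  have hc' : ∀ {g x : G}, x ∈ (Q : Subgroup G) →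
      ((g • Q : Sylow 2 G) : Subgroup G) ≤ Subgroup.centralizer {g * x * g⁻¹} := fun hx y hy =>
    Subgroup.mem_centralizer_singleton_iff.2 (S.comm_of_two (Sylow.isPGroup' _) hy (hs hx))
  have h1 : {y | ∃ n ∈ Subgroup.normalizer ((Q : Subgroup G) : Set G), n * S.a * n⁻¹ = y} =
      ((Q : Subgroup G) : Set G) \ {1} := by
    ext y
    constructor
    · rintro ⟨n, hn, rfl⟩
      exact ⟨(Subgroup.mem_normalizer_iff.1 hn _).1 ha, by simpa using S.a_ne⟩
    · rintro ⟨hy, h1⟩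
      obtain ⟨g, rfl⟩ := isConj_iff.1 (S.isConj_a h1 (S.sq_of_two Q.isPGroup' hy))
      obtain ⟨d, hd, e⟩ := hn (hc hy) (hc' ha)
      rw [Subgroup.mem_centralizer_singleton_iff, ← mul_inv_eq_iff_eq_mul] at hd
      exact ⟨_, e, by rw [← hd]; group⟩
  have h2 : {y | ∃ n ∈ Subgroup.normalizer ((Q : Subgroup G) : Set G) ⊓ Subgroup.centralizer {S.a},
      n * S.w * n⁻¹ = y} = (((Q : Subgroup G) ⊓ S.φ.range : Subgroup G) : Set G) \ {1} := by
    ext y
    constructor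
    · rintro ⟨n, hn, rfl⟩
      refine ⟨⟨(Subgroup.mem_normalizer_iff.1 hn.1 _).1 hw, ?_⟩, by simpa using S.w_ne⟩
      obtain ⟨M, rfl | rfl⟩ := S.comm_a_iff.1 (Subgroup.mem_centralizer_singleton_iff.1 hn.2)
      · exact ⟨M * JJ F * M⁻¹, by simp [S.φ_w]⟩
      · exact ⟨M * JJ F * M⁻¹, by
          rw [a_comm_φ, mul_assoc _ S.a, a_mul_w, ← mul_assoc]; simp [S.φ_w, mul_assoc]⟩
    · rintro ⟨⟨hy, M, rfl⟩, h1⟩
      obtain ⟨N, e1⟩ := S.conj_w_of_φ h1 (S.sq_of_two Q.isPGroup' hy)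
      have e2 : S.φ N * S.a * (S.φ N)⁻¹ = S.a := by rw [← a_comm_φ, mul_inv_cancel_right]
      obtain ⟨d, ⟨hd, hd'⟩, e⟩ := hn (K := Subgroup.centralizer {S.a} ⊓ Subgroup.centralizer {S.φ M})
        (g := S.φ N) (le_inf (hc ha) (hc hy)) (le_inf (e2 ▸ hc' ha) (e1 ▸ hc' hw))
      refine ⟨_, ⟨e, mul_mem hd (Subgroup.mem_centralizer_singleton_iff.2 (S.a_comm_φ N).symm)⟩, ?_⟩
      have := mul_inv_eq_iff_eq_mul.2 (Subgroup.mem_centralizer_singleton_iff.1 hd')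
      rw [← this, ← e1]; group
  have h3 : Nat.card (Q : Subgroup G) = 2 * Nat.card ↥((Q : Subgroup G) ⊓ S.φ.range) :=
    card_eq_two_mul inf_le_left ha (fun ⟨_, M, h⟩ => S.φ_ne_a M h) fun k hk => by
      obtain ⟨M, rfl | rfl⟩ := S.comm_a_iff.1 (S.comm_of_two Q.isPGroup' hk ha)
      · exact Or.inl ⟨hk, M, rfl⟩
      · exact Or.inr ⟨mul_mem ha hk, M, by rw [← mul_assoc, a_mul_a, one_mul]⟩
  have h4 : ∀ X : Subgroup G, ((X : Set G) \ {1}).ncard = Nat.card X - 1 := fun X => by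
    rw [Set.ncard_sdiff_singleton_of_mem X.one_mem, ← Nat.card_coe_set_eq]; rfl
  rw [card_eq_orbit _ S.a, card_eq_orbit (_ ⊓ _) S.w, h1, h2, inf_assoc, ← D, normalizer_inf_D ha hw, h4, h4]
  have h5 : Nat.card ↥((Q : Subgroup G) ⊓ S.φ.range) = 4 := by omega
  rw [h5, hQ]

end Q

include S in
theorem sylow_two (Q : Sylow 2 G) : Subgroup.centralizer ((Q : Subgroup G) : Set G) = Q ∧
    Nat.card (Subgroup.normalizer ((Q : Subgroup G) : Set G)) = 168 := by
  have := S.finite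
  obtain ⟨Q', ha, hw⟩ := S.exists_sylow_two
  obtain ⟨g, rfl⟩ := MulAction.exists_smul_eq G Q' Q
  exact ⟨centralizer_sylow (S := S.comp (MulAut.conj g⁻¹)) ⟨_, ha, by simp [a, comp]⟩ ⟨_, hw, by simp [comp]⟩,
    card_normalizer_sylow (S := S.comp (MulAut.conj g⁻¹)) ⟨_, ha, by simp [a, comp]⟩ ⟨_, hw, by simp [comp]⟩⟩

end ReeS

end H5.Ree
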