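import Cfsg.Agent.H5.RE6

/-! Small Ree groups: centralisers of elements of order dividing `q² - q + 1`. -/

namespace H5.Ree
open scoped Pointwise MatrixGroups
open H5.Sz H5.Sz.SzS Polynomial

theorem six_dvd_of_pow {p : ℕ} [Fact p.Prime] {a : ZMod p} (h : a ^ 2 - a + 1 = 0) (h2 : (2 : ZMod p) ≠ 0)
    (h3 : (3 : ZMod p) ≠ 0) {d e : ℕ} (ha : a ^ d = a ^ e) : d % 6 = e % 6 := by
  have : orderOf a = 6 := by
    apply orderOf_eq_of_pow_and_pow_div_prime (by norm_num) (by linear_combination (a + 1) * (a ^ 3 - 1) * h)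
    intro r hr hd
    have h4 : r = 2 ∨ r = 3 := by
      rcases (Nat.Prime.dvd_mul hr (m := 2) (n := 3)).1 hd with h | h
      · exact Or.inl ((Nat.prime_dvd_prime_iff_eq hr Nat.prime_two).1 h)
      · exact Or.inr ((Nat.prime_dvd_prime_iff_eq hr Nat.prime_three).1 h)
    rcases h4 with rfl | rfl
    · exact fun e => h2 (by linear_combination (a + 1) * h - e)
    · exact fun e => h3 (by linear_combination (a + 2) * h - (a + 1) * e)
  have h0 : IsOfFinOrder a := by rw [← orderOf_pos_iff, this]; norm_num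
  rw [← this]
  exact h0.pow_eq_pow_iff_modEq.1 ha

theorem aeval_one_eq_zero {F A : Type*} [Field F] [Semiring A] [Algebra F A] {p : F[X]} (h : p.IsRoot 1) :
    aeval (1 : A) p = 0 := by
  rw [← map_one (algebraMap F A), aeval_algebraMap_apply_eq_algebraMap_eval, h.eq_zero, map_zero]

/-- restriction of the centraliser of `x` to the image of `x - 1` -/
noncomputable def resAlg {F : Type*} [Field F] {n : Type*} [Fintype n] [DecidableEq n] (x : Matrix n n F) :
    Subalgebra.centralizer F ({x} : Set (Matrix n n F)) →ₐ[F]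
      Module.End F (LinearMap.range (Matrix.toLin' x - 1)) where
  toFun a := (Matrix.toLin' a.1).restrict (by
    rintro _ ⟨v, rfl⟩
    refine ⟨Matrix.toLin' a.1 v, ?_⟩
    have ha : x * a.1 = a.1 * x := (Subalgebra.mem_centralizer_iff F).1 a.2 _ rfl
    simp only [LinearMap.sub_apply, Module.End.one_apply, map_sub, ← Matrix.toLin'_mul_apply, ha])
  map_one' := by ext; simp
  map_mul' a b := by ext; simp
  map_zero' := by ext; simp
  map_add' a b := by ext; simp
  commutes' r := by ext; simp [Algebra.algebraMap_eq_smul_one]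

theorem resAlg_apply {F : Type*} [Field F] {n : Type*} [Fintype n] [DecidableEq n] (x : Matrix n n F)
    (a) (v) : (resAlg x a v : n → F) = Matrix.toLin' a.1 v := rfl

instance instRingSubEnd {F V : Type*} [Field F] [AddCommGroup V] [Module F V] (W : Submodule F V)
    (A : Subalgebra F (Module.End F W)) : Ring A := @Subalgebra.toRing F (Module.End F W) _ _ _ A

namespace ReeS
variable {F : Type*} [Field F] [Fintype F] {m : ℕ} {G : Type*} [Group G] (S : ReeS F m G)

theorem ρ_inj (hm : 1 ≤ m) : Function.Injective S.ρ := by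
  have := S.simple' hm
  rcases (MonoidHom.normal_ker S.ρ.toHomUnits).eq_bot_or_eq_top with h | h
  · intro a b e
    exact (MonoidHom.ker_eq_bot_iff _).1 h (Units.ext e)
  · obtain ⟨g, hg⟩ := S.ρ_ne
    exact absurd (congrArg Units.val (h.ge (Subgroup.mem_top g))) hg

/-- the part of the group order prime to `q² - q + 1` -/
def Mn (F : Type*) [Fintype F] : ℕ := Fintype.card F ^ 3 * (Fintype.card F - 1) * (Fintype.card F + 1)

include S in
theorem card_G'' : Nat.card G = Mn F * Qn F := by rw [S.card_G, Mn, ← Qn_mul]; ring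

include S in
theorem coprime_Qn : Nat.Coprime (Qn F) (Mn F) := by
  have h1 := Qn_add (F := F)
  have h2 := S.three_le
  obtain ⟨k, hk⟩ := S.three_dvd
  apply Nat.coprime_of_dvd
  intro p hp h3 h4
  have h5 : ∀ n : ℕ, p ∣ n ↔ (n : ZMod p) = 0 := fun n => (ZMod.natCast_eq_zero_iff n p).symm
  have := Fact.mk hp
  have h6 := congrArg (Nat.cast : ℕ → ZMod p) h1
  have h7 := congrArg (Nat.cast : ℕ → ZMod p) S.hF
  rw [h5] at h3 h4
  rw [Mn] at h4
  push_cast [Nat.cast_sub (show 1 ≤ Fintype.card F by omega)] at h4 h6 h7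
  rw [h3] at h6
  have h8 : (Fintype.card F : ZMod p) ≠ 0 := fun h => by simp [h] at h6
  simp only [mul_eq_zero, pow_eq_zero_iff three_ne_zero, h8, false_or] at h4
  rcases h4 with h4 | h4
  · exact h8 (by linear_combination -h6 - (Fintype.card F : ZMod p) * h4 + h4)
  · have h9 : (3 : ZMod p) = 0 := by linear_combination -h6 - ((Fintype.card F : ZMod p) - 2) * h4
    exact h8 (by rw [h7, h9]; simp)

include S in
theorem coprime_of_dvd_Mn {a b : ℕ} (ha : a ∣ Qn F) (hb : b ∣ Mn F) : Nat.Coprime a b :=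
  (S.coprime_Qn.coprime_dvd_left ha).coprime_dvd_right hb

include S in
theorem six_dvd_Mn : 6 ∣ Mn F := by
  have h1 := S.n4_spec.1
  rw [Mn, ← h1, show 6 = 3 * 2 from rfl]
  exact mul_dvd_mul ((S.three_dvd.trans (dvd_pow_self _ three_ne_zero)).mul_right _) ⟨2 * n4 F, by ring⟩

include S in
theorem prime_cases {p : ℕ} (hp : p.Prime) (h : p ∣ Mn F) :
    p = 2 ∨ p = 3 ∨ p ∣ Nat.card S.A1 ∨ p ∣ n4 F := by
  rw [Mn, ← S.card_A1, ← S.n4_spec.1, S.hF, hp.dvd_mul, hp.dvd_mul, hp.dvd_mul, hp.dvd_mul] at h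
  rcases h with (h | h | h) | h | h
  · exact Or.inr (Or.inl ((Nat.prime_dvd_prime_iff_eq hp Nat.prime_three).1
      (hp.dvd_of_dvd_pow (hp.dvd_of_dvd_pow h))))
  · exact Or.inl ((Nat.prime_dvd_prime_iff_eq hp Nat.prime_two).1 h)
  · tauto
  · exact Or.inl ((Nat.prime_dvd_prime_iff_eq hp Nat.prime_two).1 (hp.dvd_of_dvd_pow (n := 2) h))
  · tauto

include S in
theorem card_cent_dvd_Mn {c : G} {p : ℕ} (hp : p.Prime) (hc : orderOf c = p) (h : p ∣ Mn F) :
    Nat.card (Subgroup.centralizer ({c} : Set G)) ∣ Mn F := by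
  have := S.finite
  have h1 := ne_one_of_prime hp hc
  have key : ∀ d : G, Nat.card (Subgroup.centralizer ({c} : Set G)) =
      Nat.card (Subgroup.centralizer ({d * c * d⁻¹} : Set G)) := fun d => by rw [centralizer_conj, card_smul]
  rcases S.prime_cases hp h with rfl | rfl | h | h
  · obtain ⟨d, hd⟩ := isConj_iff.1 (S.isConj_a h1 ((pow_two c).symm.trans (hc ▸ pow_orderOf_eq_one c))).symm
    rw [key d, hd, S.card_centralizer_a, Mn]
    exact ⟨Fintype.card F ^ 2, by ring⟩
  · obtain ⟨ω, h2⟩ := S.mem_P_of_three (g := c) (n := 1) (by rw [pow_one, ← hc, pow_orderOf_eq_one])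
    refine (Subgroup.card_dvd_of_le (K := MulAction.stabilizer G ω) fun g hg => S.P_fix h2 h1 ?_).trans ?_
    · rw [← mul_smul, ← Subgroup.mem_centralizer_singleton_iff.1 hg, mul_smul, h2.1]
    · rw [S.card_stab]; exact Dvd.intro _ rfl
  · obtain ⟨d, hd⟩ := S.tor_A1.conj_mem (hc ▸ h)
    rw [key d, S.tor_A1.cent _ hd (by simpa using h1), card_T]
    exact (Dvd.intro_left _ rfl).mul_right _
  · obtain ⟨d, hd⟩ := S.tor_A.conj_mem (by rw [hc, card_A]; exact h)
    rw [key d, S.tor_A.cent _ hd (by simpa using h1), card_T4]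
    exact Dvd.intro_left _ rfl

/-- non-identity elements of order dividing `q² - q + 1` -/
def Pi (F : Type*) [Fintype F] (g : G) : Prop := g ≠ 1 ∧ orderOf g ∣ Qn F

variable {S}

theorem Pi.card_dvd (S : ReeS F m G) {g : G} (h : Pi F g) :
    Nat.card (Subgroup.centralizer ({g} : Set G)) ∣ Qn F := by
  have := S.finite
  refine Nat.Coprime.dvd_of_dvd_mul_left ?_ (S.card_G'' ▸ Subgroup.card_subgroup_dvd_card _)
  apply Nat.coprime_of_dvd
  intro p hp h1 h2
  have := Fact.mk hp
  obtain ⟨⟨c, hc⟩, h3⟩ := exists_prime_orderOf_dvd_card' p h1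
  rw [Subgroup.orderOf_mk] at h3
  have h4 : orderOf g ∣ Mn F := (Subgroup.orderOf_dvd_natCard _ (Subgroup.mem_centralizer_singleton_iff.2
    (Subgroup.mem_centralizer_singleton_iff.1 hc).symm)).trans (S.card_cent_dvd_Mn hp h3 h2)
  exact h.1 (orderOf_eq_one_iff.1 ((S.coprime_of_dvd_Mn h.2 h4).eq_one_of_dvd dvd_rfl))

theorem Pi.of_mem (S : ReeS F m G) {g x : G} (h : Pi F g) (hx : x ∈ Subgroup.centralizer ({g} : Set G))
    (h1 : x ≠ 1) : Pi F x := ⟨h1, (Subgroup.orderOf_dvd_natCard _ hx).trans (h.card_dvd S)⟩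

variable (S)

section Lin
variable (hm : 1 ≤ m) {x : G} {p : ℕ} (hp : p.Prime) (hx : orderOf x = p) (hd : p ∣ Qn F)
include hm hp hx hd

omit hm in
theorem finrank_mod {W : Submodule F (Fin 7 → F)} (hW : ∀ v ∈ W, Matrix.toLin' (S.ρ x) v ∈ W) :
    Module.finrank F W % 6 = Module.finrank F ↥(W ⊓ LinearMap.ker (Matrix.toLin' (S.ρ x) - 1)) % 6 := by
  have := Fact.mk hp
  have hLp : Matrix.toLin' (S.ρ x) ^ p = 1 := by
    rw [← Matrix.toLin'_pow, ← map_pow, ← hx, pow_orderOf_eq_one, map_one, Matrix.toLin'_one]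
    rfl
  have h1 := congrArg (Nat.cast : ℕ → ZMod p) (Qn_add (F := F))
  push_cast at h1
  rw [(ZMod.natCast_eq_zero_iff _ _).2 hd] at h1
  have h2 : ∀ k : ℕ, k ∣ 6 → (k : ZMod p) ≠ 0 := fun k hk h => hp.one_lt.ne'
    ((S.coprime_of_dvd_Mn hd
      (((ZMod.natCast_eq_zero_iff _ _).1 h).trans (hk.trans S.six_dvd_Mn))).eq_one_of_dvd dvd_rfl)
  exact six_dvd_of_pow (by linear_combination -h1) (h2 2 (by norm_num)) (h2 3 (by norm_num))
    (finrank_modEq _ hLp W hW)

theorem finrank_ker : Module.finrank F (LinearMap.ker (Matrix.toLin' (S.ρ x) - 1)) = 1 := by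
  have h3 := S.finrank_mod hp hx hd (W := ⊤) (fun _ _ => trivial)
  rw [top_inf_eq, finrank_top, Module.finrank_fin_fun] at h3
  have h4 : LinearMap.ker (Matrix.toLin' (S.ρ x) - 1) ≠ ⊤ := by
    intro h4
    rw [LinearMap.ker_eq_top, sub_eq_zero] at h4
    refine ne_one_of_prime hp hx (S.ρ_inj hm (Matrix.toLin'.injective ?_))
    rw [h4, map_one, Matrix.toLin'_one]
    rfl
  have := Submodule.finrank_lt h4
  rw [Module.finrank_fin_fun] at this
  omega

theorem finrank_range : Module.finrank F (LinearMap.range (Matrix.toLin' (S.ρ x) - 1)) = 6 := by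
  have := LinearMap.finrank_range_add_finrank_ker (Matrix.toLin' (S.ρ x) - 1)
  rw [S.finrank_ker hm hp hx hd, Module.finrank_fin_fun] at this
  omega

theorem eq_bot_of_lt {W : Submodule F (Fin 7 → F)} (hW : ∀ v ∈ W, Matrix.toLin' (S.ρ x) v ∈ W)
    (h : W < LinearMap.range (Matrix.toLin' (S.ρ x) - 1)) : W = ⊥ := by
  have h1 := S.finrank_mod hp hx hd (W := LinearMap.range (Matrix.toLin' (S.ρ x) - 1)) (by
    rintro _ ⟨v, rfl⟩
    exact ⟨Matrix.toLin' (S.ρ x) v, by simp only [LinearMap.sub_apply, Module.End.one_apply, map_sub]⟩)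
  have h2 := S.finrank_mod hp hx hd hW
  have h3 := Submodule.finrank_lt_finrank_of_lt h
  have h4 := Submodule.finrank_mono (inf_le_inf_right (LinearMap.ker (Matrix.toLin' (S.ρ x) - 1)) h.le)
  have h5 := Submodule.finrank_mono (inf_le_right : LinearMap.range (Matrix.toLin' (S.ρ x) - 1) ⊓
    LinearMap.ker (Matrix.toLin' (S.ρ x) - 1) ≤ _)
  rw [S.finrank_range hm hp hx hd] at h1 h3
  rw [S.finrank_ker hm hp hx hd] at h5
  exact Submodule.finrank_eq_zero.1 (by omega)

theorem isDomain_res : IsDomain (resAlg (S.ρ x)).range := by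
  have : Nontrivial (LinearMap.range (Matrix.toLin' (S.ρ x) - 1)) :=
    Module.nontrivial_of_finrank_pos (R := F) (by rw [S.finrank_range hm hp hx hd]; norm_num)
  have : NoZeroDivisors (resAlg (S.ρ x)).range := by
    constructor
    rintro ⟨_, a, rfl⟩ ⟨_, b, rfl⟩ hab
    have hab' : resAlg (S.ρ x) a * resAlg (S.ρ x) b = 0 := congrArg Subtype.val hab
    by_cases h0 : resAlg (S.ρ x) a = 0
    · exact Or.inl (Subtype.ext h0)
    right
    apply Subtype.ext
    have ha' : S.ρ x * a.1 = a.1 * S.ρ x := (Subalgebra.mem_centralizer_iff F).1 a.2 _ rfl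
    have hk := S.eq_bot_of_lt hm hp hx hd (W := LinearMap.range (Matrix.toLin' (S.ρ x) - 1) ⊓
      LinearMap.ker (Matrix.toLin' a.1)) (by
      rintro _ ⟨⟨v, rfl⟩, hv⟩
      refine ⟨⟨Matrix.toLin' (S.ρ x) v, by simp only [LinearMap.sub_apply, Module.End.one_apply, map_sub]⟩, ?_⟩
      rw [SetLike.mem_coe, LinearMap.mem_ker] at hv ⊢
      rw [← Matrix.toLin'_mul_apply, ← ha', Matrix.toLin'_mul_apply, hv, map_zero]) (by
      refine lt_of_le_of_ne inf_le_left fun h => h0 ?_
      exact LinearMap.ext fun v => Subtype.ext (h.ge v.2).2)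
    refine LinearMap.ext fun v => Subtype.ext ?_
    exact hk.le ⟨(resAlg (S.ρ x) b v).2, congrArg Subtype.val (LinearMap.congr_fun hab' v)⟩
  exact NoZeroDivisors.to_isDomain _

theorem res_comm (a b : (resAlg (S.ρ x)).range) : a * b = b * a :=
  haveI := S.isDomain_res hm hp hx hd
  haveI : Finite (resAlg (S.ρ x)).range := Finite.of_surjective _ (resAlg (S.ρ x)).rangeRestrict_surjective
  (Finite.isDomain_to_isField _).mul_comm a b

omit hm hp hx hd in
def centHom (x : G) : Subgroup.centralizer ({x} : Set G) →*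
    Subalgebra.centralizer F ({S.ρ x} : Set (Matrix (Fin 7) (Fin 7) F)) where
  toFun c := ⟨S.ρ c, (Subalgebra.mem_centralizer_iff F).2 (by
    rintro _ rfl
    rw [← map_mul, ← map_mul, Subgroup.mem_centralizer_singleton_iff.1 c.2])⟩
  map_one' := Subtype.ext (map_one _)
  map_mul' a b := Subtype.ext (map_mul _ _ _)

omit hm hp hx hd in
noncomputable def resHom (x : G) : Subgroup.centralizer ({x} : Set G) →* (resAlg (S.ρ x)).range :=
  ((resAlg (S.ρ x)).rangeRestrict : _ →* _).comp (S.centHom x)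

theorem resHom_inj : Function.Injective (S.resHom x) := by
  have := S.finite
  rw [injective_iff_map_eq_one]
  intro c hc
  by_contra h1
  obtain ⟨r, hr, h2⟩ := Nat.exists_prime_and_dvd (fun h => h1 (orderOf_eq_one_iff.1 h))
  obtain ⟨_, h3, k, rfl⟩ := exists_prime_pow h2
  have h4 : S.resHom x (c ^ k) = 1 := by rw [← MonoidHom.mem_ker] at hc ⊢; exact zpow_mem hc k
  have h5 := S.finrank_ker hm hr ((Subgroup.orderOf_coe _).trans h3) (h2.trans ((orderOf_dvd_natCard c).trans
    (Pi.card_dvd S ⟨ne_one_of_prime hp hx, hx ▸ hd⟩)))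
  have h6 : LinearMap.range (Matrix.toLin' (S.ρ x) - 1) ≤
      LinearMap.ker (Matrix.toLin' (S.ρ (c ^ k : Subgroup.centralizer ({x} : Set G))) - 1) := fun v hv =>
    sub_eq_zero.2 (congrArg Subtype.val (LinearMap.congr_fun (congrArg Subtype.val h4) ⟨v, hv⟩))
  have h7 := Submodule.finrank_mono h6
  rw [h5, S.finrank_range hm hp hx hd] at h7
  omega

include S in
theorem isCyclic_cent_prime : IsCyclic (Subgroup.centralizer ({x} : Set G)) :=
  haveI := S.isDomain_res hm hp hx hd
  haveI := S.finite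
  isCyclic_of_comm_domain (S.res_comm hm hp hx hd) _ (S.resHom_inj hm hp hx hd)

include S in
theorem card_normalizer_prime :
    Nat.card (Subgroup.normalizer (Subgroup.centralizer ({x} : Set G) : Set G)) ≤
      6 * Nat.card (Subgroup.centralizer ({x} : Set G)) := by
  classical
  have := S.isDomain_res hm hp hx hd
  have := S.finite
  set A := Subgroup.centralizer ({x} : Set G) with hA
  set N := Subgroup.normalizer (A : Set G) with hN
  have hxA : x ∈ A := Subgroup.mem_centralizer_singleton_iff.2 rfl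
  letI := Fintype.ofFinite N
  let f : N → A := fun n => ⟨n * x * (n : G)⁻¹, (Subgroup.mem_normalizer_iff.1 n.2 x).1 hxA⟩
  have h0 : (1 : A) ∉ Finset.univ.image f := by
    simp only [Finset.mem_image, Finset.mem_univ, true_and, not_exists]
    exact fun n h => ne_one_of_prime hp hx (by simpa [f] using h)
  have hker := S.finrank_ker hm hp hx hd
  have h1 : (insert 1 (Finset.univ.image f)).card ≤ 7 := by
    rw [← Finset.card_image_of_injective _ (S.resHom_inj hm hp hx hd)]
    refine (card_roots_le (S.res_comm hm hp hx hd) (S.ρ x).charpoly (Matrix.charpoly_monic _).ne_zero _ ?_).trans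
      (by simp)
    intro y hy
    simp only [Finset.mem_image, Finset.mem_insert, Finset.mem_univ, true_and] at hy
    obtain ⟨_, rfl | ⟨n, rfl⟩, rfl⟩ := hy
    · rw [map_one]
      apply aeval_one_eq_zero
      rw [← Matrix.charpoly_toLin', ← Module.End.hasEigenvalue_iff_isRoot_charpoly,
        Module.End.hasEigenvalue_iff, Module.End.eigenspace_def, one_smul]
      intro h
      rw [h] at hker
      simp at hker
    · show aeval ((resAlg (S.ρ x)).rangeRestrict (S.centHom x (f n))) _ = 0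
      rw [aeval_algHom_apply]
      have : aeval (S.centHom x (f n)) (S.ρ x).charpoly = 0 := by
        apply Subtype.ext
        rw [Polynomial.aeval_subalgebra_coe]
        show aeval (S.ρ (n * x * (n : G)⁻¹)) _ = 0
        have h2 : (S.ρ (n * x * (n : G)⁻¹)).charpoly = (S.ρ x).charpoly := by
          rw [map_mul, Matrix.charpoly_mul_comm, ← map_mul]
          simp
        rw [← h2, Matrix.aeval_self_charpoly]
      rw [this, map_zero]
  rw [Finset.card_insert_of_notMem h0] at h1
  have h2 := Finset.card_le_mul_card_image (f := f) Finset.univ (Nat.card A) (by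
    intro y hy
    simp only [Finset.mem_image, Finset.mem_univ, true_and] at hy
    obtain ⟨n, rfl⟩ := hy
    rw [← Nat.card_eq_finsetCard]
    refine Nat.card_le_card_of_injective (fun k => ⟨(n : G)⁻¹ * k.1, ?_⟩) ?_
    · have h3 := congrArg Subtype.val (Finset.mem_filter.1 k.2).2
      simp only [f] at h3
      rw [Subgroup.mem_centralizer_singleton_iff]
      calc (n : G)⁻¹ * k.1 * x = (n : G)⁻¹ * (k.1 * x * (k.1 : G)⁻¹) * k.1 := by group
        _ = _ := by rw [h3]; group
    · intro k k' h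
      exact Subtype.ext (Subtype.ext (mul_left_cancel (congrArg Subtype.val h))))
  rw [Finset.card_univ, ← Nat.card_eq_fintype_card] at h2
  calc _ ≤ _ := h2
    _ ≤ Nat.card A * 6 := Nat.mul_le_mul_left _ (by omega)
    _ = _ := mul_comm _ _

end Lin

end ReeS

end H5.Ree
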