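import Cfsg.Agent.H5.RE7

/-! Small Ree groups: element orders and their numbers. -/

namespace H5.Ree
open scoped Pointwise MatrixGroups
open H5.Sz H5.Sz.SzS

namespace Tor
variable {G : Type*} [Group G] [Finite G] {A C : Subgroup G} (h : Tor A C)
include h

theorem card_sq (hc : ∀ x ∈ C, ∀ y ∈ C, x * y = y * x) (hsq : ∀ c ∈ C, c * c ∈ A) (hle : A ≤ C) {e : ℕ}
    (he : Nat.card C = e * Nat.card A) (p : G → Prop) :
    Nat.card {t : C // p (t * t)} = e * Nat.card {y : A // p y} := by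
  apply Nat.eq_of_mul_eq_mul_left (Nat.card_pos (α := A))
  rw [← mul_assoc, mul_comm _ e, ← he, ← Nat.card_prod, ← Nat.card_prod]
  have hs := (powCoprime (Nat.coprime_two_right.2 h.odd)).bijective
  have h2 : ∀ x ∈ C, ∀ y ∈ C, x * y * (x * y) = x * x * (y * y) := fun x hx y hy => by
    rw [mul_assoc, ← mul_assoc y, ← hc x hx y hy]; group
  refine Nat.card_congr (Equiv.ofBijective (fun x => (⟨x.2.1 * x.1, mul_mem x.2.1.2 (hle x.1.2)⟩,
    ⟨⟨x.2.1 * x.2.1, hsq _ x.2.1.2⟩, x.2.2⟩)) ⟨?_, ?_⟩)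
  · rintro ⟨s, t, ht⟩ ⟨s', t', ht'⟩ e
    simp only [Prod.mk.injEq, Subtype.mk.injEq] at e
    have e1 := h2 _ t.2 _ (hle s.2)
    rw [e.1, h2 _ t'.2 _ (hle s'.2), e.2, mul_right_inj] at e1
    obtain rfl : s' = s := hs.1 (Subtype.ext (by simpa [powCoprime, pow_two] using e1))
    obtain rfl : t = t' := Subtype.ext (mul_right_cancel e.1)
    rfl
  · rintro ⟨c, y, hy⟩
    obtain ⟨s, e⟩ := hs.2 (⟨c * c, hsq _ c.2⟩⁻¹ * y)
    have e1 : (s : G) * s = (c * c : G)⁻¹ * y := by simpa [powCoprime, pow_two] using congrArg Subtype.val e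
    have e2 : (c : G) * s * (c * s) = y := by rw [h2 _ c.2 _ (hle s.2), e1, mul_inv_cancel_left]
    exact ⟨(s⁻¹, ⟨⟨c * s, mul_mem c.2 (hle s.2)⟩, by simpa [e2] using hy⟩),
      Prod.ext (Subtype.ext (by simp)) (Subtype.ext (Subtype.ext e2))⟩

theorem conj_two {g : G} (h1 : ¬ orderOf g ∣ 2) (h2 : orderOf g ∣ 2 * Nat.card A) : ∃ c, c * g * c⁻¹ ∈ C := by
  rw [orderOf_dvd_iff_pow_eq_one] at h1 h2
  obtain ⟨p, hp, hd⟩ := Nat.exists_prime_and_dvd fun e => h1 (orderOf_eq_one_iff.1 e)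
  exact h.conj_cent hp (hd.trans (orderOf_pow_dvd 2)) (hd.trans (orderOf_dvd_of_pow_eq_one (by rwa [← pow_mul])))

omit h in
theorem card_ne_one (A : Subgroup G) : Nat.card {y : A // (y : G) ≠ 1} = Nat.card A - 1 := by
  classical
  letI := Fintype.ofFinite A
  simp [Fintype.card_subtype_compl]

theorem card_two (hc : ∀ x ∈ C, ∀ y ∈ C, x * y = y * x) (hsq : ∀ c ∈ C, c * c ∈ A) (hA : A ≠ ⊥) {e : ℕ}
    (he : Nat.card C = e * Nat.card A) : Nat.card {g : G // ¬ orderOf g ∣ 2 ∧ orderOf g ∣ 2 * Nat.card A} =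
      (Subgroup.normalizer (A : Set G)).index * (e * (Nat.card A - 1)) := by
  obtain ⟨⟨z, hz⟩, h4⟩ := Subgroup.ne_bot_iff_exists_ne_one.1 hA
  rw [h.card_cent (fun c hc => h.odd_of_dvd (Subgroup.orderOf_dvd_natCard _ (hsq c hc))) _
    (fun c x hx => by rwa [orderOf_conj']) (fun x hx => h.conj_two hx.1 hx.2)
    (fun x hx e => hx.1 (orderOf_dvd_of_pow_eq_one ((pow_two x).trans e))) hA, ← card_ne_one,
    ← h.card_sq hc hsq (h.le_C hz fun e => h4 (Subtype.ext e)) he (· ≠ 1)]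
  congr 1
  refine Nat.card_congr (Equiv.subtypeEquivRight fun y => ?_)
  rw [orderOf_dvd_iff_pow_eq_one, pow_two, and_iff_left]
  rw [orderOf_dvd_iff_pow_eq_one, pow_mul, pow_two, ← orderOf_dvd_iff_pow_eq_one]
  exact Subgroup.orderOf_dvd_natCard _ (hsq _ y.2)

theorem card_class : Nat.card {g : G // g ≠ 1 ∧ orderOf g ∣ Nat.card A} =
    (Subgroup.normalizer (A : Set G)).index * (Nat.card A - 1) := by
  rw [card_conj_inv A (Subgroup.normalizer (A : Set G)) _ (fun c x hx => by rw [orderOf_conj']; simpa using hx)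
    (fun x hx => h.conj_mem hx.2) (fun c y hy e hc => h.ti hy e.1 hc)
    fun c hc y hy => (Subgroup.mem_normalizer_iff.1 hc y).1 hy, ← card_ne_one]
  congr 1
  exact Nat.card_congr (Equiv.subtypeEquivRight fun y => and_iff_left (Subgroup.orderOf_dvd_natCard _ y.2))

end Tor

namespace ReeS
variable {F : Type*} [Field F] [Fintype F] {m : ℕ} {G : Type*} [Group G] (S : ReeS F m G)

include S in
theorem Pi.exists_prime (hm : 1 ≤ m) {g : G} (h : Pi F g) : ∃ x p, p.Prime ∧ orderOf x = p ∧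
    p ∣ Qn F ∧ Subgroup.centralizer ({g} : Set G) = Subgroup.centralizer {x} := by
  have := S.finite
  obtain ⟨p, hp, hd⟩ := Nat.exists_prime_and_dvd fun h' => h.1 (orderOf_eq_one_iff.1 h')
  have h2 := orderOf_pow_orderOf_div (orderOf_pos g).ne' hd
  refine ⟨_, p, hp, h2, hd.trans h.2, le_antisymm ?_ ?_⟩
  · intro c hc
    rw [Subgroup.mem_centralizer_singleton_iff] at hc ⊢
    exact (Commute.pow_right hc _)
  · intro c hc
    have := S.isCyclic_cent_prime hm hp h2 (hd.trans h.2)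
    have hg : g ∈ Subgroup.centralizer ({g ^ (orderOf g / p)} : Set G) :=
      Subgroup.mem_centralizer_singleton_iff.2 (Commute.self_pow g _)
    exact Subgroup.mem_centralizer_singleton_iff.2
      (congrArg Subtype.val (mul_comm' (⟨c, hc⟩ : Subgroup.centralizer ({g ^ (orderOf g / p)} : Set G)) ⟨g, hg⟩))

include S in
theorem Pi.isCyclic (hm : 1 ≤ m) {g : G} (h : Pi F g) : IsCyclic (Subgroup.centralizer ({g} : Set G)) := by
  obtain ⟨x, p, hp, h1, h2, h3⟩ := h.exists_prime S hm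
  rw [h3]
  exact S.isCyclic_cent_prime hm hp h1 h2

include S in
theorem Pi.card_normalizer_le (hm : 1 ≤ m) {g : G} (h : Pi F g) :
    Nat.card (Subgroup.normalizer (Subgroup.centralizer ({g} : Set G) : Set G)) ≤
      6 * Nat.card (Subgroup.centralizer ({g} : Set G)) := by
  obtain ⟨x, p, hp, h1, h2, h3⟩ := h.exists_prime S hm
  rw [h3]
  exact S.card_normalizer_prime hm hp h1 h2

include S in
theorem Pi.tor (hm : 1 ≤ m) {g : G} (h : Pi F g) :
    Tor (Subgroup.centralizer ({g} : Set G)) (Subgroup.centralizer ({g} : Set G)) where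
  cyc := h.isCyclic S hm
  odd := S.odd_Qn.of_dvd_nat (h.card_dvd S)
  cent x hx h1 := by
    have key : ∀ {g x : G}, Pi F g → x ∈ Subgroup.centralizer ({g} : Set G) →
        Subgroup.centralizer ({g} : Set G) ≤ Subgroup.centralizer {x} := by
      intro g x h hx c hc
      have := h.isCyclic S hm
      exact Subgroup.mem_centralizer_singleton_iff.2
        (congrArg Subtype.val (mul_comm' (⟨c, hc⟩ : Subgroup.centralizer ({g} : Set G)) ⟨x, hx⟩))
    refine le_antisymm (key (h.of_mem S hx h1) ?_) (key h hx)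
    rw [Subgroup.mem_centralizer_singleton_iff] at hx ⊢
    exact hx.symm
  mem _ hc _ := hc

theorem ua_sq (x y z : F) : (S.u x y z * S.a) ^ 2 = S.u 0 (x * S.σ x - y) (x * (y - x * S.σ x)) := by
  have := S.charP
  rw [pow_two, mul_assoc, ← mul_assoc S.a, a_mul_u, mul_assoc, a_mul_a, mul_one, S.u_mul, u_eq_iff, map_neg]
  refine ⟨?_, ?_, ?_⟩ <;> grind

theorem ua_six (x y z : F) : (S.u x y z * S.a) ^ 6 = 1 := by
  rw [show 6 = 2 * 3 from rfl, pow_mul, ua_sq, u_cube_eq_one]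

theorem fix_cases {g : G} {ω : S.Ω} (h : g • ω = ω) :
    orderOf g ∣ 9 ∨ orderOf g ∣ 6 ∨ ∃ c, c * g * c⁻¹ ∈ S.h.range := by
  obtain ⟨d, rfl⟩ := S.exists_smul_inf ω
  obtain ⟨a, b, c, k, e⟩ := S.fix1 (S.conj_fix.2 h)
  have e1 : orderOf g = orderOf (S.u a b c * S.h k) := by rw [← e, ← orderOf_conj' d⁻¹, inv_inv]
  rw [e1, orderOf_dvd_iff_pow_eq_one, orderOf_dvd_iff_pow_eq_one]
  by_cases h1 : k = 1
  · left; rw [h1, map_one, mul_one, u_pow_nine]
  by_cases h2 : k = -1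
  · right; left; rw [h2]; exact S.ua_six _ _ _
  obtain ⟨v, -, b', e2, h3⟩ := S.B_conj a b c h1
  rw [h3 h2, u_zero, one_mul, ← e] at e2
  refine Or.inr (Or.inr ⟨v⁻¹ * d⁻¹, k, ?_⟩)
  calc S.h k = v⁻¹ * (v * S.h k * v⁻¹) * v := by group
    _ = _ := by rw [← e2]; group

theorem conj_cases (hm : 1 ≤ m) (g : G) : orderOf g ∣ 9 ∨ orderOf g ∣ 6 ∨ (∃ c, c * g * c⁻¹ ∈ S.h.range) ∨
    (∃ c, c * g * c⁻¹ ∈ S.T4) ∨ Pi F g := by
  have := S.finite
  by_cases h : ∀ p, p.Prime → p ∣ orderOf g → p = 2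
  · have := S.sq_eq_one_of_two_pow (g := g) (by
      rw [← Nat.eq_prime_pow_of_unique_prime_dvd (orderOf_pos g).ne' (fun {d} => h d), pow_orderOf_eq_one])
    exact Or.inr (Or.inl (orderOf_dvd_of_pow_eq_one (by rw [show 6 = 2 * 3 from rfl, pow_mul, pow_two, this, one_pow])))
  push Not at h
  obtain ⟨p, hp, hd, h2⟩ := h
  obtain ⟨y, hy, k, rfl⟩ := exists_prime_pow hd
  have h3 := hd.trans (orderOf_dvd_natCard g)
  rw [S.card_G'', hp.dvd_mul] at h3
  rcases h3 with h3 | h3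
  · rcases S.prime_cases hp h3 with rfl | rfl | h4 | h4
    · exact absurd rfl h2
    · obtain ⟨ω, -, h5⟩ := S.fix_of_comm_three (g := g) (n := 1) (by rw [pow_one, ← hy, pow_orderOf_eq_one])
        (ne_one_of_prime hp hy) (Commute.self_zpow g k)
      have := S.fix_cases h5
      tauto
    · have := S.tor_A1.conj_cent hp hd h4
      tauto
    · have := S.tor_A.conj_cent hp hd (S.card_A ▸ h4)
      tauto
  · have := Pi.of_mem S (x := g) ⟨ne_one_of_prime hp hy, hy ▸ h3⟩ (Subgroup.mem_centralizer_singleton_iff.2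
      (Commute.self_zpow g k)) (by rintro rfl; exact ne_one_of_prime hp hy (one_zpow k))
    tauto

theorem order_cases (hm : 1 ≤ m) (g : G) : orderOf g ∣ 9 ∨ orderOf g ∣ 6 ∨ orderOf g ∣ 2 * Nat.card S.A1 ∨
    orderOf g ∣ 2 * n4 F ∨ orderOf g ∣ Qn F := by
  rcases S.conj_cases hm g with h | h | ⟨c, h⟩ | ⟨c, h⟩ | h
  · tauto
  · tauto
  · have := Subgroup.orderOf_dvd_natCard _ h
    rw [orderOf_conj', card_T, ← S.card_A1] at this
    tauto
  · have := orderOf_dvd_of_pow_eq_one (S.T4_pow h)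
    rw [orderOf_conj'] at this
    tauto
  · have := h.2
    tauto

include S in
theorem card_inv : Nat.card {g : G // orderOf g = 2} = Fintype.card F ^ 2 * Qn F := by
  have := S.finite
  have h1 := card_eq_orbit ⊤ S.a
  have h2 : {y | ∃ n ∈ (⊤ : Subgroup G), n * S.a * n⁻¹ = y} = {g | orderOf g = 2} := by
    ext y
    simp only [Subgroup.mem_top, true_and, Set.mem_ofPred_eq]
    constructor
    · rintro ⟨n, rfl⟩
      rw [orderOf_conj', orderOf_a]
    · intro h
      exact isConj_iff.1 (S.isConj_a (ne_one_of_prime Nat.prime_two h)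
        ((pow_two y).symm.trans (h ▸ pow_orderOf_eq_one y)))
  rw [h2, top_inf_eq, card_centralizer_a, Subgroup.card_top, S.card_G'', Mn, ← Nat.card_coe_set_eq] at h1
  have h3 := S.three_le
  apply Nat.eq_of_mul_eq_mul_right (show 0 < Fintype.card F * (Fintype.card F - 1) * (Fintype.card F + 1) from
    Nat.mul_pos (Nat.mul_pos (by omega) (by omega)) (by omega))
  refine h1.symm.trans (by ring)

theorem card_three {n : ℕ} (hn : 3 ∣ n) : Nat.card {g : G // orderOf g = n} =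
    (Fintype.card F ^ 3 + 1) * Nat.card {g : S.B // orderOf (g : G) = n} := by
  have := S.finite
  rw [← S.index_stab S.inf, stab_inf]
  refine card_conj_inv S.B S.B _ (fun c x hx => by rwa [orderOf_conj']) ?_ ?_
    fun c hc y hy => mul_mem (mul_mem hc hy) (inv_mem hc)
  · rintro x rfl
    obtain ⟨_, hy, k, rfl⟩ := exists_prime_pow hn
    obtain ⟨ω, -, h5⟩ := S.fix_of_comm_three (g := x) (n := 1) (by rw [pow_one, ← hy, pow_orderOf_eq_one])
      (ne_one_of_prime Nat.prime_three hy) (Commute.self_zpow x k)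
    obtain ⟨d, rfl⟩ := S.exists_smul_inf ω
    exact ⟨d⁻¹, by rw [inv_inv]; exact S.fix_inf.1 (S.conj_fix.2 h5)⟩
  · rintro c x hx rfl hc
    obtain ⟨_, hy, k, rfl⟩ := exists_prime_pow hn
    have h1 := S.mem_U_of_pow (k := 1) (S.fix_inf.2 (zpow_mem hx k)) (by rw [pow_one, ← hy, pow_orderOf_eq_one])
    have h2 := S.fix_inf.2 (zpow_mem hc k)
    rw [conj_zpow, ← inv_inv c, inv_inv c⁻¹, conj_fix] at h2
    exact (inv_mem_iff.1 (S.fix_inf.1 (S.U_fix h1 (ne_one_of_prime Nat.prime_three hy) h2)))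

theorem card_B_of {n : ℕ} {s : Set G} (h : ∀ g, g ∈ S.B ∧ orderOf g = n ↔ g ∈ s) :
    Nat.card {g : S.B // orderOf (g : G) = n} = s.ncard := by
  rw [← Nat.card_coe_set_eq]
  exact Nat.card_congr ((Equiv.subtypeSubtypeEquivSubtypeInter (· ∈ S.B) (orderOf · = n)).trans
    (Equiv.subtypeEquivRight h))

theorem order_three_iff {g : G} : g ∈ S.B ∧ orderOf g = 3 ↔ g ∈ (S.Y : Set G) \ {1} := by
  have := Fact.mk Nat.prime_three
  rw [orderOf_eq_prime_iff]
  constructor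
  · rintro ⟨h1, h2, h3⟩
    obtain ⟨a, b, c, rfl⟩ := S.mem_U_of_pow (k := 1) (S.fix_inf.2 h1) h2
    obtain rfl := S.u_cube_eq_one.1 h2
    exact ⟨S.y_mem _ _, h3⟩
  · rintro ⟨⟨b, c, rfl⟩, h⟩
    exact ⟨S.u_mem_B _ _ _, S.u_cube_eq_one.2 rfl, h⟩

theorem order_nine_iff {g : G} : g ∈ S.B ∧ orderOf g = 9 ↔ g ∈ (S.U : Set G) \ S.Y := by
  have := Fact.mk Nat.prime_three
  constructor
  · rintro ⟨h1, h2⟩
    refine ⟨S.mem_U_iff.2 ⟨S.fix_inf.2 h1, h2 ▸ pow_orderOf_eq_one g⟩, ?_⟩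
    rintro ⟨b, c, rfl⟩
    have := orderOf_dvd_of_pow_eq_one (S.u_cube_eq_one (b := b) (c := c).2 rfl)
    rw [h2] at this
    omega
  · rintro ⟨⟨a, b, c, rfl⟩, h⟩
    refine ⟨S.u_mem_B _ _ _, orderOf_eq_prime_pow (p := 3) (n := 1) ?_ (S.u_pow_nine _ _ _)⟩
    rw [pow_one, u_cube_eq_one]
    rintro rfl
    exact h (S.y_mem _ _)

theorem order_six_iff {g : G} : g ∈ S.B ∧ orderOf g = 6 ↔
    g ∈ Set.range fun x : F × Fˣ × F => S.u x.1 (x.1 * S.σ x.1 + x.2.1) x.2.2 * S.a := by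
  constructor
  · rintro ⟨⟨a, b, c, k, rfl⟩, h2⟩
    have h3 : k ^ 2 = 1 := S.units_pow_three (k := 1) (by
      rw [← pow_mul]; exact S.pow_eq_one_of (h2 ▸ pow_orderOf_eq_one _))
    rcases S.h_sq_eq_one (k := k) (by rw [← map_mul, ← sq, h3, map_one]) with h | h <;> rw [h] at h2 ⊢
    · have := orderOf_dvd_of_pow_eq_one (S.u_pow_nine a b c)
      rw [← mul_one (S.u a b c), h2] at this
      omega
    · refine ⟨(a, Units.mk0 (b - a * S.σ a) fun e => ?_, c), by simp⟩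
      have := orderOf_dvd_of_pow_eq_one ((S.ua_sq a b c).trans (by simp [sub_eq_zero.1 e]))
      rw [h2] at this
      omega
  · rintro ⟨⟨a, k, c⟩, rfl⟩
    refine ⟨⟨_, _, _, _, rfl⟩, orderOf_eq_of_pow_and_pow_div_prime (by norm_num) (S.ua_six _ _ _) fun r hr hd => ?_⟩
    rcases (Nat.Prime.dvd_mul hr (m := 2) (n := 3)).1 hd with h | h
    · rw [(Nat.prime_dvd_prime_iff_eq hr Nat.prime_two).1 h]
      intro e
      exact S.a_ne (by rw [ReeS.a, S.units_pow_three (k := 1) (S.pow_eq_one_of e), map_one])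
    · rw [(Nat.prime_dvd_prime_iff_eq hr Nat.prime_three).1 h]
      intro e
      simpa using (S.u_eq_one.1 ((S.ua_sq _ _ _).symm.trans e)).2.1

include S in
theorem card_order_three : Nat.card {g : G // orderOf g = 3} =
    (Fintype.card F ^ 2 - 1) * (Fintype.card F ^ 3 + 1) := by
  have := S.finite
  rw [S.card_three dvd_rfl, S.card_B_of fun _ => S.order_three_iff, Set.ncard_sdiff_singleton_of_mem S.Y.one_mem,
    ← Nat.card_coe_set_eq, SetLike.coe_sort_coe, card_Y, mul_comm]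

include S in
theorem card_order_nine : Nat.card {g : G // orderOf g = 9} =
    Fintype.card F ^ 2 * (Fintype.card F - 1) * (Fintype.card F ^ 3 + 1) := by
  have := S.finite
  rw [S.card_three (by norm_num), S.card_B_of fun _ => S.order_nine_iff, Set.ncard_sdiff S.Y_le_U,
    ← Nat.card_coe_set_eq, ← Nat.card_coe_set_eq, SetLike.coe_sort_coe, SetLike.coe_sort_coe, card_Y, card_U,
    mul_comm, Nat.mul_sub_one, pow_succ _ 2]

include S in
theorem card_order_six : Nat.card {g : G // orderOf g = 6} =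
    Fintype.card F ^ 2 * (Fintype.card F - 1) * (Fintype.card F ^ 3 + 1) := by
  classical
  rw [S.card_three (by norm_num), S.card_B_of fun _ => S.order_six_iff, ← Nat.card_coe_set_eq,
    Nat.card_range_of_injective]
  · simp only [Nat.card_eq_fintype_card, Fintype.card_prod, Fintype.card_units]
    ring
  · rintro ⟨a, k, c⟩ ⟨a', k', c'⟩ e
    obtain ⟨rfl, h, rfl⟩ := S.u_inj (mul_right_cancel e)
    obtain rfl : k = k' := Units.ext (add_left_cancel h)
    rfl

end ReeS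

end H5.Ree
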