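import Cfsg.Agent.H5.RE8

/-! Small Ree groups: the tori of orders `q ± √(3q) + 1`. -/

namespace H5.Ree
open scoped Pointwise MatrixGroups
open H5.Sz H5.Sz.SzS

namespace ReeS
variable {F : Type*} [Field F] [Fintype F] {m : ℕ} {G : Type*} [Group G] (S : ReeS F m G)

theorem index_A1 (hm : 1 ≤ m) : 2 * (Subgroup.normalizer (S.A1 : Set G)).index =
    Fintype.card F ^ 3 * (Fintype.card F ^ 3 + 1) := by
  have h := (Subgroup.normalizer (S.A1 : Set G)).index_mul_card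
  rw [S.card_normalizer_A1 hm, S.card_G] at h
  have := S.three_le
  exact Nat.eq_of_mul_eq_mul_right (show 0 < Fintype.card F - 1 by omega) (by rw [← h]; ring)

theorem index_A (hm : 1 ≤ m) : 6 * (Subgroup.normalizer (S.A : Set G)).index =
    Fintype.card F ^ 3 * (Fintype.card F - 1) * Qn F := by
  have h := (Subgroup.normalizer (S.A : Set G)).index_mul_card
  rw [S.card_normalizer_A hm, S.card_G'', Mn] at h
  exact Nat.eq_of_mul_eq_mul_right (show 0 < Fintype.card F + 1 by omega) (by linear_combination h)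

theorem H_comm (x) (hx : x ∈ S.h.range) (y) (hy : y ∈ S.h.range) : x * y = y * x := by
  obtain ⟨s, rfl⟩ := hx
  obtain ⟨t, rfl⟩ := hy
  rw [← map_mul, mul_comm, map_mul]

theorem A1_ne (hm : 1 ≤ m) : S.A1 ≠ ⊥ := by
  obtain ⟨y, hy, h⟩ := S.exists_A1 hm
  exact fun e => h (e.le hy)

theorem A_ne (hm : 1 ≤ m) : S.A ≠ ⊥ := by
  obtain ⟨y, hy, h⟩ := S.exists_A hm
  exact fun e => h (e.le hy)

theorem card_T4' : Nat.card S.T4 = 4 * Nat.card S.A := by rw [card_T4, card_A, S.n4_spec.1]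

theorem A1_dvd : 2 * Nat.card S.A1 ∣ Mn F := by rw [card_A1]; exact (Dvd.intro_left _ rfl).mul_right _

include S in
theorem n4_dvd : 2 * n4 F ∣ Mn F := by rw [Mn, ← S.n4_spec.1]; exact Dvd.dvd.mul_left ⟨2, by ring⟩ _

theorem dvd_two {n : ℕ} (h1 : n ∣ 2 * Nat.card S.A1) (h2 : n ∣ 2 * n4 F) : n ∣ 2 := by
  have h3 := Nat.dvd_sub (h2.mul_left 2) h1
  have h4 := S.card_A1
  have h5 := S.n4_spec.1
  have h6 := S.three_le
  rwa [show 2 * (2 * n4 F) - 2 * Nat.card S.A1 = 2 by omega] at h3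

theorem not_three : ¬ 3 ∣ 2 * Nat.card S.A1 ∧ ¬ 3 ∣ 2 * n4 F ∧ ¬ 3 ∣ Qn F ∧ ¬ 2 ∣ Qn F := by
  have h4 := S.card_A1
  have h5 := S.n4_spec.1
  have h6 := S.three_le
  have h7 := S.three_dvd
  refine ⟨by omega, by omega, fun h => ?_, S.odd_Qn.not_two_dvd_nat⟩
  simpa using S.coprime_of_dvd_Mn h (dvd_trans (by norm_num : 3 ∣ 6) S.six_dvd_Mn)

include S in
theorem card_Pi (hm : 1 ≤ m) : 3 * Nat.card {g : G // Pi F g} =
    Fintype.card F ^ 4 * (Fintype.card F ^ 2 - 1) * (Fintype.card F - 2) := by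
  classical
  have := S.finite
  letI := Fintype.ofFinite G
  have key : ∀ p : G → Prop, Nat.card {g // p g} = ∑ g, if p g then 1 else 0 := fun p => by
    simp [Fintype.card_subtype]
  have h1 : Nat.card G = Nat.card {g : G // g = 1} + Nat.card {g : G // orderOf g = 2} +
      Nat.card {g : G // orderOf g = 3} + Nat.card {g : G // orderOf g = 6} + Nat.card {g : G // orderOf g = 9} +
      Nat.card {g : G // ¬ orderOf g ∣ 2 ∧ orderOf g ∣ 2 * Nat.card S.A1} +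
      Nat.card {g : G // ¬ orderOf g ∣ 2 ∧ orderOf g ∣ 2 * Nat.card S.A} + Nat.card {g : G // Pi F g} := by
    have h2 := S.order_cases hm
    have h3 := @S.dvd_two
    have h4 := S.A1_dvd
    obtain ⟨a1, a2, a3, a4⟩ := S.not_three
    rw [card_A]
    generalize Nat.card S.A1 = k at *
    simp only [key, ← Finset.sum_add_distrib]
    rw [Nat.card_eq_fintype_card, ← Finset.card_univ, Finset.card_eq_sum_ones]
    refine Finset.sum_congr rfl fun g _ => ?_
    have h2 := h2 g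
    simp only [Pi, Ne, ← orderOf_eq_one_iff (x := g)]
    generalize orderOf g = n at h2
    have b : ∀ {k}, ¬ 3 ∣ k → ¬ 6 ∣ k ∧ ¬ 9 ∣ k := fun h => by omega
    by_cases e1 : n = 1
    · simp [e1]
    by_cases e2 : n = 2
    · simp [e2, a4]
    by_cases e3 : n = 3
    · simp [e3, a1, a2, a3]
    by_cases e6 : n = 6
    · simp [e6, b a1, b a2, b a3]
    by_cases e9 : n = 9
    · simp [e9, b a1, b a2, b a3]
    have c2 : ¬ n ∣ 2 := fun h => by have := Nat.le_of_dvd two_pos h; interval_cases n <;> omega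
    have c6 : ¬ n ∣ 6 := fun h => by have := Nat.le_of_dvd (by norm_num) h; interval_cases n <;> omega
    have c9 : ¬ n ∣ 9 := fun h => by have := Nat.le_of_dvd (by norm_num) h; interval_cases n <;> omega
    have d1 : n ∣ 2 * k → ¬ n ∣ 2 * n4 F := fun h h' => c2 (h3 h h')
    have d2 : n ∣ 2 * k → ¬ n ∣ Qn F := fun h h' =>
      e1 ((S.coprime_of_dvd_Mn h' (h.trans h4)).eq_one_of_dvd dvd_rfl)
    have d3 : n ∣ 2 * n4 F → ¬ n ∣ Qn F := fun h h' =>
      e1 ((S.coprime_of_dvd_Mn h' (h.trans S.n4_dvd)).eq_one_of_dvd dvd_rfl)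
    simp only [e1, e2, e3, e6, e9, c2, not_false_eq_true, true_and, if_false]
    rcases h2 with h | h | h | h | h
    · exact absurd h c9
    · exact absurd h c6
    · simp only [h, d1 h, d2 h, if_true, if_false]
    · simp only [h, mt d1 (not_not.2 h), d3 h, if_true, if_false]
    · simp only [h, mt d2 (not_not.2 h), mt d3 (not_not.2 h), if_true, if_false]
  rw [S.card_inv, S.card_order_three, S.card_order_six, S.card_order_nine,
    S.tor_A1.card_two S.H_comm (fun _ => S.sq_mem_A1) (S.A1_ne hm) (S.card_T.trans S.card_A1.symm),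
    S.tor_A.card_two (fun _ hx _ hy => S.T4_comm hx hy) (fun _ => S.sq_mem_A) (S.A_ne hm) S.card_T4',
    S.card_G, Nat.card_unique, card_A] at h1
  have h2 := S.index_A1 hm
  have h3 := S.index_A hm
  have h4 := S.card_A1
  have h5 := S.n4_spec.1
  have h6 := S.big hm
  have h7 := Qn_add (F := F)
  have h8 : 1 ≤ Fintype.card F ^ 2 := Nat.one_le_pow _ _ (by omega)
  generalize Fintype.card F = q at *
  generalize Nat.card S.A1 = a at *
  zify [show 1 ≤ q by omega, show 2 ≤ q by omega, show 1 ≤ a by omega, show 1 ≤ n4 F by omega, h8] at *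
  have h9 : (Qn F : ℤ) = q ^ 2 - q + 1 := by linear_combination h7
  rw [h9] at h1 h3
  apply mul_left_cancel₀ (show (2 : ℤ) ≠ 0 by norm_num)
  linear_combination (-6) * h1 - 6 * ((Subgroup.normalizer (S.A1 : Set G)).index : ℤ) * h4 - 3 * (q - 3) * h2 -
    6 * ((Subgroup.normalizer (S.A : Set G)).index : ℤ) * h5 - (q - 3) * h3

include S in
theorem not_five_dvd : ¬ 5 ∣ Nat.card G := by
  intro h
  have h8 := S.three_le
  have h1 := (ZMod.natCast_eq_zero_iff _ 5).2 h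
  rw [S.card_G, Nat.cast_mul, Nat.cast_sub (by omega), S.hF] at h1
  push_cast at h1
  rw [pow_succ 3 (2 * m), pow_mul, show (3 : ZMod 5) ^ 2 = -1 from rfl] at h1
  rcases neg_one_pow_eq_or (ZMod 5) m with e | e <;> rw [e] at h1 <;> revert h1 <;> decide

/-- the centraliser of an element -/
abbrev Ce (g : G) : Subgroup G := Subgroup.centralizer {g}

/-- elements of order dividing `k` -/
def cls (G : Type*) [Group G] (k : ℕ) : Set G := {g | g ≠ 1 ∧ orderOf g ∣ k}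

omit S in
theorem mem_Ce (g : G) : g ∈ Ce g := Subgroup.mem_centralizer_singleton_iff.2 rfl

omit S in
theorem Pi.mem_cls {g : G} (h : Pi F g) : g ∈ cls G (Nat.card (Ce g)) :=
  ⟨h.1, Subgroup.orderOf_dvd_natCard _ (mem_Ce g)⟩

section
variable (hm : 1 ≤ m) {g : G} (h : Pi F g)
include S hm h

omit hm in
theorem Pi.seven_le : 7 ≤ Nat.card (Ce g) := by
  have := S.finite
  have h1 := h.card_dvd S
  obtain ⟨-, -, h2, h3⟩ := S.not_three
  have h4 : ¬ 5 ∣ Qn F := fun e => S.not_five_dvd (S.card_G'' ▸ e.mul_left _)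
  have h5 : Nat.card (Ce g) ≠ 1 := fun e => h.1 ((Subgroup.eq_bot_of_card_eq _ e).le (mem_Ce g))
  have h6 : 0 < Nat.card (Ce g) := Nat.card_pos
  have h7 := mt (fun e : 2 ∣ Nat.card (Ce g) => e.trans h1) h3
  have h8 := mt (fun e : 3 ∣ Nat.card (Ce g) => e.trans h1) h2
  have h9 := mt (fun e : 5 ∣ Nat.card (Ce g) => e.trans h1) h4
  generalize Nat.card (Ce g) = k at *
  by_contra h
  have : k < 7 := by omega
  interval_cases k <;> omega

theorem Pi.card_eq {x : G} (hx : x ∈ cls G (Nat.card (Ce g))) : Nat.card (Ce x) = Nat.card (Ce g) := by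
  have := S.finite
  obtain ⟨c, hc⟩ := (h.tor S hm).conj_mem hx.2
  rw [Ce, Ce, ← (h.tor S hm).cent _ hc (by simpa using hx.1), centralizer_conj, card_smul]

theorem Pi.card_eq_of_dvd {g' : G} (h' : Pi F g') {p : ℕ} (hp : p.Prime) (h1 : p ∣ Nat.card (Ce g))
    (h2 : p ∣ Nat.card (Ce g')) : Nat.card (Ce g) = Nat.card (Ce g') := by
  have := S.finite
  have := Fact.mk hp
  obtain ⟨x, hx⟩ := exists_prime_orderOf_dvd_card' p (h1.trans (Subgroup.card_subgroup_dvd_card _))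
  rw [← h.card_eq S hm ⟨ne_one_of_prime hp hx, hx ▸ h1⟩, h'.card_eq S hm ⟨ne_one_of_prime hp hx, hx ▸ h2⟩]

theorem Pi.card_cls : ∃ n, (1 ≤ n ∧ n ≠ 5) ∧ n ≤ 6 ∧
    Nat.card (Subgroup.normalizer (Ce g : Set G)) = n * Nat.card (Ce g) ∧
    (cls G (Nat.card (Ce g))).ncard * (n * Nat.card (Ce g)) = Nat.card G * (Nat.card (Ce g) - 1) ∧
    6 * Nat.card G ≤ 7 * n * (cls G (Nat.card (Ce g))).ncard := by
  have := S.finite
  obtain ⟨n, hn⟩ := Subgroup.card_dvd_of_le (Ce g).le_normalizer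
  have h1 := h.card_normalizer_le S hm
  have h2 : (cls G (Nat.card (Ce g))).ncard = _ := (Nat.card_coe_set_eq _).symm.trans (h.tor S hm).card_class
  have h3 := h.seven_le S
  have h4 := (Subgroup.normalizer (Ce g : Set G)).index_mul_card
  have h5 : 0 < Nat.card (Subgroup.normalizer (Ce g : Set G)) := Nat.card_pos
  have h6 : (cls G (Nat.card (Ce g))).ncard * (n * Nat.card (Ce g)) = Nat.card G * (Nat.card (Ce g) - 1) := by
    rw [h2, ← h4, hn]; ring
  have h7 : n ≠ 5 := by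
    rintro rfl
    exact S.not_five_dvd ((Dvd.intro_left _ hn.symm).trans (Subgroup.card_subgroup_dvd_card _))
  rw [hn] at h1 h5
  refine ⟨n, ⟨Nat.pos_of_mul_pos_left h5, h7⟩, by nlinarith, by rw [hn, mul_comm], h6, ?_⟩
  generalize (cls G (Nat.card (Ce g))).ncard = D at *
  obtain ⟨k, hk⟩ : ∃ k, Nat.card (Ce g) = k + 7 := ⟨_, (Nat.sub_add_cancel h3).symm⟩
  rw [hk] at h6
  apply Nat.le_of_mul_le_mul_right _ (show 0 < k + 7 by omega)
  rw [show k + 7 - 1 = k + 6 by omega] at h6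
  nlinarith [Nat.zero_le (Nat.card G * k)]

end

include S in
theorem dvd_of_cover (hm : 1 ≤ m) {K : ℕ} (h : ∀ x : G, Pi F x → Nat.card (Ce x) ∣ K) : Qn F ∣ K := by
  have := S.finite
  rw [Nat.dvd_iff_prime_pow_dvd_dvd]
  intro p k hp hk
  rcases Nat.eq_zero_or_pos k with rfl | hk0
  · simp
  have := Fact.mk hp
  have hG : Qn F ∣ Nat.card G := S.card_G'' ▸ Dvd.intro_left _ rfl
  have hpd : p ∣ Qn F := (dvd_pow_self p hk0.ne').trans hk
  obtain ⟨x, hx⟩ := exists_prime_orderOf_dvd_card' p (hpd.trans hG)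
  have hf : Pi F x := ⟨ne_one_of_prime hp hx, hx ▸ hpd⟩
  obtain ⟨Q, hQ⟩ := (hf.tor S hm).sylow_le (p := p) (hx ▸ hf.mem_cls.2)
  refine dvd_trans ?_ ((Subgroup.card_dvd_of_le hQ).trans (h x hf))
  rw [Q.card_eq_multiplicity]
  exact pow_dvd_pow p ((hp.pow_dvd_iff_le_factorization Nat.card_pos.ne').1 (hk.trans hG))

include S in
theorem tori_aux (hm : 1 ≤ m) : ∃ g1 g2 : G, Pi F g1 ∧ Pi F g2 ∧
    (∀ g, Pi F g → g ∈ cls G (Nat.card (Ce g1)) ∨ g ∈ cls G (Nat.card (Ce g2))) ∧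
    Nat.card (Ce g1) * Nat.card (Ce g2) = Qn F ∧ Nat.card (Ce g1) + Nat.card (Ce g2) = 2 * Fintype.card F + 2 ∧
    Nat.card (Subgroup.normalizer (Ce g1 : Set G)) = 6 * Nat.card (Ce g1) ∧
    Nat.card (Subgroup.normalizer (Ce g2 : Set G)) = 6 * Nat.card (Ce g2) := by
  have := S.finite
  have hD : 3 * {g : G | Pi F g}.ncard = _ := S.card_Pi hm
  have hG := S.card_G''
  have h8 := S.big hm
  have hQ := Qn_add (F := F)
  obtain ⟨q, hq⟩ : ∃ q, Fintype.card F = q + 2 := ⟨Fintype.card F - 2, by omega⟩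
  rw [hq, Nat.add_sub_cancel, show (q + 2) ^ 2 - 1 = (q + 1) * (q + 3) from Nat.sub_eq_of_eq_add (by ring)] at hD
  rw [Mn, hq, show q + 2 - 1 = q + 1 from rfl] at hG
  have hQ' : Qn F = q ^ 2 + 3 * q + 3 := by rw [hq] at hQ; linarith
  have hq7 : 25 ≤ q := by omega
  have hlt : 3 * {g : G | Pi F g}.ncard < Nat.card G := by
    rw [hD, hG, hQ']
    have : 0 < (q + 2) ^ 3 * (q + 1) * (q + 3) := by positivity
    nlinarith
  have hpos : 0 < {g : G | Pi F g}.ncard := by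
    have : 0 < (q + 2) ^ 4 * ((q + 1) * (q + 3)) * q := by positivity
    omega
  obtain ⟨g1, hg1⟩ := (Set.ncard_pos (Set.toFinite _)).1 hpos
  have hg1 : Pi F g1 := hg1
  obtain ⟨n1, ⟨a1, a1'⟩, b1, c1, d1, e1⟩ := hg1.card_cls S hm
  have hsub : ∀ {g : G}, Pi F g → cls G (Nat.card (Ce g)) ⊆ {g | Pi F g} := fun h x hx =>
    ⟨hx.1, hx.2.trans (h.card_dvd S)⟩
  have hdisj : ∀ {g g' : G}, Pi F g → Pi F g' → g' ∉ cls G (Nat.card (Ce g)) →
      Disjoint (cls G (Nat.card (Ce g))) (cls G (Nat.card (Ce g'))) := by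
    intro g g' h h' hn
    rw [Set.disjoint_left]
    intro x hx hx'
    exact hn (by rw [← h.card_eq S hm hx, h'.card_eq S hm hx']; exact h'.mem_cls)
  have h2 : ∃ g2, Pi F g2 ∧ g2 ∉ cls G (Nat.card (Ce g1)) := by
    by_contra hc
    push Not at hc
    have h4 := Nat.dvd_antisymm (hg1.card_dvd S) (S.dvd_of_cover hm fun x hx => by rw [hg1.card_eq S hm (hc x hx)])
    have h5 : cls G (Nat.card (Ce g1)) = {g | Pi F g} := Set.Subset.antisymm (hsub hg1) hc
    rw [h5, h4, hG, hQ', show q ^ 2 + 3 * q + 3 - 1 = (q + 2) * (q + 1) from Nat.sub_eq_of_eq_add (by ring)] at d1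
    have h6 : ((q + 2) ^ 4 * (q + 1) * (q + 3) * (q ^ 2 + 3 * q + 3)) * (n1 * q) =
        ((q + 2) ^ 4 * (q + 1) * (q + 3) * (q ^ 2 + 3 * q + 3)) * (3 * (q + 1)) := by
      linear_combination 3 * d1 - n1 * (q ^ 2 + 3 * q + 3) * hD
    have h7 := Nat.eq_of_mul_eq_mul_left (by positivity) h6
    interval_cases n1 <;> omega
  obtain ⟨g2, hg2, hn2⟩ := h2
  obtain ⟨n2, ⟨a2, a2'⟩, b2, c2, d2, e2⟩ := hg2.card_cls S hm
  have hu := Set.ncard_union_eq (hdisj hg1 hg2 hn2) (Set.toFinite _) (Set.toFinite _)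
  have hcov : ∀ g, Pi F g → g ∈ cls G (Nat.card (Ce g1)) ∨ g ∈ cls G (Nat.card (Ce g2)) := by
    intro g3 hg3
    by_contra hc
    push Not at hc
    obtain ⟨n3, a3, b3, c3, d3, e3⟩ := hg3.card_cls S hm
    have hu2 := Set.ncard_union_eq (Set.disjoint_union_left.2 ⟨hdisj hg1 hg3 hc.1, hdisj hg2 hg3 hc.2⟩)
      (Set.toFinite _) (Set.toFinite _)
    have := Set.ncard_le_ncard (Set.union_subset (Set.union_subset (hsub hg1) (hsub hg2)) (hsub hg3))
      (Set.toFinite _)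
    have f1 := Nat.mul_le_mul_right (7 * (cls G (Nat.card (Ce g1))).ncard) b1
    have f2 := Nat.mul_le_mul_right (7 * (cls G (Nat.card (Ce g2))).ncard) b2
    have f3 := Nat.mul_le_mul_right (7 * (cls G (Nat.card (Ce g3))).ncard) b3
    nlinarith
  have heq : cls G (Nat.card (Ce g1)) ∪ cls G (Nat.card (Ce g2)) = {g | Pi F g} :=
    Set.Subset.antisymm (Set.union_subset (hsub hg1) (hsub hg2)) hcov
  rw [heq] at hu
  have hcop : Nat.Coprime (Nat.card (Ce g1)) (Nat.card (Ce g2)) := by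
    apply Nat.coprime_of_dvd
    intro p hp h1 h2
    exact hn2 (hg1.card_eq_of_dvd S hm hg2 hp h1 h2 ▸ hg2.mem_cls)
  have hprod := Nat.dvd_antisymm (hcop.mul_dvd_of_dvd_of_dvd (hg1.card_dvd S) (hg2.card_dvd S))
    (S.dvd_of_cover hm (fun x hx => by
      rcases hcov x hx with h | h
      · rw [hg1.card_eq S hm h]; exact Dvd.intro _ rfl
      · rw [hg2.card_eq S hm h]; exact Dvd.intro_left _ rfl))
  have k1 := hg1.seven_le S
  have k2 := hg2.seven_le S
  refine ⟨g1, g2, hg1, hg2, hcov, hprod, ?_⟩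
  rw [c1, c2]
  clear hcov heq hdisj hsub hn2 c1 c2 hg1
  generalize (cls G (Nat.card (Ce g1))).ncard = D1 at *
  generalize (cls G (Nat.card (Ce g2))).ncard = D2 at *
  generalize Nat.card (Ce g1) = x at *
  generalize Nat.card (Ce g2) = y at *
  generalize {g : G | Pi F g}.ncard = D at *
  generalize Nat.card G = N at *
  obtain ⟨x, rfl⟩ : ∃ x', x = x' + 1 := ⟨x - 1, by omega⟩
  obtain ⟨y, rfl⟩ : ∃ y', y = y' + 1 := ⟨y - 1, by omega⟩
  rw [Nat.add_sub_cancel] at d1 d2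
  rw [hq]
  rw [hQ'] at hprod hG
  have hn1 : n1 = 6 := by
    by_contra h
    have f1 := Nat.mul_le_mul_right (7 * D1) (show n1 ≤ 4 by omega)
    have f2 := Nat.mul_le_mul_right (7 * D2) b2
    nlinarith
  have hn2 : n2 = 6 := by
    by_contra h
    have f1 := Nat.mul_le_mul_right (7 * D1) b1
    have f2 := Nat.mul_le_mul_right (7 * D2) (show n2 ≤ 4 by omega)
    nlinarith
  subst hn1 hn2
  refine ⟨?_, rfl, rfl⟩
  have h6 : ((q + 2) ^ 3 * (q + 1) * (q + 3) * (q ^ 2 + 3 * q + 3)) * (x + 1 + (y + 1)) =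
      ((q + 2) ^ 3 * (q + 1) * (q + 3) * (q ^ 2 + 3 * q + 3)) * (2 * (q + 2) + 2) := by
    subst hu hG
    zify at d1 d2 hD hprod ⊢
    linear_combination (y + 1) * d1 + (x + 1) * d2 - 2 * ((x + 1) * (y + 1)) * hD +
      (2 * (q + 2) ^ 3 * (q + 1) * (q + 3) * (q ^ 2 + 3 * q + 3) - 2 * (q + 2) ^ 4 * (q + 1) * (q + 3) * q) * hprod
  exact Nat.eq_of_mul_eq_mul_left (by positivity) h6

omit S in
theorem quad_solve {x y : ℕ} (h1 : x * y + 3 ^ (2 * m + 1) = (3 ^ (2 * m + 1)) ^ 2 + 1)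
    (h2 : x + y = 2 * 3 ^ (2 * m + 1) + 2) :
    (x = 3 ^ (2 * m + 1) - 3 ^ (m + 1) + 1 ∧ y = 3 ^ (2 * m + 1) + 3 ^ (m + 1) + 1) ∨
    (y = 3 ^ (2 * m + 1) - 3 ^ (m + 1) + 1 ∧ x = 3 ^ (2 * m + 1) + 3 ^ (m + 1) + 1) := by
  have h3 : 3 ^ (m + 1) ≤ 3 ^ (2 * m + 1) := Nat.pow_le_pow_right (by norm_num) (by omega)
  have h4 : (3 ^ (m + 1)) ^ 2 = 3 * 3 ^ (2 * m + 1) := by ring
  generalize 3 ^ (m + 1) = r at *
  generalize 3 ^ (2 * m + 1) = q at *
  have h5 : ((x : ℤ) - (q + r + 1)) * ((x : ℤ) - (q - r + 1)) = 0 := by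
    zify at h1 h2 h4
    linear_combination x * h2 - h1 - h4
  rcases mul_eq_zero.1 h5 with h | h
  · right; omega
  · left; omega

include S in
theorem tori (hm : 1 ≤ m) : ∃ A B : Subgroup G, Tor A A ∧ Tor B B ∧
    Nat.card A = 3 ^ (2 * m + 1) - 3 ^ (m + 1) + 1 ∧ Nat.card B = 3 ^ (2 * m + 1) + 3 ^ (m + 1) + 1 ∧
    Nat.card (Subgroup.normalizer (A : Set G)) = 6 * Nat.card A ∧
    Nat.card (Subgroup.normalizer (B : Set G)) = 6 * Nat.card B ∧ Nat.card A * Nat.card B = Qn F ∧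
    ∀ g : G, orderOf g ∣ Qn F → orderOf g ∣ Nat.card A ∨ orderOf g ∣ Nat.card B := by
  obtain ⟨g1, g2, h1, h2, h3, h4, h5, h6, h7⟩ := S.tori_aux hm
  have h8 : ∀ g : G, orderOf g ∣ Qn F → orderOf g ∣ Nat.card (Ce g1) ∨ orderOf g ∣ Nat.card (Ce g2) := fun g hg => by
    by_cases e : g = 1
    · simp [e]
    · exact (h3 g ⟨e, hg⟩).imp And.right And.right
  have h9 := Qn_add (F := F)
  rw [← h4, S.hF] at h9
  rw [S.hF] at h5
  rcases quad_solve h9 h5 with ⟨a, b⟩ | ⟨a, b⟩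
  · exact ⟨_, _, h1.tor S hm, h2.tor S hm, a, b, h6, h7, h4, h8⟩
  · exact ⟨_, _, h2.tor S hm, h1.tor S hm, a, b, h7, h6, by rw [mul_comm, h4], fun g hg => (h8 g hg).symm⟩

end ReeS

end H5.Ree
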