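import Cfsg.Agent.H5.BN2

/-! Distinguished coset representatives in the Weyl group of a (B,N)-pair. -/

set_option autoImplicit false

namespace H5
namespace SB

open Cfsg H5.BN

variable {G : Type*} [Group G] {P : BNPair G}

/-- every member of `J` is a left ascent of `w` -/
def Asc (J : Set P.S) (w : W P) : Prop := ∀ s ∈ J, (gen P).len w < (gen P).len ((gen P).σ s * w)

/-- membership of the standard parabolic subgroup of the Weyl group -/
def WJ (J : Set P.S) (u : W P) : Prop := ∃ l : List P.S, (∀ s ∈ l, s ∈ J) ∧ (gen P).wp l = u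

variable {J K : Set P.S}

theorem WJ.one : WJ J 1 := ⟨[], by simp, rfl⟩

theorem WJ.mul {u v : W P} (a : WJ J u) (b : WJ J v) : WJ J (u * v) := by
  obtain ⟨l, a, rfl⟩ := a
  obtain ⟨l', b, rfl⟩ := b
  exact ⟨l ++ l', fun s h => (List.mem_append.1 h).elim (a s) (b s), by simp⟩

theorem WJ.inv {u : W P} (a : WJ J u) : WJ J u⁻¹ := by
  obtain ⟨l, a, rfl⟩ := a
  exact ⟨l.reverse, fun s h => a s (List.mem_reverse.1 h), by simp⟩

theorem WJ.σ {s : P.S} (h : s ∈ J) : WJ J ((gen P).σ s) := ⟨[s], by simpa, by simp⟩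

theorem WJ.red {u : W P} (a : WJ J u) : ∃ l : List P.S, (∀ s ∈ l, s ∈ J) ∧ (gen P).Red l ∧ (gen P).wp l = u := by
  obtain ⟨l, a, rfl⟩ := a
  obtain ⟨l', h1, h2, h3⟩ := (exchange P).exists_red_sub l
  exact ⟨l', fun s h => a s (h3 s h), h1, h2⟩

theorem ex2 {s : P.S} {l a : List P.S} (r : (gen P).Red (s :: l))
    (h : (gen P).len ((gen P).σ s * (gen P).wp (l ++ a)) ≤ (gen P).len ((gen P).wp (l ++ a))) :
    ∃ a' : List P.S, a'.length + 1 = a.length ∧ (gen P).σ s * (gen P).wp (l ++ a) = (gen P).wp (l ++ a') := by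
  obtain ⟨l₁, j, l₂, e, e'⟩ := exchange P s _ h
  have key : ∀ a', l₁ = l ++ a' → a = a' ++ j :: l₂ → ∃ a' : List P.S, a'.length + 1 = a.length ∧
      (gen P).σ s * (gen P).wp (l ++ a) = (gen P).wp (l ++ a') := by
    rintro a' rfl rfl
    refine ⟨a' ++ l₂, by simp; omega, ?_⟩
    rw [e, (gen P).wp_append (l ++ a'), ← mul_assoc, e']; simp [mul_assoc]
  rcases List.append_eq_append_iff.1 e with ⟨a', e1, e2⟩ | ⟨c, e1, e2⟩
  · exact key a' e1 e2
  rcases c with _ | ⟨k, c⟩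
  · exact key [] (by simpa using e1.symm) (by simpa using e2.symm)
  obtain ⟨rfl, -⟩ := List.cons.inj e2
  subst e1
  have := (gen P).len_wp_le (l₁ ++ c)
  unfold InvGen.Red at r
  rw [show (gen P).wp (s :: (l₁ ++ j :: c)) = (gen P).wp (l₁ ++ c) by simp [← mul_assoc, e']] at r
  simp at r this; omega

theorem len_min {d : W P} (hd : ∀ u, WJ J u → (gen P).len d ≤ (gen P).len (u * d)) :
    ∀ l : List P.S, (∀ s ∈ l, s ∈ J) → (gen P).Red l → (gen P).len ((gen P).wp l * d) = l.length + (gen P).len d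
  | [], _, _ => by simp
  | s :: l, h, r => by
    have ih := len_min hd l (fun t m => h t (List.mem_cons_of_mem _ m)) r.tail
    have := (gen P).len_σ_mul_le s ((gen P).wp l * d)
    rw [InvGen.wp_cons, mul_assoc, List.length_cons]
    by_contra c
    obtain ⟨a, ha, rfl⟩ := (gen P).exists_reduced d
    obtain ⟨a', e, e'⟩ := ex2 (a := a) r (by rw [InvGen.wp_append]; omega)
    have m : WJ J ((gen P).wp l) := ⟨l, fun t m => h t (List.mem_cons_of_mem _ m), rfl⟩
    have := hd _ (m.inv.mul ((WJ.σ (h s List.mem_cons_self)).mul m))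
    rw [mul_assoc, mul_assoc, ← InvGen.wp_append, e', InvGen.wp_append, inv_mul_cancel_left] at this
    have := (gen P).len_wp_le a'
    omega

theorem ex_min (J : Set P.S) (w : W P) : ∃ u, WJ J u ∧ ∀ v, WJ J v → (gen P).len (u * w) ≤ (gen P).len (v * (u * w)) := by
  obtain ⟨u, b⟩ := exists_minimalFor_of_wellFoundedLT (WJ J) (fun u => (gen P).len (u * w)) ⟨1, .one⟩
  exact ⟨u, b.1, fun v m => by rw [← mul_assoc]; exact b.le (m.mul b.1)⟩

theorem eq_min {d u : W P} (hd : ∀ u, WJ J u → (gen P).len d ≤ (gen P).len (u * d)) (m : WJ J u) (a : Asc J (u * d)) :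
    u = 1 := by
  obtain ⟨_ | ⟨s, l⟩, h, r, rfl⟩ := m.red
  · rfl
  have := a s (h s List.mem_cons_self)
  rw [len_min hd _ h r, InvGen.wp_cons, mul_assoc, InvGen.σ_σ_mul,
    len_min hd l (fun t m => h t (List.mem_cons_of_mem _ m)) r.tail, List.length_cons] at this
  omega

theorem Asc.min {d : W P} (a : Asc J d) : ∀ u, WJ J u → (gen P).len d ≤ (gen P).len (u * d) := by
  obtain ⟨u, m, h⟩ := ex_min J d
  have := eq_min h m.inv (by simpa)
  rw [inv_eq_one.1 this, one_mul] at h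
  exact h

theorem Asc.uniq {d u : W P} (a : Asc J d) (m : WJ J u) (a' : Asc J (u * d)) : u = 1 := eq_min a.min m a'

theorem len_asc {s : P.S} {w : W P} : ¬(gen P).len w < (gen P).len ((gen P).σ s * w) ↔
    (gen P).len ((gen P).σ s * w) < (gen P).len w := by
  have := len_ne s w; omega

theorem Asc.uniq2 {d w u v : W P} (a : Asc J d) (a' : Asc K d⁻¹) (b : Asc J w) (b' : Asc K w⁻¹) (m : WJ J u)
    (m' : WJ K v) (e : u * w = d * v) : w = d := by
  have key : ∀ l : List P.S, (∀ s ∈ l, s ∈ K) → ∀ y, (∃ u v, WJ J u ∧ WJ K v ∧ y = u * (d * v) ∧ Asc J (d * v)) →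
      ∃ u v, WJ J u ∧ WJ K v ∧ y * (gen P).wp l = u * (d * v) ∧ Asc J (d * v) := by
    intro l
    induction l with
    | nil => exact fun _ y h => by simpa using h
    | cons t l ih =>
      rintro h _ ⟨u, v, m, m', rfl, c⟩
      rw [InvGen.wp_cons, ← mul_assoc]
      refine ih (fun s m => h s (List.mem_cons_of_mem _ m)) _ ?_
      by_cases c' : Asc J (d * (v * (gen P).σ t))
      · exact ⟨u, _, m, m'.mul (.σ (h t List.mem_cons_self)), by simp only [mul_assoc], c'⟩
      simp only [Asc, not_forall, not_lt] at c'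
      obtain ⟨s, hs, c'⟩ := c'
      rw [← mul_assoc d] at c'
      exact ⟨u * (gen P).σ s, v, m.mul (.σ hs), m', by rw [mul_assoc u, mul_assoc u, swap_of_len s t _ (c s hs) c'], c⟩
  obtain ⟨l, h, rfl⟩ := m'
  obtain ⟨u', v', n, n', e', c⟩ := key l h d ⟨1, 1, .one, .one, by simp, by simpa⟩
  have e1 : w = u⁻¹ * u' * (d * v') := by rw [mul_assoc, ← e', ← e, inv_mul_cancel_left]
  rw [c.uniq (m.inv.mul n) (e1 ▸ b), one_mul] at e1
  rw [e1, mul_inv_rev] at b'
  rw [e1, inv_eq_one.1 (a'.uniq n'.inv b'), mul_one]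

theorem len_top {w : W P} (h : ∀ s, ¬(gen P).len w < (gen P).len ((gen P).σ s * w)) :
    ∀ l : List P.S, (gen P).Red l → (gen P).len (((gen P).wp l)⁻¹ * w) + l.length ≤ (gen P).len w
  | [], _ => by simp
  | s :: l, r => by
    have ih := len_top h l r.tail
    obtain ⟨a, ha, e⟩ := (gen P).exists_reduced (((gen P).wp l)⁻¹ * w)
    have e1 : w = (gen P).wp (l ++ a) := by simp [e]
    obtain ⟨a', e2, e3⟩ := ex2 (a := a) r (e1 ▸ not_lt.1 (h s))
    rw [← e1] at e3
    rw [show ((gen P).wp (s :: l))⁻¹ * w = (gen P).wp a' by simp [mul_assoc, e3], List.length_cons]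
    have := (gen P).len_wp_le a'
    omega

theorem top_uniq {w w' : W P} (h : ∀ s, ¬(gen P).len w < (gen P).len ((gen P).σ s * w))
    (h' : ∀ s, ¬(gen P).len w' < (gen P).len ((gen P).σ s * w')) : w = w' := by
  obtain ⟨l, e, rfl⟩ := (gen P).exists_reduced w
  obtain ⟨l', e', rfl⟩ := (gen P).exists_reduced w'
  have h1 := len_top h l' e'.symm
  have h2 := len_top h' l e.symm
  exact inv_mul_eq_one.1 ((gen P).len_eq_zero.1 (by omega))

theorem top_inv {w : W P} (h : ∀ s, ¬(gen P).len w < (gen P).len ((gen P).σ s * w)) : w⁻¹ = w := by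
  refine top_uniq (fun s => ?_) h
  obtain ⟨l, e, e'⟩ := (gen P).exists_reduced ((gen P).σ s * w⁻¹)
  have := len_top h l (by rw [InvGen.Red, e', e])
  simp only [InvGen.len_inv]; omega

theorem ex_top [Finite G] : ∃ w : W P, ∀ s, ¬(gen P).len w < (gen P).len ((gen P).σ s * w) := by
  obtain ⟨w, h⟩ := Finite.exists_max (gen P).len
  exact ⟨w, fun s => not_lt.2 (h _)⟩

/-- the standard parabolic subgroup of `J` -/
abbrev Par (J : Set P.S) : Subgroup G := P.parabolic (Subtype.val '' J)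

theorem mem_Par {g : G} : g ∈ Par J ↔ WJ J (cell P g) := by
  rw [mem_parabolic_iff' (by rintro _ ⟨s, -, rfl⟩; exact s.2)]
  simp [WJ]

theorem InC.par {s : P.S} (h : s ∈ J) {g : G} (c : InC P ((gen P).σ s) g) : g ∈ Par J :=
  mem_Par.2 (c.cell_eq ▸ .σ h)

theorem cell_mul {y : G} (a : Asc J (cell P y)) : ∀ l : List P.S, (∀ s ∈ l, s ∈ J) → (gen P).Red l → ∀ p,
    InC P ((gen P).wp l) p → InC P ((gen P).wp l * cell P y) (p * y)
  | [], _, _, p, c => by simpa using (inC_cell y).mul_left (inC_one_iff.1 c)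
  | s :: l, h, r, p, c => by
    obtain ⟨g₁, g₂, c₁, c₂, rfl⟩ := InC.split_left (by simpa using c)
    have h' := fun t m => h t (List.mem_cons_of_mem _ m)
    rw [InvGen.wp_cons, mul_assoc, mul_assoc]
    refine InC.mul_of_le s _ ?_ _ _ c₁ (cell_mul a l h' r.tail _ c₂)
    rw [← mul_assoc, ← InvGen.wp_cons, len_min a.min _ h r, len_min a.min _ h' r.tail, List.length_cons]
    omega

theorem cell_mul' {y p : G} (a : Asc J (cell P y)) (m : p ∈ Par J) : cell P (p * y) = cell P p * cell P y := by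
  obtain ⟨l, h, r, e⟩ := (mem_Par.1 m).red
  exact (e ▸ cell_mul a l h r p (e ▸ inC_cell p)).cell_eq

theorem mem_B {y p : G} (a : Asc J (cell P y)) (m : p ∈ Par J) (a' : Asc J (cell P (p * y))) : p ∈ P.B :=
  inC_one_iff.1 (a.uniq (mem_Par.1 m) (cell_mul' a m ▸ a') ▸ inC_cell p)

theorem cell_inv (g : G) : cell P g⁻¹ = (cell P g)⁻¹ := (inC_cell g).inv.cell_eq

theorem cell_B {g b : G} (h : b ∈ P.B) : cell P (g * b) = cell P g := ((inC_cell g).mul_right h).cell_eq

theorem cell_B' {g b : G} (h : b ∈ P.B) : cell P (b * g) = cell P g := ((inC_cell g).mul_left h).cell_eq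

theorem ex_asc (J K : Set P.S) (g : G) : ∃ p ∈ Par J, ∃ q ∈ Par K, Asc J (cell P (p * g * q)) ∧
    Asc K (cell P (p * g * q))⁻¹ := by
  obtain ⟨y, b⟩ := exists_minimalFor_of_wellFoundedLT (fun y => ∃ p ∈ Par J, ∃ q ∈ Par K, y = p * g * q)
    (fun y => (gen P).len (cell P y)) ⟨g, 1, one_mem _, 1, one_mem _, by simp⟩
  obtain ⟨p, hp, q, hq, rfl⟩ := b.1
  refine ⟨p, hp, q, hq, fun s hs => by_contra fun c => ?_, fun s hs => by_contra fun c => ?_⟩
  · obtain ⟨g₁, g₂, c₁, c₂, e⟩ := InC.split_left (t := s) (v := (gen P).σ s * cell P (p * g * q)) (by simpa using inC_cell _)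
    have := b.le (j := g₂) ⟨g₁⁻¹ * p, mul_mem (inv_mem (InC.par hs c₁)) hp, q, hq, by
      rw [mul_assoc g₁⁻¹, mul_assoc g₁⁻¹, e, inv_mul_cancel_left]⟩
    rw [len_asc] at c
    simp only [c₂.cell_eq] at this; omega
  · obtain ⟨g₁, g₂, c₁, c₂, e⟩ := InC.split_right (t := s) (v := cell P (p * g * q) * (gen P).σ s) (by simpa using inC_cell _)
    have := b.le (j := g₁) ⟨p, hp, q * g₂⁻¹, mul_mem hq (inv_mem (InC.par hs c₂)), by
      rw [← mul_assoc, e, mul_inv_cancel_right]⟩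
    rw [len_asc, ← InvGen.len_inv, ← (gen P).len_inv (cell P _)⁻¹] at c
    simp only [c₁.cell_eq, mul_inv_rev, inv_inv, InvGen.inv_σ] at this c; omega

theorem top_of {n : P.N} (h : ∀ x ∈ P.B, (n : G)⁻¹ * x * n ∈ P.B → x ∈ P.N) (s : P.S) :
    ¬(gen P).len (mkW P n) < (gen P).len ((gen P).σ s * mkW P n) := fun c => by
  obtain ⟨b, hb, e⟩ := exists_conj_not_mem P s
  have cs : InC P ((gen P).σ s) (s : G) := InC.self (sN P s)
  obtain ⟨b₁, h₁, b₂, h₂, e₁⟩ := (InC.mul_of_le s _ c.le _ _ (cs.mul_right hb) (InC.self n)).rep (sN P s * n) rfl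
  have e₂ : (s : G)⁻¹ * b₁⁻¹ * s * b = n * b₂ * (n : G)⁻¹ := by
    rw [eq_mul_inv_iff_mul_eq, show (s : G)⁻¹ * b₁⁻¹ * s * b * n = (s : G)⁻¹ * b₁⁻¹ * (s * b * n) by group, e₁]; simp [mul_assoc]
  rcases (show InC P _ _ from cs.mul_left (inv_mem h₁)).s_inv_mul s with c₁ | c₁
  · rw [(gen P).sq, inC_one_iff, ← mul_assoc] at c₁
    have := P.conj_mem s (P.subset s.2) _ ⟨mul_mem c₁ hb, h _ (mul_mem c₁ hb) (by rw [e₂]; simpa [mul_assoc] using h₂)⟩
    exact e (by simpa [mul_assoc] using mul_mem (mul_mem h₁ this) (P.sq_mem s s.2))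
  · have := InC.mul_of_le s _ c.le _ _ (c₁.mul_right hb) (InC.self n)
    rw [← mul_assoc, e₂, inv_mul_cancel_right] at this
    exact σ_ne_one P s (by simpa using this.unique ((InC.self n).mul_right h₂))

end SB
end H5
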