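import Cfsg.Agent.H5.SB1
import Cfsg.Agent.H3.Par2
import Cfsg.Agent.H3.Lift

/-! The Steinberg character of a finite group with a (B,N)-pair. -/

set_option autoImplicit false

namespace H5
namespace SB

open Cfsg H5.BN MulAction H3 H3.Par

variable {G : Type*} [Group G] {P : BNPair G} {ι : Type*} [Fintype ι] [DecidableEq ι]

theorem alt_card {X : Type*} [Finite X] (Q : X → Prop) (A : X → ι → Prop) :
    ∑ J : Finset ι, (-1 : ℂ) ^ J.card * Nat.card {x // Q x ∧ ∀ i ∈ J, A x i} = Nat.card {x // Q x ∧ ∀ i, ¬A x i} := by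
  classical
  haveI := Fintype.ofFinite X
  simp only [Nat.card_eq_fintype_card, Fintype.card_subtype, Finset.card_filter, Nat.cast_sum, Finset.mul_sum]
  rw [Finset.sum_comm]
  refine Finset.sum_congr rfl fun x _ => ?_
  by_cases q : Q x
  · have := congrArg (Int.cast (R := ℂ)) (Finset.sum_powerset_neg_one_pow_card (x := Finset.univ.filter (A x)))
    rw [show (Finset.univ.filter (A x)).powerset = Finset.univ.filter fun J : Finset ι => ∀ i ∈ J, A x i by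
      ext; simp [Finset.subset_iff], Finset.sum_filter] at this
    simpa [q, Finset.filter_eq_empty_iff] using this
  · simp [q]

/-- the alternating sum of the parabolic permutation characters -/
noncomputable def St (e : ι → P.S) : G → ℂ :=
  fun g => ∑ J : Finset ι, (-1 : ℂ) ^ J.card * fixedPointCharacter (Par (e '' J)) g

/-- the cell of the inverse of a coset -/
noncomputable def cq (q : G ⧸ P.B) : W P := cell P q.out⁻¹

theorem cq_mk (x : G) : cq (x : G ⧸ P.B) = cell P x⁻¹ := by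
  obtain ⟨b, e⟩ := QuotientGroup.mk_out_eq_mul P.B x
  rw [cq, e, mul_inv_rev, cell_B' (inv_mem b.2)]

theorem fix_mk {H : Subgroup G} {b x : G} : (x : G ⧸ H) ∈ fixedBy (G ⧸ H) b ↔ x⁻¹ * b * x ∈ H := by
  rw [mem_fixedBy, Quotient.smul_mk, eq_comm, QuotientGroup.eq, smul_eq_mul, mul_assoc]

theorem B_le (J : Set P.S) : P.B ≤ Par J := B_le_parabolic _

theorem fix_eq {b : G} (hb : b ∈ P.B) (J : Set P.S) : Nat.card (fixedBy (G ⧸ Par J) b) =
    Nat.card {q : G ⧸ P.B // q ∈ fixedBy (G ⧸ P.B) b ∧ Asc J (cq q)} := by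
  refine card_ker (S := {x : G // x⁻¹ * b * x ∈ P.B ∧ Asc J (cell P x⁻¹)})
    (f := fun x => ⟨x.1, fix_mk.2 (B_le J x.2.1)⟩) (g := fun x => ⟨x.1, fix_mk.2 x.2.1, cq_mk x.1 ▸ x.2.2⟩) ?_ ?_
    fun x y => ?_
  · rintro ⟨⟨x⟩, h⟩
    obtain ⟨p, hp, q, hq, a, -⟩ := ex_asc J ∅ x⁻¹
    rw [cell_B (by simpa [Par, parabolic_empty] using hq)] at a
    refine ⟨⟨(p * x⁻¹)⁻¹, ?_, by rwa [inv_inv]⟩, Subtype.ext (QuotientGroup.eq.2 (by simpa using hp))⟩
    refine mem_B a ?_ (by rwa [inv_inv, inv_mul_cancel_right, cell_B hb])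
    simpa [mul_assoc] using mul_mem (mul_mem hp (fix_mk.1 h)) (inv_mem hp)
  · rintro ⟨⟨x⟩, h, a⟩
    exact ⟨⟨x, fix_mk.1 h, cq_mk x ▸ a⟩, rfl⟩
  · simp only [Subtype.mk.injEq, QuotientGroup.eq]
    exact ⟨fun h => mem_B y.2.2 h (by simpa using x.2.2), fun h => B_le J h⟩

variable [Finite G] {e : ι → P.S}

theorem St_B (he : Function.Surjective e) {n : P.N} (hn : ∀ x ∈ P.B, (n : G)⁻¹ * x * n ∈ P.B → x ∈ P.N)
    {B : Subgroup G} (hB : B = P.B) {T : Subgroup B} (hT : ∀ x : B, x ∈ T ↔ x.1 ∈ P.N) (b : B) :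
    St e b.1 = fixedPointCharacter T b := by
  subst hB
  have t := top_of hn
  have c : ∀ x ∈ P.B, x ∈ P.N → (n : G)⁻¹ * x * n ∈ P.B := fun x h h' => by
    simpa using P.conj_mem _ (inv_mem n.2) x ⟨h, h'⟩
  have c1 : ∀ x ∈ P.B, cq ((x * n : G) : G ⧸ P.B) = mkW P n := fun x h => by
    rw [cq_mk, cell_inv, cell_B' h, (InC.self n).cell_eq, top_inv t]
  simp only [St, fixedPointCharacter, fix_eq b.2, Asc, Set.forall_mem_image, Finset.mem_coe]
  rw [alt_card]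
  refine congrArg _ (card_ker (S := {x : P.B // x.1⁻¹ * b.1 * x.1 ∈ P.N})
    (g := fun x => ⟨x.1, fix_mk.2 ((hT _).2 x.2)⟩) (f := fun x => ⟨(x.1.1 * n : G), fix_mk.2 (by
      simpa [mul_assoc] using c _ (x.1⁻¹ * b * x.1).2 x.2), fun i => by rw [c1 _ x.1.2]; exact t _⟩) ?_ ?_ fun x y => ?_)
  · rintro ⟨⟨y⟩, h, a⟩
    have e1 : cell P y⁻¹ = mkW P n := top_uniq (he.forall.2 (cq_mk y ▸ a)) t
    rw [cell_inv, inv_eq_iff_eq_inv, top_inv t, cell_eq_iff] at e1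
    obtain ⟨b₁, h₁, b₂, h₂, rfl⟩ := e1.rep n rfl
    refine ⟨⟨⟨b₁, h₁⟩, hn _ (mul_mem (mul_mem (inv_mem h₁) b.2) h₁) ?_⟩, Subtype.ext (QuotientGroup.eq.2 (by simpa [mul_assoc] using h₂))⟩
    simpa [mul_assoc] using mul_mem (mul_mem h₂ (fix_mk.1 h)) (inv_mem h₂)
  · rintro ⟨⟨x⟩, h⟩
    exact ⟨⟨x, (hT _).1 (fix_mk.1 h)⟩, rfl⟩
  · simp only [Subtype.mk.injEq, QuotientGroup.eq, hT]
    exact ⟨fun h => hn _ (x.1⁻¹ * y.1).2 (by simpa [mul_assoc] using h),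
      fun h => by simpa [mul_assoc] using c _ (x.1⁻¹ * y.1).2 h⟩

theorem St_one (he : Function.Surjective e) {n : P.N} (hn : ∀ x ∈ P.B, (n : G)⁻¹ * x * n ∈ P.B → x ∈ P.N) :
    St e 1 = (P.N.relIndex P.B : ℕ) := by
  refine (St_B he hn rfl (T := P.N.subgroupOf P.B) (fun _ => Iff.rfl) 1).trans ?_
  simp [fixedPointCharacter, Subgroup.relIndex, Subgroup.index]

omit [Finite G] in
theorem burn' [Fintype G] (J K : Set P.S) :
    (Nat.card G : ℂ)⁻¹ * ∑ g, fixedPointCharacter (Par J) g * fixedPointCharacter (Par K) g =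
      Nat.card {w : W P // Asc J w ∧ Asc K w⁻¹} := by
  obtain ⟨Ω, f, s, k, h⟩ := burn (Par J) (Par K)
  refine h.trans (congrArg _ (card_ker (S := {y : G // Asc J (cell P y) ∧ Asc K (cell P y)⁻¹}) (f := fun y => f y.1)
    (g := fun y => ⟨_, y.2⟩) (fun ω => ?_) (fun w => ?_) fun x y => ?_))
  · obtain ⟨g, rfl⟩ := s ω
    obtain ⟨p, hp, q, hq, a⟩ := ex_asc J K g
    exact ⟨⟨_, a⟩, (k _ _).2 ⟨p, hp, q⁻¹, inv_mem hq, by simp⟩⟩
  · obtain ⟨n, e⟩ := mkW_surj P w.1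
    exact ⟨⟨n, by rw [(InC.self n).cell_eq, e]; exact w.2⟩, Subtype.ext ((InC.self n).cell_eq.trans e)⟩
  · rw [k, Subtype.mk.injEq]
    refine ⟨fun ⟨p, hp, q, hq, e⟩ => (x.2.1.uniq2 x.2.2 y.2.1 y.2.2 (mem_Par.1 hp) (mem_Par.1 hq) ?_).symm, fun h => ?_⟩
    · rw [← cell_mul' y.2.1 hp, e, ← inv_inj, ← cell_inv, mul_inv_rev, cell_mul' (cell_inv x.1 ▸ x.2.2) (inv_mem hq),
        cell_inv, cell_inv, mul_inv_rev]
    · obtain ⟨n, e, b₁, h₁, b₂, h₂, e₁⟩ := inC_cell (P := P) x.1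
      obtain ⟨b₃, h₃, b₄, h₄, e₂⟩ := (inC_cell (P := P) y.1).rep n (e.trans h)
      exact ⟨b₁ * b₃⁻¹, B_le J (mul_mem h₁ (inv_mem h₃)), b₂⁻¹ * b₄, B_le K (mul_mem (inv_mem h₂) h₄), by
        rw [e₁, e₂]; group⟩

theorem St_irr (he : Function.Surjective e) {n : P.N} (hn : ∀ x ∈ P.B, (n : G)⁻¹ * x * n ∈ P.B → x ∈ P.N) :
    IsIrrCharacter G (St e) := by
  classical
  haveI := Fintype.ofFinite G
  have g : IsGeneralizedCharacter G (St e) := by
    rw [show St e = ∑ J : Finset ι, (((-1 : ℤ) ^ J.card : ℤ) : ℂ) • fixedPointCharacter (Par (e '' J)) by ext; simp [St]]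
    exact isGen_sum _ _ fun κ _ => H3.Cfsg.IsGeneralizedCharacter.intCast_smul (H3.Cfsg.IsCharacter.isGen
      (isCharacter_fixedBy _)) _
  refine g.isIrr_of_re_nonneg ?_ (by rw [St_one he hn]; simp)
  have : classInner (St e) (St e) = ∑ K : Finset ι, (-1 : ℂ) ^ K.card * ∑ J : Finset ι, (-1 : ℂ) ^ J.card *
      ((Nat.card G : ℂ)⁻¹ * ∑ g, fixedPointCharacter (Par (e '' J)) g * fixedPointCharacter (Par (e '' K)) g) := by
    simp only [classInner, St, map_sum, map_mul, map_pow, map_neg, map_one, fixedPointCharacter, map_natCast,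
      Finset.mul_sum, Finset.sum_mul]
    rw [Finset.sum_comm]
    refine Finset.sum_congr rfl fun K _ => ?_
    rw [Finset.sum_comm]
    exact Finset.sum_congr rfl fun J _ => Finset.sum_congr rfl fun g _ => by ring
  have t := top_of hn
  simp only [this, burn', Asc, Set.forall_mem_image, Finset.mem_coe, and_comm (b := ∀ i ∈ _, (gen P).len _⁻¹ < _)]
  simp only [alt_card]
  simp only [and_comm (a := ∀ i ∈ _, (gen P).len _⁻¹ < _)]
  rw [alt_card, Nat.cast_eq_one, Nat.card_eq_one_iff_exists]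
  exact ⟨⟨mkW P n, fun i => t _, fun i => by rw [top_inv t]; exact t _⟩, fun w =>
    Subtype.ext (top_uniq (he.forall.2 w.2.1) t)⟩

theorem St_zero (he : Function.Surjective e) {n : P.N} (hn : ∀ x ∈ P.B, (n : G)⁻¹ * x * n ∈ P.B → x ∈ P.N)
    {p : ℕ} (hp : p.Prime) (h : p ^ (Nat.card G).factorization p ∣ P.N.relIndex P.B) {g : G} (hg : p ∣ orderOf g) :
    St e g = 0 :=
  H3.Cfsg.IsIrrCharacter.eq_zero_of_defect_zero (St_irr he hn) (Nat.Coprime.pow_left _ (Nat.coprime_ordCompl hp Nat.card_pos.ne'))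
    (Nat.ordProj_mul_ordCompl_eq_self _ p).symm (St_one he hn) h
    fun d => Nat.not_dvd_ordCompl hp Nat.card_pos.ne' (hg.trans d)

theorem ex_st (P : BNPair G) {n : P.N} (hn : ∀ x ∈ P.B, (n : G)⁻¹ * x * n ∈ P.B → x ∈ P.N)
    {p : ℕ} [hp : Fact p.Prime] (h : P.N.relIndex P.B = p ^ (Nat.card G).factorization p) :
    ∃ χ : G → ℂ, IsIrrCharacter G χ ∧ ∀ Q : Sylow p G, χ 1 = Nat.card Q ∧ ∀ x : G, x ∈ Q → x ≠ 1 → χ x = 0 := by
  classical
  haveI := Fintype.ofFinite P.S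
  refine ⟨St id, St_irr Function.surjective_id hn, fun Q => ⟨by rw [St_one Function.surjective_id hn, h,
    Q.card_eq_multiplicity], fun x m z => St_zero Function.surjective_id hn hp.out h.symm.dvd ?_⟩⟩
  obtain ⟨k, e⟩ := IsPGroup.iff_orderOf.1 Q.isPGroup' ⟨x, m⟩
  rw [Subgroup.orderOf_mk] at e
  exact e ▸ dvd_pow_self p fun k0 => z (orderOf_eq_one_iff.1 (by simpa [k0] using e))

end SB
end H5
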