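import Cfsg.Agent.H5.SB2

/-! Split (B,N)-pairs: the Sylow subgroup and the number of `p`-elements. -/

set_option autoImplicit false

namespace H5
namespace SB

open Cfsg H5.BN MulAction H3 H3.Par

variable {G : Type*} [Group G] {P : BNPair G} {ι : Type*} [Fintype ι] [DecidableEq ι] {p : ℕ} {U : Subgroup G}

/-- a splitting of `B` -/
structure Spl (P : BNPair G) (p : ℕ) (U : Subgroup G) : Prop where
  le : U ≤ P.B
  pg : IsPGroup p U
  nrm : ∀ b ∈ P.B, ∀ u ∈ U, b * u * b⁻¹ ∈ U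
  fac : ∀ b ∈ P.B, ∃ u ∈ U, ∃ h ∈ P.B ⊓ P.N, u * h = b
  cop : ¬p ∣ Nat.card ↥(P.B ⊓ P.N)

theorem relIndex_fac {B T : Subgroup G} (le : U ≤ B) (h : ∀ b ∈ B, ∃ u ∈ U, ∃ t ∈ T, u * t = b) :
    T.relIndex B = T.relIndex U := by
  refine card_ker (S := U) (f := fun u => ((⟨u.1, le u.2⟩ : B) : B ⧸ T.subgroupOf B))
    (g := fun u => (u : U ⧸ T.subgroupOf U)) ?_ QuotientGroup.mk_surjective fun a b => ?_
  · rintro ⟨b⟩
    obtain ⟨u, hu, t, ht, e⟩ := h b b.2
    exact ⟨⟨u, hu⟩, QuotientGroup.eq.2 (by simpa [Subgroup.mem_subgroupOf, ← e] using ht)⟩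
  · simp [QuotientGroup.eq, Subgroup.mem_subgroupOf]

theorem Spl.eq_one [hp : Fact p.Prime] (h : Spl P p U) {u : G} (a : u ∈ U) (b : u ∈ P.N) : u = 1 := by
  obtain ⟨k, e⟩ := IsPGroup.iff_orderOf.1 h.pg ⟨u, a⟩
  have d := orderOf_dvd_natCard (⟨u, Subgroup.mem_inf.2 ⟨h.le a, b⟩⟩ : ↥(P.B ⊓ P.N))
  rw [Subgroup.orderOf_mk] at e d
  rcases k with _ | k
  · exact orderOf_eq_one_iff.1 e
  · exact (h.cop ((e ▸ dvd_pow_self p k.succ_ne_zero).trans d)).elim

theorem Spl.relIndex [Fact p.Prime] (h : Spl P p U) : P.N.relIndex P.B = Nat.card U := by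
  rw [relIndex_fac h.le fun b hb => let ⟨u, a, t, c, e⟩ := h.fac b hb; ⟨u, a, t, c.2, e⟩, ← Subgroup.inf_relIndex_right,
    (Subgroup.eq_bot_iff_forall (P.N ⊓ U)).2 fun x m => h.eq_one m.2 m.1, Subgroup.relIndex_bot_left]

theorem Spl.sylow [Finite G] [hp : Fact p.Prime] (h : Spl P p U) : ∃ Q : Sylow p G, (Q : Subgroup G) = U := by
  have hB : P.B ≤ Subgroup.normalizer (U : Set G) := fun b hb => Subgroup.mem_normalizer_fintype (h.nrm b hb)
  have e : Subgroup.normalizer (U : Set G) ≤ P.B := by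
    rw [eq_parabolic hB, ← parabolic_empty (P := P)]
    refine parabolic_mono fun s ⟨a, c⟩ => not_mem_B P ⟨s, a⟩ ((normalizer_eq le_rfl).le ?_)
    refine Subgroup.mem_normalizer_fintype fun b hb => ?_
    obtain ⟨u, hu, t, ht, rfl⟩ := h.fac b hb
    rw [← conj_mul]
    exact mul_mem (h.le ((Subgroup.mem_normalizer_iff.1 c u).1 hu)) (P.conj_mem s (P.subset a) t ht)
  obtain ⟨Q, l⟩ := h.pg.exists_le_sylow
  refine ⟨Q, le_antisymm (by_contra fun n => ?_) l⟩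
  haveI := Q.isPGroup'.isNilpotent
  obtain ⟨x, a, b⟩ := SetLike.exists_of_lt (Group.normalizerCondition_of_isNilpotent (U.subgroupOf Q)
    (lt_top_iff_ne_top.2 fun e => n (Subgroup.subgroupOf_eq_top.1 e)))
  have m : x.1 ∈ P.B := e (Subgroup.mem_normalizer_fintype fun u hu =>
    (Subgroup.mem_normalizer_iff.1 a ⟨u, l hu⟩).1 hu)
  obtain ⟨u, hu, t, ht, e'⟩ := h.fac _ m
  have q : t ∈ (Q : Subgroup G) := (mul_mem_cancel_left (l hu)).1 (e' ▸ x.2)
  obtain ⟨k, e1⟩ := IsPGroup.iff_orderOf.1 Q.isPGroup' ⟨t, q⟩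
  have d := orderOf_dvd_natCard (⟨t, ht⟩ : ↥(P.B ⊓ P.N))
  rw [Subgroup.orderOf_mk] at e1 d
  rcases k with _ | k
  · rw [orderOf_eq_one_iff.1 e1, mul_one] at e'
    exact b (Subgroup.mem_subgroupOf.2 (e' ▸ hu))
  · exact h.cop ((e1 ▸ dvd_pow_self p k.succ_ne_zero).trans d)

theorem Spl.st [Finite G] [hp : Fact p.Prime] (h : Spl P p U) {n : P.N}
    (hn : ∀ x ∈ P.B, (n : G)⁻¹ * x * n ∈ P.B → x ∈ P.N) :
    ∃ χ : G → ℂ, IsIrrCharacter G χ ∧ ∀ Q : Sylow p G, χ 1 = Nat.card Q ∧ ∀ x : G, x ∈ Q → x ≠ 1 → χ x = 0 := by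
  obtain ⟨Q, e⟩ := h.sylow
  exact ex_st P hn (by rw [h.relIndex, ← e, Q.card_eq_multiplicity])

theorem len_topJ {J : Set P.S} {w : W P} (h : ∀ s ∈ J, ¬(gen P).len w < (gen P).len ((gen P).σ s * w)) :
    ∀ l : List P.S, (∀ s ∈ l, s ∈ J) → (gen P).Red l → (gen P).len (((gen P).wp l)⁻¹ * w) + l.length ≤ (gen P).len w
  | [], _, _ => by simp
  | s :: l, m, r => by
    have ih := len_topJ h l (fun t a => m t (List.mem_cons_of_mem _ a)) r.tail
    obtain ⟨a, ha, e⟩ := (gen P).exists_reduced (((gen P).wp l)⁻¹ * w)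
    have e1 : w = (gen P).wp (l ++ a) := by simp [e]
    obtain ⟨a', e2, e3⟩ := ex2 (a := a) r (e1 ▸ not_lt.1 (h s (m s List.mem_cons_self)))
    rw [← e1] at e3
    rw [show ((gen P).wp (s :: l))⁻¹ * w = (gen P).wp a' by simp [mul_assoc, e3], List.length_cons]
    have := (gen P).len_wp_le a'
    omega

theorem top_uniqJ {J : Set P.S} {w w' : W P} (m : WJ J w) (m' : WJ J w')
    (h : ∀ s ∈ J, ¬(gen P).len w < (gen P).len ((gen P).σ s * w))
    (h' : ∀ s ∈ J, ¬(gen P).len w' < (gen P).len ((gen P).σ s * w')) : w = w' := by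
  obtain ⟨l, a, e, rfl⟩ := m.red
  obtain ⟨l', a', e', rfl⟩ := m'.red
  have h1 := len_topJ h l' a' e'
  have h2 := len_topJ h' l a e
  unfold InvGen.Red at e e'
  exact inv_mul_eq_one.1 ((gen P).len_eq_zero.1 (by omega))

theorem top_ofJ {n : P.N} {s : P.S} (h : ∀ x ∈ P.B, (n : G)⁻¹ * x * n ∈ P.B → (s : G) * x * (s : G)⁻¹ ∈ P.B) :
    ¬(gen P).len (mkW P n) < (gen P).len ((gen P).σ s * mkW P n) := fun c => by
  obtain ⟨b, hb, e⟩ := exists_conj_not_mem P s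
  have cs : InC P ((gen P).σ s) (s : G) := InC.self (sN P s)
  obtain ⟨b₁, h₁, b₂, h₂, e₁⟩ := (InC.mul_of_le s _ c.le _ _ (cs.mul_right hb) (InC.self n)).rep (sN P s * n) rfl
  have e₂ : (s : G)⁻¹ * b₁⁻¹ * s * b = n * b₂ * (n : G)⁻¹ := by
    rw [eq_mul_inv_iff_mul_eq, show (s : G)⁻¹ * b₁⁻¹ * s * b * n = (s : G)⁻¹ * b₁⁻¹ * (s * b * n) by group, e₁]; simp [mul_assoc]
  rcases (show InC P _ _ from cs.mul_left (inv_mem h₁)).s_inv_mul s with c₁ | c₁
  · rw [(gen P).sq, inC_one_iff, ← mul_assoc] at c₁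
    have := h _ (mul_mem c₁ hb) (by rw [e₂]; simpa [mul_assoc] using h₂)
    exact e (by simpa [mul_assoc] using mul_mem (mul_mem h₁ this) (P.sq_mem s s.2))
  · have := InC.mul_of_le s _ c.le _ _ (c₁.mul_right hb) (InC.self n)
    rw [← mul_assoc, e₂, inv_mul_cancel_right] at this
    exact σ_ne_one P s (by simpa using this.unique ((InC.self n).mul_right h₂))

theorem out_mem {K M : Subgroup G} (h : K ≤ M) (x : G) : (x : G ⧸ K).out ∈ M ↔ x ∈ M := by
  obtain ⟨k, e⟩ := QuotientGroup.mk_out_eq_mul K x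
  rw [e, mul_mem_cancel_right (h k.2)]

/-- the fixed cosets of `K` inside `M` -/
noncomputable def FF (K M : Subgroup G) (g : G) : ℕ := Nat.card {q : G ⧸ K // q ∈ fixedBy (G ⧸ K) g ∧ q.out ∈ M}

theorem FF_conj {K M : Subgroup G} (h : K ≤ M) {g : G} (m : g ∈ M) (x : G) : FF K M (g * x * g⁻¹) = FF K M x :=
  (Nat.card_congr ((toPerm g).subtypeEquiv fun q => by
    induction q using QuotientGroup.induction_on with
    | H y =>
      rw [toPerm_apply, Quotient.smul_mk, fix_mk, fix_mk, out_mem h, out_mem h, smul_eq_mul, mul_mem_cancel_left m]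
      simp [mul_assoc])).symm

theorem FF_eq {b : G} (hb : b ∈ P.B) {K : Set P.S} {M : Subgroup G} (h : Par K ≤ M) : FF (Par K) M b =
    Nat.card {q : G ⧸ P.B // (q ∈ fixedBy (G ⧸ P.B) b ∧ q.out ∈ M) ∧ Asc K (cq q)} := by
  have h' := (B_le K).trans h
  refine card_ker (S := {x : G // (x⁻¹ * b * x ∈ P.B ∧ x ∈ M) ∧ Asc K (cell P x⁻¹)})
    (f := fun x => ⟨x.1, fix_mk.2 (B_le K x.2.1.1), (out_mem h _).2 x.2.1.2⟩)
    (g := fun x => ⟨x.1, ⟨fix_mk.2 x.2.1.1, (out_mem h' _).2 x.2.1.2⟩, cq_mk x.1 ▸ x.2.2⟩) ?_ ?_ fun x y => ?_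
  · rintro ⟨⟨x⟩, c, m⟩
    obtain ⟨p, hp, q, hq, a, -⟩ := ex_asc K ∅ x⁻¹
    rw [cell_B (by simpa [Par, parabolic_empty] using hq)] at a
    refine ⟨⟨(p * x⁻¹)⁻¹, ⟨?_, inv_mem (mul_mem (h hp) (inv_mem ((out_mem h x).1 m)))⟩, by rwa [inv_inv]⟩,
      Subtype.ext (QuotientGroup.eq.2 (by simpa using hp))⟩
    refine mem_B a ?_ (by rwa [inv_inv, inv_mul_cancel_right, cell_B hb])
    simpa [mul_assoc] using mul_mem (mul_mem hp (fix_mk.1 c)) (inv_mem hp)
  · rintro ⟨⟨x⟩, ⟨c, m⟩, a⟩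
    exact ⟨⟨x, ⟨fix_mk.1 c, (out_mem h' x).1 m⟩, cq_mk x ▸ a⟩, rfl⟩
  · simp only [Subtype.mk.injEq, QuotientGroup.eq]
    exact ⟨fun h => mem_B y.2.2 h (by simpa using x.2.2), fun h => B_le K h⟩

open Classical in
theorem sum_FF [Fintype G] {K M : Subgroup G} (h : K ≤ M) {c : G → Prop} (hc : ∀ g x, c (g * x * g⁻¹) ↔ c x) :
    ∑ x with c x ∧ x ∈ M, FF K M x = K.relIndex M * Nat.card {x // c x ∧ x ∈ K} := by
  haveI := Fintype.ofFinite (G ⧸ K)
  have e : K.relIndex M = Nat.card {q : G ⧸ K // q.out ∈ M} := card_ker (S := M) (f := fun x => (x : M ⧸ K.subgroupOf M))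
    (g := fun x => ⟨x.1, (out_mem h _).2 x.2⟩) QuotientGroup.mk_surjective
    (by rintro ⟨⟨x⟩, m⟩; exact ⟨⟨x, (out_mem h x).1 m⟩, rfl⟩) fun a b => by simp [QuotientGroup.eq, Subgroup.mem_subgroupOf]
  simp only [e, FF, Nat.card_eq_fintype_card, Fintype.card_subtype]
  rw [Finset.card_eq_sum_ones, Finset.sum_mul, Finset.sum_filter, Finset.sum_filter]
  simp only [Finset.card_filter]
  rw [show ∀ f : G → G ⧸ K → ℕ, (∑ x, if c x ∧ x ∈ M then ∑ q, f x q else 0) = ∑ q, ∑ x, if c x ∧ x ∈ M then f x q else 0 from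
    fun f => by rw [Finset.sum_comm]; exact Finset.sum_congr rfl fun x _ => by split_ifs <;> simp]
  refine Finset.sum_congr rfl fun q _ => ?_
  induction q using QuotientGroup.induction_on with
  | H y =>
    simp only [out_mem h, fix_mk]
    split_ifs with m
    · rw [one_mul, ← (MulAut.conj y).toEquiv.sum_comp]
      refine Finset.sum_congr rfl fun x _ => ?_
      by_cases a : x ∈ K
      · simp [a, hc, mul_assoc, m, mul_mem m (mul_mem (h a) (inv_mem m)), ← hc y x]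
      · simp [a, mul_assoc]
    · simp [m]

theorem top_invJ {J : Set P.S} {w : W P} (m : WJ J w) (h : ∀ s ∈ J, ¬(gen P).len w < (gen P).len ((gen P).σ s * w)) :
    w⁻¹ = w := by
  refine top_uniqJ m.inv m (fun s hs => ?_) h
  obtain ⟨l, a, e, e'⟩ := ((WJ.σ hs).mul m.inv).red
  have := len_topJ h l a e
  rw [InvGen.Red, e'] at e
  simp only [InvGen.len_inv]; omega

open Classical in
theorem Spl.psi [Finite G] (h : Spl P p U) (e : ι → P.S) (J : Finset ι) {n : P.N} (hn : (n : G) ∈ Par (e '' J))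
    {V : Subgroup G} (le : V ≤ U) (hV : ∀ g ∈ Par (e '' J), ∀ v ∈ V, g * v * g⁻¹ ∈ V)
    (hu : ∀ u ∈ U, (n : G)⁻¹ * u * n ∈ P.B ↔ u ∈ V) {u : G} (m : u ∈ U) :
    ∑ K : Finset ι, (-1 : ℂ) ^ K.card * (if K ⊆ J then FF (Par (e '' K)) (Par (e '' J)) u else 0 : ℕ) =
      (if u ∈ V then V.relIndex U else 0 : ℕ) := by
  have c : ∀ x ∈ P.B ⊓ P.N, (n : G)⁻¹ * x * n ∈ P.B := fun x h => by simpa using P.conj_mem _ (inv_mem n.2) x h
  have t : ∀ s ∈ e '' J, ¬(gen P).len (mkW P n) < (gen P).len ((gen P).σ s * mkW P n) := fun s hs => top_ofJ fun x a b => by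
    obtain ⟨y, hy, z, hz, rfl⟩ := h.fac x a
    rw [← conj_mul]
    refine mul_mem (h.le (le (hV _ (mem_parabolic_of_mem ⟨s, hs, rfl⟩) _ ((hu y hy).1 ?_)))) (P.conj_mem _ (P.subset s.2) z hz)
    simpa [mul_assoc] using mul_mem b (inv_mem (c z hz))
  have w : WJ (e '' J) (mkW P n) := (InC.self n).cell_eq ▸ mem_Par.1 hn
  have c1 : ∀ x ∈ P.B, cq ((x * n : G) : G ⧸ P.B) = mkW P n := fun x h => by
    rw [cq_mk, cell_inv, cell_B' h, (InC.self n).cell_eq, top_invJ w t]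
  have key : ∀ y : G, y ∈ Par (e '' J) → (∀ i, ¬(i ∈ J ∧ (gen P).len (cq (y : G ⧸ P.B)) <
      (gen P).len ((gen P).σ (e i) * cq (y : G ⧸ P.B)))) → ∃ x ∈ U, ((x * n : G) : G ⧸ P.B) = y := fun y a b => by
    have e1 : cell P y⁻¹ = mkW P n := top_uniqJ (mem_Par.1 (inv_mem a)) w
      (by rintro _ ⟨i, hi, rfl⟩ k; exact b i ⟨hi, cq_mk y ▸ k⟩) t
    rw [cell_inv, inv_eq_iff_eq_inv, top_invJ w t, cell_eq_iff] at e1
    obtain ⟨b₁, h₁, b₂, h₂, rfl⟩ := e1.rep n rfl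
    obtain ⟨x, hx, z, hz, rfl⟩ := h.fac b₁ h₁
    exact ⟨x, hx, QuotientGroup.eq.2 (by simpa [mul_assoc] using mul_mem (c z hz) h₂)⟩
  rw [Finset.sum_congr rfl fun K _ => congrArg _ (congrArg Nat.cast (show _ = Nat.card {q : G ⧸ P.B //
    (q ∈ fixedBy (G ⧸ P.B) u ∧ q.out ∈ Par (e '' J)) ∧ ∀ i ∈ K, i ∈ J ∧
      (gen P).len (cq q) < (gen P).len ((gen P).σ (e i) * cq q)} from ?_)), alt_card, Nat.cast_inj]
  · split_ifs with v
    · refine card_ker (S := U) (g := fun x => (x : U ⧸ V.subgroupOf U)) (f := fun x => ⟨(x.1 * n : G), ⟨fix_mk.2 (by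
        simpa [mul_assoc] using (hu _ (x⁻¹ * ⟨u, m⟩ * x).2).2 (by simpa using hV _ (B_le _ (h.le (inv_mem x.2))) u v)),
        (out_mem (B_le _) _).2 (mul_mem (B_le _ (h.le x.2)) hn)⟩, fun i k => t _ ⟨i, k.1, rfl⟩ (c1 _ (h.le x.2) ▸ k.2)⟩)
        ?_ QuotientGroup.mk_surjective fun x y => ?_
      · rintro ⟨⟨y⟩, ⟨-, a⟩, b⟩
        obtain ⟨x, hx, e⟩ := key y ((out_mem (B_le _) y).1 a) b
        exact ⟨⟨x, hx⟩, Subtype.ext e⟩
      · simp only [Subtype.mk.injEq, QuotientGroup.eq, Subgroup.mem_subgroupOf, ← hu _ (x⁻¹ * y).2]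
        simp [mul_assoc]
    · refine Nat.card_eq_zero.2 (Or.inl ⟨?_⟩)
      rintro ⟨⟨y⟩, ⟨f, a⟩, b⟩
      obtain ⟨x, hx, e⟩ := key y ((out_mem (B_le _) y).1 a) b
      have := fix_mk.1 (show ((x * n : G) : G ⧸ P.B) ∈ _ by rw [e]; exact f)
      exact v (by simpa [mul_assoc] using hV x (B_le _ (h.le hx)) _ ((hu _ (mul_mem (mul_mem (inv_mem hx) m) hx)).1
        (by simpa [mul_assoc] using this)))
  · split_ifs with k
    · rw [FF_eq (h.le m) (parabolic_mono (Set.image_mono (Set.image_mono k)))]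
      exact Nat.card_congr (Equiv.subtypeEquivRight fun q => and_congr_right fun _ =>
        ⟨fun a i hi => ⟨k hi, a _ ⟨i, hi, rfl⟩⟩, fun a _ ⟨i, hi, e⟩ => e ▸ (a i hi).2⟩)
    · exact (Nat.card_eq_zero.2 (Or.inl ⟨fun q => k fun i hi => (q.2.2 i hi).1⟩)).symm

theorem alt_sup (K : Finset ι) : ∑ J : Finset ι, (-1 : ℂ) ^ J.card * (if K ⊆ J then 1 else 0) =
    if K = Finset.univ then (-1) ^ K.card else 0 := by
  have := congrArg (Int.cast (R := ℂ)) (Finset.sum_powerset_neg_one_pow_card (x := Kᶜ))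
  rw [show Kᶜ.powerset = Finset.univ.filter fun J : Finset ι => K ⊆ Jᶜ by
    ext; simp [Finset.subset_compl_comm], Finset.sum_filter] at this
  rw [← Equiv.sum_comp (Function.Involutive.toPerm compl compl_involutive), show (if K = Finset.univ then (-1 : ℂ) ^ K.card else 0) =
    (-1) ^ Fintype.card ι * (if Kᶜ = ∅ then 1 else 0 : ℤ) by split_ifs <;> simp_all, ← this, Int.cast_sum, Finset.mul_sum]
  refine Finset.sum_congr rfl fun J _ => ?_
  rw [← Finset.card_add_card_compl J, pow_add, mul_right_comm]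
  simp only [Function.Involutive.coe_toPerm]
  split_ifs <;> simp [← mul_pow, *]

theorem Spl.count [Finite G] [hp : Fact p.Prime] (h : Spl P p U) {e : ι → P.S} (he : Function.Surjective e)
    (hJ : ∀ J : Finset ι, ∃ n : P.N, (n : G) ∈ Par (e '' J) ∧ ∃ V ≤ U, (∀ g ∈ Par (e '' J), ∀ v ∈ V, g * v * g⁻¹ ∈ V) ∧
      ∀ u ∈ U, (n : G)⁻¹ * u * n ∈ P.B ↔ u ∈ V) {n : P.N} (hn : ∀ x ∈ P.B, (n : G)⁻¹ * x * n ∈ P.B → x ∈ P.N) :
    Nat.card {g : G // ∃ k : ℕ, orderOf g = p ^ k} = Nat.card U ^ 2 := by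
  classical
  haveI := Fintype.ofFinite G
  let c : G → Prop := fun g => ∃ k : ℕ, orderOf g = p ^ k
  have hc : ∀ g x, c (g * x * g⁻¹) ↔ c x := fun g x => by
    simp only [c, show orderOf (g * x * g⁻¹) = orderOf x from (MulAut.conj g).orderOf_eq x]
  obtain ⟨Q, rfl⟩ := h.sylow
  have e1 : ∀ J : Finset ι, ∑ K : Finset ι, (-1 : ℂ) ^ K.card * (if K ⊆ J then (Par (e '' K)).relIndex (Par (e '' J)) *
      Nat.card {x // c x ∧ x ∈ Par (e '' K)} else 0 : ℕ) = Nat.card Q := fun J => by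
    obtain ⟨n, hn, V, le, hV, hu⟩ := hJ J
    have l : (Q : Subgroup G) ≤ Par (e '' J) := h.le.trans (B_le _)
    rw [Finset.sum_congr rfl fun K _ => show _ = ∑ x with c x ∧ x ∈ Par (e '' J), (-1 : ℂ) ^ K.card *
      (if K ⊆ J then FF (Par (e '' K)) (Par (e '' J)) x else 0 : ℕ) from ?_, Finset.sum_comm,
      Finset.sum_congr rfl fun x m => show _ = ((if x ∈ V then V.relIndex Q else 0 : ℕ) : ℂ) from ?_, ← Nat.cast_sum,
      ← Finset.sum_filter, Finset.sum_const, smul_eq_mul, Nat.cast_inj, mul_comm, ← (V.subgroupOf Q).index_mul_card,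
      Nat.card_congr (Subgroup.subgroupOfEquivOfLe le).toEquiv, Nat.card_eq_fintype_card, Fintype.card_subtype]
    · refine congrArg₂ _ rfl (congrArg _ (Finset.ext fun x => ?_))
      simp only [Finset.mem_filter, Finset.mem_univ, true_and, and_iff_right_iff_imp]
      exact fun v => ⟨by simpa using IsPGroup.iff_orderOf.1 Q.isPGroup' ⟨x, le v⟩, l (le v)⟩
    · obtain ⟨⟨k, a⟩, b⟩ := (Finset.mem_filter.1 m).2
      obtain ⟨R, r⟩ := (IsPGroup.of_card (G := Subgroup.zpowers (⟨x, b⟩ : Par (e '' J)))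
        (by rw [Nat.card_zpowers, Subgroup.orderOf_mk, a])).exists_le_sylow
      obtain ⟨g, e2⟩ := exists_smul_eq (Par (e '' J)) R (Q.subtype l)
      have : g.1 * x * g.1⁻¹ ∈ (Q : Subgroup G) := by
        have := Subgroup.smul_mem_pointwise_smul _ (MulAut.conj g) _ (r (Subgroup.mem_zpowers _))
        rw [← Sylow.coe_subgroup_smul, e2] at this
        exact this
      rw [show (x ∈ V) = (g.1 * x * g.1⁻¹ ∈ V) from propext ⟨hV _ g.2 x, fun a => by
        simpa [mul_assoc] using hV _ (inv_mem g.2) _ a⟩, ← h.psi e J hn le hV hu this]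
      refine Finset.sum_congr rfl fun K _ => ?_
      split_ifs with k
      · rw [FF_conj (parabolic_mono (Set.image_mono (Set.image_mono k))) g.2]
      · rfl
    · rw [← Finset.mul_sum, ← Nat.cast_sum]
      split_ifs with k
      · rw [← sum_FF (parabolic_mono (Set.image_mono (Set.image_mono k))) hc]
      · simp
  have e2 := St_one he hn
  rw [h.relIndex] at e2
  refine Nat.cast_injective (R := ℂ) (Eq.symm ?_)
  calc _ = ∑ J : Finset ι, (-1 : ℂ) ^ J.card * ((Par (e '' J)).index * Nat.card Q) := by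
        rw [Nat.cast_pow, sq]; nth_rw 1 [← e2]
        simp [St, fixedPointCharacter, Finset.sum_mul, mul_assoc, Subgroup.index]
    _ = ∑ K : Finset ι, (-1 : ℂ) ^ K.card * ((Par (e '' K)).index * Nat.card {x // c x ∧ x ∈ Par (e '' K)}) *
        ∑ J : Finset ι, (-1 : ℂ) ^ J.card * (if K ⊆ J then 1 else 0) := by
        simp only [Finset.mul_sum]
        rw [Finset.sum_comm]
        refine Finset.sum_congr rfl fun J _ => ?_
        rw [← e1 J, Finset.mul_sum, Finset.mul_sum]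
        refine Finset.sum_congr rfl fun K _ => ?_
        split_ifs with k
        · rw [← Subgroup.relIndex_mul_index (parabolic_mono (Set.image_mono (Set.image_mono k)) :
            Par (e '' K) ≤ Par (e '' J))]
          push_cast; ring
        · simp
    _ = _ := by
        have : Par (e '' (Finset.univ : Finset ι)) = ⊤ := by
          rw [Par, Finset.coe_univ, Set.image_univ, he.range_eq, Set.image_univ, Subtype.range_coe, parabolic_S]
        simp only [alt_sup]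
        simp only [mul_ite, mul_zero, Finset.sum_ite_eq', Finset.mem_univ, if_true, this]
        rw [mul_right_comm, ← mul_pow]
        simp [c]

end SB
end H5
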