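import Cfsg.Agent.H5.SB6
import Cfsg.Agent.H5.GL2
import Cfsg.Agent.H3.Perm
import Cfsg.Agent.S0244

/-! Characters of defect zero and full Sylow degree: transport lemmas. -/

set_option autoImplicit false

namespace H5
namespace SB

open Cfsg H3 Matrix

variable {G H : Type*} [Group G] [Group H] [Finite G] [Finite H] {p : ℕ} [hp : Fact p.Prime]

/-- an irreducible character whose degree is the `p`-part of the order -/
def DZ (p : ℕ) (G : Type*) [Group G] : Prop :=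
  ∃ χ : G → ℂ, IsIrrCharacter G χ ∧ χ 1 = (p ^ (Nat.card G).factorization p : ℕ)

theorem DZ.of (h : ∃ χ : G → ℂ, IsIrrCharacter G χ ∧
    ∀ Q : Sylow p G, χ 1 = Nat.card Q ∧ ∀ x : G, x ∈ Q → x ≠ 1 → χ x = 0) : DZ p G :=
  let ⟨χ, a, b⟩ := h
  ⟨χ, a, by rw [(b default).1, Sylow.card_eq_multiplicity]⟩

theorem DZ.fin (h : DZ p G) : ∃ χ : G → ℂ, IsIrrCharacter G χ ∧
    ∀ Q : Sylow p G, χ 1 = Nat.card Q ∧ ∀ x : G, x ∈ Q → x ≠ 1 → χ x = 0 := by
  obtain ⟨χ, a, b⟩ := h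
  refine ⟨χ, a, fun Q => ⟨by rw [b, Q.card_eq_multiplicity], fun x m z =>
    H3.Cfsg.IsIrrCharacter.eq_zero_of_defect_zero a (Nat.Coprime.pow_left _ (Nat.coprime_ordCompl hp.out Nat.card_pos.ne'))
      (Nat.ordProj_mul_ordCompl_eq_self _ p).symm b dvd_rfl fun d => Nat.not_dvd_ordCompl hp.out Nat.card_pos.ne'
        (Dvd.dvd.trans ?_ d)⟩⟩
  obtain ⟨k, e⟩ := IsPGroup.iff_orderOf.1 Q.isPGroup' ⟨x, m⟩
  rw [Subgroup.orderOf_mk] at e
  exact e ▸ dvd_pow_self p fun k0 => z (orderOf_eq_one_iff.1 (by simpa [k0] using e))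

omit [Finite G] [Finite H] hp in
theorem DZ.equiv (h : DZ p G) (e : H ≃* G) : DZ p H :=
  let ⟨_, a, b⟩ := h
  ⟨_, H3.Cfsg.IsIrrCharacter.comp_equiv a e, by rw [map_one, b, Nat.card_congr e.toEquiv]⟩

omit hp in
theorem DZ.prod (h : DZ p G) (h' : DZ p H) : DZ p (G × H) :=
  let ⟨_, a, b⟩ := h
  let ⟨_, a', b'⟩ := h'
  ⟨_, H3.Cfsg.IsIrrCharacter.prod a a', by
    rw [Prod.fst_one, Prod.snd_one, b, b', Nat.card_prod, Nat.factorization_mul Nat.card_pos.ne' Nat.card_pos.ne']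
    simp [pow_add]⟩

omit [Finite G] hp in
theorem DZ.triv (h : ¬p ∣ Nat.card G) : DZ p G :=
  ⟨_, isIrrCharacter_one, by simp [Nat.factorization_eq_zero_of_not_dvd h]⟩

theorem dz_sys {D : Gen.RS} {F : Type*} [Field F] [Gen.Rep D F] [Gen.Conn D] [Finite F] [CharP F p] (S : Gen.StSys D F G)
    (hS : S.U Set.univ = ⊤) : DZ p G := .of (Gen.SBx.ex_st S hS p)

theorem dz_psl (F : Type*) [Field F] [Finite F] [CharP F p] (n : ℕ) [NeZero n] :
    DZ p (ProjectiveSpecialLinearGroup (Fin (n + 1)) F) := dz_sys (Gen.sysPSL n F) Gen.adjPSL.top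

/-- `Sp₂ = SL₂` -/
noncomputable def sp2 (F : Type*) [Field F] : symplecticGroup (Fin 1) F ≃* SpecialLinearGroup (Fin 2) F where
  toFun g := ⟨reindex (finSumFinEquiv (m := 1) (n := 1)) finSumFinEquiv g.1, by
    rw [det_reindex_self]; exact (Cfsg.Agent.S0244.result _).1 g.2⟩
  invFun g := ⟨reindex (finSumFinEquiv (m := 1) (n := 1)).symm finSumFinEquiv.symm g.1,
    (Cfsg.Agent.S0244.result _).2 (by rw [det_reindex_self]; exact g.2)⟩
  left_inv g := Subtype.ext (by simp)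
  right_inv g := Subtype.ext (by simp)
  map_mul' a b := Subtype.ext (submatrix_mul_equiv a.1 b.1 _ (finSumFinEquiv (m := 1) (n := 1)).symm _).symm

end SB
end H5
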