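import Cfsg.Prelude.Def_LieExceptional
import Cfsg.Prelude.Def_Sz

/-! Suzuki groups: matrix level computations. -/

namespace H5.Sz
open Matrix Cfsg.Lie

variable {F : Type*} [Field F]

abbrev M4 (F : Type*) := Matrix (Fin 4) (Fin 4) F

abbrev JM (F : Type*) [Field F] : M4 F := Cfsg.suzukiForm F

def Cond (θ : F →+* F) (M : M4 F) : Prop := Mᵀ * JM F * M = JM F ∧ star4 M = M.map θ

def NN (θ : F →+* F) (x y : F) : F := x * y + θ x * x ^ 2 + θ y

def uM (θ : F →+* F) (a b : F) : M4 F :=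
  !![1, a, b + θ a * a, NN θ a b; 0, 1, θ a, b; 0, 0, 1, a; 0, 0, 0, 1]

def hM (θ : F →+* F) (k : F) : M4 F :=
  !![θ k * k, 0, 0, 0; 0, k, 0, 0; 0, 0, k⁻¹, 0; 0, 0, 0, (θ k * k)⁻¹]

def vec (θ : F →+* F) : Option (F × F) → Fin 4 → F
  | none => ![1, 0, 0, 0]
  | some p => ![NN θ p.1 p.2, p.2, p.1, 1]

def Pres (θ : F →+* F) (M : M4 F) : Prop :=
  ∀ ω, ∃ ω', ∃ c : F, c ≠ 0 ∧ M *ᵥ vec θ ω = c • vec θ ω'

theorem J_mul_J : JM F * JM F = 1 := by
  ext i j
  fin_cases i <;> fin_cases j <;> simp [Cfsg.suzukiForm, Matrix.mul_apply, Fin.sum_univ_four]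

theorem J_transpose : (JM F)ᵀ = JM F := by
  ext i j
  fin_cases i <;> fin_cases j <;> simp [Cfsg.suzukiForm]

theorem det_J : (JM F).det = 1 := by
  simp [Cfsg.suzukiForm, Matrix.det_succ_row_zero, Fin.sum_univ_succ, Fin.succAbove]
  norm_num

theorem row_of_col {M : M4 F} (h : Mᵀ * JM F * M = JM F) : M * JM F * Mᵀ = JM F := by
  have h1 : (JM F * Mᵀ * JM F) * M = 1 := by
    rw [mul_assoc (JM F), mul_assoc (JM F), h, J_mul_J]
  have h2 : M * (JM F * Mᵀ * JM F) = 1 := mul_eq_one_comm.1 h1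
  have h3 : M * JM F * Mᵀ * (JM F * JM F) = JM F := by
    have := congrArg (· * JM F) h2
    simpa [mul_assoc] using this
  rwa [J_mul_J, mul_one] at h3

theorem col_entry {M : M4 F} (h : Mᵀ * JM F * M = JM F) (i j : Fin 4) :
    M 0 i * M 3 j + M 1 i * M 2 j + M 2 i * M 1 j + M 3 i * M 0 j = JM F i j := by
  have := congrFun (congrFun h i) j
  rw [← this]
  simp [Cfsg.suzukiForm, Matrix.mul_apply, Fin.sum_univ_four, Matrix.vecMul, dotProduct]
  ring

theorem row_entry {M : M4 F} (h : M * JM F * Mᵀ = JM F) (i j : Fin 4) :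
    M i 0 * M j 3 + M i 1 * M j 2 + M i 2 * M j 1 + M i 3 * M j 0 = JM F i j := by
  have := congrFun (congrFun h i) j
  rw [← this]
  simp [Cfsg.suzukiForm, Matrix.mul_apply, Fin.sum_univ_four, Matrix.vecMul, dotProduct]
  ring

theorem J_pair (p : Fin 4) : JM F (pairOf p).1 (pairOf p).2 = 0 := by
  fin_cases p <;> simp [Cfsg.suzukiForm, pairOf]

theorem vec_ne_zero (θ : F →+* F) (ω : Option (F × F)) : vec θ ω ≠ 0 := by
  intro h
  cases ω with
  | none => simpa [vec] using congrFun h 0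
  | some p => simpa [vec] using congrFun h 3

theorem vec_inj (θ : F →+* F) {ω ω' : Option (F × F)} {c c' : F} (hc : c ≠ 0)
    (h : c • vec θ ω = c' • vec θ ω') : ω = ω' := by
  have h0 := congrFun h 0
  have h1 := congrFun h 1
  have h2 := congrFun h 2
  have h3 := congrFun h 3
  rcases ω with _ | ⟨x, y⟩ <;> rcases ω' with _ | ⟨x', y'⟩ <;> simp [vec] at h0 h1 h2 h3 ⊢
  · subst h3; simp at h0; exact hc h0
  · exact hc h3
  · subst h3
    exact ⟨mul_left_cancel₀ hc h2, mul_left_cancel₀ hc h1⟩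

theorem Pres.mul {θ : F →+* F} {A B : M4 F} (hA : Pres θ A) (hB : Pres θ B) : Pres θ (A * B) := by
  intro ω
  obtain ⟨ω1, c1, hc1, h1⟩ := hB ω
  obtain ⟨ω2, c2, hc2, h2⟩ := hA ω1
  refine ⟨ω2, c1 * c2, mul_ne_zero hc1 hc2, ?_⟩
  rw [← Matrix.mulVec_mulVec, h1, Matrix.mulVec_smul, h2, smul_smul]

variable [CharP F 2]

theorem minor_mul (A B : M4 F) (k l i j : Fin 4)
    (hA : A k 0 * A l 3 + A k 1 * A l 2 + A k 2 * A l 1 + A k 3 * A l 0 = 0)
    (hB : B 0 i * B 3 j + B 1 i * B 2 j + B 2 i * B 1 j + B 3 i * B 0 j = 0) :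
    (A * B) k i * (A * B) l j - (A * B) l i * (A * B) k j =
      ∑ s : Fin 4, (A k (pairOf s).1 * A l (pairOf s).2 - A l (pairOf s).1 * A k (pairOf s).2) *
        (B (pairOf s).1 i * B (pairOf s).2 j - B (pairOf s).2 i * B (pairOf s).1 j) := by
  simp only [Matrix.mul_apply, Fin.sum_univ_four, pairOf, Matrix.cons_val_zero, Matrix.cons_val_one,
    Matrix.cons_val]
  have h2 : (2 : F) = 0 := CharTwo.two_eq_zero
  linear_combination (B 0 i * B 3 j - B 3 i * B 0 j) * hA + (A k 1 * A l 2 - A l 1 * A k 2) * hB -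
    ((A k 3 * A l 0 + A k 2 * A l 1) * (B 0 i * B 3 j - B 3 i * B 0 j) +
      (A k 1 * A l 2 - A l 1 * A k 2) * (B 0 i * B 3 j + B 2 i * B 1 j)) * h2

theorem star4_mul {A B : M4 F} (hA : A * JM F * Aᵀ = JM F) (hB : Bᵀ * JM F * B = JM F) :
    star4 (A * B) = star4 A * star4 B := by
  ext p r
  rw [Matrix.mul_apply]
  simp only [star4, Matrix.of_apply]
  exact minor_mul A B _ _ _ _ (by rw [row_entry hA, J_pair]) (by rw [col_entry hB, J_pair])

omit [CharP F 2] in
theorem star4_one : star4 (1 : M4 F) = 1 := by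
  ext i j
  simp only [star4, Matrix.of_apply, Matrix.one_apply, pairOf]
  fin_cases i <;> fin_cases j <;> simp

theorem Cond.mul {θ : F →+* F} {A B : M4 F} (hA : Cond θ A) (hB : Cond θ B) : Cond θ (A * B) := by
  refine ⟨?_, ?_⟩
  · rw [transpose_mul]
    calc Bᵀ * Aᵀ * JM F * (A * B) = Bᵀ * (Aᵀ * JM F * A) * B := by simp only [mul_assoc]
      _ = JM F := by rw [hA.1, hB.1]
  · rw [star4_mul (row_of_col hA.1) hB.1, hA.2, hB.2, Matrix.map_mul]

omit [CharP F 2] in
theorem Cond.one (θ : F →+* F) : Cond θ (1 : M4 F) :=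
  ⟨by simp, by rw [star4_one, Matrix.map_one _ (map_zero θ) (map_one θ)]⟩

theorem Cond.det {θ : F →+* F} {A : M4 F} (hA : Cond θ A) : A.det = 1 := by
  have := congrArg Matrix.det hA.1
  simp only [det_mul, det_transpose, det_J] at this
  grind

theorem Cond.inv {θ : F →+* F} {A B : M4 F} (hA : Cond θ A) (hAB : B * A = 1) : Cond θ B := by
  have hBA : A * B = 1 := mul_eq_one_comm.1 hAB
  have h1 : Bᵀ * JM F * B = JM F := by
    calc Bᵀ * JM F * B = Bᵀ * (Aᵀ * JM F * A) * B := by rw [hA.1]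
      _ = (A * B)ᵀ * JM F * (A * B) := by rw [transpose_mul]; simp only [mul_assoc]
      _ = JM F := by rw [hBA]; simp
  refine ⟨h1, ?_⟩
  have h2 : star4 B * A.map θ = 1 := by
    rw [← hA.2, ← star4_mul (row_of_col h1) hA.1, hAB, star4_one]
  have h3 : A.map θ * B.map θ = 1 := by
    rw [← Matrix.map_mul, hBA, Matrix.map_one _ (map_zero θ) (map_one θ)]
  calc star4 B = star4 B * (A.map θ * B.map θ) := by rw [h3, mul_one]
    _ = B.map θ := by rw [← mul_assoc, h2, one_mul]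

section
variable {θ : F →+* F} (hθ : ∀ x, θ (θ x) = x ^ 2)
include hθ

theorem cond_u (a b : F) : Cond θ (uM θ a b) := by
  refine ⟨?_, ?_⟩
  · ext i j
    fin_cases i <;> fin_cases j <;>
      simp [uM, NN, Cfsg.suzukiForm, Matrix.mul_apply, Fin.sum_univ_four, Matrix.vecMul, dotProduct] <;>
      grind
  · ext i j
    fin_cases i <;> fin_cases j <;> simp [uM, NN, star4, pairOf, hθ] <;> grind

omit [CharP F 2] in
theorem cond_h {k : F} (hk : k ≠ 0) : Cond θ (hM θ k) := by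
  have hk' : θ k ≠ 0 := (map_ne_zero θ).2 hk
  refine ⟨?_, ?_⟩
  · ext i j
    fin_cases i <;> fin_cases j <;>
      simp [hM, Cfsg.suzukiForm, Matrix.mul_apply, Fin.sum_univ_four, Matrix.vecMul, dotProduct, hk] <;>
      field_simp
  · ext i j
    fin_cases i <;> fin_cases j <;> simp [hM, star4, pairOf, hθ] <;> field_simp

omit hθ in
theorem cond_J (θ : F →+* F) : Cond θ (JM F) := by
  refine ⟨by rw [J_transpose, J_mul_J, one_mul], ?_⟩
  ext i j
  fin_cases i <;> fin_cases j <;> simp [Cfsg.suzukiForm, star4, pairOf] <;> grind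

theorem uM_mul (a b c d : F) : uM θ a b * uM θ c d = uM θ (a + c) (b + d + θ a * c) := by
  ext i j
  fin_cases i <;> fin_cases j <;> simp [uM, NN, Matrix.mul_apply, Fin.sum_univ_four, hθ] <;> grind

omit [CharP F 2] in
theorem hM_uM {k : F} (hk : k ≠ 0) (a b : F) :
    hM θ k * uM θ a b = uM θ (θ k * a) (θ k * k ^ 2 * b) * hM θ k := by
  have hk' : θ k ≠ 0 := (map_ne_zero θ).2 hk
  ext i j
  fin_cases i <;> fin_cases j <;> simp [uM, hM, NN, Matrix.mul_apply, Fin.sum_univ_four, hθ] <;>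
    field_simp

theorem NN_id (x y : F) : x * y * θ (NN θ x y) + θ y * y ^ 2 + θ x * NN θ x y ^ 2 =
    θ (NN θ x y) * NN θ x y := by
  simp only [NN, map_add, map_mul, map_pow, hθ]
  grind

theorem NN_eq_zero {x y : F} (h : NN θ x y = 0) : x = 0 ∧ y = 0 := by
  have h1 := NN_id hθ x y
  rw [h] at h1
  have hy : y = 0 := by
    simp at h1
    tauto
  subst hy
  simp [NN] at h
  exact ⟨by tauto, rfl⟩

theorem NN_w {x y : F} (h : NN θ x y ≠ 0) :
    NN θ (y / NN θ x y) (x / NN θ x y) = (NN θ x y)⁻¹ := by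
  have h1 := NN_id hθ x y
  have h2 : θ (NN θ x y) ≠ 0 := (map_ne_zero θ).2 h
  generalize NN θ x y = n at h h1 h2
  simp only [NN, map_div₀]
  field_simp
  linear_combination h1

theorem uM_vec (a b x y : F) :
    uM θ a b *ᵥ vec θ (some (x, y)) = vec θ (some (x + a, y + b + θ a * x)) := by
  ext i
  fin_cases i <;> simp [uM, vec, NN, Matrix.mulVec, dotProduct, Fin.sum_univ_four, hθ] <;> grind

omit hθ [CharP F 2] in
theorem uM_vec_none (a b : F) : uM θ a b *ᵥ vec θ none = vec θ none := by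
  ext i
  fin_cases i <;> simp [uM, vec, Matrix.mulVec, dotProduct, Fin.sum_univ_four]

omit [CharP F 2] in
theorem hM_vec {k : F} (hk : k ≠ 0) (x y : F) :
    hM θ k *ᵥ vec θ (some (x, y)) = (θ k * k)⁻¹ • vec θ (some (θ k * x, θ k * k ^ 2 * y)) := by
  have hk' : θ k ≠ 0 := (map_ne_zero θ).2 hk
  ext i
  fin_cases i <;> simp [hM, vec, NN, Matrix.mulVec, dotProduct, Fin.sum_univ_four, hθ] <;> field_simp

omit hθ [CharP F 2] in
theorem hM_vec_none (k : F) : hM θ k *ᵥ vec θ none = (θ k * k) • vec θ none := by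
  ext i
  fin_cases i <;> simp [hM, vec, Matrix.mulVec, dotProduct, Fin.sum_univ_four]

omit hθ [CharP F 2] in
theorem J_vec_none : JM F *ᵥ vec θ none = vec θ (some (0, 0)) := by
  ext i
  fin_cases i <;> simp [Cfsg.suzukiForm, vec, NN, Matrix.mulVec, dotProduct, Fin.sum_univ_four]

omit hθ [CharP F 2] in
theorem J_vec_zero : JM F *ᵥ vec θ (some (0, 0)) = vec θ none := by
  ext i
  fin_cases i <;> simp [Cfsg.suzukiForm, vec, NN, Matrix.mulVec, dotProduct, Fin.sum_univ_four]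

theorem J_vec {x y : F} (h : NN θ x y ≠ 0) :
    JM F *ᵥ vec θ (some (x, y)) = NN θ x y • vec θ (some (y / NN θ x y, x / NN θ x y)) := by
  ext i
  fin_cases i <;>
    simp [Cfsg.suzukiForm, vec, NN_w hθ h, Matrix.mulVec, dotProduct, Fin.sum_univ_four] <;> field_simp

omit hθ in
theorem Cond.col0 {M : M4 F} (hM : Cond θ M) :
    ∃ ω, ∃ c : F, c ≠ 0 ∧ M *ᵥ vec θ none = c • vec θ ω := by
  have e0 := congrFun (congrFun hM.2 0) 0
  have e1 := congrFun (congrFun hM.2 1) 0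
  have e2 := congrFun (congrFun hM.2 2) 0
  have e3 := congrFun (congrFun hM.2 3) 0
  have e4 := col_entry hM.1 0 1
  have e5 := col_entry hM.1 0 3
  simp [star4, pairOf, Cfsg.suzukiForm] at e0 e1 e2 e3 e4 e5
  have hv : M *ᵥ vec θ none = ![M 0 0, M 1 0, M 2 0, M 3 0] := by
    ext i
    fin_cases i <;> simp [vec, Matrix.mulVec, dotProduct, Fin.sum_univ_four]
  rw [hv]
  generalize M 0 0 = p0 at *
  generalize M 1 0 = p1 at *
  generalize M 2 0 = p2 at *
  generalize M 3 0 = p3 at *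
  by_cases h3 : p3 = 0
  · subst h3
    rw [map_zero] at e3
    have h2 : p2 = 0 := by
      have : p2 * θ p2 = 0 := by grind
      rcases mul_eq_zero.1 this with h | h
      · exact h
      · exact (map_eq_zero θ).1 h
    subst h2
    rw [map_zero] at e2
    have h1 : p1 = 0 := by
      have : p1 * (p1 * θ p1) = 0 := by grind
      simpa using this
    subst h1
    refine ⟨none, p0, ?_, ?_⟩
    · rintro rfl
      simp at e5
    · ext i
      fin_cases i <;> simp [vec]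
  · refine ⟨some (p2 / p3, p1 / p3), p3, h3, ?_⟩
    have h3' : θ p3 ≠ 0 := (map_ne_zero θ).2 h3
    ext i
    fin_cases i <;> simp [vec, NN] <;> field_simp
    grind

theorem exists_cond_vec (ω : Option (F × F)) : ∃ K, Cond θ K ∧ K *ᵥ vec θ none = vec θ ω := by
  rcases ω with _ | ⟨x, y⟩
  · exact ⟨1, Cond.one θ, by simp⟩
  · refine ⟨uM θ x y * JM F, (cond_u hθ x y).mul (cond_J θ), ?_⟩
    rw [← Matrix.mulVec_mulVec, J_vec_none, uM_vec hθ]
    simp

theorem Cond.pres {M : M4 F} (hM : Cond θ M) : Pres θ M := by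
  intro ω
  obtain ⟨K, hK, h⟩ := exists_cond_vec hθ ω
  rw [← h, Matrix.mulVec_mulVec]
  exact (hM.mul hK).col0

omit hθ [CharP F 2] in
theorem row3_of_pres {M : M4 F} (hP : Pres θ M) (hdet : M.det = 1) {c : F}
    (h0 : M *ᵥ vec θ none = c • vec θ none) {c' : F}
    (h3 : M *ᵥ vec θ (some (0, 0)) = c' • vec θ (some (0, 0))) : M 3 1 = 0 ∧ M 3 2 = 0 := by
  have hinj : Function.Injective M.mulVec :=
    Matrix.mulVec_injective_iff_isUnit.2 ((Matrix.isUnit_iff_isUnit_det M).2 (by simp [hdet]))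
  have hc : c ≠ 0 := by
    rintro rfl
    exact vec_ne_zero θ none (hinj (by simpa using h0))
  have h30 : M 3 0 = 0 := by
    simpa [vec, Matrix.mulVec, dotProduct, Fin.sum_univ_four] using congrFun h0 3
  have key : ∀ x y : F, M 3 1 * y + M 3 2 * x + M 3 3 ≠ 0 := by
    intro x y hxy
    obtain ⟨ω, d, hd, h⟩ := hP (some (x, y))
    have h4 := congrFun h 3
    simp [vec, Matrix.mulVec, dotProduct, Fin.sum_univ_four, h30, hxy] at h4
    rcases ω with _ | ⟨x', y'⟩
    · have : M *ᵥ (c • vec θ (some (x, y))) = M *ᵥ (d • vec θ none) := by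
        rw [Matrix.mulVec_smul, Matrix.mulVec_smul, h, h0, smul_comm]
      have := vec_inj θ hc (hinj this)
      simp at this
    · simp [hd] at h4
  constructor
  · by_contra h
    exact key 0 (-M 3 3 / M 3 1) (by field_simp; ring)
  · by_contra h
    exact key (-M 3 3 / M 3 2) 0 (by field_simp; ring)

theorem diag_of_fix (hbig : ∃ x, θ x ≠ x ^ 2) (hs : Function.Surjective θ) {M : M4 F}
    (hP : Pres θ M) (hdet : M.det = 1) {c : F}
    (h0 : M *ᵥ vec θ none = c • vec θ none) {c' : F}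
    (h3 : M *ᵥ vec θ (some (0, 0)) = c' • vec θ (some (0, 0))) : ∃ k, k ≠ 0 ∧ M = hM θ k := by
  obtain ⟨h31, h32⟩ := row3_of_pres hP hdet h0 h3
  have hJ := (cond_J θ).pres hθ
  have hM' := row3_of_pres (M := JM F * M * JM F) (c := c') (c' := c) ((hJ.mul hP).mul hJ)
    (by simp [det_J, hdet])
    (by rw [← Matrix.mulVec_mulVec, ← Matrix.mulVec_mulVec, J_vec_none, h3, Matrix.mulVec_smul, J_vec_zero])
    (by rw [← Matrix.mulVec_mulVec, ← Matrix.mulVec_mulVec, J_vec_zero, h0, Matrix.mulVec_smul, J_vec_none])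
  simp [Cfsg.suzukiForm, Matrix.mul_apply, Fin.sum_univ_four, Matrix.vecMul, dotProduct] at hM'
  obtain ⟨h02, h01⟩ := hM'
  have a1 := congrFun h0 1
  have a2 := congrFun h0 2
  have a3 := congrFun h0 3
  have b0 := congrFun h3 0
  have b1 := congrFun h3 1
  have b2 := congrFun h3 2
  simp [vec, NN, Matrix.mulVec, dotProduct, Fin.sum_univ_four] at a1 a2 a3 b0 b1 b2
  have hd : M 0 0 * (M 1 1 * M 2 2 - M 1 2 * M 2 1) * M 3 3 = 1 := by
    rw [← hdet]
    simp [Matrix.det_succ_row_zero, Fin.sum_univ_succ, Fin.succAbove, a1, a2, a3, b0, b1, b2, h01, h02,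
      h31, h32]
    ring
  have h33 : M 3 3 ≠ 0 := by
    intro h
    simp [h] at hd
  have key : ∀ x y : F, M 0 0 / M 3 3 * NN θ x y =
      NN θ (M 2 1 / M 3 3 * y + M 2 2 / M 3 3 * x) (M 1 1 / M 3 3 * y + M 1 2 / M 3 3 * x) := by
    intro x y
    obtain ⟨ω, d, hd, h⟩ := hP (some (x, y))
    have c0 := congrFun h 0
    have c1 := congrFun h 1
    have c2 := congrFun h 2
    have c3 := congrFun h 3
    rcases ω with _ | ⟨x', y'⟩
    · simp [vec, Matrix.mulVec, dotProduct, Fin.sum_univ_four, *] at c3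
    · simp [vec, Matrix.mulVec, dotProduct, Fin.sum_univ_four, a1, a2, a3, b0, b1, b2, h01, h02, h31,
        h32] at c0 c1 c2 c3
      subst c3
      have hx : M 2 1 / M 3 3 * y + M 2 2 / M 3 3 * x = x' := by field_simp; linear_combination c2
      have hy : M 1 1 / M 3 3 * y + M 1 2 / M 3 3 * x = y' := by field_simp; linear_combination c1
      rw [hx, hy]
      field_simp
      linear_combination c0
  obtain ⟨d, hd0⟩ : ∃ d, d = M 0 0 / M 3 3 := ⟨_, rfl⟩
  obtain ⟨α, hα⟩ : ∃ d, d = M 1 1 / M 3 3 := ⟨_, rfl⟩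
  obtain ⟨β, hβ⟩ : ∃ d, d = M 1 2 / M 3 3 := ⟨_, rfl⟩
  obtain ⟨γ, hγ⟩ : ∃ d, d = M 2 1 / M 3 3 := ⟨_, rfl⟩
  obtain ⟨δ, hδ⟩ : ∃ d, d = M 2 2 / M 3 3 := ⟨_, rfl⟩
  rw [← hd0, ← hα, ← hβ, ← hγ, ← hδ] at key
  obtain ⟨x, hx⟩ := hbig
  have hx' : θ x + x ^ 2 ≠ 0 := by
    intro h
    apply hx
    grind
  have k1 := key x 0
  have k2 := key 1 0
  have k3 := key (x + 1) 0
  have l1 := key 0 x
  have l2 := key 0 1
  have l3 := key 0 (x + 1)
  have m1 := key 1 1
  simp only [NN, map_add, map_mul, map_one, map_zero, mul_zero, zero_add, add_zero, mul_one] at k1 k2 k3 l1 l2 l3 m1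
  have r1 : (d + θ δ * δ ^ 2) * (θ x + x ^ 2) = 0 := by grind
  have r1' : d = θ δ * δ ^ 2 := by
    have := (mul_eq_zero.1 r1).resolve_right hx'
    grind
  have r2 : θ β * (θ x + x ^ 2) = 0 := by grind
  have r2' : β = 0 := (map_eq_zero θ).1 ((mul_eq_zero.1 r2).resolve_right hx')
  have r3 : (θ γ * γ ^ 2) * (θ x + x ^ 2) = 0 := by grind
  have r3' : γ = 0 := by
    have := (mul_eq_zero.1 r3).resolve_right hx'
    simpa using this
  subst r2' r3'
  have h12 : M 1 2 = 0 := by simpa [h33] using hβ.symm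
  have h21 : M 2 1 = 0 := by simpa [h33] using hγ.symm
  simp only [map_zero, mul_zero, zero_mul, zero_add, add_zero, one_pow, mul_one] at k2 l2 m1
  have hδ0 : δ ≠ 0 := by
    rintro rfl
    have : M 2 2 = 0 := by simpa [h33] using hδ.symm
    simp [this, h12] at hd
  have r4 : α = θ δ * δ := by
    apply mul_left_cancel₀ hδ0
    grind
  obtain ⟨k, rfl⟩ := hs δ
  have hk : k ≠ 0 := by
    rintro rfl
    simp at hδ0
  rw [hθ] at r1' r4
  have e0 : M 0 0 = d * M 3 3 := by rw [hd0]; field_simp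
  have e1 : M 1 1 = α * M 3 3 := by rw [hα]; field_simp
  have e2 : M 2 2 = θ k * M 3 3 := by rw [hδ]; field_simp
  have e3 : M 3 3 * (θ k * k) = 1 := by
    rw [e0, e1, e2, r1', r4, h12] at hd
    have : (M 3 3 * (θ k * k) + 1) ^ 4 = 0 := by grind
    have := pow_eq_zero_iff (by norm_num) |>.1 this
    grind
  have e3' : M 3 3 = (θ k * k)⁻¹ := eq_inv_of_mul_eq_one_left e3
  refine ⟨k, hk, ?_⟩
  ext i j
  have hk' : θ k ≠ 0 := hδ0
  fin_cases i <;> fin_cases j <;>
    simp [hM, a1, a2, a3, b0, b1, b2, h01, h02, h31, h32, h12, h21, e0, e1, e2, e3', r1', r4] <;>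
    field_simp

end

end H5.Sz
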