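import Cfsg.Agent.H5.SZ9

/-! Suzuki groups: subfield subgroups and non-solvable subgroups. -/

namespace H5.Sz
open scoped Pointwise
open Polynomial

theorem subfield_pow {F : Type*} [Field F] [Finite F] (K : Subfield F) {x : F} (hx : x ∈ K) :
    x ^ Nat.card K = x := by
  letI := Fintype.ofFinite K
  have := congrArg Subtype.val (FiniteField.pow_card (⟨x, hx⟩ : K))
  rwa [← Nat.card_eq_fintype_card] at this

theorem subfield_eq_of_card {F : Type*} [Field F] [Finite F] {K L : Subfield F}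
    (h : Nat.card K = Nat.card L) : K = L := by
  classical
  have h1 : 1 < Nat.card L := Finite.one_lt_card
  have key : ∀ K : Subfield F, Nat.card K = Nat.card L →
      (K : Set F) = (X ^ Nat.card L - X : F[X]).roots.toFinset := by
    intro K hK
    refine Set.eq_of_subset_of_ncard_le ?_ ?_ (Set.toFinite _)
    · intro x hx
      have := subfield_pow K hx
      rw [hK] at this
      simp [FiniteField.X_pow_card_sub_X_ne_zero F h1, this]
    · rw [Set.ncard_coe_finset, ← Nat.card_coe_set_eq]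
      calc _ ≤ _ := Multiset.toFinset_card_le _
        _ ≤ _ := card_roots' _
        _ = Nat.card L := FiniteField.X_pow_card_sub_X_natDegree_eq F h1
        _ = _ := hK.symm
  exact SetLike.ext' ((key K h).trans (key L rfl).symm)

namespace SzS
variable {F : Type*} [Field F] [Fintype F] {m : ℕ} {G : Type*} [Group G] (S : SzS F m G)

theorem θ_mem {K : Subfield F} {x : F} (h : x ∈ K) : S.θ x ∈ K := by
  rw [S.hθ]; exact K.pow_mem h _

theorem mem_of_θ_mem {K : Subfield F} {x : F} (h : S.θ x ∈ K) : x ∈ K := by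
  have h1 := S.θ_mem h
  rw [θθ] at h1
  have := K.pow_mem h1 (2 ^ (2 * m))
  rwa [← pow_mul, ← pow_succ', ← S.hF, FiniteField.pow_card] at this

theorem mem_of_θ_mul_mem {K : Subfield F} {x : F} (h : x * S.θ x ∈ K) : x ∈ K := by
  by_cases hx : x = 0
  · simp [hx]
  have h1 := S.θ_mem h
  rw [map_mul, θθ] at h1
  have := K.div_mem h1 h
  rwa [show S.θ x * x ^ 2 / (x * S.θ x) = x by
    have : S.θ x ≠ 0 := (_root_.map_ne_zero _).2 hx
    field_simp] at this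

/-- the subfield subgroup -/
def R (K : Subfield F) : Subgroup G where
  carrier := {g | ∀ i j, S.ρ g i j ∈ K}
  mul_mem' := fun {a b} ha hb i j => by
    rw [map_mul, Matrix.mul_apply]
    exact K.sum_mem fun k _ => K.mul_mem (ha i k) (hb k j)
  one_mem' := fun i j => by
    rw [map_one, Matrix.one_apply]
    split_ifs
    · exact K.one_mem
    · exact K.zero_mem
  inv_mem' := fun {g} hg i j => by
    have h1 : S.ρ g⁻¹ = JM F * (S.ρ g).transpose * JM F := by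
      have h2 : JM F * (S.ρ g).transpose * JM F * S.ρ g = 1 := by
        rw [mul_assoc (JM F), mul_assoc (JM F), (S.cond g).1, J_mul_J]
      rw [← one_mul (S.ρ g⁻¹), ← h2, mul_assoc, ← map_mul, mul_inv_cancel, map_one, mul_one]
    rw [h1]
    fin_cases i <;> fin_cases j <;>
      simp [Cfsg.suzukiForm, Matrix.mul_apply, Fin.sum_univ_four, Matrix.vecMul, dotProduct] <;> apply hg

theorem mem_R {K : Subfield F} {g : G} : g ∈ S.R K ↔ ∀ i j, S.ρ g i j ∈ K := Iff.rfl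

theorem u_mem_R {K : Subfield F} {a b : F} (ha : a ∈ K) (hb : b ∈ K) : S.u a b ∈ S.R K := by
  intro i j
  have h1 := S.θ_mem ha
  have h2 := S.θ_mem hb
  rw [ρ_u]
  have h3 : NN S.θ a b ∈ K := K.add_mem (K.add_mem (K.mul_mem ha hb) (K.mul_mem h1 (K.pow_mem ha 2))) h2
  fin_cases i <;> fin_cases j <;> simp [uM, K.one_mem, K.zero_mem, ha, hb, h1, h3, K.add_mem, K.mul_mem]

theorem h_mem_R {K : Subfield F} {t : Fˣ} (ht : (t : F) ∈ K) : S.h t ∈ S.R K := by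
  intro i j
  have h1 : S.θe.symm t ∈ K := S.mem_of_θ_mem (by rwa [θ_symm])
  rw [ρ_h]
  fin_cases i <;> fin_cases j <;> simp [hM, K.zero_mem, ht, h1, K.mul_mem, K.inv_mem]

theorem w_mem_R (K : Subfield F) : S.w ∈ S.R K := by
  intro i j
  rw [ρ_w]
  fin_cases i <;> fin_cases j <;> simp [Cfsg.suzukiForm, K.zero_mem, K.one_mem]

theorem mem_of_uh_mem_R {K : Subfield F} {a b : F} {t : Fˣ} (h : S.u a b * S.h t ∈ S.R K) :
    a ∈ K ∧ b ∈ K ∧ (t : F) ∈ K := by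
  have h1 := h 1 1
  rw [map_mul, ρ_u, ρ_h] at h1
  simp [uM, hM, Matrix.mul_apply, Fin.sum_univ_four] at h1
  have h2 : (t : F) ∈ K := by rw [← S.θ_symm t]; exact S.θ_mem h1
  have h3 := ((S.R K).mul_mem_cancel_right (S.h_mem_R h2)).1 h
  have h4 := h3 0 1
  have h5 := h3 1 3
  rw [ρ_u] at h4 h5
  exact ⟨h4, h5, h2⟩

theorem R_pt {K : Subfield F} {g : G} (h : g ∈ S.R K) {x y : F} (hg : g • S.inf = S.pt x y) :
    x ∈ K ∧ y ∈ K := by
  obtain ⟨c, hc, h1⟩ := S.smul_spec g S.inf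
  rw [hg] at h1
  have c1 := congrFun h1 1
  have c2 := congrFun h1 2
  have c3 := congrFun h1 3
  simp [v, inf, pt, vec, Matrix.mulVec, dotProduct, Fin.sum_univ_four] at c1 c2 c3
  have h2 : c ∈ K := c3 ▸ h 3 0
  have h3 := K.div_mem (c2 ▸ h 2 0) h2
  have h4 := K.div_mem (c1 ▸ h 1 0) h2
  rw [mul_div_cancel_left₀ _ hc] at h3 h4
  exact ⟨h3, h4⟩

theorem R_le {K : Subfield F} {N : Subgroup G} (hu : ∀ a ∈ K, ∀ b ∈ K, S.u a b ∈ N)
    (hh : ∀ t : Fˣ, (t : F) ∈ K → S.h t ∈ N) (hw : S.w ∈ N) : S.R K ≤ N := by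
  have key : ∀ g ∈ S.R K, g • S.inf = S.inf → g ∈ N := by
    intro g hg h
    obtain ⟨a, b, t, rfl⟩ := S.fix1 h
    obtain ⟨h1, h2, h3⟩ := S.mem_of_uh_mem_R hg
    exact N.mul_mem (hu a h1 b h2) (hh t h3)
  intro g hg
  by_cases h : g • S.inf = S.inf
  · exact key g hg h
  obtain ⟨x, y, hxy⟩ := S.exists_pt h
  obtain ⟨h1, h2⟩ := S.R_pt hg hxy
  have h3 := key ((S.u x y * S.w)⁻¹ * g)
    ((S.R K).mul_mem ((S.R K).inv_mem ((S.R K).mul_mem (S.u_mem_R h1 h2) (S.w_mem_R K))) hg)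
    (by rw [mul_smul, hxy, inv_smul_eq_iff, mul_smul, w_inf, u_pt]; simp)
  simpa [mul_assoc] using N.mul_mem (N.mul_mem (hu x h1 y h2) hw) h3

theorem R_top : S.R ⊤ = ⊤ := by
  rw [eq_top_iff]
  intro g _ i j
  trivial

section
variable {K : Type*} [Field K] [Fintype K] {k : ℕ} {H : Type*} [Group H] (S' : SzS K k H)

theorem θ_compat (hd : 2 * k + 1 ∣ 2 * m + 1) (φ : K →+* F) (x : K) : φ (S'.θ x) = S.θ (φ x) := by
  obtain ⟨d, hd⟩ := hd
  obtain ⟨e, rfl⟩ : Odd d := Nat.Odd.of_mul_right (hd ▸ odd_two_mul_add_one m)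
  have : m + 1 = (2 * k + 1) * e + (k + 1) := by nlinarith
  rw [S.hθ, S'.hθ, ← map_pow, this, pow_add 2 _ (k + 1), pow_mul x, pow_mul 2, ← S'.hF, FiniteField.pow_card_pow]

theorem cond_map (hd : 2 * k + 1 ∣ 2 * m + 1) (φ : K →+* F) {M : M4 K} (h : Cond S'.θ M) :
    Cond S.θ (M.map φ) := by
  have hJ : (JM K).map φ = JM F := by
    ext i j
    fin_cases i <;> fin_cases j <;> simp [Cfsg.suzukiForm]
  refine ⟨by rw [← hJ, ← Matrix.transpose_map, ← Matrix.map_mul, ← Matrix.map_mul, h.1], ?_⟩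
  ext i j
  have := congrArg φ (congrFun (congrFun h.2 i) j)
  simp only [Cfsg.Lie.star4, Matrix.of_apply, Matrix.map_apply, map_sub, map_mul] at this ⊢
  rw [this, S.θ_compat S' hd]

noncomputable def subHom (hd : 2 * k + 1 ∣ 2 * m + 1) (φ : K →+* F) : H →* G :=
  MonoidHom.mk' (fun g => ((S.mem _).2 (S.cond_map S' hd φ (S'.cond g))).choose) (by
    intro a b
    apply S.inj
    rw [map_mul S.ρ, ((S.mem _).2 (S.cond_map S' hd φ (S'.cond _))).choose_spec,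
      ((S.mem _).2 (S.cond_map S' hd φ (S'.cond _))).choose_spec,
      ((S.mem _).2 (S.cond_map S' hd φ (S'.cond _))).choose_spec, map_mul, Matrix.map_mul])

theorem ρ_subHom (hd : 2 * k + 1 ∣ 2 * m + 1) (φ : K →+* F) (g : H) :
    S.ρ (S.subHom S' hd φ g) = (S'.ρ g).map φ :=
  ((S.mem _).2 (S.cond_map S' hd φ (S'.cond g))).choose_spec

theorem subHom_inj (hd : 2 * k + 1 ∣ 2 * m + 1) (φ : K →+* F) : Function.Injective (S.subHom S' hd φ) := by
  intro a b h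
  apply S'.inj
  apply Matrix.map_injective φ.injective
  simp only
  rw [← ρ_subHom S S' hd, ← ρ_subHom S S' hd, h]

theorem subHom_u (hd : 2 * k + 1 ∣ 2 * m + 1) (φ : K →+* F) (a b : K) :
    S.subHom S' hd φ (S'.u a b) = S.u (φ a) (φ b) := by
  apply S.inj
  rw [ρ_subHom, ρ_u, ρ_u]
  ext i j
  fin_cases i <;> fin_cases j <;> simp [uM, NN, S.θ_compat S' hd]

theorem subHom_w (hd : 2 * k + 1 ∣ 2 * m + 1) (φ : K →+* F) : S.subHom S' hd φ S'.w = S.w := by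
  apply S.inj
  rw [ρ_subHom, ρ_w, ρ_w]
  ext i j
  fin_cases i <;> fin_cases j <;> simp [Cfsg.suzukiForm]

theorem subHom_h (hd : 2 * k + 1 ∣ 2 * m + 1) (φ : K →+* F) (t : Kˣ) :
    S.subHom S' hd φ (S'.h t) = S.h (Units.map φ.toMonoidHom t) := by
  apply S.inj
  rw [ρ_subHom, ρ_h, ρ_h]
  have : S.θe.symm (Units.map φ.toMonoidHom t : Fˣ) = φ (S'.θe.symm t) := by
    apply S.θ.injective
    rw [θ_symm, ← S.θ_compat S' hd, θ_symm]
    rfl
  rw [this]
  ext i j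
  fin_cases i <;> fin_cases j <;> simp [hM, ← S.θ_compat S' hd]

theorem range_subHom (hd : 2 * k + 1 ∣ 2 * m + 1) (φ : K →+* F) :
    (S.subHom S' hd φ).range = S.R φ.fieldRange := by
  apply le_antisymm
  · rintro _ ⟨g, rfl⟩ i j
    rw [ρ_subHom]
    exact ⟨_, rfl⟩
  · apply S.R_le
    · rintro _ ⟨a, rfl⟩ _ ⟨b, rfl⟩
      exact ⟨_, S.subHom_u S' hd φ a b⟩
    · rintro t ⟨a, ha⟩
      have h0 : a ≠ 0 := by
        rintro rfl
        exact t.ne_zero (by rw [← ha, map_zero])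
      exact ⟨S'.h (Units.mk0 a h0), by rw [subHom_h]; congr 1; exact Units.ext ha⟩
    · exact ⟨_, S.subHom_w S' hd φ⟩

include S' in
theorem R_equiv (hd : 2 * k + 1 ∣ 2 * m + 1) {L : Subfield F} (hL : Nat.card L = 2 ^ (2 * k + 1)) :
    Nonempty (S.R L ≃* H) := by
  have := S.charP
  have := S'.charP
  letI := ZMod.algebra F 2
  letI := ZMod.algebra K 2
  have h1 : Module.finrank (ZMod 2) F = 2 * m + 1 := by
    have := Module.card_eq_pow_finrank (K := ZMod 2) (V := F)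
    rw [S.hF, ZMod.card] at this
    exact (Nat.pow_right_injective le_rfl this).symm
  have h2 : Module.finrank (ZMod 2) K = 2 * k + 1 := by
    have := Module.card_eq_pow_finrank (K := ZMod 2) (V := K)
    rw [S'.hF, ZMod.card] at this
    exact (Nat.pow_right_injective le_rfl this).symm
  obtain ⟨f⟩ := FiniteField.nonempty_algHom_of_finrank_dvd (F := ZMod 2) (K := K) (L := F)
    (by rw [h1, h2]; exact hd)
  have h3 : f.toRingHom.fieldRange = L := subfield_eq_of_card (by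
    rw [hL, ← S'.hF, ← Nat.card_eq_fintype_card]
    exact (Nat.card_congr (RingHom.rangeRestrictFieldEquiv f.toRingHom).toEquiv).symm)
  rw [← h3, ← S.range_subHom S' hd]
  exact ⟨(MonoidHom.ofInjective (S.subHom_inj S' hd _)).symm⟩

end

/-! ### involutions -/

theorem odd_orderOf {c : G} (h : ∀ ω, c ∉ S.P ω) : Odd (orderOf c) := by
  have h8 := S.eight_le
  rcases S.cases c with ⟨ω, h1⟩ | ⟨α, β, h1, h2⟩ | h1
  · exact absurd h1 (h ω)
  · refine Odd.of_dvd_nat ?_ (orderOf_dvd_of_pow_eq_one (S.T_pow h1 h2))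
    rw [S.hF, pow_succ]
    exact Nat.Even.sub_odd (by rw [← pow_succ, ← S.hF]; omega) (by simp) odd_one
  · refine Odd.of_dvd_nat ?_ h1.orderOf_dvd
    rw [← S.card_Ω, ← Nat.not_even_iff_odd, even_iff_two_dvd]
    exact S.odd_card_Ω

omit S in
theorem conj_mul_inv {i j : G} (hi : i ^ 2 = 1) (hj : j ^ 2 = 1) : i * (i * j) * i⁻¹ = (i * j)⁻¹ := by
  have h1 : i * i = 1 := by rw [← pow_two, hi]
  have h2 : j⁻¹ = j := inv_eq_of_mul_eq_one_right (by rw [← pow_two, hj])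
  rw [← mul_assoc, h1, one_mul, mul_inv_rev, h2]

theorem mul_not_mem_P {α β : S.Ω} (h : α ≠ β) {i j : G} (hi : i ∈ S.Zc α) (hi1 : i ≠ 1)
    (hj : j ∈ S.Zc β) (hj1 : j ≠ 1) (ω : S.Ω) : i * j ∉ S.P ω := by
  intro hc
  have hij : i * j ≠ 1 := by
    intro h1
    have : j = i⁻¹ := (inv_eq_of_mul_eq_one_right h1).symm
    exact h (S.P_fix (S.Zc_le_P _ hj) hj1 (by rw [this, inv_smul_eq_iff, hi.1]))
  have h2 := Part.ti (S := S) (Or.inl ⟨ω, rfl⟩) hc hij (c := i)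
    (by rw [conj_mul_inv hi.2 hj.2]; exact (S.P ω).inv_mem hc)
  rw [normalizer_P, MulAction.mem_stabilizer_iff] at h2
  have h3 : j • ω = ω := by
    have := hc.1
    rw [mul_smul] at this
    exact MulAction.injective i (this.trans h2.symm)
  exact h ((S.P_fix (S.Zc_le_P _ hi) hi1 h2).symm.trans (S.P_fix (S.Zc_le_P _ hj) hj1 h3))

theorem exists_swap {M : Subgroup G} {α β : S.Ω} (h : α ≠ β) {i j : G} (hi : i ∈ S.Zc α) (hi1 : i ≠ 1)
    (hj : j ∈ S.Zc β) (hj1 : j ≠ 1) (hiM : i ∈ M) (hjM : j ∈ M) :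
    ∃ l ∈ M, l * i * l⁻¹ = j ∧ l • α = β ∧ l • β = α := by
  obtain ⟨k, hk⟩ := S.odd_orderOf (S.mul_not_mem_P h hi hi1 hj hj1)
  have h1 := conj_mul_inv hi.2 hj.2
  have h2 : i * (i * j) ^ k * i⁻¹ = ((i * j) ^ k)⁻¹ := by rw [← conj_pow, h1, inv_pow]
  have h3 : i * i = 1 := by rw [← pow_two, hi.2]
  have h4 : (i * j) ^ k * (i * j) ^ k = (i * j)⁻¹ := by
    rw [eq_inv_iff_mul_eq_one, ← pow_add, ← pow_succ, ← two_mul, ← hk, pow_orderOf_eq_one]
  have h5 : (i * j) ^ k * i * i * ((i * j) ^ k * i)⁻¹ = j := by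
    calc _ = (i * j) ^ k * (i * (i * j) ^ k * i⁻¹)⁻¹ * i := by
          rw [h2, mul_assoc _ i i, h3, inv_inv, mul_one, mul_inv_rev, mul_assoc]
          congr 1
          rw [← h2, inv_eq_of_mul_eq_one_right h3, ← mul_assoc, ← mul_assoc, h3, one_mul]
      _ = j := by
          rw [h2, inv_inv, h4, ← h1, inv_mul_cancel_right, ← mul_assoc, h3, one_mul]
  have h6 : ((i * j) ^ k * i) • α = β := by
    refine S.P_fix (S.Zc_le_P _ hj) hj1 ?_
    generalize (i * j) ^ k * i = l at h5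
    rw [← h5, mul_smul, inv_smul_smul, mul_smul, hi.1]
  refine ⟨(i * j) ^ k * i, M.mul_mem (M.pow_mem (M.mul_mem hiM hjM) k) hiM, h5, h6, ?_⟩
  rw [← h6, ← mul_smul]
  have : (i * j) ^ k * i * ((i * j) ^ k * i) = 1 := by
    calc _ = (i * j) ^ k * (i * (i * j) ^ k * i⁻¹) * (i * i) := by group
      _ = 1 := by rw [h2, h3]; simp
  rw [this, one_smul]

theorem exists_T_conj {M : Subgroup G} {α β : S.Ω} (h : α ≠ β) {i j j' : G} (hi : i ∈ S.Zc α) (hi1 : i ≠ 1)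
    (hj : j ∈ S.Zc β) (hj1 : j ≠ 1) (hj' : j' ∈ S.Zc β) (hj1' : j' ≠ 1) (hiM : i ∈ M) (hjM : j ∈ M)
    (hjM' : j' ∈ M) : ∃ t ∈ M, t ∈ S.T α β ∧ t * j * t⁻¹ = j' := by
  obtain ⟨l, hl, h1, h2, h3⟩ := S.exists_swap h hi hi1 hj hj1 hiM hjM
  obtain ⟨l', hl', h1', h2', h3'⟩ := S.exists_swap h hi hi1 hj' hj1' hiM hjM'
  refine ⟨l' * l⁻¹, M.mul_mem hl' (M.inv_mem hl), ⟨?_, ?_⟩, by rw [← h1, ← h1']; group⟩
  · show (l' * l⁻¹) • α = α
    rw [mul_smul, inv_smul_eq_iff.2 h3.symm, h3']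
  · show (l' * l⁻¹) • β = β
    rw [mul_smul, inv_smul_eq_iff.2 h2.symm, h2']

theorem core {M : Subgroup G} (h1 : S.u 0 1 ∈ M) {b0 : F} (hb0 : b0 ≠ 0) (hb1 : b0 ≠ 1) (h2 : S.u 0 b0 ∈ M)
    {j : G} (hj : j ∈ S.Zc (S.pt 0 0)) (hj1 : j ≠ 1) (hjM : j ∈ M) :
    ∃ K : Subfield F, b0 ∈ K ∧ M = S.R K := by
  have := S.charP
  have hz : ∀ b, S.u 0 b ∈ S.Zc S.inf := fun b => S.Zc_inf ▸ S.z_mem b
  have hz1 : ∀ {b}, b ≠ 0 → S.u 0 b ≠ 1 := fun hb h => hb (S.u_eq_one.1 h).2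
  have hT : ∀ b, b ≠ 0 → S.u 0 b ∈ M → ∃ t : Fˣ, S.h t ∈ M ∧ t * S.θ t = b := by
    intro b hb hM
    obtain ⟨g, hg, h3, h4⟩ := S.exists_T_conj (S.pt_ne_inf 0 0) hj hj1 (hz 1) (hz1 one_ne_zero) (hz b) (hz1 hb)
      hjM h1 hM
    obtain ⟨t, rfl⟩ := S.fix2 h3.2 h3.1
    rw [h_u] at h4
    exact ⟨t, hg, by simpa using (S.u_inj h4).2⟩
  have hconj : ∀ {t : Fˣ} {a b}, S.h t ∈ M → S.u a b ∈ M → S.u (t * a) (t * S.θ t * b) ∈ M := by
    intro t a b ht hab
    rw [← h_u]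
    exact M.mul_mem (M.mul_mem ht hab) (M.inv_mem ht)
  let K : Subfield F :=
    { carrier := {b | S.u 0 b ∈ M}
      mul_mem' := fun {a b} ha hb => by
        by_cases h0 : a = 0
        · simp [h0]
        obtain ⟨t, ht, rfl⟩ := hT a h0 ha
        simpa using hconj ht hb
      one_mem' := h1
      add_mem' := fun ha hb => by simpa [z_mul] using M.mul_mem ha hb
      zero_mem' := by simp
      neg_mem' := fun ha => by simpa [CharTwo.neg_eq] using ha
      inv_mem' := fun a ha => by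
        by_cases h0 : a = 0
        · simp [h0]
        obtain ⟨t, ht, rfl⟩ := hT a h0 ha
        have := hconj (t := t⁻¹) (by rw [map_inv]; exact M.inv_mem ht) h1
        simpa [mul_comm] using this }
  have hK : ∀ b, b ∈ K ↔ S.u 0 b ∈ M := fun b => Iff.rfl
  have hh : ∀ t : Fˣ, (t : F) ∈ K → S.h t ∈ M := by
    intro t ht
    obtain ⟨s, hs, h3⟩ := hT _ (by simp) ((hK _).1 (K.mul_mem ht (S.θ_mem ht)))
    rwa [← Units.ext (S.θ_mul_inj h3)]
  have hB : ∀ {a b t}, S.u a b * S.h t ∈ M → (t : F) ∈ K ∧ S.u a b ∈ M := by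
    intro a b t h
    have h3 := M.mul_mem (M.mul_mem h h1) (M.inv_mem h)
    rw [conj_u] at h3
    have h4 : (t : F) ∈ K := S.mem_of_θ_mul_mem ((hK _).2 (by simpa using h3))
    exact ⟨h4, (M.mul_mem_cancel_right (hh t h4)).1 h⟩
  have hA : ∀ {a b}, S.u a b ∈ M → a ∈ K := by
    intro a b h
    have := M.pow_mem h 2
    rw [u_sq, mul_comm] at this
    exact S.mem_of_θ_mul_mem this
  -- points fixed by involutions of `M`
  have hΔ : ∀ g ∈ M, ∀ x y, g • S.inf = S.pt x y → ∃ a b, ∃ t : Fˣ, S.u a b ∈ M ∧ (t : F) ∈ K ∧ (t : F) ≠ 1 ∧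
      t * x + a = x ∧ t * S.θ t * y + b + S.θ a * (t * x) = y := by
    intro g hg x y hxy
    obtain ⟨k, hk, h3, h4⟩ := S.exists_T_conj (S.pt_ne_inf x y) (i := g * S.u 0 1 * g⁻¹)
      (by rw [← hxy, mem_Zc_smul]; simpa [mul_assoc] using hz 1)
      (by rw [Ne, conj_eq_one_iff]; exact hz1 one_ne_zero) (hz 1) (hz1 one_ne_zero) (hz b0) (hz1 hb0)
      (M.mul_mem (M.mul_mem hg h1) (M.inv_mem hg)) h1 h2
    obtain ⟨a, b, t, rfl⟩ := S.fix1 h3.2
    have h5 := (S.mem_T.1 h3).1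
    rw [mul_smul, h_pt, u_pt, pt_inj] at h5
    refine ⟨a, b, t, (hB hk).2, (hB hk).1, fun ht => hb1 ?_, h5.1, h5.2⟩
    rw [conj_u] at h4
    simpa [ht] using (S.u_inj h4).2.symm
  obtain ⟨l, hl, -, h3, h4⟩ := S.exists_swap (S.pt_ne_inf 0 0).symm (hz 1) (hz1 one_ne_zero) hj hj1 h1 hjM
  obtain ⟨c, hc⟩ := S.fix2 (g := S.w * l) (by rw [mul_smul, h3, w_zero]) (by rw [mul_smul, h4, w_inf])
  have hl' : l = S.w * S.h c := by rw [← hc, ← mul_assoc, w_mul_w, one_mul]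
  have hcθ : S.θ c ≠ 0 := by simp
  have h5 : (l * S.u 0 1 * l) • S.inf = S.pt (c⁻¹ : F) 0 := by
    rw [mul_smul, mul_smul, h3, u_pt, hl', mul_smul, h_pt, w_pt _ (by simp [NN]), pt_inj]
    simp [NN, θθ]
    field_simp
  obtain ⟨a, b, t, h6, h7, h8, h9, -⟩ := hΔ _ (M.mul_mem (M.mul_mem hl h1) hl) _ _ h5
  have ht1 : (t : F) + 1 ≠ 0 := fun h => h8 (by grind)
  have ha : a = (t + 1) * (c : F)⁻¹ := by grind
  have ha0 : a ≠ 0 := by simp [ha, ht1]
  have hcK : (c : F) ∈ K := by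
    have := K.div_mem (K.add_mem h7 K.one_mem) (hA h6)
    rwa [ha, show ((t : F) + 1) / ((t + 1) * (c : F)⁻¹) = c by field_simp] at this
  have hw : S.w ∈ M := (M.mul_mem_cancel_right (hh c hcK)).1 (hl' ▸ hl)
  obtain ⟨f, hf⟩ : ∃ f, S.u 1 f ∈ M := by
    have := hconj (t := (Units.mk0 a ha0)⁻¹) (hh _ (by simpa using K.inv_mem (hA h6))) h6
    exact ⟨_, by simpa [ha0] using this⟩
  have hsame : ∀ {a b d}, S.u a b ∈ M → S.u a d ∈ M → b + d ∈ K := by
    intro a b d h h'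
    have := M.mul_mem h (M.inv_mem h')
    rw [u_inv, u_mul] at this
    rw [hK]
    convert this using 2 <;> grind
  have hb0K : b0 ∈ K := h2
  have hfK : f ∈ K := by
    have hb2 : b0 + 1 ≠ 0 := fun h => hb1 (by grind)
    have e1 := M.mul_mem hf (hconj (t := Units.mk0 b0 hb0) (hh _ hb0K) hf)
    have e2 := hconj (t := Units.mk0 (b0 + 1) hb2) (hh _ (K.add_mem hb0K K.one_mem)) hf
    rw [u_mul] at e1
    simp only [Units.val_mk0, mul_one, map_one, one_mul, map_add] at e1 e2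
    rw [add_comm 1 b0] at e1
    have e3 := K.add_mem (hsame e1 e2) hb0K
    have e4 : b0 + S.θ b0 ≠ 0 := fun h => (S.θ_fix (x := b0) (by grind)).elim hb0 hb1
    have e5 := K.div_mem e3 (K.add_mem hb0K (S.θ_mem hb0K))
    convert e5 using 1
    field_simp
    grind
  have hu : ∀ a ∈ K, ∀ b ∈ K, S.u a b ∈ M := by
    intro a ha b hb
    by_cases h0 : a = 0
    · exact h0 ▸ hb
    have e1 := M.mul_mem (hconj (t := Units.mk0 a h0) (hh _ ha) hf)
      ((hK _).1 (K.add_mem hb (K.mul_mem (K.mul_mem ha (S.θ_mem ha)) hfK)))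
    rw [u_mul] at e1
    simp only [Units.val_mk0] at e1
    convert e1 using 2 <;> grind
  have hub : ∀ {a b}, S.u a b ∈ M → b ∈ K := by
    intro a b h
    simpa using hsame h (hu a (hA h) 0 K.zero_mem)
  refine ⟨K, hb0K, le_antisymm ?_ (S.R_le hu hh hw)⟩
  have key : ∀ g ∈ M, g • S.inf = S.inf → g ∈ S.R K := by
    intro g hg h
    obtain ⟨a, b, t, rfl⟩ := S.fix1 h
    obtain ⟨e1, e2⟩ := hB hg
    exact (S.R K).mul_mem (S.u_mem_R (hA e2) (hub e2)) (S.h_mem_R e1)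
  intro g hg
  by_cases h : g • S.inf = S.inf
  · exact key g hg h
  obtain ⟨x, y, hxy⟩ := S.exists_pt h
  obtain ⟨a, b, t, e1, e2, e3, e4, e5⟩ := hΔ g hg x y hxy
  have e6 : (t : F) + 1 ≠ 0 := fun h => e3 (by grind)
  have e7 : (t : F) * S.θ t + 1 ≠ 0 := fun h => e3 (S.θ_mul_eq_one (by grind))
  have hx : x ∈ K := by
    have := K.div_mem (hA e1) (K.add_mem e2 K.one_mem)
    convert this using 1
    field_simp
    grind
  have hy : y ∈ K := by
    have := K.div_mem (K.add_mem (hub e1) (K.mul_mem (S.θ_mem (hA e1)) (K.mul_mem e2 hx)))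
      (K.add_mem (K.mul_mem e2 (S.θ_mem e2)) K.one_mem)
    convert this using 1
    field_simp
    grind
  have e8 := key ((S.u x y * S.w)⁻¹ * g) (M.mul_mem (M.inv_mem (M.mul_mem (hu x hx y hy) hw)) hg)
    (by rw [mul_smul, hxy, inv_smul_eq_iff, mul_smul, w_inf, u_pt]; simp)
  simpa [mul_assoc] using (S.R K).mul_mem ((S.R K).mul_mem (S.u_mem_R hx hy) (S.w_mem_R K)) e8

end SzS

end H5.Sz
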