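import Cfsg.Agent.H5.SZ10

/-! Suzuki groups: classification of subgroups. -/

namespace H5.Sz
open scoped Pointwise

namespace SzS
variable {F : Type*} [Field F] [Fintype F] {m : ℕ} {G : Type*} [Group G] (S : SzS F m G)

theorem mul_inv_mem_Zc {ω : S.Ω} {x g : G} (hx : x ∈ S.P ω) (hg : g ∈ S.P ω) (h : x ^ 2 = g ^ 2) :
    x * g⁻¹ ∈ S.Zc ω := by
  have := S.charP
  refine ⟨((S.P ω).mul_mem hx ((S.P ω).inv_mem hg)).1, ?_⟩
  obtain ⟨S', hS⟩ := S.exists_S_P ω
  rw [← hS] at hx hg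
  obtain ⟨a, b, rfl⟩ := hx
  obtain ⟨c, d, rfl⟩ := hg
  rw [u_sq, u_sq, mul_comm, mul_comm _ c] at h
  obtain rfl := S'.θ_mul_inj (S'.u_inj h).2
  rw [u_inv, u_mul, u_sq_eq_one]
  grind

theorem isCyclic_of_unique {ω : S.Ω} {Q : Subgroup G} (hQ : Q ≤ S.P ω)
    (h : ∀ z ∈ Q, ∀ z' ∈ Q, z ∈ S.Zc ω → z' ∈ S.Zc ω → z ≠ 1 → z' ≠ 1 → z = z') : IsCyclic Q := by
  rw [Subgroup.isCyclic_iff_exists_zpowers_eq_top]
  by_cases h1 : ∃ g ∈ Q, g ^ 2 ≠ 1
  · obtain ⟨g, hg, h2⟩ := h1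
    have key : ∀ z ∈ Q, z ∈ S.Zc ω → z ∈ Subgroup.zpowers g := by
      intro z hz hz'
      by_cases h3 : z = 1
      · rw [h3]; exact Subgroup.one_mem _
      · rw [h z hz _ (Q.pow_mem hg 2) hz' (S.sq_mem_Zc (hQ hg)) h3 h2]
        exact Subgroup.npow_mem_zpowers g 2
    refine ⟨g, le_antisymm (Subgroup.zpowers_le.2 hg) fun x hx => ?_⟩
    by_cases h3 : x ^ 2 = 1
    · exact key x hx ⟨(hQ hx).1, h3⟩
    · have h4 := h _ (Q.pow_mem hx 2) _ (Q.pow_mem hg 2) (S.sq_mem_Zc (hQ hx)) (S.sq_mem_Zc (hQ hg)) h3 h2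
      have := key _ (Q.mul_mem hx (Q.inv_mem hg)) (S.mul_inv_mem_Zc (hQ hx) (hQ hg) h4)
      simpa using (Subgroup.zpowers g).mul_mem this (Subgroup.mem_zpowers g)
  · push Not at h1
    by_cases h2 : ∃ g ∈ Q, g ≠ 1
    · obtain ⟨g, hg, h3⟩ := h2
      refine ⟨g, le_antisymm (Subgroup.zpowers_le.2 hg) fun x hx => ?_⟩
      by_cases h4 : x = 1
      · rw [h4]; exact Subgroup.one_mem _
      · rw [h x hx g hg ⟨(hQ hx).1, h1 x hx⟩ ⟨(hQ hg).1, h1 g hg⟩ h4 h3]
        exact Subgroup.mem_zpowers g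
    · push Not at h2
      exact ⟨1, le_antisymm (Subgroup.zpowers_le.2 Q.one_mem) fun x hx => by
        rw [h2 x hx]; exact Subgroup.one_mem _⟩

theorem solvable_of_unique {M : Subgroup G}
    (h : ∀ ω, ∀ z ∈ M, ∀ z' ∈ M, z ∈ S.Zc ω → z' ∈ S.Zc ω → z ≠ 1 → z' ≠ 1 → z = z') :
    Group.IsSolvable M := by
  have := S.finite
  have : IsZGroup M := ⟨fun p hp Q => by
    have := Fact.mk hp
    have h1 : IsPGroup p ((Q : Subgroup M).map M.subtype) := Q.isPGroup'.map _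
    have h2 : IsCyclic ((Q : Subgroup M).map M.subtype) := by
      by_cases h3 : p = 2
      · subst h3
        obtain ⟨ω, hω⟩ := S.le_P_of_isPGroup h1
        exact S.isCyclic_of_unique hω fun z hz z' hz' =>
          h ω z (Subgroup.map_subtype_le _ hz) z' (Subgroup.map_subtype_le _ hz')
      · exact S.isCyclic_of_odd h3 h1
    exact isCyclic_of_surjective _ (Subgroup.equivMapOfInjective _ _ M.subtype_injective).symm.surjective⟩
  infer_instance

theorem solvable_normalizer_U : Group.IsSolvable (Subgroup.normalizer (S.U : Set G)) := by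
  have := S.finite
  have h1 : Group.IsNilpotent S.U := S.P_inf ▸ (S.isPGroup_P S.inf).isNilpotent
  have hT : ∀ t, S.h t ∈ Subgroup.normalizer (S.U : Set G) := fun t => S.normalizer_U ▸ S.h_inf t
  have key : ∀ x : Subgroup.normalizer (S.U : Set G) ⧸ S.U.subgroupOf (Subgroup.normalizer (S.U : Set G)),
      ∃ t, x = QuotientGroup.mk ⟨S.h t, hT t⟩ := by
    rintro ⟨g, hg⟩
    have hg' := hg
    rw [normalizer_U] at hg'
    obtain ⟨a, b, t, rfl⟩ := S.fix1 hg'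
    refine ⟨t, QuotientGroup.eq_iff_div_mem.2 ?_⟩
    rw [Subgroup.mem_subgroupOf, div_eq_mul_inv]
    simpa using S.u_mem a b
  have h2 : Group.IsSolvable (Subgroup.normalizer (S.U : Set G) ⧸
      S.U.subgroupOf (Subgroup.normalizer (S.U : Set G))) := by
    apply Group.isSolvable_of_comm
    intro x y
    obtain ⟨s, rfl⟩ := key x
    obtain ⟨t, rfl⟩ := key y
    rw [← QuotientGroup.mk_mul, ← QuotientGroup.mk_mul]
    congr 1
    apply Subtype.ext
    simp only [Subgroup.coe_mul]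
    rw [← map_mul, mul_comm, map_mul]
  exact Group.isSolvable_of_ker_le_range (Subgroup.inclusion S.U.le_normalizer)
    (QuotientGroup.mk' (S.U.subgroupOf (Subgroup.normalizer (S.U : Set G)))) (by
      rw [QuotientGroup.ker_mk', Subgroup.inclusion_range])

theorem solvable_stab (ω : S.Ω) : Group.IsSolvable (MulAction.stabilizer G ω) := by
  obtain ⟨S', hS⟩ := S.exists_S_P ω
  rw [← normalizer_P, ← hS]
  exact S'.solvable_normalizer_U

/-- members of the partition of odd order -/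
def OPart (U : Subgroup G) : Prop :=
  (∃ α β, α ≠ β ∧ U = S.T α β) ∨ ∃ g, S.Free g ∧ U = Subgroup.centralizer {g}

variable {S}

theorem OPart.part {U : Subgroup G} (h : S.OPart U) : S.Part U := Or.inr h

theorem OPart.isCyclic {U : Subgroup G} (h : S.OPart U) : IsCyclic U := by
  rcases h with ⟨α, β, h, rfl⟩ | ⟨g, h, rfl⟩
  · exact S.isCyclic_T h
  · exact h.isCyclic

theorem OPart.comm {U : Subgroup G} (h : S.OPart U) {a b : G} (ha : a ∈ U) (hb : b ∈ U) : a * b = b * a := by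
  have := h.isCyclic
  exact congrArg Subtype.val (mul_comm' (⟨a, ha⟩ : U) ⟨b, hb⟩)

theorem OPart.eq_one {U : Subgroup G} (h : S.OPart U) {ω : S.Ω} {g : G} (hg : g ∈ U) (hP : g ∈ S.P ω) :
    g = 1 := by
  by_contra h1
  rcases h with ⟨α, β, h, rfl⟩ | ⟨x, h, rfl⟩
  · exact h1 (S.T_sq h hg (n := 2) hP.2)
  · exact h.free_of_mem hg h1 ω hP.1

theorem OPart.cent_eq {U : Subgroup G} (h : S.OPart U) {g : G} (hg : g ∈ U) (h1 : g ≠ 1) :
    Subgroup.centralizer {g} = U :=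
  le_antisymm (h.part.cent_le hg h1) fun _ hc => Subgroup.mem_centralizer_singleton_iff.2 (h.comm hc hg)

theorem OPart.exists_ne_one {U : Subgroup G} (h : S.OPart U) : ∃ g ∈ U, g ≠ 1 := by
  rcases h with ⟨α, β, h, rfl⟩ | ⟨x, h, rfl⟩
  · obtain ⟨⟨g, hg⟩, h1⟩ := Subgroup.ne_bot_iff_exists_ne_one.1 (S.T_ne_bot h)
    exact ⟨g, hg, fun h => h1 (Subtype.ext h)⟩
  · exact ⟨x, Subgroup.mem_centralizer_singleton_iff.2 rfl, h.ne_one⟩

theorem OPart.inverts {U : Subgroup G} (h : S.OPart U) {z c : G} (hz : z ∈ Subgroup.normalizer (U : Set G))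
    (h1 : z ≠ 1) (h2 : z ^ 2 = 1) (hc : c ∈ U) : z * c * z⁻¹ = c⁻¹ := by
  obtain ⟨ω, hω⟩ := S.mem_Zc_of_sq h2
  have h3 := (Subgroup.mem_normalizer_iff.1 hz c).1 hc
  have h4 : z⁻¹ = z := inv_eq_of_mul_eq_one_right (by rw [← pow_two, h2])
  have h5 : z * z = 1 := by rw [← pow_two, h2]
  rw [eq_inv_iff_mul_eq_one]
  refine h.eq_one (U.mul_mem h3 hc) (ω := ω) ?_
  rw [← S.centralizer_Zc hω h1, Subgroup.mem_centralizer_singleton_iff]
  calc z * c * z⁻¹ * c * z = z * (c * (z * c * z⁻¹)) := by rw [h4]; group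
    _ = _ := by rw [h.comm hc h3]

theorem OPart.mul_mem {U : Subgroup G} (h : S.OPart U) {z z' : G} (hz : z ∈ Subgroup.normalizer (U : Set G))
    (h1 : z ≠ 1) (h2 : z ^ 2 = 1) (hz' : z' ∈ Subgroup.normalizer (U : Set G))
    (h1' : z' ≠ 1) (h2' : z' ^ 2 = 1) : z * z' ∈ U := by
  obtain ⟨c, hc, h3⟩ := h.exists_ne_one
  rw [← h.cent_eq hc h3, Subgroup.mem_centralizer_singleton_iff]
  calc z * z' * c = z * (z' * c * z'⁻¹) * z⁻¹ * (z * z') := by group
    _ = _ := by rw [h.inverts hz' h1' h2' hc, h.inverts hz h1 h2 (U.inv_mem hc), inv_inv]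

theorem OPart.unique_inv {U : Subgroup G} (h : S.OPart U) {ω : S.Ω} {z z' : G}
    (hz : z ∈ Subgroup.normalizer (U : Set G)) (hz' : z' ∈ Subgroup.normalizer (U : Set G))
    (h2 : z ∈ S.Zc ω) (h2' : z' ∈ S.Zc ω) (h1 : z ≠ 1) (h1' : z' ≠ 1) : z = z' := by
  have := h.eq_one (h.mul_mem hz h1 h2.2 hz' h1' h2'.2) (S.Zc_le_P ω ((S.Zc ω).mul_mem h2 h2'))
  rw [← inv_eq_of_mul_eq_one_right this]
  exact (inv_eq_of_mul_eq_one_right (by rw [← pow_two, h2.2])).symm

theorem OPart.pow_four_mem {U : Subgroup G} (h : S.OPart U) {y : G}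
    (hy : y ∈ Subgroup.normalizer (U : Set G)) : y ^ 4 ∈ U := by
  have := S.finite
  rcases h with ⟨α, β, h, rfl⟩ | ⟨x, h, rfl⟩
  · rcases (S.mem_normalizer_T h le_rfl (S.T_ne_bot h)).1 hy with h1 | ⟨h1, h2⟩
    · exact Subgroup.pow_mem _ h1 4
    · rw [show 4 = 2 * 2 from rfl, pow_mul, S.swap_sq h h1 h2, one_pow]
      exact Subgroup.one_mem _
  · set A := Subgroup.centralizer ({x} : Set G)
    have h1 := (A.subgroupOf (Subgroup.normalizer (A : Set G))).index_mul_card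
    rw [h.card_normalizer, Nat.card_congr (Subgroup.subgroupOfEquivOfLe A.le_normalizer).toEquiv] at h1
    have h2 := Nat.eq_of_mul_eq_mul_right Nat.card_pos h1
    have := (A.subgroupOf (Subgroup.normalizer (A : Set G))).pow_index_mem ⟨y, hy⟩
    rwa [h2] at this

theorem OPart.mem_of_not_P {U : Subgroup G} (h : S.OPart U) {y : G}
    (hy : y ∈ Subgroup.normalizer (U : Set G)) (h1 : ∀ ω, y ∉ S.P ω) : y ∈ U := by
  obtain ⟨k, hk⟩ := exists_pow_eq_self_of_coprime (x := y) (n := 4)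
    (Nat.Coprime.pow_left 2 (Nat.coprime_two_left.2 (S.odd_orderOf h1)))
  rw [← hk]
  exact U.pow_mem (h.pow_four_mem hy) k

theorem Free.eq_of_mem_normalizer {c : G} (h : S.Free c) {U : Subgroup G} (hU : S.Part U)
    (hc : c ∈ Subgroup.normalizer (U : Set G)) : U = Subgroup.centralizer {c} := by
  rcases hU with ⟨ω, rfl⟩ | hU
  · rw [normalizer_P] at hc
    exact absurd hc (h ω)
  · exact (OPart.cent_eq hU (OPart.mem_of_not_P hU hc fun ω h1 => h ω h1.1) h.ne_one).symm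

theorem Part.solvable_normalizer {U : Subgroup G} (h : S.Part U) :
    Group.IsSolvable (Subgroup.normalizer (U : Set G)) := by
  rcases h with ⟨ω, rfl⟩ | h
  · rw [normalizer_P]
    exact S.solvable_stab ω
  · exact S.solvable_of_unique fun ω z hz z' hz' => OPart.unique_inv h hz hz'

omit S in
theorem solvable_of_le {A B : Subgroup G} (h : A ≤ B) (hB : Group.IsSolvable B) : Group.IsSolvable A :=
  Group.isSolvable_of_isSolvable_injective (Subgroup.inclusion_injective h)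

variable (S)

theorem solvable_iff {M : Subgroup G} :
    Group.IsSolvable M ↔ ∃ U, S.Part U ∧ M ≤ Subgroup.normalizer (U : Set G) :=
  ⟨S.le_normalizer_of_solvable, fun ⟨_, hU, h⟩ => solvable_of_le h hU.solvable_normalizer⟩

theorem classify {M : Subgroup G} (hM : ¬ Group.IsSolvable M) : ∃ (g : G) (K : Subfield F) (k : ℕ),
    1 ≤ k ∧ 2 * k + 1 ∣ 2 * m + 1 ∧ Nat.card K = 2 ^ (2 * k + 1) ∧ M = MulAut.conj g • S.R K := by
  have := S.charP
  obtain ⟨α, z, hz, z', hz', h1, h2, h3, h4, h5⟩ :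
      ∃ ω, ∃ z ∈ M, ∃ z' ∈ M, z ∈ S.Zc ω ∧ z' ∈ S.Zc ω ∧ z ≠ 1 ∧ z' ≠ 1 ∧ z ≠ z' := by
    by_contra h
    push Not at h
    exact hM (S.solvable_of_unique h)
  obtain ⟨x, hx, h6⟩ : ∃ x ∈ M, x • α ≠ α := by
    by_contra h
    push Not at h
    exact hM (solvable_of_le h (S.solvable_stab α))
  obtain ⟨g, rfl, h7⟩ := S.exists_smul2 h6.symm
  obtain ⟨b, hb⟩ : g⁻¹ * z * g ∈ S.Z := by rwa [← Zc_inf, ← mem_Zc_smul]
  have hb0 : b ≠ 0 := by
    rintro rfl
    exact h3 (by simpa using (conj_pow_eq_one (n := 1)).1 (by simpa using hb))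
  obtain ⟨t, ht⟩ := S.exists_conj_z hb0
  have e1 : (g * S.h t) • S.inf = g • S.inf := by rw [mul_smul, h_inf]
  have e2 : (g * S.h t) • S.pt 0 0 = x • g • S.inf := by rw [mul_smul, h_zero, h7]
  have e3 : (g * S.h t)⁻¹ * z * (g * S.h t) = S.u 0 1 := by
    have := ht 1
    rw [mul_one, ← hb] at this
    calc _ = (S.h t)⁻¹ * (g⁻¹ * z * g) * S.h t := by group
      _ = _ := by rw [← this]; group
  generalize g * S.h t = g' at e1 e2 e3
  obtain ⟨b0, hb0⟩ : g'⁻¹ * z' * g' ∈ S.Z := by rwa [← Zc_inf, ← mem_Zc_smul, e1]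
  have hmem : ∀ y, y ∈ MulAut.conj g'⁻¹ • M ↔ g' * y * g'⁻¹ ∈ M := by
    intro y
    rw [Subgroup.mem_pointwise_smul_iff_inv_smul_mem]
    simp
  have hb00 : b0 ≠ 0 := by
    rintro rfl
    exact h4 (by simpa using (conj_pow_eq_one (n := 1)).1 (by simpa using hb0))
  have hb01 : b0 ≠ 1 := by
    rintro rfl
    rw [← e3] at hb0
    exact h5 (by simpa using hb0.symm)
  obtain ⟨K, hK, h8⟩ := S.core (M := MulAut.conj g'⁻¹ • M) (by rw [hmem, ← e3]; simpa [mul_assoc] using hz)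
    hb00 hb01 (by rw [hmem, ← hb0]; simpa [mul_assoc] using hz') (j := g'⁻¹ * (x * z * x⁻¹) * g')
    (by rw [← mem_Zc_smul, e2, mem_Zc_smul]; simpa [mul_assoc] using h1)
    (fun h => h3 (by simpa using (conj_pow_eq_one (n := 1) (g := x * z * x⁻¹) (k := g')).1 (by simpa using h)))
    (by rw [hmem]; simpa [mul_assoc] using M.mul_mem (M.mul_mem hx hz) (M.inv_mem hx))
  obtain ⟨n, hn⟩ : ∃ n, Nat.card K = 2 ^ n := by
    have h9 := AddSubgroup.card_addSubgroup_dvd_card K.toAddSubgroup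
    rw [Nat.card_eq_fintype_card (α := F), S.hF] at h9
    obtain ⟨n, -, h⟩ := (Nat.dvd_prime_pow Nat.prime_two).1 h9
    exact ⟨n, h⟩
  have h9 := S.dvd_of_subring K.toSubring hn
  obtain ⟨k, rfl⟩ := Odd.of_dvd_nat (odd_two_mul_add_one m) h9
  refine ⟨g', K, k, ?_, h9, hn, by rw [← h8, smul_smul, ← map_mul]; simp⟩
  by_contra h
  obtain rfl : k = 0 := by omega
  have := subfield_pow K hK
  rw [hn] at this
  grind

include S in
theorem not_solvable_of_equiv {G' : Type*} [Group G'] (e : G' ≃* G) : ¬ Group.IsSolvable G' := by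
  intro h
  have := (S.comp e).nontrivial
  have h1 := h.commutator_lt_top_of_nontrivial
  rw [(S.comp e).perfect] at h1
  exact lt_irrefl _ h1

omit S in
theorem galois_card (k : ℕ) : @Fintype.card (GaloisField 2 (2 * k + 1)) (Fintype.ofFinite _) = 2 ^ (2 * k + 1) := by
  rw [← @Nat.card_eq_fintype_card _ (Fintype.ofFinite _), GaloisField.card 2 _ (by omega)]

theorem card_R {K : Subfield F} {k : ℕ} (hk : 1 ≤ k) (hd : 2 * k + 1 ∣ 2 * m + 1)
    (hK : Nat.card K = 2 ^ (2 * k + 1)) : Nat.card (S.R K) =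
      (2 ^ (2 * k + 1)) ^ 2 * ((2 ^ (2 * k + 1)) ^ 2 + 1) * (2 ^ (2 * k + 1) - 1) := by
  letI := Fintype.ofFinite (GaloisField 2 (2 * k + 1))
  obtain ⟨e⟩ := S.R_equiv (ovS hk (galois_card k)) hd hK
  rw [Nat.card_congr e.toEquiv, (ovS hk (galois_card k)).card_G, galois_card]

include S in
theorem eq_top_of_card {K : Subfield F} (hK : Nat.card K = 2 ^ (2 * m + 1)) : K = ⊤ :=
  subfield_eq_of_card (by rw [hK, ← S.hF, ← Nat.card_eq_fintype_card]; exact (Nat.card_congr Subfield.topEquiv.toEquiv).symm)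

omit S in
theorem order_inj {k l : ℕ} (h : (2 ^ (2 * k + 1)) ^ 2 * ((2 ^ (2 * k + 1)) ^ 2 + 1) * (2 ^ (2 * k + 1) - 1) =
    (2 ^ (2 * l + 1)) ^ 2 * ((2 ^ (2 * l + 1)) ^ 2 + 1) * (2 ^ (2 * l + 1) - 1)) : k = l := by
  have : StrictMono fun k : ℕ => (2 ^ (2 * k + 1)) ^ 2 * ((2 ^ (2 * k + 1)) ^ 2 + 1) * (2 ^ (2 * k + 1) - 1) := by
    intro a b hab
    have h1 : 2 ^ (2 * a + 1) < 2 ^ (2 * b + 1) := Nat.pow_lt_pow_right (by norm_num) (by omega)
    have h2 : 1 < 2 ^ (2 * a + 1) := Nat.one_lt_two_pow (by omega)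
    simp only
    generalize 2 ^ (2 * a + 1) = x at *
    generalize 2 ^ (2 * b + 1) = y at *
    have : 0 < y := by omega
    exact Nat.mul_lt_mul_of_le_of_lt (by gcongr) (by omega) (by positivity)
  exact this.injective h

theorem conj_of_equiv {K : Type*} [Field K] [Fintype K] {k : ℕ} {H : Type*} [Group H] (S' : SzS K k H)
    {M : Subgroup G} (e : M ≃* H) : ∃ (g : G) (L : Subfield F), Nat.card L = 2 ^ (2 * k + 1) ∧
      M = MulAut.conj g • S.R L := by
  obtain ⟨g, L, l, h1, h2, h3, h4⟩ := S.classify (S'.not_solvable_of_equiv e)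
  have h5 := Nat.card_congr e.toEquiv
  rw [S'.card_G, S'.hF, h4, card_smul, S.card_R h1 h2 h3] at h5
  exact ⟨g, L, order_inj h5 ▸ h3, h4⟩

include S in
/-- a subgroup containing an element of order `q + r + 1` -/
theorem eq_top_of_free {M : Subgroup G} (hM : ¬ Group.IsSolvable M)
    (h : 2 ^ (2 * m + 1) + 2 ^ (m + 1) + 1 ∣ Nat.card M) : M = ⊤ := by
  obtain ⟨g, K, k, h1, h2, h3, rfl⟩ := S.classify hM
  by_cases hk : k = m
  · rw [S.eq_top_of_card (K := K) (hk ▸ h3), R_top]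
    ext x
    simp [Subgroup.mem_pointwise_smul_iff_inv_smul_mem]
  exfalso
  rw [card_smul, S.card_R h1 h2 h3, mul_right_comm] at h
  obtain ⟨d, hd⟩ := h2
  have hd3 : 3 ≤ d := by
    have : Odd d := Nat.Odd.of_mul_right (hd ▸ odd_two_mul_add_one m)
    obtain ⟨e, rfl⟩ := this
    rcases Nat.eq_zero_or_pos e with rfl | he
    · omega
    · omega
  have h4 : (2 ^ (2 * k + 1)) ^ 2 * (2 ^ (2 * k + 1) - 1) ∣ Fintype.card F ^ 2 * (Fintype.card F - 1) := by
    rw [S.hF, hd, pow_mul]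
    exact mul_dvd_mul (pow_dvd_pow_of_dvd (dvd_pow_self _ (by omega)) 2) (Nat.sub_one_dvd_pow_sub_one _ _)
  have h5 := (Nat.Coprime.coprime_dvd_right (S.kk_dvd (Or.inl rfl))
    (Nat.Coprime.coprime_dvd_left h4 S.coprime_card)).symm.dvd_of_dvd_mul_left h
  have h6 := Nat.le_of_dvd (by positivity) h5
  have h7 : (2 ^ (2 * k + 1)) ^ 2 ≤ 2 ^ (2 * m + 1) := by
    rw [hd, pow_mul]
    exact Nat.pow_le_pow_right (by positivity) (by omega)
  have : 0 < 2 ^ (m + 1) := by positivity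
  omega

include S in
theorem two_generated : ∃ a b : G, Subgroup.closure ({a, b} : Set G) = ⊤ := by
  have := S.finite
  obtain ⟨g, hg, h1⟩ := S.exists_free (k := 2 ^ (2 * m + 1) + 2 ^ (m + 1) + 1) (Or.inl rfl)
  obtain ⟨c, hc⟩ := (Subgroup.isCyclic_iff_exists_zpowers_eq_top _).1 hg.isCyclic
  have hU : S.Part (Subgroup.centralizer {g}) := Or.inr (Or.inr ⟨g, hg, rfl⟩)
  obtain ⟨y, hy⟩ : ∃ y, y ∉ Subgroup.normalizer (Subgroup.centralizer ({g} : Set G) : Set G) := by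
    by_contra h
    push Not at h
    have h2 := hU.solvable_normalizer
    rw [(Subgroup.eq_top_iff' _).2 h] at h2
    exact S.not_solvable_of_equiv Subgroup.topEquiv h2
  have hcM : c ∈ Subgroup.closure ({c, y} : Set G) := Subgroup.subset_closure (by simp)
  refine ⟨c, y, S.eq_top_of_free (fun h => hy ?_) ?_⟩
  · obtain ⟨U, h2, h3⟩ := S.le_normalizer_of_solvable h
    rw [← hg.eq_of_mem_normalizer h2 (h3 (Subgroup.zpowers_le.2 hcM
      (hc ▸ Subgroup.mem_centralizer_singleton_iff.2 rfl)))]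
    exact h3 (Subgroup.subset_closure (by simp))
  · rw [← h1, ← hc]
    exact Subgroup.card_dvd_of_le (Subgroup.zpowers_le.2 hcM)

end SzS

end H5.Sz
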