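import Cfsg.Agent.H5.SZ11

/-! Suzuki groups: laws, prime graph, minimal degree. -/

namespace H5.Sz
open scoped Pointwise Matrix
open Polynomial

namespace SzS
variable {F : Type*} [Field F] [Fintype F] {m : ℕ} {G : Type*} [Group G] (S : SzS F m G)

/-! ### laws -/

def lft (x : ℕ × Bool) : ℕ := _root_.cond x.2 (2 * x.1 + 1) (2 * x.1 + 2)
def rgt (x : ℕ × Bool) : ℕ := _root_.cond x.2 (2 * x.1 + 2) (2 * x.1 + 1)

noncomputable def lw (t : F) (x : ℕ × Bool) : G := S.u 0 (t ^ lft x) * S.w * S.u 0 (t ^ rgt x)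

omit S in
theorem natDegree_X_pow_add {a b : ℕ} (h : a ≠ b) : (X ^ a + X ^ b : F[X]).natDegree = max a b := by
  rcases lt_or_gt_of_ne h with h | h
  · rw [natDegree_add_eq_right_of_natDegree_lt (by simpa using h), natDegree_X_pow, max_eq_right h.le]
  · rw [natDegree_add_eq_left_of_natDegree_lt (by simpa using h), natDegree_X_pow, max_eq_left h.le]

theorem law_aux (D : ℕ) (L : List (ℕ × Bool)) : ∀ x, FreeGroup.IsReduced (x :: L) →
    (∀ y ∈ x :: L, 2 * y.1 + 2 ≤ D) → ∃ V : Fin 4 → F[X], V 3 ≠ 0 ∧ (∀ i, (V i).natDegree ≤ (V 3).natDegree) ∧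
      (V 3).natDegree ≤ L.length * (D * 2 ^ (m + 1)) ∧
      ∀ t, S.ρ ((x :: L).map (S.lw t)).prod *ᵥ vec S.θ none = uM S.θ 0 (t ^ lft x) *ᵥ fun i => (V i).eval t := by
  induction L with
  | nil =>
    intro x _ _
    refine ⟨![0, 0, 0, 1], by simp, fun i => by fin_cases i <;> simp, by simp, fun t => ?_⟩
    simp only [List.map_cons, List.map_nil, List.prod_cons, List.prod_nil, mul_one, lw, map_mul, ρ_u, ρ_w]
    rw [← Matrix.mulVec_mulVec, ← Matrix.mulVec_mulVec, uM_vec_none, J_vec_none]
    congr 1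
    ext i
    fin_cases i <;> simp [vec, NN]
  | cons y L ih =>
    intro x hx hD
    rw [FreeGroup.isReduced_cons_cons] at hx
    obtain ⟨V, h1, h2, h3, h4⟩ := ih y hx.2 fun z hz => hD z (List.mem_cons_of_mem _ hz)
    have hne : rgt x ≠ lft y := by
      obtain ⟨n, b⟩ := x
      obtain ⟨k, c⟩ := y
      have := hx.1
      cases b <;> cases c <;> simp [rgt, lft] at this ⊢ <;> omega
    have hx1 : rgt x ≤ D := by
      have := hD x (by simp)
      obtain ⟨n, b⟩ := x
      cases b <;> simp [rgt] at this ⊢ <;> omega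
    have hy1 : lft y ≤ D := by
      have := hD y (by simp)
      obtain ⟨n, b⟩ := y
      cases b <;> simp [lft] at this ⊢ <;> omega
    generalize hσ : 2 ^ (m + 1) = σ at *
    have hσ2 : 2 ≤ σ := by
      rw [← hσ, pow_succ]
      have : 0 < 2 ^ m := by positivity
      omega
    generalize ha : rgt x = a at *
    generalize hb : lft y = b at *
    have hM : 0 < max a b := by omega
    have dp := natDegree_X_pow_add (F := F) hne
    have dP : (X ^ (a * σ) + X ^ (b * σ) : F[X]).natDegree = max a b * σ := by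
      rw [natDegree_X_pow_add (fun h => hne (Nat.eq_of_mul_eq_mul_right (by omega) h)), Nat.mul_max_mul_right]
    have hP : (X ^ (a * σ) + X ^ (b * σ) : F[X]) ≠ 0 := by
      intro h
      rw [h, natDegree_zero] at dP
      exact (Nat.mul_pos hM (by omega)).ne dP
    have dPV := natDegree_mul hP h1
    have hlt : max a b < max a b * σ := by nlinarith
    have d3 : (V 0 + (X ^ a + X ^ b) * V 2 + (X ^ (a * σ) + X ^ (b * σ)) * V 3).natDegree =
        max a b * σ + (V 3).natDegree := by
      rw [natDegree_add_eq_right_of_natDegree_lt, dPV, dP]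
      rw [dPV, dP]
      refine (natDegree_add_le _ _).trans_lt (max_lt ?_ (natDegree_mul_le.trans_lt ?_))
      · have := h2 0
        omega
      · have := h2 2
        omega
    refine ⟨![V 3, V 2, V 1 + (X ^ a + X ^ b) * V 3,
      V 0 + (X ^ a + X ^ b) * V 2 + (X ^ (a * σ) + X ^ (b * σ)) * V 3], ?_, ?_, ?_, fun t => ?_⟩
    · intro h
      simp only [Matrix.cons_val] at h
      rw [h, natDegree_zero] at d3
      omega
    · intro i
      fin_cases i <;> simp only [Matrix.cons_val, Fin.zero_eta, Fin.mk_one, Fin.reduceFinMk, d3]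
      · omega
      · have := h2 2
        omega
      · refine (natDegree_add_le _ _).trans (max_le ?_ (natDegree_mul_le.trans ?_))
        · have := h2 1
          omega
        · omega
      · rfl
    · simp only [Matrix.cons_val, d3, List.length_cons]
      have : max a b * σ ≤ D * σ := Nat.mul_le_mul_right _ (max_le hx1 hy1)
      rw [add_mul, one_mul]
      omega
    · rw [List.map_cons, List.prod_cons, map_mul, ← Matrix.mulVec_mulVec, h4, lw, map_mul, map_mul, ρ_u, ρ_u, ρ_w,
        ← Matrix.mulVec_mulVec, ← Matrix.mulVec_mulVec, ha]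
      congr 1
      have e : ∀ k, S.θ (t ^ k) = t ^ (k * σ) := fun k => by rw [S.hθ, hσ, pow_mul]
      ext i
      fin_cases i <;>
        simp [uM, NN, Cfsg.suzukiForm, Matrix.mulVec, dotProduct, Fin.sum_univ_four, e, -map_pow] <;> ring

include S in
theorem law (w : FreeGroup ℕ) (hw : w ≠ 1)
    (hm : w.toWord.length * (2 * (w.toWord.map Prod.fst).sum + 2) ≤ m) :
    ∃ f : ℕ → G, FreeGroup.lift f w ≠ 1 := by
  have hred := FreeGroup.isReduced_toWord (x := w)
  have hmk := FreeGroup.mk_toWord (x := w)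
  have hne : w.toWord ≠ [] := fun h => hw (FreeGroup.toWord_eq_nil_iff.1 h)
  generalize w.toWord = L at *
  obtain ⟨x, L, rfl⟩ := List.exists_cons_of_ne_nil hne
  obtain ⟨V, h1, -, h3, h4⟩ := S.law_aux (2 * ((x :: L).map Prod.fst).sum + 2) L x hred fun y hy => by
    have := List.single_le_sum (l := (x :: L).map Prod.fst) (fun _ _ => Nat.zero_le _) y.1
      (List.mem_map_of_mem hy)
    omega
  obtain ⟨t, ht⟩ := exists_eval_ne_zero_of_natDegree_lt_card (V 3) h1 (by
    rw [Cardinal.mk_fintype, Nat.cast_lt, S.hF]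
    refine h3.trans_lt ?_
    rw [show 2 * m + 1 = m + (m + 1) by ring, pow_add 2 m (m + 1), ← mul_assoc]
    refine Nat.mul_lt_mul_of_lt_of_le (lt_of_le_of_lt ?_ (Nat.lt_two_pow_self)) le_rfl (by positivity)
    exact le_trans (Nat.mul_le_mul_right _ (by simp)) hm)
  refine ⟨fun n => S.lw t (n, true), fun h => ht ?_⟩
  rw [← hmk, FreeGroup.lift_mk] at h
  have e : (fun y : ℕ × Bool => _root_.cond y.2 (S.lw t (y.1, true)) (S.lw t (y.1, true))⁻¹) = S.lw t := by
    funext ⟨n, b⟩
    cases b
    · simp [lw, lft, rgt, u_inv, w_inv, mul_assoc]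
    · rfl
  have h5 := congrFun (h4 t) 3
  rw [e] at h
  rw [h] at h5
  simpa [vec, uM, Matrix.mulVec, dotProduct, Fin.sum_univ_four] using h5.symm

/-! ### prime graph -/

theorem fpf {g : G} (hg : ∀ ω, g ∉ S.P ω) {v : Fin 4 → F} (hv : S.ρ g *ᵥ v = v) : v = 0 := by
  have := S.finite
  rcases S.cases g with ⟨ω, h⟩ | ⟨α, β, h1, h⟩ | h
  · exact absurd h (hg ω)
  · obtain ⟨k, rfl, rfl⟩ := S.exists_smul2 h1
    rw [mem_T_smul, T_std] at h
    obtain ⟨t, ht⟩ := h
    have h2 : S.ρ (S.h t) *ᵥ (S.ρ k⁻¹ *ᵥ v) = S.ρ k⁻¹ *ᵥ v := by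
      rw [ht, Matrix.mulVec_mulVec, ← map_mul, mul_inv_cancel_right, map_mul, ← Matrix.mulVec_mulVec, hv]
    have h3 : S.θe.symm t ≠ 1 := by
      intro h3
      have : t = 1 := Units.ext (by rw [← S.θ_symm t, h3, map_one, Units.val_one])
      rw [this, map_one, eq_comm, ← pow_one (_ * _), conj_pow_eq_one, pow_one] at ht
      exact hg S.inf (ht ▸ Subgroup.one_mem _)
    have h4 : (t : F) * S.θe.symm t ≠ 1 := fun h => h3 (S.θ_mul_eq_one (by rw [θ_symm, mul_comm, h]))
    have h5 : S.ρ k⁻¹ *ᵥ v = 0 := by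
      generalize S.ρ k⁻¹ *ᵥ v = y at h2
      rw [ρ_h] at h2
      have key : ∀ {c x : F}, c ≠ 1 → c * x = x → x = 0 := fun hc h => by
        by_contra hx
        exact hc (mul_right_cancel₀ hx (by rw [h, one_mul]))
      ext i
      have := congrFun h2 i
      fin_cases i <;> simp only [hM, Matrix.mulVec, dotProduct, Fin.sum_univ_four, θ_symm] at this <;>
        simp at this
      · exact key h4 this
      · exact key h3 this
      · exact key (inv_ne_one.2 h3) this
      · exact key (c := ((t : F) * S.θe.symm t)⁻¹) (inv_ne_one.2 h4) (by simpa using this)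
    rw [← Matrix.one_mulVec v, ← map_one S.ρ, ← mul_inv_cancel k, map_mul, ← Matrix.mulVec_mulVec, h5,
      Matrix.mulVec_zero]
  · have h1 : orderOf g ≠ 1 := fun h' => h.ne_one (orderOf_eq_one_iff.1 h')
    obtain ⟨p, hp, hd⟩ := Nat.exists_prime_and_dvd h1
    have h2 := orderOf_pow_orderOf_div (orderOf_pos g).ne' hd
    have h3 : ∀ n, S.ρ (g ^ n) *ᵥ v = v := by
      intro n
      induction n with
      | zero => simp
      | succ n ih => rw [pow_succ, map_mul, ← Matrix.mulVec_mulVec, hv, ih]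
    have h4 := S.ker_eq_bot hp h2 (hd.trans h.orderOf_dvd)
      (W := LinearMap.ker (Matrix.toLin' (S.ρ (g ^ (orderOf g / p))) - 1)) (by
        intro x hx
        rw [LinearMap.mem_ker, LinearMap.sub_apply, sub_eq_zero, Module.End.one_apply] at hx ⊢
        rw [hx, hx]) (by
        rw [Ne, LinearMap.ker_eq_top, sub_eq_zero]
        intro h4
        have h5 : S.ρ (g ^ (orderOf g / p)) = S.ρ 1 := by
          apply Matrix.toLin'.injective
          rw [h4, map_one, Matrix.toLin'_one]
          rfl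
        rw [S.inj h5, orderOf_one] at h2
        exact hp.one_lt.ne h2)
    rw [← Submodule.mem_bot F, ← h4]
    simp [h3, -map_pow]

noncomputable def actV (N : ℕ) : G →* MulAut (Multiplicative (Fin N → Fin 4 → F)) :=
  MonoidHom.mk' (fun g => AddEquiv.toMultiplicative
    { toFun := fun v i => S.ρ g *ᵥ v i
      invFun := fun v i => S.ρ g⁻¹ *ᵥ v i
      left_inv := fun v => by simp [← map_mul]
      right_inv := fun v => by simp [← map_mul]
      map_add' := fun v w => by ext; simp [Matrix.mulVec_add] })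
    (fun a b => by ext; simp)

include S in
theorem prime_graph (N : ℕ) : ∃ (H : Type) (_ : Group H) (_ : Fintype H), N < Fintype.card H ∧
    ((∀ r : ℕ, r.Prime → (r ∣ Nat.card G ↔ r ∣ Nat.card H)) ∧
      (∀ r s : ℕ, r.Prime → s.Prime → r ≠ s → ((∃ x : G, orderOf x = r * s) ↔ (∃ y : H, orderOf y = r * s)))) := by
  have := S.finite
  have := S.charP
  let H0 := Multiplicative (Fin N → Fin 4 → F) ⋊[S.actV N] G
  have hcard : Nat.card H0 = (Fintype.card F ^ 4) ^ N * Nat.card G := by
    rw [SemidirectProduct.card]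
    simp
  have h8 := S.eight_le
  have hpos : 0 < Nat.card G := Nat.card_pos
  have : Finite H0 := Nat.finite_of_card_ne_zero (by rw [hcard]; positivity)
  obtain ⟨H, _, _, ⟨e⟩⟩ := Finite.exists_type_univ_nonempty_mulEquiv.{_, 0} H0
  have hH := Nat.card_congr e.toEquiv
  refine ⟨H, inferInstance, inferInstance, ?_, fun r hr => ?_, fun r s hr hs hrs => ?_⟩
  · rw [← Nat.card_eq_fintype_card, ← hH, hcard]
    exact (Nat.lt_pow_self (Nat.one_lt_pow (by norm_num) (by omega))).trans_le (Nat.le_mul_of_pos_right _ hpos)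
  · rw [← hH, hcard]
    refine ⟨fun h => Dvd.dvd.mul_left h _, fun h => ((Nat.Prime.dvd_mul hr).1 h).elim (fun h => ?_) id⟩
    rw [S.card_G, mul_assoc, pow_two, mul_assoc]
    exact Dvd.dvd.mul_right (hr.dvd_of_dvd_pow (hr.dvd_of_dvd_pow h)) _
  constructor
  · rintro ⟨x, hx⟩
    exact ⟨e (SemidirectProduct.inr x), by
      rw [e.orderOf_eq, orderOf_injective _ SemidirectProduct.inr_injective, hx]⟩
  rintro ⟨y, hy⟩
  obtain ⟨y, rfl⟩ := e.surjective y
  rw [e.orderOf_eq] at hy
  have hker : ∀ z : H0, z.right = 1 → z ^ 2 = 1 := by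
    intro z hz
    rw [← z.inl_left_mul_inr_right, hz, map_one, mul_one, ← map_pow, ← map_one SemidirectProduct.inl]
    congr 1
    apply Multiplicative.toAdd.injective
    ext i j
    simp [CharTwo.two_eq_zero]
  have key : ∀ r s : ℕ, r.Prime → s.Prime → r ≠ s → orderOf y = r * s → y.right ^ s ≠ 1 := by
    intro r s hr hs hrs hy h
    have h1 : (y ^ s).right = 1 := (map_pow SemidirectProduct.rightHom y s).trans h
    have h2 : r * s ∣ 2 * s := by
      rw [← hy, mul_comm]
      exact orderOf_dvd_of_pow_eq_one (by rw [pow_mul, hker _ h1])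
    obtain rfl := (Nat.prime_dvd_prime_iff_eq hr Nat.prime_two).1 (Nat.dvd_of_mul_dvd_mul_right hs.pos h2)
    have h3 : ∀ ω, y.right ∉ S.P ω := by
      intro ω hω
      have h4 : y.right = 1 := (pow_eq_one_iff_of_coprime (Nat.Coprime.pow_left 2
        ((Nat.coprime_primes hr hs).2 hrs))).1 ⟨hω.2, h⟩
      have h5 := orderOf_dvd_of_pow_eq_one (hker y h4)
      rw [hy] at h5
      have := Nat.le_of_dvd two_pos h5
      have := hs.two_le
      omega
    have h4 := congrArg SemidirectProduct.left (Commute.self_pow y s).eq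
    rw [SemidirectProduct.mul_left, SemidirectProduct.mul_left, h1, map_one, MulAut.one_apply, mul_comm,
      mul_left_inj] at h4
    have h5 : (y ^ s).left = 1 := by
      apply Multiplicative.toAdd.injective
      funext i
      exact S.fpf h3 (congrFun (congrArg Multiplicative.toAdd h4) i)
    have h6 : y ^ s = 1 := SemidirectProduct.ext h5 h1
    have := Nat.le_of_dvd hs.pos (hy ▸ orderOf_dvd_of_pow_eq_one h6)
    have := hs.pos
    omega
  refine ⟨y.right, ?_⟩
  have h1 : y.right ^ (r * s) = 1 := by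
    rw [← hy]
    exact (map_pow SemidirectProduct.rightHom y _).symm.trans (by rw [pow_orderOf_eq_one, map_one])
  refine orderOf_eq_of_pow_and_pow_div_prime (Nat.mul_pos hr.pos hs.pos) h1 fun p hp hd => ?_
  rcases (Nat.Prime.dvd_mul hp).1 hd with h | h
  · obtain rfl := (Nat.prime_dvd_prime_iff_eq hp hr).1 h
    rw [Nat.mul_div_cancel_left _ hp.pos]
    exact key _ _ hr hs hrs hy
  · obtain rfl := (Nat.prime_dvd_prime_iff_eq hp hs).1 h
    rw [Nat.mul_div_cancel _ hp.pos]
    exact key _ _ hs hr hrs.symm (by rw [hy, mul_comm])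

/-! ### minimal degree -/

theorem min_degree {V : Type*} [AddCommGroup V] [Module ℂ V] [FiniteDimensional ℂ V]
    (r : G →* Module.End ℂ V) (hr : r (S.u 0 1) ≠ 1) :
    2 ^ m * (2 ^ (2 * m + 1) - 1) ≤ Module.finrank ℂ V := by
  classical
  have := S.charP
  let ψ := AddChar.FiniteField.primitiveChar_to_Complex F
  have hψ : ψ.IsPrimitive := AddChar.FiniteField.primitiveChar_to_Complex_isPrimitive F
  have hq : (Fintype.card F : ℂ) ≠ 0 := Nat.cast_ne_zero.2 Fintype.card_ne_zero
  have hsum : ∀ b, ∑ x, ψ (x * b) = if b = 0 then (Fintype.card F : ℂ) else 0 := fun b => by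
    simpa using AddChar.sum_mulShift b hψ
  let W : F → Submodule ℂ V := fun s =>
    { carrier := {v | ∀ b, r (S.u 0 b) v = ψ (b * s) • v}
      add_mem' := fun hv hw b => by rw [map_add, hv, hw, smul_add]
      zero_mem' := fun b => by simp
      smul_mem' := fun c v hv b => by rw [map_smul, hv, smul_comm] }
  have hW : ∀ s v, v ∈ W s ↔ ∀ b, r (S.u 0 b) v = ψ (b * s) • v := fun _ _ => Iff.rfl
  let e : F → Module.End ℂ V := fun s => ∑ b, ψ (b * s) • r (S.u 0 b)
  have he1 : ∀ s v, e s v ∈ W s := by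
    intro s v d
    simp only [e, LinearMap.sum_apply, LinearMap.smul_apply, map_sum, map_smul, Finset.smul_sum]
    refine Fintype.sum_equiv (Equiv.addLeft d) _ _ fun b => ?_
    rw [← Module.End.mul_apply, ← map_mul, z_mul, smul_smul, ← AddChar.map_add_eq_mul, Equiv.coe_addLeft]
    congr 2
    grind
  have he2 : ∀ s t v, v ∈ W t → e s v = (if s = t then (Fintype.card F : ℂ) else 0) • v := by
    intro s t v hv
    simp only [e, LinearMap.sum_apply, LinearMap.smul_apply, (hW t v).1 hv, smul_smul, ← AddChar.map_add_eq_mul,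
      ← mul_add, ← Finset.sum_smul, hsum, CharTwo.add_eq_zero]
  have he3 : ∀ v, ∑ s, e s v = (Fintype.card F : ℂ) • v := by
    intro v
    simp only [e, LinearMap.sum_apply, LinearMap.smul_apply]
    rw [Finset.sum_comm]
    have : ∀ b : F, ∑ s, ψ (b * s) = if b = 0 then (Fintype.card F : ℂ) else 0 := fun b => by
      rw [← hsum]; simp only [mul_comm]
    simp [← Finset.sum_smul, this]
  have hh : ∀ (s : Fˣ), ∃ g : G, ∀ t v, v ∈ W t → r g v ∈ W (s * t) := by
    intro s
    obtain ⟨k, hk⟩ := S.exists_conj_z s.ne_zero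
    refine ⟨(S.h k)⁻¹, fun t v hv b => ?_⟩
    rw [← Module.End.mul_apply, ← map_mul, show S.u 0 b * (S.h k)⁻¹ = (S.h k)⁻¹ * S.u 0 (s * b) by
      rw [← hk]; group, map_mul, Module.End.mul_apply, hv, map_smul]
    congr 2
    ring
  choose g hg using hh
  have hinj : ∀ (x : G) (v : V), r x v = 0 → v = 0 := fun x v h => by
    rw [← Module.End.one_apply (R := ℂ) v, ← map_one r, ← inv_mul_cancel x, map_mul, Module.End.mul_apply, h,
      map_zero]
  -- `W 1` is non-zero
  have hW1 : 0 < Module.finrank ℂ (W 1) := by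
    by_contra h
    have h1 : W 1 = ⊥ := Submodule.finrank_eq_zero.1 (by omega)
    apply hr
    ext v
    have h2 : ∀ s, s ≠ 0 → e s v = 0 := by
      intro s hs
      have := hg (Units.mk0 s hs)⁻¹ s _ (he1 s v)
      rw [Units.val_inv_eq_inv_val, Units.val_mk0, inv_mul_cancel₀ hs, h1, Submodule.mem_bot] at this
      exact hinj _ _ this
    have h3 := he3 v
    rw [Finset.sum_eq_single 0 (fun s _ hs => h2 s hs) (by simp)] at h3
    have h4 := he1 0 v 1
    rw [h3, map_smul] at h4
    simpa [hq] using h4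
  -- the sum of the `W s`
  have hsum2 : (Fintype.card F - 1) * Module.finrank ℂ (W 1) ≤ Module.finrank ℂ V := by
    let f : (Fˣ → W 1) →ₗ[ℂ] V := ∑ s, r (g s) ∘ₗ (W 1).subtype ∘ₗ LinearMap.proj s
    have := LinearMap.finrank_le_finrank_of_injective (f := f) (by
      rw [injective_iff_map_eq_zero]
      intro v hv
      ext t
      have h1 := congrArg (e t) hv
      simp only [f, LinearMap.sum_apply, LinearMap.comp_apply, LinearMap.proj_apply, map_sum,
        Submodule.subtype_apply, he2 _ _ _ (hg _ _ _ (v _).2), mul_one, Units.val_inj, map_zero] at h1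
      simpa [hq] using hinj _ _ (by simpa [hq] using h1 : r (g t) (v t) = 0))
    rwa [Module.finrank_pi_fintype, Finset.sum_const, Finset.card_univ, Fintype.card_units, smul_eq_mul] at this
  -- the action of `U` on `W 1`
  have hU : ∀ a b, ∀ v ∈ W 1, r (S.u a b) v ∈ W 1 := by
    intro a b v hv d
    rw [← Module.End.mul_apply, ← map_mul, z_comm, map_mul, Module.End.mul_apply, hv, map_smul]
  let A : F → F → Module.End ℂ (W 1) := fun a b => (r (S.u a b)).restrict (hU a b)
  have hA : ∀ a b c d, A a b * A c d = A (a + c) (b + d + S.θ a * c) := by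
    intro a b c d
    ext v
    show r (S.u a b) (r (S.u c d) v) = r (S.u _ _) v
    rw [← Module.End.mul_apply, ← map_mul, u_mul]
  have hA0 : ∀ b, A 0 b = ψ b • 1 := by
    intro b
    ext v
    simpa [A] using v.2 b
  obtain ⟨κ, hκ⟩ : ∃ κ, ∀ y, ψ (S.θ y) = ψ (κ * y) := by
    obtain ⟨κ, hκ⟩ := ((Fintype.bijective_iff_injective_and_card _).2
      ⟨AddChar.to_mulShift_inj_of_isPrimitive hψ, AddChar.card_eq.symm⟩).2
      (ψ.compAddMonoidHom S.θ.toAddMonoidHom)
    exact ⟨κ, fun y => (DFunLike.congr_fun hκ y).symm⟩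
  have htr : ∀ a b, a ≠ 0 → a ≠ S.θ κ → LinearMap.trace ℂ _ (A a b) = 0 := by
    intro a b h0 h1
    obtain ⟨a, rfl⟩ := S.θ_surj a
    have h2 : κ * a + a ^ 2 ≠ 0 := by
      intro h
      have : a * (a + κ) = 0 := by grind
      rcases mul_eq_zero.1 this with h | h
      · exact h0 (by rw [h, map_zero])
      · exact h1 (by rw [show a = κ by grind])
    obtain ⟨c, hc⟩ := AddChar.ne_one_iff.1 (hψ h2)
    have e1 : A c 0 * A (S.θ a) b * A c (S.θ c * c) = A (S.θ a) b * A 0 (S.θ (c * a) + a ^ 2 * c) := by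
      rw [hA, hA, hA]
      simp only [map_add, map_mul, θθ]
      congr 1 <;> grind
    have e2 := congrArg (LinearMap.trace ℂ _) e1
    rw [LinearMap.trace_mul_comm, ← mul_assoc, hA, CharTwo.add_self_eq_zero, add_zero, CharTwo.add_self_eq_zero,
      hA0, hA0, AddChar.map_zero_eq_one, one_smul, one_mul, mul_smul_comm, mul_one, map_smul, smul_eq_mul,
      AddChar.map_add_eq_mul, hκ, ← AddChar.map_add_eq_mul] at e2
    by_contra h3
    apply hc
    rw [AddChar.mulShift_apply, show (κ * a + a ^ 2) * c = κ * (c * a) + a ^ 2 * c by ring]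
    exact mul_right_cancel₀ h3 (by rw [← e2, one_mul])
  have hκ0 : S.θ κ ≠ 0 := by
    rw [_root_.map_ne_zero]
    rintro rfl
    obtain ⟨c, hc⟩ := AddChar.ne_one_iff.1 (hψ one_ne_zero)
    obtain ⟨c, rfl⟩ := S.θ_surj c
    simp [hκ] at hc
  obtain ⟨μ, hμ⟩ := AddChar.ne_one_iff.1 (hψ hκ0)
  rw [AddChar.mulShift_apply] at hμ
  let I := {a : F // ψ (a * μ) = 1}
  have hI : Fintype.card F ≤ 2 * Fintype.card I := by
    have hsq : ∀ x, ψ x ≠ 1 → ψ x = -1 := fun x h => (mul_self_eq_one_iff.1 (by
      rw [← AddChar.map_add_eq_mul, CharTwo.add_self_eq_zero, AddChar.map_zero_eq_one])).resolve_left h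
    have h1 := Fintype.card_subtype_compl (fun a : F => ψ (a * μ) = 1)
    have h2 := Fintype.card_le_of_injective (α := {a : F // ¬ ψ (a * μ) = 1}) (β := I)
      (fun a => ⟨a + S.θ κ, by rw [add_mul, AddChar.map_add_eq_mul, hsq _ a.2, hsq _ hμ]; simp⟩)
      (fun a b h => Subtype.ext (add_right_cancel (congrArg Subtype.val h)))
    simp only [I] at h2 ⊢
    omega
  have hlin : LinearIndependent ℂ fun a : I => A a 0 := by
    rw [Fintype.linearIndependent_iff]
    intro c hc a
    have h1 := congrArg (fun X => LinearMap.trace ℂ _ (A a (S.θ a * a) * X)) hc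
    simp only [Finset.mul_sum, mul_smul_comm, map_sum, map_smul, hA, mul_zero, map_zero] at h1
    rw [Finset.sum_eq_single a (fun b _ hb => by
      rw [htr _ _ (fun h => hb (Subtype.ext (CharTwo.add_eq_zero.1 h).symm)) (fun h => hμ (by
        rw [← h, add_mul, AddChar.map_add_eq_mul, a.2, b.2, one_mul])), smul_zero]) (by simp),
      CharTwo.add_self_eq_zero, add_zero, CharTwo.add_self_eq_zero, hA0] at h1
    simpa [hW1.ne'] using h1
  have h2 := hlin.fintype_card_le_finrank
  rw [Module.finrank_linearMap] at h2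
  have h3 : 2 ^ m ≤ Module.finrank ℂ (W 1) := by
    rw [S.hF, pow_succ, mul_comm 2 m, pow_mul] at hI
    exact (pow_le_pow_iff_left₀ (by positivity) (by positivity) two_ne_zero).1 (by nlinarith)
  rw [← S.hF, mul_comm]
  exact (Nat.mul_le_mul_left _ h3).trans hsum2

end SzS

end H5.Sz
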