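import Cfsg.Agent.H5.SZ1

/-! Suzuki groups: the abstract set-up and the action on the ovoid. -/

namespace H5.Sz
open Matrix Cfsg.Lie

theorem charP_of_card {F : Type*} [Field F] [Fintype F] {m : ℕ}
    (hF : Fintype.card F = 2 ^ (2 * m + 1)) : CharP F 2 :=
  charP_of_card_eq_prime_pow hF

theorem pow_pow_sq {F : Type*} [Field F] [Fintype F] {m : ℕ}
    (hF : Fintype.card F = 2 ^ (2 * m + 1)) (x : F) : (x ^ 2 ^ (m + 1)) ^ 2 ^ (m + 1) = x ^ 2 := by
  rw [← pow_mul, ← pow_add, show m + 1 + (m + 1) = (2 * m + 1) + 1 by ring, pow_succ, pow_mul, ← hF,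
    FiniteField.pow_card]

structure SzS (F : Type*) [Field F] [Fintype F] (m : ℕ) (G : Type*) [Group G] where
  hm : 1 ≤ m
  hF : Fintype.card F = 2 ^ (2 * m + 1)
  θ : F →+* F
  hθ : ∀ x, θ x = x ^ 2 ^ (m + 1)
  ρ : G →* M4 F
  inj : Function.Injective ρ
  mem : ∀ M, (∃ g, ρ g = M) ↔ Cond θ M

namespace SzS
variable {F : Type*} [Field F] [Fintype F] {m : ℕ} {G : Type*} [Group G] (S : SzS F m G)

/-- transport along an isomorphism -/
def comp {H : Type*} [Group H] (e : H ≃* G) : SzS F m H where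
  hm := S.hm
  hF := S.hF
  θ := S.θ
  hθ := S.hθ
  ρ := S.ρ.comp e.toMonoidHom
  inj := S.inj.comp e.injective
  mem M := by
    rw [← S.mem]
    constructor
    · rintro ⟨g, rfl⟩
      exact ⟨e g, rfl⟩
    · rintro ⟨g, rfl⟩
      exact ⟨e.symm g, by simp⟩

include S in
theorem charP : CharP F 2 := charP_of_card S.hF

theorem θθ (x : F) : S.θ (S.θ x) = x ^ 2 := by rw [S.hθ, S.hθ, pow_pow_sq S.hF]

include S in
theorem eight_le : 8 ≤ Fintype.card F := by
  rw [S.hF]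
  calc 8 = 2 ^ 3 := rfl
    _ ≤ 2 ^ (2 * m + 1) := Nat.pow_le_pow_right (by norm_num) (by have := S.hm; omega)

include S in
theorem exists_ne01 : ∃ x : F, x ≠ 0 ∧ x ≠ 1 := by
  classical
  by_contra h
  push Not at h
  have : (Finset.univ : Finset F) ⊆ {0, 1} := by
    intro x _
    by_cases hx : x = 0
    · simp [hx]
    · simp [h x hx]
  have h1 := Finset.card_le_card this
  have h2 := Finset.card_le_two (a := (0 : F)) (b := 1)
  have := S.eight_le
  simp at h1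
  omega

theorem θ_fix {x : F} (h : S.θ x = x) : x = 0 ∨ x = 1 := by
  have := S.θθ x
  rw [h, h] at this
  by_cases hx : x = 0
  · exact Or.inl hx
  · right
    apply mul_left_cancel₀ hx
    rw [mul_one, ← pow_two, ← this]

theorem θ_surj : Function.Surjective S.θ := Finite.surjective_of_injective S.θ.injective

theorem big : ∃ x, S.θ x ≠ x ^ 2 := by
  obtain ⟨x, h0, h1⟩ := S.exists_ne01
  obtain ⟨y, rfl⟩ := S.θ_surj x
  refine ⟨y, fun h => ?_⟩
  rw [← S.θθ] at h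
  exact (S.θ_fix h.symm).elim h0 h1

theorem θ_mul_eq_one {t : F} (h : t * S.θ t = 1) : t = 1 := by
  have h1 := congrArg S.θ h
  rw [map_mul, S.θθ, map_one] at h1
  linear_combination h1 - t * h

theorem θ_mul_inj {s t : F} (h : s * S.θ s = t * S.θ t) : s = t := by
  by_cases ht : t = 0
  · subst ht
    simpa using h
  · have ht' : S.θ t ≠ 0 := (map_ne_zero _).2 ht
    have : s / t = 1 := S.θ_mul_eq_one (by rw [map_div₀]; field_simp; exact h)
    exact (div_eq_one_iff_eq ht).1 this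

theorem θ_mul_surj (b : F) : ∃ t, t * S.θ t = b :=
  Finite.surjective_of_injective (f := fun t => t * S.θ t) (fun _ _ h => S.θ_mul_inj h) b

noncomputable def θe : F ≃+* F := RingEquiv.ofBijective S.θ ⟨S.θ.injective, S.θ_surj⟩

@[simp] theorem θ_symm (t : F) : S.θ (S.θe.symm t) = t := S.θe.apply_symm_apply t

theorem symm_sq (t : F) : (S.θe.symm t) ^ 2 = S.θ t := by rw [← S.θθ, S.θ_symm]

theorem cond (g : G) : Cond S.θ (S.ρ g) := (S.mem _).1 ⟨g, rfl⟩

include S in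
theorem finite : Finite G := Finite.of_injective _ S.inj

noncomputable def u (a b : F) : G :=
  haveI := S.charP
  ((S.mem _).2 (cond_u S.θθ a b)).choose

theorem ρ_u (a b : F) : S.ρ (S.u a b) = uM S.θ a b :=
  haveI := S.charP
  ((S.mem _).2 (cond_u S.θθ a b)).choose_spec

noncomputable def w : G :=
  haveI := S.charP
  ((S.mem _).2 (cond_J S.θ)).choose

theorem ρ_w : S.ρ S.w = JM F :=
  haveI := S.charP
  ((S.mem _).2 (cond_J S.θ)).choose_spec

theorem symm_ne (t : Fˣ) : S.θe.symm (t : F) ≠ 0 := by simp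

noncomputable def h0 (t : Fˣ) : G := ((S.mem _).2 (cond_h S.θθ (S.symm_ne t))).choose

theorem ρ_h0 (t : Fˣ) : S.ρ (S.h0 t) = hM S.θ (S.θe.symm t) :=
  ((S.mem _).2 (cond_h S.θθ (S.symm_ne t))).choose_spec

noncomputable def h : Fˣ →* G := MonoidHom.mk' S.h0 (by
  intro s t
  apply S.inj
  rw [map_mul, ρ_h0, ρ_h0, ρ_h0]
  ext i j
  fin_cases i <;> fin_cases j <;> simp [hM, Matrix.mul_apply, Fin.sum_univ_four] <;> ring)

theorem ρ_h (t : Fˣ) : S.ρ (S.h t) = hM S.θ (S.θe.symm t) := S.ρ_h0 t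

theorem u_mul (a b c d : F) : S.u a b * S.u c d = S.u (a + c) (b + d + S.θ a * c) := by
  have := S.charP
  apply S.inj
  rw [map_mul, ρ_u, ρ_u, ρ_u, uM_mul S.θθ]

@[simp] theorem u_zero : S.u 0 0 = 1 := by
  apply S.inj
  rw [ρ_u, map_one]
  ext i j
  fin_cases i <;> fin_cases j <;> simp [uM, NN]

theorem u_inj {a b c d : F} (h : S.u a b = S.u c d) : a = c ∧ b = d := by
  have := congrArg S.ρ h
  rw [ρ_u, ρ_u] at this
  exact ⟨by simpa [uM] using congrFun (congrFun this 0) 1, by simpa [uM] using congrFun (congrFun this 1) 3⟩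

theorem u_eq_iff {a b c d : F} : S.u a b = S.u c d ↔ a = c ∧ b = d :=
  ⟨S.u_inj, by rintro ⟨rfl, rfl⟩; rfl⟩

theorem u_eq_one {a b : F} : S.u a b = 1 ↔ a = 0 ∧ b = 0 := by rw [← S.u_zero, u_eq_iff]

theorem u_inv (a b : F) : (S.u a b)⁻¹ = S.u a (b + S.θ a * a) := by
  have := S.charP
  rw [inv_eq_iff_mul_eq_one, u_mul, u_eq_one]
  constructor <;> grind

theorem u_sq (a b : F) : S.u a b ^ 2 = S.u 0 (S.θ a * a) := by
  have := S.charP
  rw [pow_two, u_mul, u_eq_iff]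
  constructor <;> grind

theorem u_pow_four (a b : F) : S.u a b ^ 4 = 1 := by
  rw [show 4 = 2 * 2 from rfl, pow_mul, u_sq, u_sq]
  simp

theorem h_mul_u (t : Fˣ) (a b : F) : S.h t * S.u a b = S.u (t * a) (t * S.θ t * b) * S.h t := by
  apply S.inj
  rw [map_mul, map_mul, ρ_u, ρ_u, ρ_h, hM_uM S.θθ (S.symm_ne t), S.θ_symm, S.symm_sq]

theorem h_u (t : Fˣ) (a b : F) : S.h t * S.u a b * (S.h t)⁻¹ = S.u (t * a) (t * S.θ t * b) := by
  rw [h_mul_u, mul_inv_cancel_right]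

theorem w_mul_w : S.w * S.w = 1 := by
  apply S.inj
  rw [map_mul, ρ_w, J_mul_J, map_one]

theorem w_inv : S.w⁻¹ = S.w := inv_eq_of_mul_eq_one_right S.w_mul_w

theorem w_h (t : Fˣ) : S.w * S.h t * S.w⁻¹ = (S.h t)⁻¹ := by
  rw [w_inv, ← map_inv]
  apply S.inj
  rw [map_mul, map_mul, ρ_w, ρ_h, ρ_h]
  ext i j
  fin_cases i <;> fin_cases j <;>
    simp [hM, Cfsg.suzukiForm, Matrix.mul_apply, Fin.sum_univ_four, Matrix.vecMul, dotProduct] <;> ring

/-! ### the action -/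

def Ω (_ : SzS F m G) : Type _ := Option (F × F)

def inf : S.Ω := none
def pt (x y : F) : S.Ω := some (x, y)
def v (ω : S.Ω) : Fin 4 → F := vec S.θ ω

noncomputable instance instFintypeΩ : Fintype S.Ω := inferInstanceAs (Fintype (Option (F × F)))

theorem Ω_cases (ω : S.Ω) : ω = S.inf ∨ ∃ x y, ω = S.pt x y := by
  rcases ω with _ | ⟨x, y⟩
  · exact Or.inl rfl
  · exact Or.inr ⟨x, y, rfl⟩

theorem pt_ne_inf (x y : F) : S.pt x y ≠ S.inf := by simp [pt, inf, Ω]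

theorem pt_inj {x y x' y' : F} : S.pt x y = S.pt x' y' ↔ x = x' ∧ y = y' := by
  constructor
  · intro h
    simpa using Option.some_injective _ h
  · rintro ⟨rfl, rfl⟩
    rfl

theorem exists_pt {ω : S.Ω} (h : ω ≠ S.inf) : ∃ x y, ω = S.pt x y := (S.Ω_cases ω).resolve_left h

theorem card_Ω : Nat.card S.Ω = Fintype.card F ^ 2 + 1 := by
  show Nat.card (Option (F × F)) = _
  simp [pow_two]

theorem pres (g : G) : Pres S.θ (S.ρ g) :=
  haveI := S.charP
  (S.cond g).pres S.θθ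

noncomputable def act (g : G) (ω : S.Ω) : S.Ω := (S.pres g ω).choose

theorem act_spec (g : G) (ω : S.Ω) : ∃ c : F, c ≠ 0 ∧ S.ρ g *ᵥ S.v ω = c • S.v (S.act g ω) :=
  (S.pres g ω).choose_spec

theorem act_eq {g : G} {ω ω' : S.Ω} {c : F} (h : S.ρ g *ᵥ S.v ω = c • S.v ω') : S.act g ω = ω' := by
  obtain ⟨d, hd, h1⟩ := S.act_spec g ω
  exact vec_inj S.θ hd (h1.symm.trans h)

noncomputable instance instMulActionΩ : MulAction G S.Ω where
  smul := S.act
  one_smul ω := S.act_eq (c := 1) (by simp)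
  mul_smul g k ω := by
    obtain ⟨c, -, h1⟩ := S.act_spec k ω
    obtain ⟨d, -, h2⟩ := S.act_spec g (S.act k ω)
    exact S.act_eq (c := c * d) (by
      rw [map_mul, ← Matrix.mulVec_mulVec, h1, Matrix.mulVec_smul, h2, smul_smul]; rfl)

theorem smul_spec (g : G) (ω : S.Ω) : ∃ c : F, c ≠ 0 ∧ S.ρ g *ᵥ S.v ω = c • S.v (g • ω) :=
  S.act_spec g ω

theorem smul_eq {g : G} {ω ω' : S.Ω} {c : F} (h : S.ρ g *ᵥ S.v ω = c • S.v ω') : g • ω = ω' :=
  S.act_eq h

theorem u_inf (a b : F) : S.u a b • S.inf = S.inf :=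
  S.smul_eq (c := 1) (by rw [ρ_u, one_smul]; exact uM_vec_none a b)

theorem u_pt (a b x y : F) : S.u a b • S.pt x y = S.pt (x + a) (y + b + S.θ a * x) :=
  haveI := S.charP
  S.smul_eq (c := 1) (by rw [ρ_u, one_smul]; exact uM_vec S.θθ a b x y)

theorem h_inf (t : Fˣ) : S.h t • S.inf = S.inf :=
  S.smul_eq (by rw [ρ_h]; exact hM_vec_none _)

theorem h_pt (t : Fˣ) (x y : F) : S.h t • S.pt x y = S.pt (t * x) (t * S.θ t * y) :=
  S.smul_eq (by
    rw [ρ_h]
    have := hM_vec S.θθ (S.symm_ne t) x y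
    rw [S.θ_symm, S.symm_sq] at this
    exact this)

theorem h_zero (t : Fˣ) : S.h t • S.pt 0 0 = S.pt 0 0 := by rw [h_pt]; simp

theorem w_inf : S.w • S.inf = S.pt 0 0 :=
  S.smul_eq (c := 1) (by rw [ρ_w, one_smul]; exact J_vec_none)

theorem w_zero : S.w • S.pt 0 0 = S.inf :=
  S.smul_eq (c := 1) (by rw [ρ_w, one_smul]; exact J_vec_zero)

theorem w_pt {x y : F} (h : NN S.θ x y ≠ 0) :
    S.w • S.pt x y = S.pt (y / NN S.θ x y) (x / NN S.θ x y) :=
  haveI := S.charP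
  S.smul_eq (by rw [ρ_w]; exact J_vec S.θθ h)

theorem fix2 {g : G} (h1 : g • S.inf = S.inf) (h2 : g • S.pt 0 0 = S.pt 0 0) : ∃ t, g = S.h t := by
  have := S.charP
  obtain ⟨c, -, hc⟩ := S.smul_spec g S.inf
  obtain ⟨d, -, hd⟩ := S.smul_spec g (S.pt 0 0)
  rw [h1] at hc
  rw [h2] at hd
  obtain ⟨k, hk, h⟩ := diag_of_fix S.θθ S.big S.θ_surj (S.pres g) (S.cond g).det hc hd
  refine ⟨Units.mk0 (S.θ k) ((map_ne_zero _).2 hk), S.inj ?_⟩
  rw [h, ρ_h]
  congr 1
  exact (S.θe.symm_apply_apply k).symm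

theorem fix1 {g : G} (h1 : g • S.inf = S.inf) : ∃ a b t, g = S.u a b * S.h t := by
  obtain ⟨a, b, hab⟩ := S.exists_pt (ω := g • S.pt 0 0) (by
    rw [← h1]; intro h; exact S.pt_ne_inf 0 0 (MulAction.injective g h))
  obtain ⟨t, ht⟩ := S.fix2 (g := (S.u a b)⁻¹ * g)
    (by rw [mul_smul, h1, inv_smul_eq_iff, u_inf])
    (by rw [mul_smul, hab, inv_smul_eq_iff, u_pt]; simp)
  exact ⟨a, b, t, by rw [← ht]; simp⟩

theorem h_inj : Function.Injective S.h := by
  intro s t h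
  have := S.h_pt s 1 0
  rw [h, h_pt, pt_inj] at this
  exact Units.ext (by simpa using this.1.symm)

theorem h_fix_pt {t : Fˣ} {x y : F} (h : S.h t • S.pt x y = S.pt x y) : t = 1 ∨ (x = 0 ∧ y = 0) := by
  rw [h_pt, pt_inj] at h
  by_cases ht : t = 1
  · exact Or.inl ht
  right
  have h1 : (t : F) ≠ 1 := fun h => ht (Units.ext h)
  have h2 : (t : F) * S.θ t ≠ 1 := fun h => h1 (S.θ_mul_eq_one h)
  constructor
  · by_contra hx
    exact h1 (mul_right_cancel₀ hx (by rw [h.1, one_mul]))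
  · by_contra hy
    exact h2 (mul_right_cancel₀ hy (by rw [h.2, one_mul]))

theorem exists_smul_inf (ω : S.Ω) : ∃ g : G, g • S.inf = ω := by
  rcases S.Ω_cases ω with rfl | ⟨x, y, rfl⟩
  · exact ⟨1, one_smul _ _⟩
  · exact ⟨S.u x y * S.w, by rw [mul_smul, w_inf, u_pt]; simp⟩

theorem exists_smul2 {α β : S.Ω} (h : α ≠ β) : ∃ g : G, g • S.inf = α ∧ g • S.pt 0 0 = β := by
  obtain ⟨g, rfl⟩ := S.exists_smul_inf α
  obtain ⟨x, y, hxy⟩ := S.exists_pt (ω := g⁻¹ • β) (by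
    intro h1; exact h (by rw [← h1, smul_inv_smul]))
  refine ⟨g * S.u x y, by rw [mul_smul, u_inf], ?_⟩
  rw [mul_smul, u_pt, ← eq_inv_smul_iff, hxy]
  simp

instance instIsPretransitive : MulAction.IsPretransitive G S.Ω where
  exists_smul_eq α β := by
    obtain ⟨g, rfl⟩ := S.exists_smul_inf α
    obtain ⟨k, rfl⟩ := S.exists_smul_inf β
    exact ⟨k * g⁻¹, by simp [mul_smul]⟩

theorem two_trans {α β γ δ : S.Ω} (h : α ≠ β) (h' : γ ≠ δ) : ∃ g : G, g • α = γ ∧ g • β = δ := by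
  obtain ⟨g, rfl, rfl⟩ := S.exists_smul2 h
  obtain ⟨k, rfl, rfl⟩ := S.exists_smul2 h'
  exact ⟨k * g⁻¹, by simp [mul_smul], by simp [mul_smul]⟩

theorem isMultiplyPretransitive_two : MulAction.IsMultiplyPretransitive G S.Ω 2 :=
  MulAction.is_two_pretransitive_iff.2 fun h h' => S.two_trans h h'

theorem fix3 {g : G} {α β γ : S.Ω} (h1 : α ≠ β) (h2 : β ≠ γ) (h3 : α ≠ γ) (ha : g • α = α)
    (hb : g • β = β) (hc : g • γ = γ) : g = 1 := by
  obtain ⟨k, rfl, rfl⟩ := S.exists_smul2 h1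
  obtain ⟨t, ht⟩ := S.fix2 (g := k⁻¹ * g * k) (by rw [mul_smul, mul_smul, ha, inv_smul_smul])
    (by rw [mul_smul, mul_smul, hb, inv_smul_smul])
  obtain ⟨x, y, hxy⟩ := S.exists_pt (ω := k⁻¹ • γ) (by
    intro h; exact h3 (by rw [← h, smul_inv_smul]))
  have h4 : S.h t • S.pt x y = S.pt x y := by
    rw [← ht, ← hxy, mul_smul, mul_smul, smul_inv_smul, hc]
  rcases S.h_fix_pt h4 with rfl | ⟨rfl, rfl⟩
  · rw [map_one] at ht
    calc g = k * (k⁻¹ * g * k) * k⁻¹ := by group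
      _ = 1 := by rw [ht]; simp
  · exact absurd (by rw [← hxy, smul_inv_smul]) h2

theorem eq_one_of_fix {g : G} (h : ∀ ω : S.Ω, g • ω = ω) : g = 1 :=
  S.fix3 (α := S.inf) (β := S.pt 0 0) (γ := S.pt 1 0) (S.pt_ne_inf _ _).symm
    (by rw [Ne, pt_inj]; simp) (S.pt_ne_inf _ _).symm (h _) (h _) (h _)

instance instFaithful : FaithfulSMul G S.Ω where
  eq_of_smul_eq_smul {g k} h := by
    have : k⁻¹ * g = 1 := S.eq_one_of_fix fun ω => by rw [mul_smul, h, inv_smul_smul]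
    exact (inv_mul_eq_one.1 this).symm

/-! ### subgroups -/

def U : Subgroup G where
  carrier := {g | ∃ a b, g = S.u a b}
  mul_mem' := by
    rintro _ _ ⟨a, b, rfl⟩ ⟨c, d, rfl⟩
    exact ⟨_, _, S.u_mul a b c d⟩
  one_mem' := ⟨0, 0, S.u_zero.symm⟩
  inv_mem' := by
    rintro _ ⟨a, b, rfl⟩
    exact ⟨_, _, S.u_inv a b⟩

def Z : Subgroup G where
  carrier := {g | ∃ b, g = S.u 0 b}
  mul_mem' := by
    rintro _ _ ⟨b, rfl⟩ ⟨d, rfl⟩
    exact ⟨b + d, by rw [S.u_mul]; simp⟩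
  one_mem' := ⟨0, S.u_zero.symm⟩
  inv_mem' := by
    rintro _ ⟨b, rfl⟩
    exact ⟨b, by rw [S.u_inv]; simp⟩

theorem mem_U {g : G} : g ∈ S.U ↔ ∃ a b, g = S.u a b := Iff.rfl
theorem mem_Z {g : G} : g ∈ S.Z ↔ ∃ b, g = S.u 0 b := Iff.rfl
theorem u_mem (a b : F) : S.u a b ∈ S.U := ⟨a, b, rfl⟩
theorem z_mem (b : F) : S.u 0 b ∈ S.Z := ⟨b, rfl⟩
theorem Z_le_U : S.Z ≤ S.U := by
  rintro _ ⟨b, rfl⟩
  exact S.u_mem 0 b

theorem z_mul (b d : F) : S.u 0 b * S.u 0 d = S.u 0 (b + d) := by rw [S.u_mul]; simp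

theorem z_comm (a b d : F) : S.u 0 d * S.u a b = S.u a b * S.u 0 d := by
  rw [u_mul, u_mul]; simp [add_comm]

theorem card_U : Nat.card S.U = Fintype.card F ^ 2 := by
  have : Nat.card (F × F) = Nat.card S.U :=
    Nat.card_congr (Equiv.ofBijective (fun p => ⟨S.u p.1 p.2, S.u_mem _ _⟩) ⟨fun p r h => by
      have := S.u_inj (Subtype.ext_iff.1 h : S.u p.1 p.2 = S.u r.1 r.2)
      exact Prod.ext this.1 this.2, by rintro ⟨_, a, b, rfl⟩; exact ⟨(a, b), rfl⟩⟩)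
  rw [← this]
  simp [pow_two]

theorem card_Z : Nat.card S.Z = Fintype.card F := by
  have : Nat.card F = Nat.card S.Z :=
    Nat.card_congr (Equiv.ofBijective (fun p => ⟨S.u 0 p, S.z_mem _⟩) ⟨fun p r h =>
      (S.u_inj (Subtype.ext_iff.1 h : S.u 0 p = S.u 0 r)).2, by rintro ⟨_, b, rfl⟩; exact ⟨b, rfl⟩⟩)
  rw [← this]
  simp

theorem range_h : S.h.range = MulAction.stabilizer G S.inf ⊓ MulAction.stabilizer G (S.pt 0 0) := by
  ext g
  constructor
  · rintro ⟨t, rfl⟩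
    exact ⟨S.h_inf t, S.h_zero t⟩
  · rintro ⟨h1, h2⟩
    obtain ⟨t, rfl⟩ := S.fix2 h1 h2
    exact ⟨t, rfl⟩

theorem card_T : Nat.card S.h.range = Fintype.card F - 1 := by
  classical
  rw [← Nat.card_congr (MonoidHom.ofInjective S.h_inj).toEquiv, Nat.card_eq_fintype_card,
    Fintype.card_units]

theorem uh_inj {a b c d : F} {s t : Fˣ} (h : S.u a b * S.h s = S.u c d * S.h t) :
    a = c ∧ b = d ∧ s = t := by
  have h1 := congrArg (· • S.pt 0 0) h
  simp only [mul_smul, h_zero, u_pt, pt_inj] at h1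
  simp only [zero_add, mul_zero, add_zero] at h1
  obtain ⟨rfl, rfl⟩ := h1
  exact ⟨rfl, rfl, S.h_inj (mul_left_cancel h)⟩

theorem card_B : Nat.card (MulAction.stabilizer G S.inf) = Fintype.card F ^ 2 * (Fintype.card F - 1) := by
  classical
  have : Nat.card ((F × F) × Fˣ) = Nat.card (MulAction.stabilizer G S.inf) :=
    Nat.card_congr (Equiv.ofBijective (fun p => ⟨S.u p.1.1 p.1.2 * S.h p.2, by
      rw [MulAction.mem_stabilizer_iff, mul_smul, h_inf, u_inf]⟩) ⟨fun p r h => by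
      have := S.uh_inj (congrArg Subtype.val h)
      exact Prod.ext (Prod.ext this.1 this.2.1) this.2.2, by
        rintro ⟨g, hg⟩
        obtain ⟨a, b, t, rfl⟩ := S.fix1 hg
        exact ⟨((a, b), t), rfl⟩⟩)
  rw [← this]
  simp [pow_two, Fintype.card_units]

theorem index_stab (ω : S.Ω) : (MulAction.stabilizer G ω).index = Fintype.card F ^ 2 + 1 := by
  rw [MulAction.index_stabilizer_of_transitive, card_Ω]

include S in
theorem card_G : Nat.card G = Fintype.card F ^ 2 * (Fintype.card F ^ 2 + 1) * (Fintype.card F - 1) := by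
  rw [← (MulAction.stabilizer G S.inf).card_mul_index, card_B, index_stab]
  ring

theorem card_stab (ω : S.Ω) :
    Nat.card (MulAction.stabilizer G ω) = Fintype.card F ^ 2 * (Fintype.card F - 1) := by
  have h1 := (MulAction.stabilizer G ω).card_mul_index
  rw [S.card_G, index_stab] at h1
  apply Nat.eq_of_mul_eq_mul_right (m := Fintype.card F ^ 2 + 1) (by positivity)
  rw [h1]
  ring

end SzS

end H5.Sz
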