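import Cfsg.Agent.H5.SZ2

/-! Suzuki groups: the two concrete models. -/

namespace H5.Sz
open Matrix Cfsg.Lie
open scoped MatrixGroups Pointwise

variable {F : Type*} [Field F] [Fintype F] {m : ℕ}

noncomputable def thetaOf (hF : Fintype.card F = 2 ^ (2 * m + 1)) : F →+* F :=
  haveI := charP_of_card hF
  iterateFrobenius F 2 (m + 1)

theorem thetaOf_apply (hF : Fintype.card F = 2 ^ (2 * m + 1)) (x : F) :
    thetaOf hF x = x ^ 2 ^ (m + 1) := rfl

omit [Fintype F] in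
theorem mem_Sp4 (g : GL (Fin 4) F) :
    g ∈ Sp4 F ↔ (g : M4 F)ᵀ * JM F * (g : M4 F) = JM F := by
  constructor
  · intro h
    ext i j
    have := h (Pi.single i 1) (Pi.single j 1)
    simp only [Units.coeHom_apply, Matrix.mulVec_single_one, altForm4, Matrix.col_apply] at this
    have h2 : ((g : M4 F)ᵀ * JM F * (g : M4 F)) i j =
        g 0 i * g 3 j + g 1 i * g 2 j + g 2 i * g 1 j + g 3 i * g 0 j := by
      simp [Cfsg.suzukiForm, Matrix.mul_apply, Fin.sum_univ_four, Matrix.vecMul, dotProduct]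
      ring
    rw [h2, this]
    fin_cases i <;> fin_cases j <;> simp [Cfsg.suzukiForm]
  · intro h u v
    have key : ∀ u v : Fin 4 → F, altForm4 u v = u ⬝ᵥ (JM F *ᵥ v) := by
      intro u v
      simp [altForm4, Cfsg.suzukiForm, Matrix.mulVec, dotProduct, Fin.sum_univ_four]
    rw [key, key]
    simp only [Units.coeHom_apply]
    conv_rhs => rw [← h]
    rw [Matrix.mulVec_mulVec, mul_assoc, ← Matrix.mulVec_mulVec (M := (g : M4 F)ᵀ),
      Matrix.dotProduct_mulVec u, Matrix.vecMul_transpose]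

def condGL [CharP F 2] (θ : F →+* F) : Subgroup (GL (Fin 4) F) where
  carrier := {g | Cond θ (g : M4 F)}
  mul_mem' := fun ha hb => Cond.mul ha hb
  one_mem' := Cond.one θ
  inv_mem' := fun {g} hg => Cond.inv hg (by simp)

theorem mem_lieSz (hF : Fintype.card F = 2 ^ (2 * m + 1)) (g : GL (Fin 4) F) :
    g ∈ Cfsg.Lie.Sz F (2 ^ (m + 1)) ↔ Cond (thetaOf hF) (g : M4 F) := by
  have := charP_of_card hF
  have h : Cfsg.Lie.Sz F (2 ^ (m + 1)) = condGL (thetaOf hF) := by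
    rw [← Subgroup.closure_eq (condGL (thetaOf hF))]
    show Subgroup.closure _ = _
    congr 1
    ext g
    show _ ↔ Cond _ _
    rw [Set.mem_ofPred_eq, mem_Sp4]
    rfl
  rw [h]
  rfl

noncomputable def lieS (hm : 1 ≤ m) (hF : Fintype.card F = 2 ^ (2 * m + 1)) :
    SzS F m (Cfsg.Lie.Sz F (2 ^ (m + 1))) where
  hm := hm
  hF := hF
  θ := thetaOf hF
  hθ := thetaOf_apply hF
  ρ := (Units.coeHom _).comp (Subgroup.subtype _)
  inj := Units.val_injective.comp Subtype.val_injective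
  mem M := by
    have := charP_of_card hF
    constructor
    · rintro ⟨g, rfl⟩
      exact (mem_lieSz hF _).1 g.2
    · intro h
      exact ⟨⟨Matrix.GeneralLinearGroup.mkOfDetNeZero M (by rw [h.det]; exact one_ne_zero),
        (mem_lieSz hF _).2 h⟩, rfl⟩

omit [Fintype F] in
theorem mem_ovoid {θ : F →+* F} (hθ : ∀ x, θ x = x ^ 2 ^ (m + 1)) (p : Projectivization F (Fin 4 → F)) :
    p ∈ Cfsg.suzukiOvoid F m ↔ ∃ ω, p = Projectivization.mk F (vec θ ω) (vec_ne_zero θ ω) := by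
  constructor
  · rintro ⟨v, hv, rfl, h | ⟨x, y, h⟩⟩
    · subst h
      exact ⟨none, rfl⟩
    · subst h
      refine ⟨some (x, y), ?_⟩
      simp only [vec, NN, hθ, pow_add]
  · rintro ⟨ω, rfl⟩
    refine ⟨_, _, rfl, ?_⟩
    rcases ω with _ | ⟨x, y⟩
    · exact Or.inl rfl
    · exact Or.inr ⟨x, y, by simp only [vec, NN, hθ, pow_add]⟩

omit [Fintype F] in
theorem mk_vec_inj (θ : F →+* F) :
    Function.Injective fun ω => Projectivization.mk F (vec θ ω) (vec_ne_zero θ ω) := by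
  intro ω ω' h
  obtain ⟨a, ha⟩ := (Projectivization.mk_eq_mk_iff' F _ _ _ _).1 h
  exact vec_inj θ one_ne_zero (by rw [one_smul, ha])

omit [Fintype F] in
theorem sl_smul (g : SL(4, F)) (v : Fin 4 → F) : g • v = (g : M4 F) *ᵥ v := rfl

theorem mem_Sz_iff_pres {θ : F →+* F} (hθ : ∀ x, θ x = x ^ 2 ^ (m + 1)) (g : SL(4, F)) :
    g ∈ Cfsg.Sz F m ↔ Pres θ (g : M4 F) := by
  have hfin : (Cfsg.suzukiOvoid F m).Finite := Set.toFinite _
  rw [MulAction.mem_stabilizer_set_iff_smul_set_subset hfin]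
  constructor
  · intro h ω
    obtain ⟨ω', h'⟩ := (mem_ovoid hθ _).1 (h (Set.smul_mem_smul_set ((mem_ovoid hθ _).2 ⟨ω, rfl⟩)))
    rw [Projectivization.smul_mk, Projectivization.mk_eq_mk_iff] at h'
    obtain ⟨a, ha⟩ := h'
    exact ⟨ω', a, a.ne_zero, ha.symm⟩
  · rintro h _ ⟨p, hp, rfl⟩
    obtain ⟨ω, rfl⟩ := (mem_ovoid hθ _).1 hp
    obtain ⟨ω', c, hc, h'⟩ := h ω
    refine (mem_ovoid hθ _).2 ⟨ω', ?_⟩
    simp only
    rw [Projectivization.smul_mk, Projectivization.mk_eq_mk_iff']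
    exact ⟨c, h'.symm⟩

theorem SzS.cond_of_pres {G : Type*} [Group G] (S : SzS F m G) {M : M4 F} (hP : Pres S.θ M)
    (hdet : M.det = 1) : Cond S.θ M := by
  have := S.charP
  have hinj : Function.Injective M.mulVec :=
    Matrix.mulVec_injective_iff_isUnit.2 ((Matrix.isUnit_iff_isUnit_det M).2 (by simp [hdet]))
  obtain ⟨α, c, hc, h1⟩ := hP none
  obtain ⟨β, d, hd, h2⟩ := hP (some (0, 0))
  have hne : α ≠ β := by
    rintro rfl
    have : M *ᵥ (d • vec S.θ none) = M *ᵥ (c • vec S.θ (some (0, 0))) := by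
      rw [Matrix.mulVec_smul, Matrix.mulVec_smul, h1, h2, smul_comm]
    simpa using vec_inj S.θ hd (hinj this)
  obtain ⟨k, hk1, hk2⟩ := S.exists_smul2 (α := α) (β := β) hne
  obtain ⟨c', -, h3⟩ := S.smul_spec k⁻¹ α
  obtain ⟨d', -, h4⟩ := S.smul_spec k⁻¹ β
  rw [← hk1, inv_smul_smul, hk1] at h3
  rw [← hk2, inv_smul_smul, hk2] at h4
  obtain ⟨t, ht, h5⟩ := diag_of_fix S.θθ S.big S.θ_surj (M := S.ρ k⁻¹ * M) (c := c * c') (c' := d * d')
    ((S.pres _).mul hP) (by rw [det_mul, (S.cond _).det, hdet, mul_one])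
    (by rw [← Matrix.mulVec_mulVec, h1, Matrix.mulVec_smul, ← smul_smul]; exact congrArg _ h3)
    (by rw [← Matrix.mulVec_mulVec, h2, Matrix.mulVec_smul, ← smul_smul]; exact congrArg _ h4)
  have : M = S.ρ k * hM S.θ t := by
    rw [← h5, ← mul_assoc, ← map_mul, mul_inv_cancel, map_one, one_mul]
  rw [this]
  exact (S.cond k).mul (cond_h S.θθ ht)

theorem mem_Sz_iff (hm : 1 ≤ m) (hF : Fintype.card F = 2 ^ (2 * m + 1)) (g : SL(4, F)) :
    g ∈ Cfsg.Sz F m ↔ Cond (thetaOf hF) (g : M4 F) := by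
  have := charP_of_card hF
  rw [mem_Sz_iff_pres (thetaOf_apply hF)]
  exact ⟨fun h => (lieS hm hF).cond_of_pres h g.2, fun h => h.pres (lieS hm hF).θθ⟩

def slCoe (F : Type*) [Field F] : SL(4, F) →* M4 F where
  toFun g := g
  map_one' := rfl
  map_mul' _ _ := rfl

noncomputable def ovS (hm : 1 ≤ m) (hF : Fintype.card F = 2 ^ (2 * m + 1)) :
    SzS F m (Cfsg.Sz F m) where
  hm := hm
  hF := hF
  θ := thetaOf hF
  hθ := thetaOf_apply hF
  ρ := (slCoe F).comp (Subgroup.subtype _)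
  inj := Subtype.val_injective.comp Subtype.val_injective
  mem M := by
    have := charP_of_card hF
    constructor
    · rintro ⟨g, rfl⟩
      exact (mem_Sz_iff hm hF _).1 g.2
    · intro h
      exact ⟨⟨⟨M, h.det⟩, (mem_Sz_iff hm hF _).2 h⟩, rfl⟩

noncomputable def ovEquiv (hm : 1 ≤ m) (hF : Fintype.card F = 2 ^ (2 * m + 1)) :
    (ovS hm hF).Ω ≃ Cfsg.suzukiOvoid F m :=
  Equiv.ofBijective (fun ω => ⟨Projectivization.mk F (vec (thetaOf hF) ω) (vec_ne_zero _ ω),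
    (mem_ovoid (thetaOf_apply hF) _).2 ⟨ω, rfl⟩⟩)
    ⟨fun _ _ h => mk_vec_inj _ (congrArg Subtype.val h), by
      rintro ⟨p, hp⟩
      obtain ⟨ω, rfl⟩ := (mem_ovoid (thetaOf_apply hF) _).1 hp
      exact ⟨ω, rfl⟩⟩

theorem ovEquiv_val (hm : 1 ≤ m) (hF : Fintype.card F = 2 ^ (2 * m + 1)) (ω : (ovS hm hF).Ω) :
    (ovEquiv hm hF ω : Projectivization F (Fin 4 → F)) =
      Projectivization.mk F (vec (thetaOf hF) ω) (vec_ne_zero _ ω) := rfl

theorem ov_smul_val (hm : 1 ≤ m) (hF : Fintype.card F = 2 ^ (2 * m + 1)) (g : Cfsg.Sz F m)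
    (ω : (ovS hm hF).Ω) : g • (ovEquiv hm hF ω : Projectivization F (Fin 4 → F)) =
      ovEquiv hm hF (g • ω) := by
  obtain ⟨c, hc, h⟩ := (ovS hm hF).smul_spec g ω
  rw [ovEquiv_val, ovEquiv_val]
  show (g : SL(4, F)) • Projectivization.mk F (vec (thetaOf hF) ω) (vec_ne_zero _ ω) = _
  rw [Projectivization.smul_mk, Projectivization.mk_eq_mk_iff']
  exact ⟨c, h.symm⟩

theorem ov_smul (hm : 1 ≤ m) (hF : Fintype.card F = 2 ^ (2 * m + 1)) (g : Cfsg.Sz F m)
    (ω : (ovS hm hF).Ω) : g • ovEquiv hm hF ω = ovEquiv hm hF (g • ω) :=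
  Subtype.ext (ov_smul_val hm hF g ω)

theorem stab_ov (hm : 1 ≤ m) (hF : Fintype.card F = 2 ^ (2 * m + 1)) (ω : (ovS hm hF).Ω) :
    MulAction.stabilizer (Cfsg.Sz F m) (ovEquiv hm hF ω : Projectivization F (Fin 4 → F)) =
      MulAction.stabilizer (Cfsg.Sz F m) ω := by
  ext g
  rw [MulAction.mem_stabilizer_iff, MulAction.mem_stabilizer_iff, ov_smul_val, Subtype.val_inj,
    (ovEquiv hm hF).injective.eq_iff]

theorem stab_inf (hm : 1 ≤ m) (hF : Fintype.card F = 2 ^ (2 * m + 1)) :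
    MulAction.stabilizer (Cfsg.Sz F m) (Cfsg.suzukiPointInfinity F) =
      MulAction.stabilizer (Cfsg.Sz F m) (ovS hm hF).inf := stab_ov hm hF (ovS hm hF).inf

theorem stab_zero (hm : 1 ≤ m) (hF : Fintype.card F = 2 ^ (2 * m + 1)) :
    MulAction.stabilizer (Cfsg.Sz F m) (Cfsg.suzukiPointZero F) =
      MulAction.stabilizer (Cfsg.Sz F m) ((ovS hm hF).pt 0 0) := by
  rw [← stab_ov]
  congr 1
  rw [ovEquiv_val]
  simp [Cfsg.suzukiPointZero, SzS.pt, vec, NN]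

/-- three distinct ovoid vectors are independent -/
theorem SzS.indep {G : Type*} [Group G] (S : SzS F m G) {α β γ : S.Ω} (h1 : α ≠ β) (h2 : β ≠ γ)
    (h3 : α ≠ γ) : LinearIndependent F ![S.v α, S.v β, S.v γ] := by
  have := S.charP
  obtain ⟨k, rfl, rfl⟩ := S.exists_smul2 h1
  obtain ⟨x, y, hxy⟩ := S.exists_pt (ω := k⁻¹ • γ) (by
    intro h; exact h3 (by rw [← h, smul_inv_smul]))
  have hγ : γ = k • S.pt x y := by rw [← hxy, smul_inv_smul]
  subst hγ
  have hne : ¬ (x = 0 ∧ y = 0) := by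
    rintro ⟨rfl, rfl⟩
    exact h2 rfl
  obtain ⟨c, hc, e1⟩ := S.smul_spec k⁻¹ (k • S.inf)
  obtain ⟨d, hd, e2⟩ := S.smul_spec k⁻¹ (k • S.pt 0 0)
  obtain ⟨e, he, e3⟩ := S.smul_spec k⁻¹ (k • S.pt x y)
  rw [inv_smul_smul] at e1 e2 e3
  rw [Fintype.linearIndependent_iff]
  intro f hf
  have h4 := congrArg (S.ρ k⁻¹).mulVec hf
  simp only [Fin.sum_univ_three, Matrix.cons_val_zero, Matrix.cons_val_one, Matrix.cons_val,
    Matrix.mulVec_add, Matrix.mulVec_smul, e1, e2, e3, Matrix.mulVec_zero] at h4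
  have c0 := congrFun h4 0
  have c1 := congrFun h4 1
  have c2 := congrFun h4 2
  have c3 := congrFun h4 3
  simp [SzS.v, SzS.inf, SzS.pt, vec, he, NN] at c0 c1 c2 c3
  have hf2 : f 2 = 0 := by tauto
  simp [hf2, hc, hd] at c0 c3
  intro i
  fin_cases i <;> simp [*]

end H5.Sz
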