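import Cfsg.Agent.H5.SZ3

/-! Suzuki groups: Sylow 2-subgroups, simplicity. -/

namespace H5.Sz
open scoped Pointwise

namespace SzS
variable {F : Type*} [Field F] [Fintype F] {m : ℕ} {G : Type*} [Group G] (S : SzS F m G)

theorem uh_pow (a b : F) (t : Fˣ) (n : ℕ) :
    ∃ c d, (S.u a b * S.h t) ^ n = S.u c d * S.h (t ^ n) := by
  induction n with
  | zero => exact ⟨0, 0, by simp⟩
  | succ n ih =>
    obtain ⟨c, d, h⟩ := ih
    exact ⟨_, _, by
      rw [pow_succ, h, mul_assoc, ← mul_assoc (S.h _), h_mul_u, ← mul_assoc, ← mul_assoc, u_mul,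
        mul_assoc, ← map_mul, ← pow_succ]⟩

include S in
theorem units_pow_two_pow {t : Fˣ} {k : ℕ} (h : t ^ 2 ^ k = 1) : t = 1 := by
  have := S.charP
  apply Units.ext
  have h1 : (t : F) ^ 2 ^ k = 1 := by rw [← Units.val_pow_eq_pow_val, h, Units.val_one]
  have h2 : ((t : F) - 1) ^ 2 ^ k = 0 := by rw [sub_pow_char_pow, h1, one_pow, sub_self]
  exact sub_eq_zero.1 (pow_eq_zero_iff (by positivity) |>.1 h2)

theorem mem_U_of_pow {g : G} {k : ℕ} (h1 : g • S.inf = S.inf) (h2 : g ^ 2 ^ k = 1) : g ∈ S.U := by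
  obtain ⟨a, b, t, rfl⟩ := S.fix1 h1
  obtain ⟨c, d, h⟩ := S.uh_pow a b t (2 ^ k)
  rw [h2] at h
  have := S.units_pow_two_pow (S.uh_inj (by simpa using h : S.u 0 0 * S.h 1 = _)).2.2.symm
  subst this
  rw [map_one, mul_one]
  exact S.u_mem a b

theorem mem_U_iff {g : G} : g ∈ S.U ↔ g • S.inf = S.inf ∧ g ^ 4 = 1 := by
  constructor
  · rintro ⟨a, b, rfl⟩
    exact ⟨S.u_inf a b, S.u_pow_four a b⟩
  · rintro ⟨h1, h2⟩
    exact S.mem_U_of_pow (k := 2) h1 h2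

theorem u_sq_eq_one {a b : F} : S.u a b ^ 2 = 1 ↔ a = 0 := by
  rw [u_sq, u_eq_one]
  simp

theorem mem_Z_iff {g : G} : g ∈ S.Z ↔ g • S.inf = S.inf ∧ g ^ 2 = 1 := by
  constructor
  · rintro ⟨b, rfl⟩
    exact ⟨S.u_inf 0 b, S.u_sq_eq_one.2 rfl⟩
  · rintro ⟨h1, h2⟩
    obtain ⟨a, b, rfl⟩ := S.mem_U_of_pow (k := 1) h1 h2
    obtain rfl := S.u_sq_eq_one.1 h2
    exact S.z_mem b

theorem conj_fix {g k : G} {ω : S.Ω} : (k⁻¹ * g * k) • ω = ω ↔ g • (k • ω) = k • ω := by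
  rw [mul_smul, mul_smul, inv_smul_eq_iff]

omit S in
theorem conj_pow_eq_one {g k : G} {n : ℕ} : (k⁻¹ * g * k) ^ n = 1 ↔ g ^ n = 1 := by
  rw [show k⁻¹ * g * k = k⁻¹ * g * k⁻¹⁻¹ by rw [inv_inv], conj_pow, conj_eq_one_iff]

/-- the Sylow 2-subgroup fixing `ω` -/
def P (ω : S.Ω) : Subgroup G where
  carrier := {g | g • ω = ω ∧ g ^ 4 = 1}
  mul_mem' := by
    obtain ⟨k, rfl⟩ := S.exists_smul_inf ω
    intro a b ha hb
    have h1 : k⁻¹ * a * k ∈ S.U := S.mem_U_iff.2 ⟨S.conj_fix.2 ha.1, conj_pow_eq_one.2 ha.2⟩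
    have h2 : k⁻¹ * b * k ∈ S.U := S.mem_U_iff.2 ⟨S.conj_fix.2 hb.1, conj_pow_eq_one.2 hb.2⟩
    have h3 := S.mem_U_iff.1 (S.U.mul_mem h1 h2)
    rw [show k⁻¹ * a * k * (k⁻¹ * b * k) = k⁻¹ * (a * b) * k by group] at h3
    exact ⟨S.conj_fix.1 h3.1, conj_pow_eq_one.1 h3.2⟩
  one_mem' := ⟨one_smul _ _, one_pow _⟩
  inv_mem' := by
    rintro g ⟨h1, h2⟩
    exact ⟨by rw [inv_smul_eq_iff, h1], by rw [inv_pow, h2, inv_one]⟩

/-- its centre -/
def Zc (ω : S.Ω) : Subgroup G where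
  carrier := {g | g • ω = ω ∧ g ^ 2 = 1}
  mul_mem' := by
    obtain ⟨k, rfl⟩ := S.exists_smul_inf ω
    intro a b ha hb
    have h1 : k⁻¹ * a * k ∈ S.Z := S.mem_Z_iff.2 ⟨S.conj_fix.2 ha.1, conj_pow_eq_one.2 ha.2⟩
    have h2 : k⁻¹ * b * k ∈ S.Z := S.mem_Z_iff.2 ⟨S.conj_fix.2 hb.1, conj_pow_eq_one.2 hb.2⟩
    have h3 := S.mem_Z_iff.1 (S.Z.mul_mem h1 h2)
    rw [show k⁻¹ * a * k * (k⁻¹ * b * k) = k⁻¹ * (a * b) * k by group] at h3
    exact ⟨S.conj_fix.1 h3.1, conj_pow_eq_one.1 h3.2⟩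
  one_mem' := ⟨one_smul _ _, one_pow _⟩
  inv_mem' := by
    rintro g ⟨h1, h2⟩
    exact ⟨by rw [inv_smul_eq_iff, h1], by rw [inv_pow, h2, inv_one]⟩

theorem mem_P {ω : S.Ω} {g : G} : g ∈ S.P ω ↔ g • ω = ω ∧ g ^ 4 = 1 := Iff.rfl
theorem mem_Zc {ω : S.Ω} {g : G} : g ∈ S.Zc ω ↔ g • ω = ω ∧ g ^ 2 = 1 := Iff.rfl
theorem P_inf : S.P S.inf = S.U := by ext g; rw [mem_P, mem_U_iff]
theorem Zc_inf : S.Zc S.inf = S.Z := by ext g; rw [mem_Zc, mem_Z_iff]

theorem mem_P_smul {ω : S.Ω} {g k : G} : g ∈ S.P (k • ω) ↔ k⁻¹ * g * k ∈ S.P ω := by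
  rw [mem_P, mem_P, conj_fix, conj_pow_eq_one]

theorem mem_Zc_smul {ω : S.Ω} {g k : G} : g ∈ S.Zc (k • ω) ↔ k⁻¹ * g * k ∈ S.Zc ω := by
  rw [mem_Zc, mem_Zc, conj_fix, conj_pow_eq_one]

theorem P_smul (k : G) (ω : S.Ω) : S.P (k • ω) = MulAut.conj k • S.P ω := by
  ext g
  rw [mem_P_smul, Subgroup.mem_pointwise_smul_iff_inv_smul_mem]
  simp

theorem Zc_smul (k : G) (ω : S.Ω) : S.Zc (k • ω) = MulAut.conj k • S.Zc ω := by
  ext g
  rw [mem_Zc_smul, Subgroup.mem_pointwise_smul_iff_inv_smul_mem]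
  simp

theorem Zc_le_P (ω : S.Ω) : S.Zc ω ≤ S.P ω := fun g hg =>
  ⟨hg.1, by rw [show 4 = 2 * 2 from rfl, pow_mul, hg.2, one_pow]⟩

theorem P_le_stab (ω : S.Ω) : S.P ω ≤ MulAction.stabilizer G ω := fun _ hg => hg.1

theorem sq_mem_Zc {ω : S.Ω} {g : G} (hg : g ∈ S.P ω) : g ^ 2 ∈ S.Zc ω :=
  ⟨((S.P ω).pow_mem hg 2).1, by rw [← pow_mul]; exact hg.2⟩

theorem card_P (ω : S.Ω) : Nat.card (S.P ω) = Fintype.card F ^ 2 := by
  obtain ⟨k, rfl⟩ := S.exists_smul_inf ω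
  rw [P_smul, P_inf, ← S.card_U]
  exact Nat.card_congr (Subgroup.equivSMul (MulAut.conj k) S.U).toEquiv.symm

theorem card_Zc (ω : S.Ω) : Nat.card (S.Zc ω) = Fintype.card F := by
  obtain ⟨k, rfl⟩ := S.exists_smul_inf ω
  rw [Zc_smul, Zc_inf, ← S.card_Z]
  exact Nat.card_congr (Subgroup.equivSMul (MulAut.conj k) S.Z).toEquiv.symm

theorem mem_P_of_pow {ω : S.Ω} {g : G} {n : ℕ} (h1 : g • ω = ω) (h2 : g ^ 2 ^ n = 1) : g ∈ S.P ω := by
  obtain ⟨k, rfl⟩ := S.exists_smul_inf ω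
  rw [mem_P_smul, P_inf]
  exact S.mem_U_of_pow (S.conj_fix.2 h1) (conj_pow_eq_one.2 h2)

theorem Zc_comm {ω : S.Ω} {z g : G} (hz : z ∈ S.Zc ω) (hg : g ∈ S.P ω) : z * g = g * z := by
  obtain ⟨k, rfl⟩ := S.exists_smul_inf ω
  rw [mem_Zc_smul, Zc_inf] at hz
  rw [mem_P_smul, P_inf] at hg
  obtain ⟨d, hd⟩ := hz
  obtain ⟨a, b, hab⟩ := hg
  have := S.z_comm a b d
  rw [← hd, ← hab] at this
  calc z * g = k * (k⁻¹ * z * k * (k⁻¹ * g * k)) * k⁻¹ := by group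
    _ = g * z := by rw [this]; group

theorem P_fix {ω ω' : S.Ω} {g : G} (hg : g ∈ S.P ω) (h1 : g ≠ 1) (h : g • ω' = ω') : ω' = ω := by
  obtain ⟨k, rfl⟩ := S.exists_smul_inf ω
  rw [mem_P_smul, P_inf] at hg
  obtain ⟨a, b, hab⟩ := hg
  by_contra hne
  obtain ⟨x, y, hxy⟩ := S.exists_pt (ω := k⁻¹ • ω') (by
    intro h; exact hne (by rw [← h, smul_inv_smul]))
  have h2 : (k⁻¹ * g * k) • S.pt x y = S.pt x y := by
    rw [conj_fix, ← hxy, smul_inv_smul, h]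
  rw [hab, u_pt, pt_inj] at h2
  have ha : a = 0 := by simpa using h2.1
  subst ha
  have hb : b = 0 := by simpa using h2.2
  subst hb
  rw [u_zero] at hab
  exact h1 (by simpa using conj_pow_eq_one (n := 1) |>.1 (by simpa using hab))

theorem P_trans {ω α β : S.Ω} (h1 : α ≠ ω) (h2 : β ≠ ω) : ∃ g ∈ S.P ω, g • α = β := by
  have := S.charP
  obtain ⟨k, rfl⟩ := S.exists_smul_inf ω
  obtain ⟨x, y, hxy⟩ := S.exists_pt (ω := k⁻¹ • α) (by
    intro h; exact h1 (by rw [← h, smul_inv_smul]))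
  obtain ⟨x', y', hxy'⟩ := S.exists_pt (ω := k⁻¹ • β) (by
    intro h; exact h2 (by rw [← h, smul_inv_smul]))
  refine ⟨k * S.u (x + x') (y + y' + S.θ (x + x') * x) * k⁻¹, ?_, ?_⟩
  · rw [mem_P_smul, P_inf]
    simpa [mul_assoc] using S.u_mem _ _
  · rw [mul_smul, mul_smul, hxy, u_pt, ← eq_inv_smul_iff, hxy', pt_inj]
    constructor <;> grind

theorem P_uniq {ω α : S.Ω} (h1 : α ≠ ω) {g k : G} (hg : g ∈ S.P ω) (hk : k ∈ S.P ω)
    (h : g • α = k • α) : g = k := by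
  by_contra hne
  refine h1 (S.P_fix ((S.P ω).mul_mem ((S.P ω).inv_mem hk) hg) ?_ ?_)
  · intro h'
    exact hne (inv_mul_eq_one.1 h').symm
  · rw [mul_smul, h, inv_smul_smul]

theorem exists_ne_one_Zc (ω : S.Ω) : ∃ z ∈ S.Zc ω, z ≠ 1 := by
  obtain ⟨k, rfl⟩ := S.exists_smul_inf ω
  refine ⟨k * S.u 0 1 * k⁻¹, ?_, ?_⟩
  · rw [mem_Zc_smul, Zc_inf]
    simpa [mul_assoc] using S.z_mem _
  · rw [Ne, conj_eq_one_iff, u_eq_one]
    simp

theorem eq_of_Zc_le_stab {α β : S.Ω} (h : S.Zc α ≤ MulAction.stabilizer G β) : α = β := by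
  obtain ⟨z, hz, h1⟩ := S.exists_ne_one_Zc α
  exact (S.P_fix (S.Zc_le_P _ hz) h1 (h hz)).symm

theorem P_injective : Function.Injective S.P := fun α β h =>
  S.eq_of_Zc_le_stab ((S.Zc_le_P α).trans (h ▸ S.P_le_stab β))

theorem Zc_injective : Function.Injective S.Zc := fun α β h =>
  S.eq_of_Zc_le_stab (h ▸ (S.Zc_le_P β).trans (S.P_le_stab β))

theorem normalizer_P (ω : S.Ω) : Subgroup.normalizer (S.P ω : Set G) = MulAction.stabilizer G ω := by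
  ext g
  rw [← Subgroup.conjAct_pointwise_smul_iff, MulAction.mem_stabilizer_iff]
  show MulAut.conj g • S.P ω = S.P ω ↔ _
  rw [← P_smul, S.P_injective.eq_iff]

theorem normalizer_Zc (ω : S.Ω) : Subgroup.normalizer (S.Zc ω : Set G) = MulAction.stabilizer G ω := by
  ext g
  rw [← Subgroup.conjAct_pointwise_smul_iff, MulAction.mem_stabilizer_iff]
  show MulAut.conj g • S.Zc ω = S.Zc ω ↔ _
  rw [← Zc_smul, S.Zc_injective.eq_iff]

/-- an element of a point stabiliser lies in the Sylow subgroup or fixes a second point -/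
theorem stab_cases {ω : S.Ω} {g : G} (h : g • ω = ω) : g ∈ S.P ω ∨ ∃ ω', ω' ≠ ω ∧ g • ω' = ω' := by
  have := S.charP
  obtain ⟨k, rfl⟩ := S.exists_smul_inf ω
  obtain ⟨a, b, t, ht⟩ := S.fix1 (S.conj_fix.2 h)
  by_cases h1 : t = 1
  · left
    rw [mem_P_smul, P_inf, ht, h1, map_one, mul_one]
    exact S.u_mem a b
  · right
    have h2 : (t : F) + 1 ≠ 0 := fun h => h1 (Units.ext (show (t : F) = 1 by grind))
    have h3 : (t : F) * S.θ t + 1 ≠ 0 := fun h => h1 (Units.ext (S.θ_mul_eq_one (by grind)))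
    refine ⟨k • S.pt (a / (t + 1)) ((b + S.θ a * (t * (a / (t + 1)))) / (t * S.θ t + 1)), ?_, ?_⟩
    · intro h
      exact S.pt_ne_inf _ _ (MulAction.injective k h)
    · rw [← conj_fix, ht, mul_smul, h_pt, u_pt, pt_inj]
      constructor
      · field_simp
        grind
      · rw [add_assoc]
        generalize b + S.θ a * (t * (a / (t + 1))) = c
        field_simp
        grind

theorem odd_card_Ω : ¬ 2 ∣ Nat.card S.Ω := by
  rw [card_Ω, S.hF, pow_succ' 2 (2 * m), mul_pow]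
  omega

theorem isPGroup_P (ω : S.Ω) : IsPGroup 2 (S.P ω) := fun g =>
  ⟨2, Subtype.ext (by simpa using g.2.2)⟩

theorem le_P_of_isPGroup {Q : Subgroup G} (hQ : IsPGroup 2 Q) : ∃ ω, Q ≤ S.P ω := by
  obtain ⟨ω, hω⟩ := hQ.nonempty_fixed_point_of_prime_not_dvd_card S.Ω S.odd_card_Ω
  refine ⟨ω, fun g hg => ?_⟩
  obtain ⟨n, hn⟩ := hQ ⟨g, hg⟩
  exact S.mem_P_of_pow (n := n) (hω ⟨g, hg⟩) (by simpa using congrArg Subtype.val hn)

theorem mem_P_of_two {g : G} {n : ℕ} (h : g ^ 2 ^ n = 1) : ∃ ω, g ∈ S.P ω := by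
  obtain ⟨ω, hω⟩ := S.le_P_of_isPGroup (Q := Subgroup.zpowers g) (by
    rintro ⟨_, k, rfl⟩
    refine ⟨n, Subtype.ext ?_⟩
    show (g ^ k) ^ 2 ^ n = 1
    rw [← zpow_natCast, ← zpow_mul, mul_comm, zpow_mul, zpow_natCast, h, one_zpow])
  exact ⟨ω, hω (Subgroup.mem_zpowers g)⟩

theorem mem_Zc_of_sq {g : G} (h : g ^ 2 = 1) : ∃ ω, g ∈ S.Zc ω := by
  obtain ⟨ω, hω⟩ := S.mem_P_of_two (n := 1) h
  exact ⟨ω, hω.1, h⟩

theorem sylow_eq (Q : Sylow 2 G) : ∃ ω, (Q : Subgroup G) = S.P ω := by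
  obtain ⟨ω, h⟩ := S.le_P_of_isPGroup Q.isPGroup'
  exact ⟨ω, (Q.is_maximal' (S.isPGroup_P ω) h).symm⟩

theorem exists_sylow (ω : S.Ω) : ∃ Q : Sylow 2 G, (Q : Subgroup G) = S.P ω := by
  obtain ⟨Q, hQ⟩ := (S.isPGroup_P ω).exists_le_sylow
  obtain ⟨ω', h⟩ := S.sylow_eq Q
  have : ω = ω' := S.eq_of_Zc_le_stab ((S.Zc_le_P ω).trans (hQ.trans (h ▸ S.P_le_stab ω')))
  exact ⟨Q, this ▸ h⟩

/-! ### change of coordinates -/

theorem comp_u {H : Type*} [Group H] (e : H ≃* G) (a b : F) : e ((S.comp e).u a b) = S.u a b := by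
  apply S.inj
  rw [S.ρ_u]
  exact (S.comp e).ρ_u a b

theorem comp_U {H : Type*} [Group H] (e : H ≃* G) : (S.comp e).U = S.U.comap e.toMonoidHom := by
  ext g
  constructor
  · rintro ⟨a, b, rfl⟩
    exact ⟨a, b, S.comp_u e a b⟩
  · rintro ⟨a, b, h⟩
    exact ⟨a, b, e.injective (by rw [comp_u]; exact h)⟩

theorem exists_S_P (ω : S.Ω) : ∃ S' : SzS F m G, S'.U = S.P ω := by
  obtain ⟨k, rfl⟩ := S.exists_smul_inf ω
  refine ⟨S.comp (MulAut.conj k⁻¹), ?_⟩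
  ext g
  rw [comp_U, mem_P_smul, P_inf, Subgroup.mem_comap]
  simp

include S in
theorem exists_S_sylow (Q : Sylow 2 G) : ∃ S' : SzS F m G, S'.U = Q := by
  obtain ⟨ω, h⟩ := S.sylow_eq Q
  rw [h]
  exact S.exists_S_P ω

/-! ### simplicity -/

theorem bruhat (g : G) : g • S.inf = S.inf ∨ ∃ a b c d t, g = S.u a b * S.w * (S.u c d * S.h t) := by
  by_cases h : g • S.inf = S.inf
  · exact Or.inl h
  right
  obtain ⟨a, b, hab⟩ := S.exists_pt h
  obtain ⟨c, d, t, ht⟩ := S.fix1 (g := (S.u a b * S.w)⁻¹ * g) (by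
    rw [mul_smul, hab, inv_smul_eq_iff, mul_smul, w_inf, u_pt]; simp)
  exact ⟨a, b, c, d, t, by rw [← ht]; group⟩

theorem eq_top_of {N : Subgroup G} (hU : S.U ≤ N) (hT : ∀ t, S.h t ∈ N) (hw : S.w ∈ N) : N = ⊤ := by
  rw [eq_top_iff]
  intro g _
  rcases S.bruhat g with h | ⟨a, b, c, d, t, rfl⟩
  · obtain ⟨a, b, t, rfl⟩ := S.fix1 h
    exact N.mul_mem (hU (S.u_mem _ _)) (hT t)
  · exact N.mul_mem (N.mul_mem (hU (S.u_mem _ _)) hw) (N.mul_mem (hU (S.u_mem _ _)) (hT t))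

include S in
theorem exists_unit_ne : ∃ t : Fˣ, (t : F) ≠ 1 := by
  obtain ⟨x, h0, h1⟩ := S.exists_ne01
  exact ⟨Units.mk0 x h0, h1⟩

/-- a subgroup normalised by `U` and containing a nontrivial torus element contains `U` -/
theorem U_le_of {N : Subgroup G} (hN : ∀ g ∈ S.U, ∀ n ∈ N, g * n * g⁻¹ ∈ N) {t : Fˣ} (ht : (t : F) ≠ 1)
    (hT : S.h t ∈ N) : S.U ≤ N := by
  have := S.charP
  have key : ∀ a b, S.u (t * a) (t * S.θ t * b) * (S.u a b)⁻¹ ∈ N := by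
    intro a b
    have h1 := N.mul_mem hT (hN _ (S.u_mem a b) _ (N.inv_mem hT))
    rw [← h_u]
    simpa [mul_assoc] using h1
  have h2 : (t : F) + 1 ≠ 0 := fun h => ht (by grind)
  have h3 : (t : F) * S.θ t + 1 ≠ 0 := fun h => ht (S.θ_mul_eq_one (by grind))
  have hZ : ∀ b, S.u 0 b ∈ N := by
    intro b
    have := key 0 (b / (t * S.θ t + 1))
    rw [u_inv, u_mul] at this
    convert this using 2
    · simp
    · field_simp
      simp
      ring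
  rintro _ ⟨a, b, rfl⟩
  have := key (a / (t + 1)) 0
  rw [u_inv, u_mul] at this
  generalize (↑t * S.θ ↑t * 0 + (0 + S.θ (a / (↑t + 1)) * (a / (↑t + 1))) +
    S.θ (↑t * (a / (↑t + 1))) * (a / (↑t + 1))) = c at this
  have h4 := N.mul_mem this (hZ (b + c))
  rw [u_mul] at h4
  convert h4 using 2
  · field_simp
    simp
  · grind

theorem eq_top_of_normal {N : Subgroup G} [hN : N.Normal] (hT : ∀ t, S.h t ∈ N) : N = ⊤ := by
  obtain ⟨t, ht⟩ := S.exists_unit_ne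
  have hU := S.U_le_of (fun g _ n hn => hN.conj_mem n hn g) ht (hT t)
  refine S.eq_top_of hU hT ?_
  obtain ⟨ω, hω⟩ := S.mem_Zc_of_sq (g := S.w) (by rw [pow_two, w_mul_w])
  obtain ⟨k, rfl⟩ := S.exists_smul_inf ω
  rw [mem_Zc_smul, Zc_inf] at hω
  simpa [mul_assoc] using hN.conj_mem _ (hU (S.Z_le_U hω)) k

include S in
theorem exists_sq (t : Fˣ) : ∃ s : Fˣ, s ^ 2 = t :=
  Finite.surjective_of_injective (f := fun s : Fˣ => s ^ 2) (fun a b h => by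
    have : (a * b⁻¹) ^ 2 ^ 1 = 1 := by
      simp only at h
      rw [pow_one, mul_pow, h, inv_pow, mul_inv_cancel]
    exact mul_inv_eq_one.1 (S.units_pow_two_pow this)) t

theorem h_comm_w (s : Fˣ) : S.h (s ^ 2) = S.h s * S.w * (S.h s)⁻¹ * S.w⁻¹ := by
  rw [mul_assoc, mul_assoc, ← mul_assoc S.w, ← map_inv, w_h, ← map_inv, inv_inv, ← map_mul, pow_two]

include S in
theorem perfect : commutator G = ⊤ := by
  apply S.eq_top_of_normal
  intro t
  obtain ⟨s, rfl⟩ := S.exists_sq t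
  rw [h_comm_w]
  exact Subgroup.commutator_mem_commutator (Subgroup.mem_top _) (Subgroup.mem_top _)

theorem iSup_Zc : iSup S.Zc = ⊤ := by
  have hN : (iSup S.Zc).Normal := by
    constructor
    intro n hn g
    refine Subgroup.iSup_induction (C := fun n => g * n * g⁻¹ ∈ iSup S.Zc) _ hn ?_ ?_ ?_
    · intro ω x hx
      exact le_iSup S.Zc (g • ω) (S.mem_Zc_smul.2 (by simpa [mul_assoc] using hx))
    · simp
    · intro x y hx hy
      simpa [mul_assoc] using (iSup S.Zc).mul_mem hx hy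
  apply S.eq_top_of_normal
  intro t
  obtain ⟨s, rfl⟩ := S.exists_sq t
  obtain ⟨ω, hω⟩ := S.mem_Zc_of_sq (g := S.w) (by rw [pow_two, w_mul_w])
  have hw : S.w ∈ iSup S.Zc := le_iSup S.Zc ω hω
  rw [h_comm_w]
  exact (iSup S.Zc).mul_mem (hN.conj_mem _ hw _) ((iSup S.Zc).inv_mem hw)

include S in
theorem nontrivial : Nontrivial G := by
  obtain ⟨z, -, hz⟩ := S.exists_ne_one_Zc S.inf
  exact ⟨z, 1, hz⟩

include S in
theorem simple : IsSimpleGroup G := by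
  have := S.nontrivial
  have := MulAction.isPreprimitive_of_is_two_pretransitive S.isMultiplyPretransitive_two
  exact MulAction.IwasawaStructure.isSimpleGroup S.perfect
    { T := S.Zc
      is_comm := fun ω => ⟨⟨fun a b => Subtype.ext (S.Zc_comm a.2 (S.Zc_le_P _ b.2))⟩⟩
      is_conj := S.Zc_smul
      is_generator := S.iSup_Zc } S.instFaithful

theorem zassenhaus : Cfsg.IsZassenhausGroup G S.Ω := by
  refine ⟨S.instFaithful, S.isMultiplyPretransitive_two, fun g a b c h1 h2 h3 ha hb hc =>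
    S.fix3 h1 h2 h3 ha hb hc, ?_, ?_⟩
  · obtain ⟨t, ht⟩ := S.exists_unit_ne
    refine ⟨S.h t, fun h => ht ?_, S.inf, S.pt 0 0, (S.pt_ne_inf _ _).symm, S.h_inf t, S.h_zero t⟩
    rw [← map_one S.h] at h
    rw [S.h_inj h, Units.val_one]
  · intro N hN htr
    have := S.simple
    rcases hN.eq_bot_or_eq_top with rfl | rfl
    · obtain ⟨⟨g, hg⟩, h⟩ := htr.exists_smul_eq (S.pt 0 0) S.inf
      rw [Subgroup.mem_bot] at hg
      subst hg
      exact absurd ((one_smul G _).symm.trans h) (S.pt_ne_inf _ _)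
    · obtain ⟨z, hz, h1⟩ := S.exists_ne_one_Zc S.inf
      refine ⟨S.inf, fun h => h1 ?_⟩
      have : (⟨z, Subgroup.mem_top z⟩ : (⊤ : Subgroup G)) ∈ MulAction.stabilizer (⊤ : Subgroup G) S.inf :=
        hz.1
      rw [h, Subgroup.mem_bot] at this
      exact congrArg Subtype.val this

/-! ### structure of `U` -/

theorem u_comm (a b c d : F) :
    S.u a b * S.u c d * (S.u a b)⁻¹ * (S.u c d)⁻¹ = S.u 0 (S.θ a * c + S.θ c * a) := by
  have := S.charP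
  rw [u_inv, u_inv, u_mul, u_mul, u_mul, u_eq_iff]
  simp only [map_add]
  constructor <;> grind

theorem exists_comm (b : F) : ∃ a c, S.θ a * c + S.θ c * a = b := by
  have := S.charP
  obtain ⟨x, h0, h1⟩ := S.exists_ne01
  have h2 : S.θ x + x ≠ 0 := fun h => (S.θ_fix (x := x) (by grind)).elim h0 h1
  obtain ⟨t, ht⟩ := S.θ_mul_surj (b / (S.θ x + x))
  refine ⟨t * x, t, ?_⟩
  rw [map_mul]
  field_simp at ht
  linear_combination ht

theorem comm_u_iff {a b c d : F} : S.u a b * S.u c d = S.u c d * S.u a b ↔ S.θ a * c = S.θ c * a := by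
  have := S.charP
  rw [u_mul, u_mul, u_eq_iff]
  constructor
  · intro h
    grind
  · intro h
    constructor <;> grind

theorem θ_comm {a c : F} (h : S.θ a * c = S.θ c * a) : a = 0 ∨ c = 0 ∨ a = c := by
  by_cases hc : c = 0
  · exact Or.inr (Or.inl hc)
  have hc' : S.θ c ≠ 0 := (map_ne_zero _).2 hc
  rcases S.θ_fix (x := a / c) (by rw [map_div₀]; field_simp; linear_combination h) with h1 | h1
  · left
    simpa [hc] using h1
  · exact Or.inr (Or.inr ((div_eq_one_iff_eq hc).1 h1))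

theorem center_U : Subgroup.center S.U = S.Z.subgroupOf S.U := by
  ext ⟨_, a, b, rfl⟩
  rw [Subgroup.mem_center_iff, Subgroup.mem_subgroupOf]
  constructor
  · intro h
    obtain ⟨x, h0, h1⟩ := S.exists_ne01
    by_cases ha : a = 0
    · subst ha
      exact S.z_mem b
    · exfalso
      have := S.θ_comm (S.comm_u_iff.1 (Subtype.ext_iff.1 (h ⟨S.u (x * a) 0, S.u_mem _ _⟩)))
      simp [h0, ha, h1] at this
  · rintro ⟨d, hd⟩ ⟨_, c, e, rfl⟩
    apply Subtype.ext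
    simp only [Subgroup.coe_mul] at hd ⊢
    rw [hd, z_comm]

theorem commutator_U : commutator S.U = S.Z.subgroupOf S.U := by
  apply le_antisymm
  · rw [commutator_def, Subgroup.commutator_le]
    rintro ⟨_, a, b, rfl⟩ - ⟨_, c, d, rfl⟩ -
    rw [Subgroup.mem_subgroupOf]
    exact ⟨_, S.u_comm a b c d⟩
  · rintro ⟨g, hg⟩ h
    obtain ⟨b, rfl⟩ : g ∈ S.Z := h
    obtain ⟨a, c, rfl⟩ := S.exists_comm b
    have := Subgroup.commutator_mem_commutator (Subgroup.mem_top (⟨S.u a 0, S.u_mem _ _⟩ : S.U))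
      (Subgroup.mem_top (⟨S.u c 0, S.u_mem _ _⟩ : S.U))
    rw [commutator_def]
    convert this using 1
    apply Subtype.ext
    exact (S.u_comm a 0 c 0).symm

theorem exponent_U : Monoid.exponent S.U = 4 := by
  have h1 : Monoid.exponent S.U ∣ 2 ^ 2 :=
    Monoid.exponent_dvd_of_forall_pow_eq_one fun g => Subtype.ext (S.mem_U_iff.1 g.2).2
  obtain ⟨i, hi, h2⟩ := (Nat.dvd_prime_pow Nat.prime_two).1 h1
  have h3 := congrArg Subtype.val (Monoid.pow_exponent_eq_one (⟨S.u 1 0, S.u_mem _ _⟩ : S.U))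
  rw [h2] at h3 ⊢
  interval_cases i
  · simp [u_eq_one] at h3
  · simp [u_sq_eq_one] at h3
  · rfl

theorem card_center_U : Nat.card (Subgroup.center S.U) = Fintype.card F := by
  rw [center_U, ← S.card_Z]
  exact Nat.card_congr (Subgroup.subgroupOfEquivOfLe S.Z_le_U).toEquiv

end SzS

end H5.Sz
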