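import Cfsg.Agent.H5.SZ4

/-! Suzuki groups: split tori, and centralisers of fixed point free elements. -/

namespace H5.Sz
open scoped Pointwise
open Polynomial

theorem card_roots_le {F R : Type*} [Field F] [Ring R] [Algebra F R] [IsDomain R]
    (hc : ∀ a b : R, a * b = b * a) (f : F[X]) (hf : f ≠ 0) (s : Finset R)
    (hs : ∀ y ∈ s, aeval y f = 0) : s.card ≤ f.natDegree := by
  classical
  letI : CommRing R := { ‹Ring R› with mul_comm := hc }
  have h1 : f.map (algebraMap F R) ≠ 0 := Polynomial.map_ne_zero hf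
  have : s ⊆ (f.map (algebraMap F R)).roots.toFinset := by
    intro y hy
    rw [Multiset.mem_toFinset, mem_roots h1, IsRoot.def, eval_map_algebraMap]
    exact hs y hy
  calc s.card ≤ _ := Finset.card_le_card this
    _ ≤ Multiset.card (f.map (algebraMap F R)).roots := Multiset.toFinset_card_le _
    _ ≤ (f.map (algebraMap F R)).natDegree := card_roots' _
    _ ≤ f.natDegree := natDegree_map_le

theorem isCyclic_of_comm_domain {G R : Type*} [Group G] [Finite G] [Ring R] [IsDomain R]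
    (hc : ∀ a b : R, a * b = b * a) (f : G →* R) (hf : Function.Injective f) : IsCyclic G := by
  letI : CommRing R := { ‹Ring R› with mul_comm := hc }
  exact isCyclic_of_injective_ringHom f hf

theorem finrank_modEq {F V : Type*} [Field F] [Fintype F] [AddCommGroup V] [Module F V] [Finite V]
    (L : Module.End F V) {p : ℕ} [Fact p.Prime] (hL : L ^ p = 1) (W : Submodule F V)
    (hW : ∀ v ∈ W, L v ∈ W) :
    ((Fintype.card F : ZMod p)) ^ Module.finrank F W =
      (Fintype.card F : ZMod p) ^ Module.finrank F ↥(W ⊓ LinearMap.ker (L - 1)) := by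
  classical
  let f : Function.End W := fun v => ⟨L v, hW v v.2⟩
  have hpow : ∀ (n : ℕ) (v : W), ((f ^ n) v : V) = (L ^ n) v := by
    intro n
    induction n with
    | zero => intro v; rfl
    | succ n ih =>
      intro v
      rw [pow_succ', pow_succ', Module.End.mul_apply, ← ih]
      rfl
  have hf : f ^ p ^ 1 = 1 := by
    funext v
    apply Subtype.ext
    rw [pow_one, hpow, hL]
    rfl
  letI := Fintype.ofFinite W
  have h1 := Equiv.Perm.card_fixedPoints_modEq hf
  have h2 : Fintype.card W = Fintype.card F ^ Module.finrank F W := Module.card_eq_pow_finrank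
  have h3 : Nat.card f.fixedPoints = Nat.card ↥(W ⊓ LinearMap.ker (L - 1)) := by
    refine Nat.card_congr ⟨fun v => ⟨v.1.1, v.1.2, ?_⟩, fun v => ⟨⟨v.1, v.2.1⟩, ?_⟩, fun _ => rfl, fun _ => rfl⟩
    · have : L v.1.1 = v.1.1 := congrArg Subtype.val v.2
      simpa [sub_eq_zero] using this
    · apply Subtype.ext
      have := v.2.2
      simpa [sub_eq_zero] using this
  have h4 : Nat.card ↥(W ⊓ LinearMap.ker (L - 1)) =
      Fintype.card F ^ Module.finrank F ↥(W ⊓ LinearMap.ker (L - 1)) := by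
    rw [Module.natCard_eq_pow_finrank (K := F), Nat.card_eq_fintype_card]
  rw [h4, Nat.card_eq_fintype_card] at h3
  rw [h2, h3] at h1
  have := (ZMod.natCast_eq_natCast_iff _ _ _).2 h1
  simpa using this

theorem pow_lt_four {p : ℕ} [Fact p.Prime] {a : ZMod p} (h : a ^ 2 + 1 = 0) (h2 : (2 : ZMod p) ≠ 0)
    {d : ℕ} (hd : d < 4) (ha : a ^ d = 1) : d = 0 := by
  by_contra h0
  apply h2
  interval_cases d
  · exact absurd rfl h0
  · rw [pow_one] at ha
    subst ha
    linear_combination h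
  · linear_combination h - ha
  · have : a = -1 := by linear_combination a * h - ha
    subst this
    linear_combination h

/-- the union of the conjugates of the non-identity elements of `A` -/
def conjSet {G : Type*} [Group G] (A : Subgroup G) : Set G := {x | ∃ c, ∃ y ∈ A, y ≠ 1 ∧ x = c * y * c⁻¹}

theorem card_conjSet {G : Type*} [Group G] [Finite G] (A : Subgroup G)
    (hA : ∀ c, ∀ y ∈ A, y ≠ 1 → c * y * c⁻¹ ∈ A → c ∈ Subgroup.normalizer (A : Set G)) :
    Nat.card (conjSet A) = (Subgroup.normalizer (A : Set G)).index * (Nat.card A - 1) := by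
  classical
  have h1 : Nat.card {y : A // y ≠ 1} = Nat.card A - 1 := by
    letI := Fintype.ofFinite A
    simp [Fintype.card_subtype_compl]
  rw [← h1, Subgroup.index, ← Nat.card_prod]
  symm
  refine Nat.card_congr (Equiv.ofBijective (fun x => ⟨x.1.out * x.2.1 * x.1.out⁻¹, x.1.out, x.2.1,
    x.2.1.2, fun h => x.2.2 (Subtype.ext h), rfl⟩) ⟨?_, ?_⟩)
  · rintro ⟨c, y⟩ ⟨c', y'⟩ h
    have h2 : c.out * y.1 * c.out⁻¹ = c'.out * y'.1 * c'.out⁻¹ := congrArg Subtype.val h
    have h3 : c'.out⁻¹ * c.out ∈ Subgroup.normalizer (A : Set G) :=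
      hA _ _ y.1.2 (fun h => y.2 (Subtype.ext h)) (by
        have : c'.out⁻¹ * c.out * y.1 * (c'.out⁻¹ * c.out)⁻¹ = y'.1 := by
          calc _ = c'.out⁻¹ * (c.out * y.1 * c.out⁻¹) * c'.out := by group
            _ = _ := by rw [h2]; group
        rw [this]; exact y'.1.2)
    have h4 : c' = c := by
      rw [← QuotientGroup.out_eq' c, ← QuotientGroup.out_eq' c']
      exact QuotientGroup.eq.2 h3
    subst h4
    have : (y.1 : G) = y'.1 := by simpa using h2
    exact Prod.ext rfl (Subtype.ext (Subtype.ext this))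
  · rintro ⟨_, c, y, hy, h1, rfl⟩
    obtain ⟨n, hn⟩ := QuotientGroup.mk_out_eq_mul (Subgroup.normalizer (A : Set G)) c
    refine ⟨⟨(c : G ⧸ Subgroup.normalizer (A : Set G)), ⟨⟨(n : G)⁻¹ * y * n, ?_⟩, ?_⟩⟩, ?_⟩
    · have := (Subgroup.mem_normalizer_iff.1 ((Subgroup.normalizer (A : Set G)).inv_mem n.2) y).1 hy
      simpa using this
    · intro h
      have := congrArg Subtype.val h
      simp only [OneMemClass.coe_one] at this
      exact h1 (by simpa using (SzS.conj_pow_eq_one (n := 1) (g := y) (k := (n : G))).1 (by simpa using this))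
    · apply Subtype.ext
      simp only [hn]
      group

namespace SzS
variable {F : Type*} [Field F] [Fintype F] {m : ℕ} {G : Type*} [Group G] (S : SzS F m G)

/-! ### split tori -/

noncomputable def T (α β : S.Ω) : Subgroup G := MulAction.stabilizer G α ⊓ MulAction.stabilizer G β

theorem mem_T {α β : S.Ω} {g : G} : g ∈ S.T α β ↔ g • α = α ∧ g • β = β := Iff.rfl

theorem T_std : S.T S.inf (S.pt 0 0) = S.h.range := S.range_h.symm

theorem T_comm (α β : S.Ω) : S.T α β = S.T β α := inf_comm _ _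

theorem mem_T_smul {α β : S.Ω} {g k : G} : g ∈ S.T (k • α) (k • β) ↔ k⁻¹ * g * k ∈ S.T α β := by
  rw [mem_T, mem_T, conj_fix, conj_fix]

theorem T_smul (k : G) (α β : S.Ω) : S.T (k • α) (k • β) = MulAut.conj k • S.T α β := by
  ext g
  rw [mem_T_smul, Subgroup.mem_pointwise_smul_iff_inv_smul_mem]
  simp

theorem T_equiv {α β : S.Ω} (h : α ≠ β) : Nonempty (Fˣ ≃* S.T α β) := by
  obtain ⟨k, rfl, rfl⟩ := S.exists_smul2 h
  rw [T_smul, T_std]
  exact ⟨(MonoidHom.ofInjective S.h_inj).trans (Subgroup.equivSMul (MulAut.conj k) _)⟩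

theorem card_TT {α β : S.Ω} (h : α ≠ β) : Nat.card (S.T α β) = Fintype.card F - 1 := by
  classical
  obtain ⟨e⟩ := S.T_equiv h
  rw [← Nat.card_congr e.toEquiv, Nat.card_eq_fintype_card, Fintype.card_units]

theorem isCyclic_T {α β : S.Ω} (h : α ≠ β) : IsCyclic (S.T α β) := by
  obtain ⟨e⟩ := S.T_equiv h
  exact isCyclic_of_surjective e e.surjective

theorem T_mul_comm {α β : S.Ω} (h : α ≠ β) {a b : G} (ha : a ∈ S.T α β) (hb : b ∈ S.T α β) :
    a * b = b * a := by
  have := S.isCyclic_T h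
  exact congrArg Subtype.val (mul_comm' (⟨a, ha⟩ : S.T α β) ⟨b, hb⟩)

theorem T_pow {α β : S.Ω} (h : α ≠ β) {a : G} (ha : a ∈ S.T α β) : a ^ (Fintype.card F - 1) = 1 := by
  rw [← S.card_TT h]
  exact congrArg Subtype.val (pow_card_eq_one' (x := (⟨a, ha⟩ : S.T α β)))

theorem T_fix {α β γ : S.Ω} (h : α ≠ β) {g : G} (hg : g ∈ S.T α β) (h1 : g ≠ 1) (hγ : g • γ = γ) :
    γ = α ∨ γ = β := by
  by_contra hne
  push Not at hne
  exact h1 (S.fix3 h hne.2.symm hne.1.symm hg.1 hg.2 hγ)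

theorem T_sq {α β : S.Ω} (h : α ≠ β) {g : G} (hg : g ∈ S.T α β) {n : ℕ} (h1 : g ^ 2 ^ n = 1) : g = 1 := by
  by_contra hne
  exact h (S.P_fix (S.mem_P_of_pow hg.2 h1) hne hg.1)

theorem swap_inv {α β : S.Ω} (h : α ≠ β) {g c : G} (hg : g ∈ S.T α β) (h1 : c • α = β) (h2 : c • β = α) :
    c * g * c⁻¹ = g⁻¹ := by
  obtain ⟨k, rfl, rfl⟩ := S.exists_smul2 h
  rw [mem_T_smul, T_std] at hg
  obtain ⟨t, ht⟩ := hg
  obtain ⟨s, hs⟩ := S.fix2 (g := S.w * (k⁻¹ * c * k))
    (by rw [mul_smul, mul_smul, mul_smul, h1, inv_smul_smul, w_zero])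
    (by rw [mul_smul, mul_smul, mul_smul, h2, inv_smul_smul, w_inf])
  have hc : c = k * S.w * S.h s * k⁻¹ := by
    rw [← hs, mul_assoc k, ← mul_assoc S.w, w_mul_w]
    group
  have hg : g = k * S.h t * k⁻¹ := by rw [ht]; group
  have h3 : S.h s * S.h t * (S.h s)⁻¹ = S.h t := by
    rw [← map_mul, mul_comm s, map_mul, mul_inv_cancel_right]
  calc c * g * c⁻¹ = k * (S.w * (S.h s * S.h t * (S.h s)⁻¹) * S.w⁻¹) * k⁻¹ := by rw [hc, hg]; group
    _ = g⁻¹ := by rw [h3, w_h, hg]; group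

theorem swap_sq {α β : S.Ω} (h : α ≠ β) {c : G} (h1 : c • α = β) (h2 : c • β = α) : c ^ 2 = 1 := by
  have h3 : c ^ 2 ∈ S.T α β := by
    rw [mem_T, pow_two, mul_smul, mul_smul, h1, h2, h1]
    exact ⟨rfl, rfl⟩
  have h4 := S.swap_inv h h3 h1 h2
  apply S.T_sq h h3 (n := 1)
  calc (c ^ 2) ^ 2 ^ 1 = c * c ^ 2 * c⁻¹ * c ^ 2 := by group
    _ = 1 := by rw [h4, inv_mul_cancel]

/-- an element conjugating a nontrivial element of a split torus into it fixes or swaps the points -/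
theorem conj_T {α β : S.Ω} (h : α ≠ β) {g c : G} (hg : g ∈ S.T α β) (h1 : g ≠ 1)
    (hc : c * g * c⁻¹ ∈ S.T α β) : c ∈ S.T α β ∨ (c • α = β ∧ c • β = α) := by
  have h2 : c * g * c⁻¹ ≠ 1 := by rwa [Ne, conj_eq_one_iff]
  have ha := S.T_fix h hc h2 (γ := c • α) (by rw [mul_smul, inv_smul_smul, mul_smul, hg.1])
  have hb := S.T_fix h hc h2 (γ := c • β) (by rw [mul_smul, inv_smul_smul, mul_smul, hg.2])
  have hne : c • α ≠ c • β := (MulAction.injective c).ne h
  rcases ha with ha | ha <;> rcases hb with hb | hb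
  · exact absurd (ha.trans hb.symm) hne
  · exact Or.inl ⟨ha, hb⟩
  · exact Or.inr ⟨ha, hb⟩
  · exact absurd (ha.trans hb.symm) hne

theorem centralizer_T {α β : S.Ω} (h : α ≠ β) {g : G} (hg : g ∈ S.T α β) (h1 : g ≠ 1) :
    Subgroup.centralizer {g} = S.T α β := by
  ext c
  rw [Subgroup.mem_centralizer_singleton_iff]
  constructor
  · intro hc
    have h2 : c * g * c⁻¹ = g := by rw [hc, mul_inv_cancel_right]
    rcases S.conj_T h hg h1 (h2.symm ▸ hg) with h3 | ⟨h3, h4⟩
    · exact h3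
    · exfalso
      have := S.swap_inv h hg h3 h4
      rw [h2] at this
      exact h1 (S.T_sq h hg (n := 1) (by rw [pow_one, pow_two]; nth_rw 1 [this]; rw [inv_mul_cancel]))
  · intro hc
    exact S.T_mul_comm h hc hg

theorem mem_normalizer_T {α β : S.Ω} (h : α ≠ β) {X : Subgroup G} (hX : X ≤ S.T α β) (h1 : X ≠ ⊥) {c : G} :
    c ∈ Subgroup.normalizer (X : Set G) ↔ c ∈ S.T α β ∨ (c • α = β ∧ c • β = α) := by
  have := S.finite
  constructor
  · intro hc
    obtain ⟨⟨g, hg⟩, h2⟩ := Subgroup.ne_bot_iff_exists_ne_one.1 h1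
    exact S.conj_T h (hX hg) (fun h => h2 (Subtype.ext h)) (hX ((Subgroup.mem_normalizer_iff.1 hc g).1 hg))
  · intro hc
    apply Subgroup.mem_normalizer_fintype
    intro g hg
    rcases hc with hc | ⟨h2, h3⟩
    · rw [S.T_mul_comm h hc (hX hg), mul_inv_cancel_right]
      exact hg
    · rw [S.swap_inv h (hX hg) h2 h3]
      exact X.inv_mem hg

theorem T_ne_bot {α β : S.Ω} (h : α ≠ β) : S.T α β ≠ ⊥ := by
  intro h1
  have := S.card_TT h
  have h2 := S.eight_le
  rw [h1, Subgroup.card_bot] at this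
  omega

theorem card_normalizer_T {α β : S.Ω} (h : α ≠ β) {X : Subgroup G} (hX : X ≤ S.T α β) (h1 : X ≠ ⊥) :
    Nat.card (Subgroup.normalizer (X : Set G)) = 2 * (Fintype.card F - 1) := by
  obtain ⟨c, hc1, hc2⟩ := S.two_trans h h.symm
  have hle : S.T α β ≤ Subgroup.normalizer (X : Set G) := fun g hg =>
    (S.mem_normalizer_T h hX h1).2 (Or.inl hg)
  have h2 : ((S.T α β).subgroupOf (Subgroup.normalizer (X : Set G))).index = 2 := by
    rw [Subgroup.index_eq_two_iff]
    refine ⟨⟨c, (S.mem_normalizer_T h hX h1).2 (Or.inr ⟨hc1, hc2⟩)⟩, ?_⟩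
    rintro ⟨g, hg⟩
    simp only [Subgroup.mem_subgroupOf, Subgroup.coe_mul, mem_T, mul_smul, hc1, hc2]
    rcases (S.mem_normalizer_T h hX h1).1 hg with h3 | ⟨h3, h4⟩
    · right
      refine ⟨h3, fun h4 => h (h4.1.symm.trans h3.2)⟩
    · left
      exact ⟨⟨h4, h3⟩, fun h5 => h (h5.1.symm.trans h3)⟩
  rw [← ((S.T α β).subgroupOf _).index_mul_card, h2, ← S.card_TT h]
  congr 1
  exact Nat.card_congr (Subgroup.subgroupOfEquivOfLe hle).toEquiv

theorem centralizer_le_P {ω : S.Ω} {g : G} (hg : g ∈ S.P ω) (h1 : g ≠ 1) :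
    Subgroup.centralizer {g} ≤ S.P ω := by
  intro c hc
  rw [Subgroup.mem_centralizer_singleton_iff] at hc
  have h2 : c • ω = ω := S.P_fix hg h1 (by rw [← mul_smul, ← hc, mul_smul, hg.1])
  rcases S.stab_cases h2 with h3 | ⟨ω', h3, h4⟩
  · exact h3
  · by_cases hc1 : c = 1
    · rw [hc1]; exact (S.P ω).one_mem
    have h5 : g ∈ S.T ω' ω := by
      rw [← S.centralizer_T h3 ⟨h4, h2⟩ hc1, Subgroup.mem_centralizer_singleton_iff, hc]
    exact absurd (S.T_sq h3 h5 (n := 2) hg.2) h1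

theorem centralizer_Zc {ω : S.Ω} {g : G} (hg : g ∈ S.Zc ω) (h1 : g ≠ 1) :
    Subgroup.centralizer {g} = S.P ω :=
  le_antisymm (S.centralizer_le_P (S.Zc_le_P _ hg) h1) fun _ hc =>
    Subgroup.mem_centralizer_singleton_iff.2 (S.Zc_comm hg hc).symm

/-! ### fixed point free elements -/

def Free (g : G) : Prop := ∀ ω : S.Ω, g • ω ≠ ω

theorem cases (g : G) : (∃ ω, g ∈ S.P ω) ∨ (∃ α β, α ≠ β ∧ g ∈ S.T α β) ∨ S.Free g := by
  by_cases h : S.Free g
  · exact Or.inr (Or.inr h)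
  simp only [Free, not_forall, not_not] at h
  obtain ⟨ω, hω⟩ := h
  rcases S.stab_cases hω with h1 | ⟨ω', h1, h2⟩
  · exact Or.inl ⟨ω, h1⟩
  · exact Or.inr (Or.inl ⟨ω', ω, h1, h2, hω⟩)

variable {S}

theorem Free.ne_one {g : G} (h : S.Free g) : g ≠ 1 := by
  rintro rfl
  exact h S.inf (one_smul _ _)

theorem Free.of_comm {g x : G} (h : S.Free g) (hx : x ≠ 1) (hc : g * x = x * g) : S.Free x := by
  rcases S.cases x with ⟨ω, h1⟩ | ⟨α, β, h1, h2⟩ | h1
  · exact absurd (S.centralizer_le_P h1 hx (Subgroup.mem_centralizer_singleton_iff.2 hc)).1 (h ω)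
  · have : g ∈ S.T α β := by
      rw [← S.centralizer_T h1 h2 hx, Subgroup.mem_centralizer_singleton_iff, hc]
    exact absurd this.1 (h α)
  · exact h1

theorem Free.conj {g : G} (h : S.Free g) (c : G) : S.Free (c * g * c⁻¹) := by
  intro ω hω
  apply h (c⁻¹ • ω)
  rw [← mul_smul, eq_inv_smul_iff, ← mul_smul, ← mul_assoc, hω]

theorem card_dvd_of_free {A : Subgroup G} (hA : ∀ x ∈ A, x ≠ 1 → S.Free x) :
    Nat.card A ∣ Fintype.card F ^ 2 + 1 := by
  have := S.finite
  rw [← S.card_Ω]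
  have h1 : ∀ ω : S.Ω, MulAction.stabilizer A ω = ⊥ := by
    intro ω
    rw [eq_bot_iff]
    intro x hx
    by_contra h
    exact hA x x.2 (fun h' => h (Subtype.ext h')) ω hx
  rw [Nat.card_congr (MulAction.selfEquivOrbitsQuotientProd h1), Nat.card_prod]
  exact Dvd.intro_left _ rfl

theorem Free.card_dvd {g : G} (h : S.Free g) :
    Nat.card (Subgroup.centralizer ({g} : Set G)) ∣ Fintype.card F ^ 2 + 1 :=
  card_dvd_of_free fun _ hx h1 => h.of_comm h1 (Subgroup.mem_centralizer_singleton_iff.1 hx).symm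

theorem Free.orderOf_dvd {g : G} (h : S.Free g) : orderOf g ∣ Fintype.card F ^ 2 + 1 :=
  (Subgroup.orderOf_dvd_natCard _ (Subgroup.mem_centralizer_singleton_iff.2 rfl)).trans h.card_dvd

variable (S)

include S in
theorem coprime_card : Nat.Coprime (Fintype.card F ^ 2 * (Fintype.card F - 1)) (Fintype.card F ^ 2 + 1) := by
  have h8 := S.eight_le
  have hodd := S.odd_card_Ω
  rw [card_Ω] at hodd
  refine Nat.Coprime.mul_left (by simp) ?_
  obtain ⟨n, hn⟩ : ∃ n, Fintype.card F = n + 1 := ⟨Fintype.card F - 1, by omega⟩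
  rw [hn] at hodd ⊢
  rw [Nat.add_sub_cancel, show (n + 1) ^ 2 + 1 = 2 + n * (n + 2) by ring, Nat.coprime_add_mul_left_right,
    Nat.coprime_two_right]
  rw [← Nat.not_even_iff_odd]
  rintro ⟨k, rfl⟩
  exact hodd ⟨2 * k ^ 2 + 2 * k + 1, by ring⟩

theorem free_of_orderOf_dvd {g : G} (h1 : g ≠ 1) (h : orderOf g ∣ Fintype.card F ^ 2 + 1) : S.Free g := by
  intro ω hω
  have h2 := Subgroup.orderOf_dvd_natCard (MulAction.stabilizer G ω) hω
  rw [card_stab] at h2
  exact h1 (orderOf_eq_one_iff.1 (Nat.eq_one_of_dvd_coprimes S.coprime_card h2 h))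

end SzS

end H5.Sz
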