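import Cfsg.Agent.H5.SZ6

/-! Suzuki groups: orders of the non-split tori, the partition. -/

namespace H5.Sz
open scoped Pointwise

namespace SzS
variable {F : Type*} [Field F] [Fintype F] {m : ℕ} {G : Type*} [Group G] {S : SzS F m G}

theorem Free.five_le {g : G} (h : S.Free g) : 5 ≤ Nat.card (Subgroup.centralizer ({g} : Set G)) := by
  have := S.finite
  have h1 := h.card_dvd
  have h2 := S.odd_card_Ω
  rw [card_Ω] at h2
  have h3 : ¬ 3 ∣ Fintype.card F ^ 2 + 1 := by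
    intro h3
    have := (ZMod.natCast_eq_zero_iff _ 3).2 h3
    push_cast at this
    generalize (Fintype.card F : ZMod 3) = a at this
    revert a
    decide
  have h4 : Nat.card (Subgroup.centralizer ({g} : Set G)) ≠ 1 := by
    intro h4
    have h5 := Subgroup.eq_bot_of_card_eq _ h4
    have : g ∈ Subgroup.centralizer ({g} : Set G) := Subgroup.mem_centralizer_singleton_iff.2 rfl
    rw [h5, Subgroup.mem_bot] at this
    exact h.ne_one this
  have h5 : 0 < Nat.card (Subgroup.centralizer ({g} : Set G)) := Nat.card_pos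
  generalize Nat.card (Subgroup.centralizer ({g} : Set G)) = k at h1 h4 h5
  by_contra h6
  have h7 : k < 5 := not_le.1 h6
  interval_cases k
  · exact h4 rfl
  · exact h2 h1
  · exact h3 h1
  · exact h2 (dvd_trans (by norm_num) h1)

theorem not_three_dvd (S : SzS F m G) : ¬ 3 ∣ Nat.card G := by
  intro h
  have h8 := S.eight_le
  have h1 := (ZMod.natCast_eq_zero_iff _ 3).2 h
  rw [S.card_G, Nat.cast_mul, Nat.cast_sub (by omega), S.hF] at h1
  push_cast at h1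
  rw [pow_succ 2 (2 * m), pow_mul, show (2 : ZMod 3) ^ 2 = 1 from rfl, one_pow] at h1
  revert h1
  decide

theorem Free.card_DD {g : G} (h : S.Free g) : ∃ n, (1 ≤ n ∧ n ≠ 3) ∧ n ≤ 4 ∧
    Nat.card (Subgroup.normalizer (Subgroup.centralizer ({g} : Set G) : Set G)) =
      n * Nat.card (Subgroup.centralizer ({g} : Set G)) ∧
    (DD g).ncard * (n * Nat.card (Subgroup.centralizer ({g} : Set G))) =
      Nat.card G * (Nat.card (Subgroup.centralizer ({g} : Set G)) - 1) ∧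
    4 * Nat.card G ≤ 5 * n * (DD g).ncard := by
  have := S.finite
  obtain ⟨n, hn⟩ := Subgroup.card_dvd_of_le (Subgroup.centralizer ({g} : Set G)).le_normalizer
  have h1 := h.card_normalizer_le
  have h2 := card_conjSet _ h.ti
  have h3 := h.five_le
  have h4 := (Subgroup.normalizer (Subgroup.centralizer ({g} : Set G) : Set G)).index_mul_card
  have h5 : 0 < Nat.card (Subgroup.normalizer (Subgroup.centralizer ({g} : Set G) : Set G)) := Nat.card_pos
  rw [Nat.card_coe_set_eq] at h2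
  have h6 : (DD g).ncard * (n * Nat.card (Subgroup.centralizer ({g} : Set G))) =
      Nat.card G * (Nat.card (Subgroup.centralizer ({g} : Set G)) - 1) := by
    rw [h2, ← h4, hn]; ring
  have h7 : n ≠ 3 := by
    rintro rfl
    exact S.not_three_dvd ((Dvd.intro_left _ hn.symm).trans (Subgroup.card_subgroup_dvd_card _))
  rw [hn] at h1 h5
  refine ⟨n, ⟨Nat.pos_of_mul_pos_left h5, h7⟩, by nlinarith, by rw [hn, mul_comm], h6, ?_⟩
  obtain ⟨k, hk⟩ : ∃ k, Nat.card (Subgroup.centralizer ({g} : Set G)) = k + 5 := ⟨_, (Nat.sub_add_cancel h3).symm⟩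
  rw [hk] at h6
  apply Nat.le_of_mul_le_mul_right _ (show 0 < k + 5 by omega)
  rw [show k + 5 - 1 = k + 4 by omega] at h6
  nlinarith [Nat.zero_le (Nat.card G * k)]

variable (S)

theorem tori_aux : ∃ g1 g2 : G, S.Free g1 ∧ S.Free g2 ∧ (∀ g, S.Free g → g ∈ DD g1 ∨ g ∈ DD g2) ∧
    Nat.card (Subgroup.centralizer ({g1} : Set G)) * Nat.card (Subgroup.centralizer ({g2} : Set G)) =
      Fintype.card F ^ 2 + 1 ∧
    Nat.card (Subgroup.centralizer ({g1} : Set G)) + Nat.card (Subgroup.centralizer ({g2} : Set G)) =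
      2 * Fintype.card F + 2 ∧
    Nat.card (Subgroup.normalizer (Subgroup.centralizer ({g1} : Set G) : Set G)) =
      4 * Nat.card (Subgroup.centralizer ({g1} : Set G)) ∧
    Nat.card (Subgroup.normalizer (Subgroup.centralizer ({g2} : Set G) : Set G)) =
      4 * Nat.card (Subgroup.centralizer ({g2} : Set G)) := by
  have := S.finite
  have hD := S.card_free
  rw [Nat.card_coe_set_eq] at hD
  have hG := S.card_G
  have h8 := S.eight_le
  obtain ⟨q, hq⟩ : ∃ q, Fintype.card F = q + 1 := ⟨Fintype.card F - 1, by omega⟩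
  rw [hq, Nat.add_sub_cancel] at hD hG
  have hq7 : 7 ≤ q := by omega
  have hlt : 2 * {g | S.Free g}.ncard < Nat.card G := by
    rw [hD, hG]
    have : 0 < (q + 1) ^ 2 * q := by positivity
    nlinarith
  have hpos : 0 < {g | S.Free g}.ncard := by
    have : 0 < (q + 1) ^ 3 * q ^ 2 := by positivity
    omega
  obtain ⟨g1, hg1⟩ := (Set.ncard_pos (Set.toFinite _)).1 hpos
  have hg1 : S.Free g1 := hg1
  obtain ⟨n1, ⟨a1, a1'⟩, b1, c1, d1, e1⟩ := hg1.card_DD
  have hsub : ∀ {g}, S.Free g → DD g ⊆ {g | S.Free g} := fun h x hx => h.free_of_DD hx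
  have hdisj : ∀ {g g'}, S.Free g → S.Free g' → g' ∉ DD g → Disjoint (DD g) (DD g') := by
    intro g g' h h' hn
    rw [Set.disjoint_left]
    intro x hx hx'
    exact hn (by rw [← h.DD_eq hx, h'.DD_eq hx']; exact h'.mem_DD)
  have h2 : ∃ g2, S.Free g2 ∧ g2 ∉ DD g1 := by
    by_contra hc
    push Not at hc
    have h3 := dvd_of_cover (S := S) (K := Nat.card (Subgroup.centralizer ({g1} : Set G))) Nat.card_pos.ne'
      (fun x hx => by rw [(hg1.card_cent_DD (hc x hx)).1])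
    have h4 := Nat.dvd_antisymm hg1.card_dvd h3
    have h5 : DD g1 = {g | S.Free g} := Set.Subset.antisymm (hsub hg1) hc
    rw [h5, h4, hq, Nat.add_sub_cancel, hG] at d1
    have h6 : ((q + 1) ^ 3 * q * ((q + 1) ^ 2 + 1)) * (n1 * q) =
        ((q + 1) ^ 3 * q * ((q + 1) ^ 2 + 1)) * (2 * (q + 1)) := by
      linear_combination 2 * d1 - n1 * ((q + 1) ^ 2 + 1) * hD
    have h7 := Nat.eq_of_mul_eq_mul_left (by positivity) h6
    interval_cases n1 <;> omega
  obtain ⟨g2, hg2, hn2⟩ := h2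
  obtain ⟨n2, ⟨a2, a2'⟩, b2, c2, d2, e2⟩ := hg2.card_DD
  have hu := Set.ncard_union_eq (hdisj hg1 hg2 hn2) (Set.toFinite _) (Set.toFinite _)
  have hcov : ∀ g, S.Free g → g ∈ DD g1 ∨ g ∈ DD g2 := by
    intro g3 hg3
    by_contra hc
    push Not at hc
    obtain ⟨n3, a3, b3, c3, d3, e3⟩ := hg3.card_DD
    have hu2 := Set.ncard_union_eq (Set.disjoint_union_left.2 ⟨hdisj hg1 hg3 hc.1, hdisj hg2 hg3 hc.2⟩)
      (Set.toFinite _) (Set.toFinite _)
    have := Set.ncard_le_ncard (Set.union_subset (Set.union_subset (hsub hg1) (hsub hg2)) (hsub hg3))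
      (Set.toFinite _)
    have f1 := Nat.mul_le_mul_right (5 * (DD g1).ncard) b1
    have f2 := Nat.mul_le_mul_right (5 * (DD g2).ncard) b2
    have f3 := Nat.mul_le_mul_right (5 * (DD g3).ncard) b3
    nlinarith
  have heq : DD g1 ∪ DD g2 = {g | S.Free g} :=
    Set.Subset.antisymm (Set.union_subset (hsub hg1) (hsub hg2)) hcov
  rw [heq] at hu
  have hcop : Nat.Coprime (Nat.card (Subgroup.centralizer ({g1} : Set G)))
      (Nat.card (Subgroup.centralizer ({g2} : Set G))) := by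
    apply Nat.coprime_of_dvd
    intro p hp h1 h2
    exact hn2 (hg1.DD_eq_of_dvd hg2 hp h1 h2 ▸ hg2.mem_DD)
  have hprod := Nat.dvd_antisymm (hcop.mul_dvd_of_dvd_of_dvd hg1.card_dvd hg2.card_dvd)
    (dvd_of_cover (S := S) (mul_ne_zero Nat.card_pos.ne' Nat.card_pos.ne') (fun x hx => by
      rcases hcov x hx with h | h
      · rw [(hg1.card_cent_DD h).1]; exact Dvd.intro _ rfl
      · rw [(hg2.card_cent_DD h).1]; exact Dvd.intro_left _ rfl))
  have k1 := hg1.five_le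
  have k2 := hg2.five_le
  refine ⟨g1, g2, hg1, hg2, hcov, ?_⟩
  rw [c1, c2]
  clear hcov heq hdisj hsub hn2 c1 c2 hg1
  generalize Nat.card (Subgroup.centralizer ({g1} : Set G)) = x at *
  generalize Nat.card (Subgroup.centralizer ({g2} : Set G)) = y at *
  generalize (DD g1).ncard = D1 at *
  generalize (DD g2).ncard = D2 at *
  generalize {g | S.Free g}.ncard = D at *
  generalize Nat.card G = N at *
  obtain ⟨x, rfl⟩ : ∃ x', x = x' + 1 := ⟨x - 1, by omega⟩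
  obtain ⟨y, rfl⟩ : ∃ y', y = y' + 1 := ⟨y - 1, by omega⟩
  rw [Nat.add_sub_cancel] at d1 d2
  rw [hq] at hprod ⊢
  have hn1 : n1 = 4 := by
    by_contra h
    have f1 := Nat.mul_le_mul_right (5 * D1) (show n1 ≤ 2 by omega)
    have f2 := Nat.mul_le_mul_right (5 * D2) b2
    nlinarith
  have hn2 : n2 = 4 := by
    by_contra h
    have f1 := Nat.mul_le_mul_right (5 * D1) b1
    have f2 := Nat.mul_le_mul_right (5 * D2) (show n2 ≤ 2 by omega)
    nlinarith
  subst hn1 hn2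
  refine ⟨hprod, ?_, rfl, rfl⟩
  have h6 : ((q + 1) ^ 2 * q * ((q + 1) ^ 2 + 1)) * (x + 1 + (y + 1)) =
      ((q + 1) ^ 2 * q * ((q + 1) ^ 2 + 1)) * (2 * (q + 1) + 2) := by
    subst hu hG
    zify at d1 d2 hD hprod ⊢
    linear_combination (y + 1) * d1 + (x + 1) * d2 - 2 * ((x + 1) * (y + 1)) * hD +
      (2 * (q + 1) ^ 2 * q * ((q + 1) ^ 2 + 1) - 2 * (q + 1) ^ 3 * q ^ 2) * hprod
  exact Nat.eq_of_mul_eq_mul_left (by positivity) h6

/-- the two orders of non-split tori -/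
def kk (m : ℕ) : Set ℕ := {2 ^ (2 * m + 1) + 2 ^ (m + 1) + 1, 2 ^ (2 * m + 1) - 2 ^ (m + 1) + 1}

omit S in
theorem quad_solve {x y : ℕ} (h1 : x * y = (2 ^ (2 * m + 1)) ^ 2 + 1) (h2 : x + y = 2 * 2 ^ (2 * m + 1) + 2) :
    (x = 2 ^ (2 * m + 1) + 2 ^ (m + 1) + 1 ∧ y = 2 ^ (2 * m + 1) - 2 ^ (m + 1) + 1) ∨
    (y = 2 ^ (2 * m + 1) + 2 ^ (m + 1) + 1 ∧ x = 2 ^ (2 * m + 1) - 2 ^ (m + 1) + 1) := by
  have h3 : 2 ^ (m + 1) ≤ 2 ^ (2 * m + 1) := Nat.pow_le_pow_right (by norm_num) (by omega)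
  have h4 : (2 ^ (m + 1)) ^ 2 = 2 * 2 ^ (2 * m + 1) := by ring
  generalize 2 ^ (m + 1) = r at *
  generalize 2 ^ (2 * m + 1) = q at *
  have h5 : ((x : ℤ) - (q + r + 1)) * ((x : ℤ) - (q - r + 1)) = 0 := by
    zify at h1 h2 h4
    linear_combination x * h2 - h1 - h4
  rcases mul_eq_zero.1 h5 with h | h
  · left; omega
  · right; omega

theorem tori : ∃ g1 g2 : G, S.Free g1 ∧ S.Free g2 ∧ (∀ g, S.Free g → g ∈ DD g1 ∨ g ∈ DD g2) ∧
    Nat.card (Subgroup.centralizer ({g1} : Set G)) = 2 ^ (2 * m + 1) + 2 ^ (m + 1) + 1 ∧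
    Nat.card (Subgroup.centralizer ({g2} : Set G)) = 2 ^ (2 * m + 1) - 2 ^ (m + 1) + 1 ∧
    Nat.card (Subgroup.normalizer (Subgroup.centralizer ({g1} : Set G) : Set G)) =
      4 * Nat.card (Subgroup.centralizer ({g1} : Set G)) ∧
    Nat.card (Subgroup.normalizer (Subgroup.centralizer ({g2} : Set G) : Set G)) =
      4 * Nat.card (Subgroup.centralizer ({g2} : Set G)) := by
  obtain ⟨g1, g2, h1, h2, h3, h4, h5, h6, h7⟩ := S.tori_aux
  rw [S.hF] at h4 h5
  rcases quad_solve h4 h5 with ⟨a, b⟩ | ⟨a, b⟩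
  · exact ⟨g1, g2, h1, h2, h3, a, b, h6, h7⟩
  · exact ⟨g2, g1, h2, h1, fun g hg => (h3 g hg).symm, a, b, h7, h6⟩

include S in
theorem kk_mul : (2 ^ (2 * m + 1) + 2 ^ (m + 1) + 1) * (2 ^ (2 * m + 1) - 2 ^ (m + 1) + 1) =
    Fintype.card F ^ 2 + 1 := by
  have h3 : 2 ^ (m + 1) ≤ 2 ^ (2 * m + 1) := Nat.pow_le_pow_right (by norm_num) (by omega)
  rw [S.hF]
  zify [h3]
  ring

include S in
theorem kk_dvd {k : ℕ} (hk : k ∈ kk m) : k ∣ Fintype.card F ^ 2 + 1 := by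
  rw [← S.kk_mul]
  rcases hk with rfl | rfl
  · exact Dvd.intro _ rfl
  · exact Dvd.intro_left _ rfl

include S in
theorem kk_coprime : Nat.Coprime (2 ^ (2 * m + 1) + 2 ^ (m + 1) + 1) (2 ^ (2 * m + 1) - 2 ^ (m + 1) + 1) := by
  have h3 : 2 ^ (m + 1) ≤ 2 ^ (2 * m + 1) := Nat.pow_le_pow_right (by norm_num) (by omega)
  apply Nat.coprime_of_dvd
  intro p hp h1 h2
  have h4 : p ∣ 2 ^ (m + 2) := by
    have := (Nat.dvd_sub h1 h2)
    rwa [show 2 ^ (2 * m + 1) + 2 ^ (m + 1) + 1 - (2 ^ (2 * m + 1) - 2 ^ (m + 1) + 1) = 2 ^ (m + 2) by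
      rw [pow_succ 2 (m + 1)]; omega] at this
  obtain rfl := (Nat.prime_dvd_prime_iff_eq hp Nat.prime_two).1 (hp.dvd_of_dvd_pow h4)
  have h5 := S.odd_card_Ω
  rw [card_Ω] at h5
  exact h5 (h1.trans (S.kk_dvd (Or.inl rfl)))

variable {S}

theorem Free.card_mem {g : G} (h : S.Free g) : Nat.card (Subgroup.centralizer ({g} : Set G)) ∈ kk m := by
  obtain ⟨g1, g2, h1, h2, h3, h4, h5, -, -⟩ := S.tori
  rcases h3 g h with h6 | h6
  · rw [(h1.card_cent_DD h6).1, h4]; exact Or.inl rfl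
  · rw [(h2.card_cent_DD h6).1, h5]; exact Or.inr rfl

theorem Free.card_normalizer {g : G} (h : S.Free g) :
    Nat.card (Subgroup.normalizer (Subgroup.centralizer ({g} : Set G) : Set G)) =
      4 * Nat.card (Subgroup.centralizer ({g} : Set G)) := by
  obtain ⟨g1, g2, h1, h2, h3, -, -, h4, h5⟩ := S.tori
  rcases h3 g h with h6 | h6
  · rw [(h1.card_cent_DD h6).1, (h1.card_cent_DD h6).2, h4]
  · rw [(h2.card_cent_DD h6).1, (h2.card_cent_DD h6).2, h5]

theorem Free.card_eq {g : G} (h : S.Free g) {k : ℕ} (hk : k ∈ kk m) (hd : orderOf g ∣ k) :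
    Nat.card (Subgroup.centralizer ({g} : Set G)) = k := by
  have h1 : orderOf g ∣ Nat.card (Subgroup.centralizer ({g} : Set G)) :=
    Subgroup.orderOf_dvd_natCard _ (Subgroup.mem_centralizer_singleton_iff.2 rfl)
  have h2 : orderOf g ≠ 1 := fun h' => h.ne_one (orderOf_eq_one_iff.1 h')
  rcases h.card_mem with h3 | h3 <;> rcases hk with rfl | rfl
  · exact h3
  · rw [h3] at h1
    exact absurd (Nat.eq_one_of_dvd_coprimes S.kk_coprime h1 hd) h2
  · rw [Set.mem_singleton_iff.1 h3] at h1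
    exact absurd (Nat.eq_one_of_dvd_coprimes S.kk_coprime hd h1) h2
  · exact h3

theorem Free.mem_normalizer {g : G} (h : S.Free g) {X : Subgroup G}
    (hX : X ≤ Subgroup.centralizer ({g} : Set G)) (h1 : X ≠ ⊥) :
    Subgroup.normalizer (X : Set G) ≤ Subgroup.normalizer (Subgroup.centralizer ({g} : Set G) : Set G) := by
  intro c hc
  obtain ⟨⟨y, hy⟩, h2⟩ := Subgroup.ne_bot_iff_exists_ne_one.1 h1
  exact h.ti c y (hX hy) (fun h => h2 (Subtype.ext h)) (hX ((Subgroup.mem_normalizer_iff.1 hc y).1 hy))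

variable (S)

include S in
theorem exists_free {k : ℕ} (hk : k ∈ kk m) :
    ∃ g, S.Free g ∧ Nat.card (Subgroup.centralizer ({g} : Set G)) = k := by
  obtain ⟨g1, g2, h1, h2, h3, h4, h5, -, -⟩ := S.tori
  rcases hk with rfl | rfl
  · exact ⟨g1, h1, h4⟩
  · exact ⟨g2, h2, h5⟩

/-- members of the partition -/
def Part (U : Subgroup G) : Prop :=
  (∃ ω, U = S.P ω) ∨ (∃ α β, α ≠ β ∧ U = S.T α β) ∨ ∃ g, S.Free g ∧ U = Subgroup.centralizer {g}

theorem exists_part (g : G) : ∃ U, S.Part U ∧ g ∈ U := by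
  rcases S.cases g with ⟨ω, h⟩ | ⟨α, β, h1, h⟩ | h
  · exact ⟨_, Or.inl ⟨ω, rfl⟩, h⟩
  · exact ⟨_, Or.inr (Or.inl ⟨α, β, h1, rfl⟩), h⟩
  · exact ⟨_, Or.inr (Or.inr ⟨g, h, rfl⟩), Subgroup.mem_centralizer_singleton_iff.2 rfl⟩

variable {S}

theorem Part.cent_le {U : Subgroup G} (hU : S.Part U) {g : G} (hg : g ∈ U) (h1 : g ≠ 1) :
    Subgroup.centralizer {g} ≤ U := by
  rcases hU with ⟨ω, rfl⟩ | ⟨α, β, h, rfl⟩ | ⟨x, h, rfl⟩
  · exact S.centralizer_le_P hg h1
  · exact (S.centralizer_T h hg h1).le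
  · exact (h.cent_eq hg h1).le

theorem Part.unique {U V : Subgroup G} (hU : S.Part U) (hV : S.Part V) {g : G} (h1 : g ≠ 1)
    (hg : g ∈ U) (hg' : g ∈ V) : U = V := by
  have key : ∀ {ω : S.Ω} {V : Subgroup G}, S.Part V → g ∈ S.P ω → g ∈ V → V = S.P ω := by
    rintro ω V (⟨ω', rfl⟩ | ⟨α, β, h, rfl⟩ | ⟨x, h, rfl⟩) h2 h3
    · rw [S.P_fix h2 h1 h3.1]
    · exact absurd (S.T_sq h h3 (n := 2) h2.2) h1
    · exact absurd h2.1 (h.free_of_mem h3 h1 ω)
  have key2 : ∀ {U : Subgroup G}, S.Part U → g ∈ U → (∃ ω, U = S.P ω) ∨ U = Subgroup.centralizer {g} := by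
    rintro U (h | ⟨α, β, h, rfl⟩ | ⟨x, h, rfl⟩) h2
    · exact Or.inl h
    · exact Or.inr (S.centralizer_T h h2 h1).symm
    · exact Or.inr (h.cent_eq h2 h1).symm
  rcases key2 hU hg with ⟨ω, rfl⟩ | h2
  · exact (key hV hg hg').symm
  rcases key2 hV hg' with ⟨ω, rfl⟩ | h3
  · exact key hU hg' hg
  · rw [h2, h3]

theorem Part.nilpotent {U : Subgroup G} (hU : S.Part U) : Group.IsNilpotent U := by
  have := S.finite
  rcases hU with ⟨ω, rfl⟩ | ⟨α, β, h, rfl⟩ | ⟨x, h, rfl⟩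
  · exact (S.isPGroup_P ω).isNilpotent
  · have := S.isCyclic_T h
    letI := IsCyclic.commGroup (α := S.T α β)
    exact CommGroup.isNilpotent
  · have := h.isCyclic
    letI := IsCyclic.commGroup (α := Subgroup.centralizer ({x} : Set G))
    exact CommGroup.isNilpotent

theorem Part.smul {U : Subgroup G} (hU : S.Part U) (c : G) : S.Part (MulAut.conj c • U) := by
  rcases hU with ⟨ω, rfl⟩ | ⟨α, β, h, rfl⟩ | ⟨x, h, rfl⟩
  · exact Or.inl ⟨_, (S.P_smul c ω).symm⟩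
  · exact Or.inr (Or.inl ⟨_, _, (MulAction.injective c).ne h, (S.T_smul c α β).symm⟩)
  · exact Or.inr (Or.inr ⟨_, h.conj c, (centralizer_conj x c).symm⟩)

theorem Part.ti {U : Subgroup G} (hU : S.Part U) {c y : G} (hy : y ∈ U) (h1 : y ≠ 1)
    (hc : c * y * c⁻¹ ∈ U) : c ∈ Subgroup.normalizer (U : Set G) := by
  rw [← Subgroup.conjAct_pointwise_smul_iff]
  show MulAut.conj c • U = U
  exact (hU.smul c).unique hU (g := c * y * c⁻¹) (by rwa [Ne, conj_eq_one_iff]) ⟨y, hy, rfl⟩ hc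

theorem Part.normalizer_le {U : Subgroup G} (hU : S.Part U) {X : Subgroup G} (hX : X ≤ U) (h1 : X ≠ ⊥) :
    Subgroup.normalizer (X : Set G) ≤ Subgroup.normalizer (U : Set G) := by
  intro c hc
  obtain ⟨⟨y, hy⟩, h2⟩ := Subgroup.ne_bot_iff_exists_ne_one.1 h1
  exact hU.ti (hX hy) (fun h => h2 (Subtype.ext h)) (hX ((Subgroup.mem_normalizer_iff.1 hc y).1 hy))

variable (S)

/-- a subgroup with non-trivial centre lies in a member of the partition -/
theorem le_part_of_center {X : Subgroup G} {z : G} (h1 : z ≠ 1) (hz : ∀ x ∈ X, x * z = z * x) :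
    ∃ U, S.Part U ∧ z ∈ U ∧ X ≤ U := by
  obtain ⟨U, hU, h⟩ := S.exists_part z
  exact ⟨U, hU, h, fun x hx => hU.cent_le h h1 (Subgroup.mem_centralizer_singleton_iff.2 (hz x hx))⟩

theorem le_part_of_nilpotent {X : Subgroup G} (hX : Group.IsNilpotent X) : ∃ U, S.Part U ∧ X ≤ U := by
  by_cases h : X = ⊥
  · exact ⟨_, Or.inl ⟨S.inf, rfl⟩, h ▸ bot_le⟩
  have : Nontrivial X := (Subgroup.nontrivial_iff_ne_bot _).2 h
  obtain ⟨⟨z, hz⟩, h1⟩ := Subgroup.ne_bot_iff_exists_ne_one.1 (Group.IsNilpotent.center_ne_bot X)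
  obtain ⟨U, hU, -, h2⟩ := S.le_part_of_center (X := X) (z := z) (fun h => h1 (Subtype.ext (Subtype.ext h)))
    (fun x hx => congrArg Subtype.val (Subgroup.mem_center_iff.1 hz ⟨x, hx⟩))
  exact ⟨U, hU, h2⟩

include S in
theorem cn : Cfsg.IsCNGroup G := by
  intro g h1
  obtain ⟨U, hU, h⟩ := S.exists_part g
  have := hU.nilpotent
  exact Group.nilpotent_of_surjective (Subgroup.subgroupOfEquivOfLe (hU.cent_le h h1)).toMonoidHom
    (MulEquiv.surjective _)

include S in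
theorem isCyclic_of_odd {p : ℕ} [hp : Fact p.Prime] (h2 : p ≠ 2) {Q : Subgroup G} (hQ : IsPGroup p Q) :
    IsCyclic Q := by
  have := S.finite
  obtain ⟨U, hU, h⟩ := S.le_part_of_nilpotent hQ.isNilpotent
  rcases hU with ⟨ω, rfl⟩ | ⟨α, β, h1, rfl⟩ | ⟨x, h1, rfl⟩
  · have := IsPGroup.disjoint_of_ne p 2 h2 Q (S.P ω) hQ (S.isPGroup_P ω)
    rw [disjoint_iff, inf_of_le_left h] at this
    rw [this]
    infer_instance
  · have := S.isCyclic_T h1
    exact Subgroup.isCyclic_of_le h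
  · have := h1.isCyclic
    exact Subgroup.isCyclic_of_le h

theorem part_iff {U : Subgroup G} : S.Part U ↔ (∃ Q : Sylow 2 G, U = Q) ∨ (IsCyclic U ∧
    (Nat.card U = Fintype.card F - 1 ∨ Nat.card U ∈ kk m)) := by
  have := S.finite
  constructor
  · rintro (⟨ω, rfl⟩ | ⟨α, β, h, rfl⟩ | ⟨x, h, rfl⟩)
    · obtain ⟨Q, hQ⟩ := S.exists_sylow ω
      exact Or.inl ⟨Q, hQ.symm⟩
    · exact Or.inr ⟨S.isCyclic_T h, Or.inl (S.card_TT h)⟩
    · exact Or.inr ⟨h.isCyclic, Or.inr h.card_mem⟩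
  · rintro (⟨Q, rfl⟩ | ⟨h1, h2⟩)
    · exact Or.inl (S.sylow_eq Q)
    obtain ⟨g, rfl⟩ := (Subgroup.isCyclic_iff_exists_zpowers_eq_top U).1 h1
    rw [Nat.card_zpowers] at h2
    have h8 := S.eight_le
    rcases h2 with h2 | h2
    · have hg1 : g ≠ 1 := by
        rintro rfl
        rw [orderOf_one] at h2
        omega
      rcases S.cases g with ⟨ω, h⟩ | ⟨α, β, h1, h⟩ | h
      · have := Nat.le_of_dvd (by norm_num) (orderOf_dvd_of_pow_eq_one h.2)
        omega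
      · refine Or.inr (Or.inl ⟨α, β, h1, Subgroup.eq_of_le_of_card_ge ((Subgroup.zpowers_le).2 h) ?_⟩)
        rw [S.card_TT h1, Nat.card_zpowers, h2]
      · exact absurd (orderOf_eq_one_iff.1 (Nat.eq_one_of_dvd_coprimes S.coprime_card
          (h2 ▸ Dvd.intro_left _ rfl) h.orderOf_dvd)) hg1
    · have hg1 : g ≠ 1 := by
        rintro rfl
        rw [orderOf_one] at h2
        obtain ⟨x, hx, h3⟩ := S.exists_free h2
        have := hx.five_le
        omega
      have h := S.free_of_orderOf_dvd hg1 (S.kk_dvd h2)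
      refine Or.inr (Or.inr ⟨g, h, Subgroup.eq_of_le_of_card_ge ((Subgroup.zpowers_le).2
        (Subgroup.mem_centralizer_singleton_iff.2 rfl)) ?_⟩)
      rw [h.card_eq h2 dvd_rfl, Nat.card_zpowers]

end SzS

end H5.Sz
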