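import Cfsg.Agent.H5.SZ7

/-! Suzuki groups: more on subgroups. -/

namespace H5.Sz
open scoped Pointwise

namespace SzS
variable {F : Type*} [Field F] [Fintype F] {m : ℕ} {G : Type*} [Group G] (S : SzS F m G)

theorem normalizer_U : Subgroup.normalizer (S.U : Set G) = MulAction.stabilizer G S.inf := by
  rw [← P_inf, normalizer_P]

theorem conj_u (c d : F) (t : Fˣ) (a b : F) : S.u c d * S.h t * S.u a b * (S.u c d * S.h t)⁻¹ =
    S.u (t * a) (t * S.θ t * b + S.θ c * (t * a) + S.θ (t * a) * c) := by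
  have := S.charP
  calc _ = S.u c d * (S.h t * S.u a b * (S.h t)⁻¹) * (S.u c d)⁻¹ := by group
    _ = _ := by
      rw [h_u, u_inv, u_mul, u_mul, u_eq_iff]
      simp only [map_add]
      constructor <;> grind

theorem real_U {g : G} (hg : g ∈ S.U) (h1 : g ≠ 1) (h : IsConj g g⁻¹) : g ^ 2 = 1 := by
  have := S.charP
  obtain ⟨c, hc⟩ := isConj_iff.1 h
  have h2 := Part.ti (S := S) (Or.inl ⟨S.inf, S.P_inf.symm⟩) hg h1 (hc ▸ S.U.inv_mem hg)
  rw [normalizer_U] at h2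
  obtain ⟨c, d, t, rfl⟩ := S.fix1 h2
  obtain ⟨a, b, rfl⟩ := hg
  rw [u_sq_eq_one]
  by_contra ha
  rw [conj_u, u_inv, u_eq_iff] at hc
  have ht : (t : F) = 1 := mul_right_cancel₀ ha (by rw [hc.1, one_mul])
  have h3 := hc.2
  rw [ht] at h3
  simp only [map_one, one_mul] at h3
  have ha' : S.θ a ≠ 0 := (map_ne_zero _).2 ha
  have h4 : S.θ (c / a) + c / a = 1 := by
    rw [map_div₀]
    field_simp
    linear_combination h3
  have h5 := congrArg S.θ h4
  rw [map_add, θθ, map_one] at h5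
  have h6 : c / a * (c / a + 1) = 0 := by grind
  rcases mul_eq_zero.1 h6 with h7 | h7
  · simp [h7] at h4
  · have : c / a = 1 := by grind
    rw [this, map_one] at h4
    grind

theorem eq_top_of_Zc {M : Subgroup G} (h : ∀ ω, S.Zc ω ≤ M) : M = ⊤ := by
  rw [eq_top_iff, ← S.iSup_Zc]
  exact iSup_le h

theorem eq_top_of_P {M : Subgroup G} {ω : S.Ω} (h : S.P ω ≤ M) {g : G} (hg : g ∈ M) (h1 : g • ω ≠ ω) :
    M = ⊤ := by
  apply S.eq_top_of_Zc
  intro α
  by_cases h2 : α = ω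
  · exact h2 ▸ (S.Zc_le_P ω).trans h
  obtain ⟨k, hk, rfl⟩ := S.P_trans h1 h2
  intro z hz
  rw [← mul_smul, mem_Zc_smul] at hz
  have h3 := M.mul_mem (h hk) hg
  simpa [mul_assoc] using M.mul_mem (M.mul_mem h3 (h (S.Zc_le_P _ hz))) (M.inv_mem h3)

theorem stab_ne_top (ω : S.Ω) : MulAction.stabilizer G ω ≠ ⊤ := by
  intro h
  have h1 := S.index_stab ω
  rw [h, Subgroup.index_top] at h1
  have := S.eight_le
  have : 0 < Fintype.card F ^ 2 := by positivity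
  omega

theorem le_stab_of_P {M : Subgroup G} {ω : S.Ω} (h : S.P ω ≤ M) (h1 : M ≠ ⊤) :
    M ≤ MulAction.stabilizer G ω := fun g hg => by
  by_contra h2
  exact h1 (S.eq_top_of_P h hg h2)

theorem isCoatom_stab (ω : S.Ω) : IsCoatom (MulAction.stabilizer G ω) :=
  ⟨S.stab_ne_top ω, fun M hM => by
    by_contra h
    exact hM.not_ge (S.le_stab_of_P ((S.P_le_stab ω).trans hM.le) h)⟩

theorem conj_z {g : G} (hg : g • S.inf = S.inf) :
    ∃ s : F, s ≠ 0 ∧ ∀ b, g * S.u 0 b * g⁻¹ = S.u 0 (s * b) := by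
  obtain ⟨c, d, t, rfl⟩ := S.fix1 hg
  exact ⟨t * S.θ t, by simp, fun b => by rw [conj_u]; simp⟩

theorem exists_conj_z {s : F} (hs : s ≠ 0) : ∃ t : Fˣ, ∀ b, S.h t * S.u 0 b * (S.h t)⁻¹ = S.u 0 (s * b) := by
  obtain ⟨t, rfl⟩ := S.θ_mul_surj s
  exact ⟨Units.mk0 t (left_ne_zero_of_mul hs), fun b => by rw [h_u]; simp⟩

/-- the subgroup of `Z` attached to an additive subgroup -/
def zsub (A : AddSubgroup F) : Subgroup G where
  carrier := {g | ∃ b ∈ A, g = S.u 0 b}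
  mul_mem' := by
    rintro _ _ ⟨b, hb, rfl⟩ ⟨d, hd, rfl⟩
    exact ⟨b + d, A.add_mem hb hd, S.z_mul b d⟩
  one_mem' := ⟨0, A.zero_mem, S.u_zero.symm⟩
  inv_mem' := by
    rintro _ ⟨b, hb, rfl⟩
    exact ⟨b, hb, by rw [S.u_inv]; simp⟩

theorem mem_zsub {A : AddSubgroup F} {b : F} : S.u 0 b ∈ S.zsub A ↔ b ∈ A :=
  ⟨fun ⟨_, hd, h⟩ => (S.u_inj h).2 ▸ hd, fun h => ⟨b, h, rfl⟩⟩

theorem zsub_le (A : AddSubgroup F) : S.zsub A ≤ S.Z := by
  rintro _ ⟨b, -, rfl⟩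
  exact S.z_mem b

theorem card_zsub (A : AddSubgroup F) : Nat.card (S.zsub A) = Nat.card A :=
  (Nat.card_congr (Equiv.ofBijective (fun p : A => (⟨S.u 0 p, S.mem_zsub.2 p.2⟩ : S.zsub A)) ⟨fun p r h =>
      Subtype.ext (S.u_inj (Subtype.ext_iff.1 h : S.u 0 p = S.u 0 r)).2,
      by rintro ⟨_, b, hb, rfl⟩; exact ⟨⟨b, hb⟩, rfl⟩⟩)).symm

theorem exists_zsub {E : Subgroup G} (h : E ≤ S.Z) : ∃ A, E = S.zsub A := by
  have := S.charP
  refine ⟨{ carrier := {b | S.u 0 b ∈ E}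
            add_mem' := fun ha hb => by simpa [z_mul] using E.mul_mem ha hb
            zero_mem' := by simp
            neg_mem' := fun ha => by simpa [CharTwo.neg_eq] using ha }, ?_⟩
  ext g
  constructor
  · intro hg
    obtain ⟨b, rfl⟩ := h hg
    exact ⟨b, hg, rfl⟩
  · rintro ⟨b, hb, rfl⟩
    exact hb

theorem ti_zsub {A : AddSubgroup F} :
    (∀ x : G, S.zsub A ⊓ (S.zsub A).map (MulAut.conj x).toMonoidHom ≠ ⊥ →
      x ∈ Subgroup.normalizer (S.zsub A : Set G)) ↔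
    ∀ s : F, ∀ a ∈ A, a ≠ 0 → s * a ∈ A → ∀ b ∈ A, s * b ∈ A := by
  have := S.finite
  constructor
  · intro h s a ha h0 hsa b hb
    by_cases hs : s = 0
    · simp [hs]
    obtain ⟨t, ht⟩ := S.exists_conj_z hs
    have := h (S.h t) (by
      rw [Subgroup.ne_bot_iff_exists_ne_one]
      refine ⟨⟨S.u 0 (s * a), S.mem_zsub.2 hsa, S.u 0 a, S.mem_zsub.2 ha, ht a⟩, fun h => ?_⟩
      simpa [u_eq_one, hs, h0] using congrArg Subtype.val h)
    rw [← S.mem_zsub, ← ht]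
    exact (Subgroup.mem_normalizer_iff.1 this _).1 (S.mem_zsub.2 hb)
  · intro h x hx
    obtain ⟨⟨y, hy, _, ⟨a, ha, rfl⟩, rfl⟩, h1⟩ := Subgroup.ne_bot_iff_exists_ne_one.1 hx
    have h2 : S.u 0 a ≠ 1 := fun h => h1 (Subtype.ext (by simp [h]))
    have h3 := Part.ti (S := S) (Or.inl ⟨S.inf, S.P_inf.symm⟩) (S.u_mem 0 a) h2 (S.Z_le_U (S.zsub_le A hy))
    rw [normalizer_U] at h3
    obtain ⟨s, hs, h4⟩ := S.conj_z h3
    apply Subgroup.mem_normalizer_fintype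
    rintro _ ⟨b, hb, rfl⟩
    rw [h4]
    refine S.mem_zsub.2 (h s a ha (fun h => h2 (by simp [h])) ?_ b hb)
    rw [← S.mem_zsub, ← h4]
    exact hy

include S in
theorem exists_subfield {n : ℕ} (hn : n ≠ 0) (h : n ∣ 2 * m + 1) : ∃ K : Subfield F, Nat.card K = 2 ^ n := by
  have := S.charP
  letI := ZMod.algebra F 2
  have h1 : Module.finrank (ZMod 2) F = 2 * m + 1 := by
    have := Module.card_eq_pow_finrank (K := ZMod 2) (V := F)
    rw [S.hF, ZMod.card] at this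
    exact (Nat.pow_right_injective le_rfl this).symm
  obtain ⟨f⟩ := FiniteField.nonempty_algHom_of_finrank_dvd (F := ZMod 2) (K := GaloisField 2 n) (L := F)
    (by rw [GaloisField.finrank 2 hn, h1]; exact h)
  refine ⟨f.toRingHom.fieldRange, ?_⟩
  rw [← GaloisField.card 2 n hn]
  exact (Nat.card_congr (RingHom.rangeRestrictFieldEquiv f.toRingHom).toEquiv).symm

include S in
theorem dvd_of_subring (K : Subring F) {n : ℕ} (h : Nat.card K = 2 ^ n) : n ∣ 2 * m + 1 := by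
  letI := (Finite.isDomain_to_isField K).toField
  have h1 := Module.natCard_eq_pow_finrank (K := K) (V := F)
  rw [h, Nat.card_eq_fintype_card, S.hF, ← pow_mul] at h1
  exact Dvd.intro _ (Nat.pow_right_injective le_rfl h1).symm

theorem comp_Z {H : Type*} [Group H] (e : H ≃* G) : (S.comp e).Z = S.Z.comap e.toMonoidHom := by
  ext g
  constructor
  · rintro ⟨b, rfl⟩
    exact ⟨b, S.comp_u e 0 b⟩
  · rintro ⟨b, h⟩
    exact ⟨b, e.injective (by rw [comp_u]; exact h)⟩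

theorem le_Z_of_le_U {E : Subgroup G} (h : E ≤ S.U) (h2 : ∀ a ∈ E, a ^ 2 = 1) : E ≤ S.Z := fun g hg =>
  S.mem_Z_iff.2 ⟨(S.mem_U_iff.1 (h hg)).1, h2 g hg⟩

include S in
theorem ti_iff {n : ℕ} (hn : n ≠ 0) : (∃ E : Subgroup G, (IsMulCommutative E ∧ ∀ a ∈ E, a ^ 2 = 1) ∧
    Nat.card E = 2 ^ n ∧ ∀ x : G, E ⊓ E.map (MulAut.conj x).toMonoidHom ≠ ⊥ →
      x ∈ Subgroup.normalizer (E : Set G)) ↔ n ∣ 2 * m + 1 := by
  constructor
  · rintro ⟨E, ⟨-, h1⟩, h2, h3⟩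
    obtain ⟨ω, hω⟩ := S.le_P_of_isPGroup (IsPGroup.of_card h2)
    obtain ⟨S', hS⟩ := S.exists_S_P ω
    obtain ⟨A, rfl⟩ := S'.exists_zsub (S'.le_Z_of_le_U (hS ▸ hω) h1)
    rw [card_zsub] at h2
    rw [ti_zsub] at h3
    have : Nontrivial A := Finite.one_lt_card_iff_nontrivial.1 (h2 ▸ Nat.one_lt_two_pow hn)
    obtain ⟨⟨a, ha⟩, h0⟩ := exists_ne (0 : A)
    have h0 : a ≠ 0 := fun h => h0 (Subtype.ext h)
    let K : Subring F :=
      { carrier := {s | s * a ∈ A}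
        mul_mem' := fun {s t} hs ht => by
          show s * t * a ∈ A
          rw [mul_assoc]
          exact h3 s a ha h0 hs _ ht
        one_mem' := by simpa using ha
        add_mem' := fun {s t} hs ht => by
          show (s + t) * a ∈ A
          rw [add_mul]
          exact A.add_mem hs ht
        zero_mem' := by simp
        neg_mem' := fun {s} hs => by
          show -s * a ∈ A
          rw [neg_mul]
          exact A.neg_mem hs }
    apply S.dvd_of_subring K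
    rw [← h2]
    exact Nat.card_congr ((Equiv.mulRight₀ a h0).subtypeEquiv fun _ => Iff.rfl)
  · intro h
    obtain ⟨K, hK⟩ := S.exists_subfield hn h
    refine ⟨S.zsub K.toAddSubgroup, ⟨⟨⟨?_⟩⟩, fun a ha => (S.mem_Z_iff.1 (S.zsub_le _ ha)).2⟩,
      by rw [card_zsub]; exact hK, S.ti_zsub.2 fun s a ha h0 hs b hb => ?_⟩
    · rintro ⟨_, b, hb, rfl⟩ ⟨_, d, hd, rfl⟩
      exact Subtype.ext (S.z_comm 0 d b)
    · have : s * b = s * a * a⁻¹ * b := by field_simp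
      rw [this]
      exact K.mul_mem (K.mul_mem hs (K.inv_mem ha)) hb

end SzS

end H5.Sz
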