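import Cfsg.Agent.H5.SZ8

/-! Suzuki groups: solvable subgroups, fixity two, nilpotent covers. -/

namespace H5.Sz
open scoped Pointwise

theorem conj_mem_zpowers {G : Type*} [Group G] {A : Subgroup G} (hA : IsCyclic A) {n y : G}
    (hn : n ∈ Subgroup.normalizer (A : Set G)) (hy : y ∈ A) : n * y * n⁻¹ ∈ Subgroup.zpowers y := by
  obtain ⟨c, rfl⟩ := (Subgroup.isCyclic_iff_exists_zpowers_eq_top A).1 hA
  obtain ⟨i, rfl⟩ := hy
  obtain ⟨j, hj⟩ := (Subgroup.mem_normalizer_iff.1 hn c).1 (Subgroup.mem_zpowers c)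
  refine ⟨j, ?_⟩
  simp only at hj ⊢
  rw [← conj_zpow, ← hj, ← zpow_mul, ← zpow_mul, mul_comm]

theorem sq_mem_of_index_le {G : Type*} [Group G] [Finite G] {H N : Subgroup G}
    (h : (H.subgroupOf N).index ≤ 2) {n : G} (hn : n ∈ N) : n ^ 2 ∈ H := by
  have h0 : (H.subgroupOf N).index ≠ 0 := Subgroup.index_ne_zero_of_finite
  have : (⟨n, hn⟩ : N) ^ 2 ∈ H.subgroupOf N := by
    rcases (by omega : (H.subgroupOf N).index = 1 ∨ (H.subgroupOf N).index = 2) with h1 | h1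
    · rw [Subgroup.index_eq_one.1 h1]; trivial
    · exact Subgroup.sq_mem_of_index_two h1 _
  exact this

theorem exists_abelian_normal {G : Type*} [Group G] {M : Subgroup G} (hM : Group.IsSolvable M) (h1 : M ≠ ⊥) :
    ∃ A : Subgroup G, A ≠ ⊥ ∧ A ≤ M ∧ M ≤ Subgroup.normalizer (A : Set G) ∧ ∀ a ∈ A, ∀ b ∈ A, a * b = b * a := by
  classical
  have hex : ∃ n, derivedSeries M n = ⊥ := hM.solvable
  have h0 : Nat.find hex ≠ 0 := by
    intro h
    have := Nat.find_spec hex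
    rw [h, derivedSeries_zero] at this
    apply h1
    rw [← M.range_subtype, MonoidHom.range_eq_map, this, Subgroup.map_bot]
  obtain ⟨n, hn⟩ := Nat.exists_eq_succ_of_ne_zero h0
  have h2 : derivedSeries M n ≠ ⊥ := Nat.find_min hex (by omega)
  have h3 : derivedSeries M (n + 1) = ⊥ := by
    have := Nat.find_spec hex
    rwa [hn] at this
  refine ⟨(derivedSeries M n).map M.subtype, ?_, Subgroup.map_subtype_le _, ?_, ?_⟩
  · rwa [Ne, Subgroup.map_eq_bot_iff_of_injective _ M.subtype_injective]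
  · have := Subgroup.le_normalizer_map (H := derivedSeries M n) M.subtype
    rwa [Subgroup.normalizer_eq_top, ← MonoidHom.range_eq_map, Subgroup.range_subtype] at this
  · rintro _ ⟨a, ha, rfl⟩ _ ⟨b, hb, rfl⟩
    have := Subgroup.commutator_mem_commutator ha hb
    rw [← derivedSeries_succ, h3, Subgroup.mem_bot, commutatorElement_eq_one_iff_mul_comm] at this
    rw [← map_mul, this, map_mul]

namespace SzS
variable {F : Type*} [Field F] [Fintype F] {m : ℕ} {G : Type*} [Group G] (S : SzS F m G)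

theorem le_normalizer_of_solvable {M : Subgroup G} (hM : Group.IsSolvable M) :
    ∃ U, S.Part U ∧ M ≤ Subgroup.normalizer (U : Set G) := by
  by_cases h1 : M = ⊥
  · exact ⟨_, Or.inl ⟨S.inf, rfl⟩, h1 ▸ bot_le⟩
  obtain ⟨A, h2, -, h3, h4⟩ := exists_abelian_normal hM h1
  obtain ⟨⟨z, hz⟩, h5⟩ := Subgroup.ne_bot_iff_exists_ne_one.1 h2
  obtain ⟨U, hU, -, h6⟩ := S.le_part_of_center (X := A) (z := z) (fun h => h5 (Subtype.ext h))
    fun x hx => h4 x hx z hz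
  exact ⟨U, hU, h3.trans (hU.normalizer_le h6 h2)⟩

theorem exists_sq_eq_z (b : F) : ∃ a, S.u a 0 ^ 2 = S.u 0 b := by
  obtain ⟨t, ht⟩ := S.θ_mul_surj b
  exact ⟨t, by rw [u_sq, mul_comm, ht]⟩

theorem T_sq_surj {α β : S.Ω} (h : α ≠ β) {g : G} (hg : g ∈ S.T α β) : ∃ k ∈ S.T α β, k ^ 2 = g := by
  obtain ⟨e⟩ := S.T_equiv h
  obtain ⟨s, hs⟩ := S.exists_sq (e.symm ⟨g, hg⟩)
  exact ⟨e s, (e s).2, by rw [← Subgroup.coe_pow, ← map_pow, hs]; simp⟩

theorem fixity_aux {H : Subgroup G}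
    (hH : ∀ y ∈ H, y ≠ 1 → ∀ N : Subgroup G, (∀ n ∈ N, n⁻¹ * y * n ∈ H) → (H.subgroupOf N).index ≤ 2)
    {y : G} (hy : y ∈ H) (h1 : y ≠ 1) (hU : y ∈ S.U) : Subgroup.normalizer (S.U : Set G) ≤ H := by
  have := S.charP
  have := S.finite
  obtain ⟨z, hz, hz1, hzZ⟩ : ∃ z ∈ H, z ≠ 1 ∧ z ∈ S.Z := by
    by_cases h2 : y ^ 2 = 1
    · exact ⟨y, hy, h1, S.mem_Z_iff.2 ⟨(S.mem_U_iff.1 hU).1, h2⟩⟩
    · exact ⟨y ^ 2, H.pow_mem hy 2, h2, by rw [← Zc_inf]; exact S.sq_mem_Zc (S.P_inf ▸ hU)⟩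
  have hZ : S.Z ≤ H := by
    rintro _ ⟨b, rfl⟩
    obtain ⟨a, ha⟩ := S.exists_sq_eq_z b
    rw [← ha]
    refine sq_mem_of_index_le (hH z hz hz1 S.U fun n hn => ?_) (S.u_mem a 0)
    rw [mul_assoc, S.Zc_comm (ω := S.inf) (g := n) (S.Zc_inf ▸ hzZ) (S.P_inf ▸ hn), inv_mul_cancel_left]
    exact hz
  have hB : ∀ n : G, n • S.inf = S.inf → n ^ 2 ∈ H := by
    intro n hn
    refine sq_mem_of_index_le (hH z hz hz1 (MulAction.stabilizer G S.inf) fun n hn => hZ ?_) hn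
    rw [← Zc_inf, ← mem_Zc_smul, hn, Zc_inf]
    exact hzZ
  have hT : ∀ t, S.h t ∈ H := by
    intro t
    obtain ⟨s, rfl⟩ := S.exists_sq t
    rw [map_pow]
    exact hB _ (S.h_inf s)
  have hU : S.U ≤ H := by
    rintro _ ⟨a, b, rfl⟩
    obtain ⟨t, ht⟩ := S.exists_unit_ne
    have h2 : (t : F) + 1 ≠ 0 := fun h => ht (by grind)
    have h3 := hB (S.u (a / (t + 1)) 0 * S.h t) (by rw [mul_smul, h_inf, u_inf])
    rw [pow_two, mul_assoc, ← mul_assoc (S.h t), h_mul_u, ← mul_assoc, ← mul_assoc, u_mul, mul_assoc,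
      H.mul_mem_cancel_right (H.mul_mem (hT t) (hT t))] at h3
    generalize (0 + ↑t * S.θ ↑t * 0 + S.θ (a / (↑t + 1)) * (↑t * (a / (↑t + 1)))) = c at h3
    have h4 := H.mul_mem h3 (hZ (S.z_mem (b + c)))
    rw [u_mul] at h4
    convert h4 using 2
    · field_simp
      ring
    · grind
  rw [normalizer_U]
  intro g hg
  obtain ⟨a, b, t, rfl⟩ := S.fix1 hg
  exact H.mul_mem (hU (S.u_mem a b)) (hT t)

theorem fixity {H : Subgroup G}
    (hH : ∀ y ∈ H, y ≠ 1 → ∀ N : Subgroup G, (∀ n ∈ N, n⁻¹ * y * n ∈ H) → (H.subgroupOf N).index ≤ 2)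
    (h0 : H ≠ ⊥) : (∃ ω : S.Ω, MulAction.stabilizer G ω ≤ H) ∨ Nat.card H = Fintype.card F - 1 := by
  have := S.finite
  by_cases hP : ∃ y ∈ H, y ≠ 1 ∧ ∃ ω, y ∈ S.P ω
  · obtain ⟨y, hy, h1, ω, hω⟩ := hP
    obtain ⟨S', hS⟩ := S.exists_S_P ω
    have := S'.fixity_aux hH hy h1 (hS ▸ hω)
    rw [hS, normalizer_P] at this
    exact Or.inl ⟨ω, this⟩
  right
  push Not at hP
  have hodd : ¬ 2 ∣ Nat.card H := by
    intro h
    obtain ⟨⟨y, hy⟩, h2⟩ := exists_prime_orderOf_dvd_card' 2 h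
    rw [Subgroup.orderOf_mk] at h2
    obtain ⟨ω, hω⟩ := S.mem_P_of_two (g := y) (n := 1) (by rw [pow_one, ← h2, pow_orderOf_eq_one])
    exact hP y hy (by rintro rfl; simp at h2) ω hω
  have hT : ∀ y ∈ H, y ≠ 1 → ∃ α β, α ≠ β ∧ y ∈ S.T α β := by
    intro y hy h1
    rcases S.cases y with ⟨ω, h⟩ | h | h
    · exact absurd h (hP y hy h1 ω)
    · exact h
    exfalso
    set N := Subgroup.normalizer (Subgroup.centralizer ({y} : Set G) : Set G)
    have h2 := hH y hy h1 N fun n hn => by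
      have := conj_mem_zpowers h.isCyclic (N.inv_mem hn) (Subgroup.mem_centralizer_singleton_iff.2 rfl)
      rw [inv_inv] at this
      exact (Subgroup.zpowers_le.2 hy) this
    have h3 := (H.subgroupOf N).index_mul_card
    rw [h.card_normalizer] at h3
    have h4 : Nat.card (H.subgroupOf N) ∣ Nat.card H := by
      rw [← Subgroup.card_map_of_injective (K := H.subgroupOf N) N.subtype_injective]
      exact Subgroup.card_dvd_of_le (by rw [Subgroup.subgroupOf_map_subtype]; exact inf_le_left)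
    apply hodd (dvd_trans _ h4)
    have h0 : (H.subgroupOf N).index ≠ 0 := Subgroup.index_ne_zero_of_finite
    generalize (H.subgroupOf N).index = i at *
    interval_cases i <;> omega
  obtain ⟨⟨y, hy⟩, h1⟩ := Subgroup.ne_bot_iff_exists_ne_one.1 h0
  have h1 : y ≠ 1 := fun h => h1 (Subtype.ext h)
  obtain ⟨α, β, h2, h3⟩ := hT y hy h1
  have h4 : S.T α β ≤ H := by
    intro g hg
    obtain ⟨k, hk, rfl⟩ := S.T_sq_surj h2 hg
    refine sq_mem_of_index_le (hH y hy h1 (S.T α β) fun n hn => ?_) hk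
    rw [mul_assoc, S.T_mul_comm h2 h3 hn, inv_mul_cancel_left]
    exact hy
  refine Nat.dvd_antisymm ?_ (S.card_TT h2 ▸ Subgroup.card_dvd_of_le h4)
  have h5 := Subgroup.card_subgroup_dvd_card H
  rw [S.card_G] at h5
  refine Nat.Coprime.dvd_of_dvd_mul_left ?_ h5
  apply Nat.coprime_of_dvd
  intro p hp hd hd'
  have := Fact.mk hp
  obtain ⟨⟨x, hx⟩, h6⟩ := exists_prime_orderOf_dvd_card' p hd
  rw [Subgroup.orderOf_mk] at h6
  obtain ⟨γ, δ, h7, h8⟩ := hT x hx (by rintro rfl; rw [orderOf_one] at h6; exact hp.one_lt.ne h6)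
  have h9 : p ∣ Fintype.card F - 1 := h6 ▸ orderOf_dvd_of_pow_eq_one (S.T_pow h7 h8)
  have h8 := S.eight_le
  rcases (Nat.Prime.dvd_mul hp).1 hd' with h | h
  · have := (Nat.dvd_sub (hp.dvd_of_dvd_pow h) h9)
    rw [show Fintype.card F - (Fintype.card F - 1) = 1 by omega] at this
    exact hp.one_lt.ne' (Nat.dvd_one.1 this)
  · exact hp.one_lt.ne' (Nat.eq_one_of_dvd_coprimes S.coprime_card (Dvd.dvd.mul_left h9 _) h)

include S in
theorem fixity_two {Ω : Type*} [Fintype Ω] [MulAction G Ω] (htr : MulAction.IsPretransitive G Ω)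
    (hfix : ∀ g : G, g ≠ 1 → Nat.card (MulAction.fixedBy Ω g) ≤ 2)
    (hex : ∃ g : G, g ≠ 1 ∧ Nat.card (MulAction.fixedBy Ω g) = 2) :
    (Fintype.card Ω = Fintype.card F ^ 2 + 1 ∧ MulAction.IsMultiplyPretransitive G Ω 2) ∨
    (Fintype.card Ω = Fintype.card F ^ 2 * (Fintype.card F ^ 2 + 1) ∧
      ∀ α : Ω, Nat.card (MulAction.stabilizer G α) = Fintype.card F - 1) := by
  have := S.finite
  obtain ⟨g, hg, h2⟩ := hex
  obtain ⟨⟨α, hα⟩, ⟨β, hβ⟩, hne, -⟩ := Nat.card_eq_two_iff.1 h2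
  have hidx : ∀ α : Ω, (MulAction.stabilizer G α).index = Fintype.card Ω := fun α => by
    rw [MulAction.index_stabilizer_of_transitive, Nat.card_eq_fintype_card]
  rcases S.fixity (H := MulAction.stabilizer G α) (fun y hy h1 N hN => by
    have h3 : (MulAction.stabilizer G α).subgroupOf N = MulAction.stabilizer N α := rfl
    rw [h3, MulAction.index_stabilizer]
    refine le_trans (Set.ncard_le_ncard ?_ (Set.toFinite _)) (hfix y h1)
    rintro _ ⟨n, rfl⟩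
    have := hN n n.2
    rw [MulAction.mem_stabilizer_iff, mul_smul, mul_smul, inv_smul_eq_iff] at this
    exact this) (fun h => hg (by rw [← Subgroup.mem_bot, ← h]; exact hα)) with ⟨ω, h⟩ | h
  · left
    have h3 : MulAction.stabilizer G α ≠ ⊤ := by
      intro h3
      obtain ⟨k, rfl⟩ := MulAction.exists_smul_eq G α β
      have : k ∈ MulAction.stabilizer G α := h3 ▸ Subgroup.mem_top k
      exact hne (Subtype.ext this.symm)
    have h4 := ((S.isCoatom_stab ω).le_iff_eq h3).1 h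
    refine ⟨by rw [← hidx α, h4, index_stab], MulAction.is_two_pretransitive_iff.2 ?_⟩
    have key : ∀ a b : G, a • α = b • α ↔ a • ω = b • ω := by
      intro a b
      rw [← inv_smul_eq_iff, ← inv_smul_eq_iff (g := b), ← mul_smul, ← mul_smul,
        ← MulAction.mem_stabilizer_iff, h4, MulAction.mem_stabilizer_iff]
    intro a b c d hab hcd
    obtain ⟨a, rfl⟩ := MulAction.exists_smul_eq G α a
    obtain ⟨b, rfl⟩ := MulAction.exists_smul_eq G α b
    obtain ⟨c, rfl⟩ := MulAction.exists_smul_eq G α c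
    obtain ⟨d, rfl⟩ := MulAction.exists_smul_eq G α d
    rw [Ne, key] at hab hcd
    obtain ⟨k, h5, h6⟩ := S.two_trans hab hcd
    exact ⟨k, by rwa [← mul_smul, key, mul_smul], by rwa [← mul_smul, key, mul_smul]⟩
  · right
    have h8 := S.eight_le
    have h3 := (MulAction.stabilizer G α).index_mul_card
    rw [hidx, h, S.card_G] at h3
    have h4 := Nat.eq_of_mul_eq_mul_right (by omega) h3
    refine ⟨h4, fun γ => ?_⟩
    have h5 := (MulAction.stabilizer G γ).index_mul_card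
    rw [hidx, h4, S.card_G] at h5
    exact Nat.eq_of_mul_eq_mul_left (by positivity) h5

include S in
theorem no_nilpotent_cover : ¬ ∃ 𝓐 : Finset (Subgroup G), ((∀ A ∈ 𝓐, A ≠ ⊤) ∧ (∀ g : G, ∃ A ∈ 𝓐, g ∈ A)) ∧
    (∀ 𝓑 : Finset (Subgroup G), (∀ A ∈ 𝓑, A ≠ ⊤) ∧ (∀ g : G, ∃ A ∈ 𝓑, g ∈ A) → 𝓐.card ≤ 𝓑.card) ∧
    (∀ A ∈ 𝓐, Group.IsNilpotent A) := by
  classical
  rintro ⟨𝓐, ⟨h1, h2⟩, h3, h4⟩
  have key : ∀ α β : S.Ω, α ≠ β → S.T α β ∈ 𝓐 := by
    intro α β h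
    obtain ⟨g, hg⟩ := (Subgroup.isCyclic_iff_exists_zpowers_eq_top _).1 (S.isCyclic_T h)
    obtain ⟨A, hA, hgA⟩ := h2 g
    obtain ⟨U, hU, h5⟩ := S.le_part_of_nilpotent (h4 A hA)
    have hg1 : g ≠ 1 := by
      rintro rfl
      exact S.T_ne_bot h (by rw [← hg, Subgroup.zpowers_one_eq_bot])
    have h6 := hU.unique (Or.inr (Or.inl ⟨α, β, h, rfl⟩)) hg1 (h5 hgA) (hg ▸ Subgroup.mem_zpowers g)
    rwa [le_antisymm (hg ▸ Subgroup.zpowers_le.2 hgA : S.T α β ≤ A) (h6 ▸ h5)]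
  have a1 := (S.pt_ne_inf 0 0).symm
  have a2 := (S.pt_ne_inf 1 0).symm
  have hne : S.T S.inf (S.pt 1 0) ≠ S.T S.inf (S.pt 0 0) := by
    intro h
    obtain ⟨⟨g, hg⟩, h5⟩ := Subgroup.ne_bot_iff_exists_ne_one.1 (S.T_ne_bot a1)
    rcases S.T_fix a1 hg (fun h => h5 (Subtype.ext h)) (h ▸ hg : g ∈ S.T S.inf (S.pt 1 0)).2 with h6 | h6
    · exact a2 h6.symm
    · simp [pt_inj] at h6
  have h5 := h3 (insert (MulAction.stabilizer G S.inf)
    ((𝓐.erase (S.T S.inf (S.pt 0 0))).erase (S.T S.inf (S.pt 1 0)))) ⟨?_, ?_⟩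
  · have h6 := Finset.card_insert_le (MulAction.stabilizer G S.inf)
      ((𝓐.erase (S.T S.inf (S.pt 0 0))).erase (S.T S.inf (S.pt 1 0)))
    have h7 := Finset.card_erase_add_one (key _ _ a1)
    have h8 := Finset.card_erase_add_one (Finset.mem_erase.2 ⟨hne, key _ _ a2⟩)
    omega
  · intro A hA
    rcases Finset.mem_insert.1 hA with rfl | hA
    · exact S.stab_ne_top _
    · exact h1 A (Finset.mem_of_mem_erase (Finset.mem_of_mem_erase hA))
  · intro g
    obtain ⟨A, hA, hg⟩ := h2 g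
    by_cases h6 : A = S.T S.inf (S.pt 0 0)
    · exact ⟨_, Finset.mem_insert_self _ _, (h6 ▸ hg).1⟩
    by_cases h7 : A = S.T S.inf (S.pt 1 0)
    · exact ⟨_, Finset.mem_insert_self _ _, (h7 ▸ hg).1⟩
    exact ⟨A, by simp [h6, h7, hA], hg⟩

end SzS

end H5.Sz
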