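import Cfsg.Agent.H5.Chev7

/-! Groups with root elements satisfying the Chevalley relations: unipotent subgroups. -/

set_option autoImplicit false

namespace H5

/-- commutators of generators control the commutators of the generated subgroups -/
theorem comm_mem_of_gen {G : Type*} [Group G] {s t : Set G} {N : Subgroup G}
    (hs : ∀ a ∈ s, ∀ n ∈ N, a⁻¹ * n * a ∈ N ∧ a * n * a⁻¹ ∈ N)
    (ht : ∀ b ∈ t, ∀ n ∈ N, b⁻¹ * n * b ∈ N ∧ b * n * b⁻¹ ∈ N)
    (h : ∀ a ∈ s, ∀ b ∈ t, a⁻¹ * b⁻¹ * a * b ∈ N) :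
    ∀ a ∈ Subgroup.closure s, ∀ b ∈ Subgroup.closure t, a⁻¹ * b⁻¹ * a * b ∈ N := by
  have nrm : ∀ s : Set G, (∀ a ∈ s, ∀ n ∈ N, a⁻¹ * n * a ∈ N ∧ a * n * a⁻¹ ∈ N) →
      ∀ a ∈ Subgroup.closure s, ∀ n ∈ N, a⁻¹ * n * a ∈ N ∧ a * n * a⁻¹ ∈ N := by
    intro s hs a ha
    induction ha using Subgroup.closure_induction with
    | mem a ha => exact hs a ha
    | one => intro n hn; simpa using hn
    | mul a b _ _ iha ihb =>
      intro n hn
      have h1 := (ihb _ (iha n hn).1).1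
      have h2 := (iha _ (ihb n hn).2).2
      exact ⟨by convert h1 using 1; group, by convert h2 using 1; group⟩
    | inv a _ iha => intro n hn; simpa using (iha n hn).symm
  have h1 : ∀ a ∈ s, ∀ b ∈ Subgroup.closure t, a⁻¹ * b⁻¹ * a * b ∈ N := by
    intro a ha b hb
    induction hb using Subgroup.closure_induction with
    | mem b hb => exact h a ha b hb
    | one => simp
    | mul b c hb hc ihb ihc =>
      have := N.mul_mem ihc (nrm t ht c hc _ ihb).1
      convert this using 1; group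
    | inv b hb ihb =>
      have := (nrm t ht b hb _ (N.inv_mem ihb)).2
      convert this using 1; group
  intro a ha b hb
  induction ha using Subgroup.closure_induction with
  | mem a ha => exact h1 a ha b hb
  | one => simp
  | mul a c ha hc iha ihc =>
    have := N.mul_mem (nrm s hs c hc _ iha).1 ihc
    convert this using 1; group
  | inv a ha iha =>
    have := (nrm s hs a ha _ (N.inv_mem iha)).2
    convert this using 1; group

theorem conj_mem_closure {G : Type*} [Group G] {s : Set G} {N : Subgroup G} {g : G}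
    (h : ∀ a ∈ s, g * a * g⁻¹ ∈ N) : ∀ a ∈ Subgroup.closure s, g * a * g⁻¹ ∈ N := by
  intro a ha
  induction ha using Subgroup.closure_induction with
  | mem a ha => exact h a ha
  | one => simp
  | mul a b _ _ iha ihb => convert N.mul_mem iha ihb using 1; group
  | inv a _ iha => convert N.inv_mem iha using 1; group

theorem closure_conj_mem {G : Type*} [Group G] {s : Set G} {N : Subgroup G}
    (hs : ∀ a ∈ s, ∀ n ∈ N, a⁻¹ * n * a ∈ N ∧ a * n * a⁻¹ ∈ N) :
    ∀ a ∈ Subgroup.closure s, ∀ n ∈ N, a * n * a⁻¹ ∈ N := by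
  have : ∀ a ∈ Subgroup.closure s, ∀ n ∈ N, a⁻¹ * n * a ∈ N ∧ a * n * a⁻¹ ∈ N := by
    intro a ha
    induction ha using Subgroup.closure_induction with
    | mem a ha => exact hs a ha
    | one => intro n hn; simpa using hn
    | mul a b _ _ iha ihb =>
      intro n hn
      have h1 := (ihb _ (iha n hn).1).1
      have h2 := (iha _ (ihb n hn).2).2
      exact ⟨by convert h1 using 1; group, by convert h2 using 1; group⟩
    | inv a _ iha => intro n hn; simpa using (iha n hn).symm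
  exact fun a ha n hn => (this a ha n hn).2

theorem mem_normalizer_of_conj {G : Type*} [Group G] {N : Subgroup G} {g : G}
    (h1 : ∀ n ∈ N, g * n * g⁻¹ ∈ N) (h2 : ∀ n ∈ N, g⁻¹ * n * g ∈ N) :
    g ∈ Subgroup.normalizer (N : Set G) := by
  rw [Subgroup.mem_normalizer_iff]
  intro n
  exact ⟨h1 n, fun h => by convert h2 _ h using 1; group⟩

theorem le_normalizer_of_conj {G : Type*} [Group G] {N K : Subgroup G}
    (h1 : ∀ g ∈ K, ∀ n ∈ N, g * n * g⁻¹ ∈ N) : K ≤ Subgroup.normalizer (N : Set G) :=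
  fun g hg => mem_normalizer_of_conj (h1 g hg) fun n hn => by simpa using h1 _ (K.inv_mem hg) n hn

theorem conj_mem_of_normalizer {G : Type*} [Group G] {N : Subgroup G} {g n : G}
    (h : g ∈ Subgroup.normalizer (N : Set G)) (hn : n ∈ N) : g * n * g⁻¹ ∈ N :=
  (Subgroup.mem_normalizer_iff.1 h n).1 hn

/-- elements of `A ⊔ B` when `B` normalises `A` -/
theorem mem_sup_of_le_normalizer {G : Type*} [Group G] {A B : Subgroup G}
    (h : B ≤ Subgroup.normalizer (A : Set G)) {g : G} :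
    g ∈ A ⊔ B ↔ ∃ a ∈ A, ∃ b ∈ B, a * b = g := by
  rw [← SetLike.mem_coe, Subgroup.coe_mul_of_right_le_normalizer_left _ _ h]
  rfl

namespace Chev

open Cfsg.Lie Cfsg.Lie.ChevalleyDatum Matrix

variable {D : ChevalleyDatum} {F : Type*} [Field F]

/-- a group with root elements satisfying the additivity and commutator relations, mapping to the
matrix group -/
structure StSys (D : ChevalleyDatum) (F : Type*) [Field F] (G : Type*) [Group G] where
  x : Rt D → F → G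
  add : ∀ r t u, x r t * x r u = x r (t + u)
  comm : ∀ r s, s ≠ r → s ≠ neg r → ∀ t u,
    x s u * x r t = x r t * x s u * ((cword F r s t u).map fun p => x p.1 p.2).prod
  π : G →* Matrix D.Idx D.Idx F
  π_x : ∀ r t, π (x r t) = D.xMat F r t

variable [Good D]

/-- `k = i r + j s` with `i, j > 0` -/
def Btw (r s k : Rt D) : Prop :=
  ∃ i j : ℕ, 0 < i ∧ 0 < j ∧ vec k = (i : ℤ) • vec r + (j : ℤ) • vec s

theorem Btw.symm {r s k : Rt D} (h : Btw r s k) : Btw s r k := by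
  obtain ⟨i, j, hi, hj, h⟩ := h
  exact ⟨j, i, hj, hi, by rw [h, add_comm]⟩

theorem btw_of_mem_cword {r s : Rt D} {t u : F} {p : Rt D × F} (h : p ∈ cword F r s t u) :
    Btw r s p.1 := by
  obtain ⟨⟨k, c, i, j⟩, hc, rfl⟩ := List.mem_map.1 h
  exact ⟨i, j, mem_cts hc⟩

theorem Btw.apply {r s k : Rt D} (h : Btw r s k) (μ : Lat D →ₗ[ℤ] ℤ) :
    ∃ i j : ℤ, 0 < i ∧ 0 < j ∧ μ (vec k) = i * μ (vec r) + j * μ (vec s) := by
  obtain ⟨i, j, hi, hj, h⟩ := h
  exact ⟨i, j, by exact_mod_cast hi, by exact_mod_cast hj,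
    by rw [h, map_add, map_smul, map_smul]; rfl⟩

theorem Btw.le {r s k : Rt D} (h : Btw r s k) {μ : Lat D →ₗ[ℤ] ℤ} (hr : 0 ≤ μ (vec r))
    (hs : 0 ≤ μ (vec s)) : μ (vec r) + μ (vec s) ≤ μ (vec k) := by
  obtain ⟨i, j, hi, hj, h⟩ := h.apply μ
  nlinarith

/-- closed sets of roots -/
def Closed (A : Set (Rt D)) : Prop := ∀ r ∈ A, ∀ s ∈ A, ∀ k, Btw r s k → k ∈ A

theorem Closed.inter {A B : Set (Rt D)} (hA : Closed A) (hB : Closed B) : Closed (A ∩ B) :=
  fun r hr s hs k hk => ⟨hA r hr.1 s hs.1 k hk, hB r hr.2 s hs.2 k hk⟩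

theorem closed_ge (μ : Lat D →ₗ[ℤ] ℤ) {m : ℤ} (hm : 0 ≤ m) : Closed {r : Rt D | m ≤ μ (vec r)} := by
  intro r hr s hs k hk
  have := hk.le (μ := μ) (hm.trans hr) (hm.trans hs)
  simp only [Set.mem_ofPred_eq] at *
  omega

theorem closed_gt (μ : Lat D →ₗ[ℤ] ℤ) {m : ℤ} (hm : 0 ≤ m) : Closed {r : Rt D | m < μ (vec r)} :=
  closed_ge μ (m := m + 1) (by omega)

theorem closed_eq_zero (μ : Lat D →ₗ[ℤ] ℤ) : Closed {r : Rt D | μ (vec r) = 0} := by
  intro r hr s hs k hk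
  obtain ⟨i, j, -, -, h⟩ := hk.apply μ
  simp only [Set.mem_ofPred_eq] at *
  rw [h, hr, hs]; simp

theorem closed_pos : Closed {r : Rt D | Pos r} := by
  simpa only [pos_iff_ord] using closed_gt (D := D) ordf le_rfl

theorem closed_neg : Closed {r : Rt D | ¬ Pos r} := by
  have := closed_gt (D := D) (-ordf) le_rfl
  simpa [not_pos_iff_ord] using this

/-- every functional can be perturbed to one that separates the roots -/
theorem exists_reg (μ : Lat D →ₗ[ℤ] ℤ) : ∃ μ' : Lat D →ₗ[ℤ] ℤ,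
    (Function.Injective fun r : Rt D => μ' (vec r)) ∧
      ∀ r : Rt D, 0 < μ (vec r) → 0 < μ' (vec r) := by
  obtain ⟨N, hN⟩ : ∃ N : ℤ, ∀ r : Rt D, |ordf (vec r)| < N := by
    refine ⟨∑ r : Rt D, |ordf (vec r)| + 1, fun r => ?_⟩
    have := Finset.single_le_sum (f := fun r : Rt D => |ordf (vec r)|) (fun r _ => abs_nonneg _)
      (Finset.mem_univ r)
    omega
  refine ⟨(2 * N) • μ + ordf, fun r s h => ?_, fun r h => ?_⟩
  · simp only [LinearMap.add_apply, LinearMap.smul_apply, smul_eq_mul] at h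
    have h1 := abs_lt.1 (hN r)
    have h2 := abs_lt.1 (hN s)
    have h3 : μ (vec r) = μ (vec s) := by
      rcases lt_trichotomy (μ (vec r)) (μ (vec s)) with h3 | h3 | h3
      · nlinarith
      · exact h3
      · nlinarith
    apply ord_strictMono.injective
    rw [h3] at h
    exact add_left_cancel h
  · simp only [LinearMap.add_apply, LinearMap.smul_apply, smul_eq_mul]
    have h1 := abs_lt.1 (hN r)
    nlinarith

theorem exists_vec_ne {i : Ix D} {s : Rt D} (h1 : s ≠ simple i) (h2 : s ≠ neg (simple i)) :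
    ∃ j, j ≠ i ∧ vec s j ≠ 0 := by
  have key : ∀ s : Rt D, Pos s → s ≠ simple i → ∃ j, j ≠ i ∧ vec s j ≠ 0 := by
    intro s hs h1
    by_contra hc
    push Not at hc
    have hv : vec s = vec s i • vec (simple i) := by
      ext j
      by_cases hj : j = i
      · simp [hj, vec_simple]
      · simp [vec_simple, hc j hj, hj]
    have hw : wt s i = 2 * vec s i := by
      rw [← wtv_vec]
      conv_lhs => rw [hv]
      rw [map_smul, wtv_vec, wt_simple_self, smul_eq_mul, mul_comm]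
    have h3 := pos_iff_vec.1 (pos_refl hs h1) i
    rw [vec_refl, hw] at h3
    simp [vec_simple] at h3
    have h4 := pos_iff_vec.1 hs i
    apply vec_ne_zero s
    rw [hv, show vec s i = 0 by omega, zero_smul]
  by_cases hs : Pos s
  · exact key s hs h1
  · obtain ⟨j, hj, h⟩ := key (neg s) (pos_neg_iff.2 hs) (fun h => h2 (neg_eq_iff.1 h))
    exact ⟨j, hj, by simpa using h⟩

/-- a functional vanishing at `r` and positive at `s ≠ ± r` -/
theorem exists_sep (r s : Rt D) (h1 : s ≠ r) (h2 : s ≠ neg r) :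
    ∃ μ : Lat D →ₗ[ℤ] ℤ, μ (vec r) = 0 ∧ 0 < μ (vec s) := by
  induction r using root_induction generalizing s with
  | h0 i =>
    obtain ⟨j, hj, h⟩ := exists_vec_ne h1 h2
    refine ⟨vec s j • LinearMap.proj j, by simp [vec_simple, hj], ?_⟩
    simpa using mul_self_pos.2 h
  | hs i r ih =>
    obtain ⟨μ, h3, h4⟩ := ih (refl i s) (fun h => h1 (by rw [← h, refl_refl]))
      (fun h => h2 (by rw [← refl_neg, ← h, refl_refl]))
    refine ⟨μ ∘ₗ sref (simple i), ?_, ?_⟩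
    · rw [LinearMap.comp_apply, ← vec_refl', refl_refl, h3]
    · rwa [LinearMap.comp_apply, ← vec_refl']

theorem exists_pos_pair (r s : Rt D) (h2 : s ≠ neg r) :
    ∃ μ : Lat D →ₗ[ℤ] ℤ, 0 < μ (vec r) ∧ 0 < μ (vec s) := by
  by_cases h1 : s = r
  · exact ⟨pv r, by simp, by simp [h1]⟩
  obtain ⟨μ, h3, h4⟩ := exists_sep r s h1 h2
  obtain ⟨ν, h5, h6⟩ := exists_sep s r (Ne.symm h1) (fun h => h2 (by rw [h, neg_neg']))
  exact ⟨μ + ν, by simp [h3, h6], by simp [h4, h5]⟩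

namespace StSys

variable {G : Type*} [Group G] (S : StSys D F G)

omit [Good D] in
@[simp] theorem x_zero (r : Rt D) : S.x r 0 = 1 := by
  have := S.add r 0 0
  rw [add_zero] at this
  exact mul_eq_left.1 this

omit [Good D] in
theorem x_inv (r : Rt D) (t : F) : (S.x r t)⁻¹ = S.x r (-t) :=
  inv_eq_of_mul_eq_one_right (by rw [S.add]; simp)

omit [Good D] in
theorem add_mul (r : Rt D) (t u : F) (g : G) : S.x r t * (S.x r u * g) = S.x r (t + u) * g := by
  rw [← mul_assoc, S.add]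

omit [Good D] in
theorem commute_x (r : Rt D) (t u : F) : Commute (S.x r t) (S.x r u) := by
  rw [Commute, SemiconjBy, S.add, S.add, add_comm]

/-- the subgroup generated by the root subgroups of a set of roots -/
def U (A : Set (Rt D)) : Subgroup G := Subgroup.closure {g | ∃ r ∈ A, ∃ t, g = S.x r t}

omit [Good D] in
theorem x_mem_U {A : Set (Rt D)} {r : Rt D} (h : r ∈ A) (t : F) : S.x r t ∈ S.U A :=
  Subgroup.subset_closure ⟨r, h, t, rfl⟩

omit [Good D] in
theorem U_le_iff {A : Set (Rt D)} {K : Subgroup G} : S.U A ≤ K ↔ ∀ r ∈ A, ∀ t, S.x r t ∈ K := by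
  rw [U, Subgroup.closure_le]
  exact ⟨fun h r hr t => h ⟨r, hr, t, rfl⟩, by rintro h _ ⟨r, hr, t, rfl⟩; exact h r hr t⟩

omit [Good D] in
theorem U_mono {A B : Set (Rt D)} (h : A ⊆ B) : S.U A ≤ S.U B :=
  S.U_le_iff.2 fun _ hr t => S.x_mem_U (h hr) t

omit [Good D] in
@[simp] theorem U_empty : S.U ∅ = ⊥ := by simp [U]

omit [Good D] in
theorem U_union (A B : Set (Rt D)) : S.U (A ∪ B) = S.U A ⊔ S.U B := by
  apply le_antisymm
  · rw [U_le_iff]
    rintro r (h | h) t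
    · exact Subgroup.mem_sup_left (S.x_mem_U h t)
    · exact Subgroup.mem_sup_right (S.x_mem_U h t)
  · exact sup_le (S.U_mono Set.subset_union_left) (S.U_mono Set.subset_union_right)

omit [Good D] in
theorem mem_U_singleton {r : Rt D} {g : G} : g ∈ S.U {r} ↔ ∃ t, g = S.x r t := by
  constructor
  · intro h
    induction h using Subgroup.closure_induction with
    | mem a ha => obtain ⟨_, rfl, t, rfl⟩ := ha; exact ⟨t, rfl⟩
    | one => exact ⟨0, by simp⟩
    | mul a b _ _ ha hb =>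
      obtain ⟨t, rfl⟩ := ha; obtain ⟨u, rfl⟩ := hb; exact ⟨t + u, S.add _ _ _⟩
    | inv a _ ha => obtain ⟨t, rfl⟩ := ha; exact ⟨-t, S.x_inv _ _⟩
  · rintro ⟨t, rfl⟩; exact S.x_mem_U (Set.mem_singleton r) t

/-- the product of a word -/
def wd (w : List (Rt D × F)) : G := (w.map fun p => S.x p.1 p.2).prod

omit [Good D] in
@[simp] theorem wd_nil : S.wd [] = 1 := rfl
omit [Good D] in
@[simp] theorem wd_cons (p : Rt D × F) (w : List (Rt D × F)) :
    S.wd (p :: w) = S.x p.1 p.2 * S.wd w := by simp [wd]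
omit [Good D] in
@[simp] theorem wd_append (w w' : List (Rt D × F)) : S.wd (w ++ w') = S.wd w * S.wd w' := by
  simp [wd]

omit [Good D] in
theorem wd_mem {K : Subgroup G} {w : List (Rt D × F)} (h : ∀ p ∈ w, S.x p.1 p.2 ∈ K) :
    S.wd w ∈ K := by
  apply Subgroup.list_prod_mem
  intro g hg
  obtain ⟨p, hp, rfl⟩ := List.mem_map.1 hg
  exact h p hp

omit [Good D] in
theorem π_wd (w : List (Rt D × F)) : S.π (S.wd w) = (w.map fun p => D.xMat F p.1 p.2).prod := by
  induction w with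
  | nil => simp
  | cons p w ih => simp [ih, S.π_x]

omit [Good D] in
theorem comm' {r s : Rt D} (h1 : s ≠ r) (h2 : s ≠ neg r) (t u : F) :
    (S.x s u)⁻¹ * (S.x r t)⁻¹ * S.x s u * S.x r t = S.wd (cword F r s t u) := by
  rw [mul_assoc, S.comm r s h1 h2, wd]; group

theorem comm_mem {A : Set (Rt D)} {r s : Rt D} (h2 : s ≠ neg r) (h : ∀ k, Btw r s k → k ∈ A)
    (t u : F) : (S.x s u)⁻¹ * (S.x r t)⁻¹ * S.x s u * S.x r t ∈ S.U A := by
  by_cases h1 : s = r
  · subst h1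
    rw [mul_assoc, (S.commute_x s u t).eq]; simp [mul_assoc]
  · rw [S.comm' h1 h2]
    exact S.wd_mem fun p hp => S.x_mem_U (h _ (btw_of_mem_cword hp)) _

theorem commute_of_not_btw {r s : Rt D} (h2 : s ≠ neg r) (h : ∀ k, ¬ Btw r s k) (t u : F) :
    Commute (S.x r t) (S.x s u) := by
  have := S.comm_mem (A := ∅) h2 h t u
  rw [U_empty, Subgroup.mem_bot] at this
  rw [Commute, SemiconjBy]
  calc _ = S.x r t * S.x s u * ((S.x s u)⁻¹ * (S.x r t)⁻¹ * S.x s u * S.x r t) := by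
        rw [this, mul_one]
    _ = _ := by group

theorem x_conj_mem {A : Set (Rt D)} {r : Rt D}
    (h : ∀ s ∈ A, s ≠ neg r ∧ ∀ k, Btw r s k → k ∈ A) (t : F) :
    ∀ g ∈ S.U A, S.x r t * g * (S.x r t)⁻¹ ∈ S.U A := by
  apply conj_mem_closure
  rintro _ ⟨s, hs, u, rfl⟩
  have := (S.U A).mul_mem (S.x_mem_U hs u) (S.comm_mem (h s hs).1 (h s hs).2 (-t) u)
  rw [← S.x_inv] at this
  convert this using 1; group

theorem U_conj_mem {A B : Set (Rt D)}
    (h : ∀ r ∈ B, ∀ s ∈ A, s ≠ neg r ∧ ∀ k, Btw r s k → k ∈ A) :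
    ∀ b ∈ S.U B, ∀ g ∈ S.U A, b * g * b⁻¹ ∈ S.U A := by
  apply closure_conj_mem
  rintro _ ⟨r, hr, t, rfl⟩ n hn
  refine ⟨?_, S.x_conj_mem (h r hr) t n hn⟩
  have := S.x_conj_mem (h r hr) (-t) n hn
  rwa [← S.x_inv, inv_inv] at this

theorem U_le_normalizer {A B : Set (Rt D)}
    (h : ∀ r ∈ B, ∀ s ∈ A, s ≠ neg r ∧ ∀ k, Btw r s k → k ∈ A) :
    S.U B ≤ Subgroup.normalizer (S.U A : Set G) :=
  le_normalizer_of_conj (S.U_conj_mem h)

theorem U_comm_mem {A B C : Set (Rt D)}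
    (hA : ∀ r ∈ A, ∀ s ∈ C, s ≠ neg r ∧ ∀ k, Btw r s k → k ∈ C)
    (hB : ∀ r ∈ B, ∀ s ∈ C, s ≠ neg r ∧ ∀ k, Btw r s k → k ∈ C)
    (h : ∀ r ∈ A, ∀ s ∈ B, s ≠ neg r ∧ ∀ k, Btw r s k → k ∈ C) :
    ∀ a ∈ S.U A, ∀ b ∈ S.U B, a⁻¹ * b⁻¹ * a * b ∈ S.U C := by
  have nrm : ∀ A : Set (Rt D), (∀ r ∈ A, ∀ s ∈ C, s ≠ neg r ∧ ∀ k, Btw r s k → k ∈ C) →
      ∀ a ∈ {g | ∃ r ∈ A, ∃ t, g = S.x r t}, ∀ n ∈ S.U C,
        a⁻¹ * n * a ∈ S.U C ∧ a * n * a⁻¹ ∈ S.U C := by
    rintro A h _ ⟨r, hr, t, rfl⟩ n hn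
    refine ⟨?_, S.x_conj_mem (h r hr) t n hn⟩
    have := S.x_conj_mem (h r hr) (-t) n hn
    rwa [← S.x_inv, inv_inv] at this
  apply comm_mem_of_gen (nrm A hA) (nrm B hB)
  rintro _ ⟨r, hr, t, rfl⟩ _ ⟨s, hs, u, rfl⟩
  exact S.comm_mem (fun e => (h r hr s hs).1 (by rw [e, neg_neg']))
    (fun k hk => (h r hr s hs).2 k hk.symm) u t

end StSys

end Chev
end H5
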