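import Cfsg.Agent.H5.St4
import Cfsg.Agent.H5.BN2

/-! The (B,N)-pair and the Bruhat decomposition. -/

set_option autoImplicit false

namespace H5
namespace Chev

open Cfsg Cfsg.Lie Cfsg.Lie.ChevalleyDatum Equiv

variable {D : ChevalleyDatum} {F : Type*} [Field F] [Good D]

theorem Fil.eq_one {μ : Lat D →ₗ[ℤ] ℤ} {X : Matrix D.Idx D.Idx F} (h : Fil μ 1 X)
    (h' : Hi (-μ) 0 X) : X = 1 := by
  rw [← sub_eq_zero]
  ext a b
  by_cases hab : deg μ a - deg μ b < 1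
  · exact h a b hab
  · have h1 := h' a b (by rw [deg_neg, deg_neg]; omega)
    have h2 : a ≠ b := by rintro rfl; simp at hab
    simp [h1, h2]

theorem pos_of_fil {μ : Lat D →ₗ[ℤ] ℤ} {r : Rt D} {t : F} (ht : t ≠ 0)
    (f : Fil μ 1 (D.xMat F r t)) : 0 < μ (vec r) := by
  by_contra h0
  obtain ⟨i, hi⟩ := exists_co_cast_ne_zero F r
  have := f (Sum.inl i) (Sum.inr (neg r)) (by simp; omega)
  simp [xMat_inl_inr, hi, ht] at this

theorem nonneg_of_hi {μ : Lat D →ₗ[ℤ] ℤ} {r : Rt D} {t : F} (ht : t ≠ 0)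
    (f : Hi μ 0 (D.xMat F r t)) : 0 ≤ μ (vec r) := by
  by_contra h0
  obtain ⟨i, hi⟩ := exists_co_cast_ne_zero F r
  have := f (Sum.inl i) (Sum.inr (neg r)) (by simp; omega)
  simp [xMat_inl_inr, hi, ht] at this

omit [Good D] in
theorem dg_injective : Function.Injective (dg : (Rt D → F) → Matrix D.Idx D.Idx F) := by
  intro χ χ' h
  funext r
  simpa [dg] using congrFun (congrFun h (Sum.inr r)) (Sum.inr r)

/-- the character `r ↦ ∏ c_i ^ A_{p_i, r}` -/
def chi (c : Ix D → Fˣ) (r : Rt D) : Fˣ := ∏ i, c i ^ wt r i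

omit [Good D] in
theorem chi_mul (c c' : Ix D → Fˣ) (r : Rt D) : chi (c * c') r = chi c r * chi c' r := by
  simp [chi, mul_zpow, Finset.prod_mul_distrib]

omit [Good D] in
@[simp] theorem chi_one (r : Rt D) : chi (1 : Ix D → Fˣ) r = 1 := by simp [chi]

omit [Good D] in
theorem chi_inv (c : Ix D → Fˣ) (r : Rt D) : chi c⁻¹ r = (chi c r)⁻¹ := by
  simp [chi]

theorem chi_neg (c : Ix D → Fˣ) (r : Rt D) : chi c (neg r) = (chi c r)⁻¹ := by
  simp [chi]

omit [Good D] in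
theorem chi_co (r s : Rt D) (t : Fˣ) : chi (fun i => t ^ co r i) s = t ^ pair r s := by
  simp only [chi, pair, ← zpow_mul]
  induction (Finset.univ : Finset (Ix D)) using Finset.induction_on with
  | empty => simp
  | insert i s hi ih => rw [Finset.prod_insert hi, Finset.sum_insert hi, ih, zpow_add]

theorem exists_conn [Conn D] {J : Set (Ix D)} (h1 : J.Nonempty) (h2 : Jᶜ.Nonempty) :
    ∃ i ∈ J, ∃ j ∉ J, wt (simple j) i ≠ 0 := by
  by_contra hc
  push Not at hc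
  have key : ∀ r : Rt D, (∀ i ∈ J, vec r i = 0) ∨ ∀ i ∉ J, vec r i = 0 := by
    intro r
    induction r using root_induction with
    | h0 k =>
      by_cases hk : k ∈ J
      · right; intro i hi; rw [vec_simple, Pi.single_eq_of_ne]; rintro rfl; exact hi hk
      · left; intro i hi; rw [vec_simple, Pi.single_eq_of_ne]; rintro rfl; exact hk hi
    | hs k r ih =>
      have aux : ∀ K : Set (Ix D), (∀ i ∈ K, ∀ j ∉ K, wt (simple j) i = 0) →
          (∀ i ∈ K, vec r i = 0) → ∀ i ∈ K, vec (refl k r) i = 0 := by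
        intro K hK h i hi
        rw [vec_refl, Pi.sub_apply, h i hi, Pi.smul_apply, vec_simple]
        by_cases hik : i = k
        · subst hik
          rw [wt_eq_sum, Finset.sum_eq_zero]
          · simp
          · intro j _
            by_cases hj : j ∈ K
            · simp [h j hj]
            · simp [hK i hi j hj]
        · simp [hik]
      rcases ih with ih | ih
      · exact Or.inl (aux J hc ih)
      · refine Or.inr (aux Jᶜ (fun i hi j hj => ?_) ih)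
        rw [← pair_simple, pair_eq_zero_comm, pair_simple]
        exact hc j (by simpa using hj) i hi
  obtain ⟨r, hr⟩ := Conn.full (D := D)
  obtain ⟨i, hi⟩ := h1
  obtain ⟨j, hj⟩ := h2
  rcases key r with h | h
  · exact hr i ((vec_eq_zero_iff r i).1 (h i hi))
  · exact hr j ((vec_eq_zero_iff r j).1 (h j hj))

theorem wt_eq_zero_of_commute {i j : Ix D} (hij : i ≠ j)
    (h : (wgen D).σ i * (wgen D).σ j = (wgen D).σ j * (wgen D).σ i) : wt (simple i) j = 0 := by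
  have h1 : refl i (refl j (simple i)) = refl j (refl i (simple i)) := by
    simpa using congrArg (fun w : Wg D => w (simple i)) h
  have h2 := congrFun (congrArg vec h1) j
  simp only [refl_simple, refl_neg, vec_neg, vec_refl, Pi.neg_apply, Pi.sub_apply, Pi.smul_apply,
    vec_simple, Pi.single_eq_same, Pi.single_eq_of_ne hij.symm, smul_eq_mul] at h2
  omega

namespace StSys

variable {G : Type*} [Group G] (S : StSys D F G)

section Hom
variable {G' : Type*} [Group G'] {S} {S' : StSys D F G'} {f : G →* G'}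
  (hf : ∀ r t, f (S.x r t) = S'.x r t)
include hf

omit [Good D] in
theorem map_U (A : Set (Rt D)) : (S.U A).map f = S'.U A := by
  apply le_antisymm
  · rw [Subgroup.map_le_iff_le_comap, U_le_iff]
    intro r hr t
    rw [Subgroup.mem_comap, hf]; exact S'.x_mem_U hr t
  · rw [U_le_iff]
    exact fun r hr t => ⟨_, S.x_mem_U hr t, hf r t⟩

omit [Good D] in
theorem map_n (r : Rt D) (t : F) : f (S.n r t) = S'.n r t := by simp [n, hf]

omit [Good D] in
theorem map_h (r : Rt D) (t : F) : f (S.h r t) = S'.h r t := by simp [h, map_n hf]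

omit [Good D] in
theorem map_H : S.H.map f = S'.H := by
  apply le_antisymm
  · rw [Subgroup.map_le_iff_le_comap, H_le_iff]
    intro r t ht
    rw [Subgroup.mem_comap, map_h hf]; exact S'.h_mem_H r ht
  · rw [H_le_iff]
    exact fun r t ht => ⟨_, S.h_mem_H r ht, map_h hf r t⟩

omit [Good D] in
theorem map_N : S.N.map f = S'.N := by
  apply le_antisymm
  · rw [Subgroup.map_le_iff_le_comap, N_le_iff]
    intro r t ht
    rw [Subgroup.mem_comap, map_n hf]; exact S'.n_mem_N r ht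
  · rw [N_le_iff]
    exact fun r t ht => ⟨_, S.n_mem_N r ht, map_n hf r t⟩

omit [Good D] in
theorem map_B : S.B.map f = S'.B := by rw [B, Subgroup.map_sup, map_U hf, map_H hf, B]

omit [Good D] in
theorem map_acts {g : G} {w : Rt D → Rt D} (h : S.Acts g w) : S'.Acts (f g) w := by
  obtain ⟨γ, h1, h2, h3⟩ := h
  exact ⟨γ, h1, h2, fun r t => by rw [← hf, ← hf, ← h3]; simp⟩

end Hom

/-- restriction to a subgroup containing the root elements -/
def restrict (K : Subgroup G) (hK : S.U Set.univ ≤ K) : StSys D F K where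
  x r t := ⟨S.x r t, hK (S.x_mem_U (Set.mem_univ r) t)⟩
  add r t u := Subtype.ext (S.add r t u)
  comm r s h1 h2 t u := Subtype.ext (by
    simp only [Subgroup.coe_mul, S.comm r s h1 h2 t u]
    congr 1
    rw [← K.subtype_apply, map_list_prod, List.map_map]
    rfl)
  π := S.π.comp K.subtype
  π_x := S.π_x

omit [Good D] in
theorem restrict_x (K : Subgroup G) (hK : S.U Set.univ ≤ K) (r : Rt D) (t : F) :
    K.subtype ((S.restrict K hK).x r t) = S.x r t := rfl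

omit [Good D] in
theorem restrict_U (K : Subgroup G) (hK : S.U Set.univ ≤ K) (A : Set (Rt D)) :
    (S.restrict K hK).U A = (S.U A).subgroupOf K := by
  rw [← map_U (S.restrict_x K hK), Subgroup.subgroupOf,
    Subgroup.comap_map_eq_self_of_injective K.subtype_injective]

omit [Good D] in
theorem restrict_H (K : Subgroup G) (hK : S.U Set.univ ≤ K) :
    (S.restrict K hK).H = S.H.subgroupOf K := by
  rw [← map_H (S.restrict_x K hK), Subgroup.subgroupOf,
    Subgroup.comap_map_eq_self_of_injective K.subtype_injective]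

omit [Good D] in
theorem restrict_N (K : Subgroup G) (hK : S.U Set.univ ≤ K) :
    (S.restrict K hK).N = S.N.subgroupOf K := by
  rw [← map_N (S.restrict_x K hK), Subgroup.subgroupOf,
    Subgroup.comap_map_eq_self_of_injective K.subtype_injective]

omit [Good D] in
theorem restrict_B (K : Subgroup G) (hK : S.U Set.univ ≤ K) :
    (S.restrict K hK).B = S.B.subgroupOf K := by
  rw [← map_B (S.restrict_x K hK), Subgroup.subgroupOf,
    Subgroup.comap_map_eq_self_of_injective K.subtype_injective]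

omit [Good D] in
theorem restrict_top (K : Subgroup G) (hK : S.U Set.univ = K) :
    (S.restrict K hK.le).U Set.univ = ⊤ := by
  rw [restrict_U, hK, Subgroup.subgroupOf_self]

variable [Conn D]

theorem exists_chi {g : G} (hg : g ∈ S.H) : ∃ c : Ix D → Fˣ,
    S.π g = dg (fun r => (chi c r : F)) ∧ ∀ r t, g * S.x r t * g⁻¹ = S.x r (chi c r * t) := by
  let K : Subgroup G :=
    { carrier := {g | ∃ c : Ix D → Fˣ, S.π g = dg (fun r => (chi c r : F)) ∧
        ∀ r t, g * S.x r t * g⁻¹ = S.x r (chi c r * t)}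
      one_mem' := ⟨1, by simp [dg_one], by simp⟩
      mul_mem' := by
        rintro a b ⟨c, h1, h2⟩ ⟨c', h1', h2'⟩
        refine ⟨c * c', by simp [h1, h1', dg_mul, chi_mul], fun r t => ?_⟩
        rw [chi_mul, Units.val_mul, mul_assoc (chi c r : F), ← h2, ← h2']; group
      inv_mem' := by
        rintro a ⟨c, h1, h2⟩
        refine ⟨c⁻¹, ?_, fun r t => ?_⟩
        · apply left_inv_eq_right_inv (a := S.π a)
          · rw [← map_mul]; simp
          · simp [h1, dg_mul, chi_inv, dg_one]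
        · have := h2 r (chi c⁻¹ r * t)
          rw [chi_inv, Units.mul_inv_cancel_left] at this
          rw [chi_inv, ← this]; group }
  refine (S.H_le_iff (K := K)).2 (fun r t ht => ?_) hg
  refine ⟨fun i => Units.mk0 t ht ^ co r i, ?_, fun s u => ?_⟩
  · simp [π_h, hMat_eq_dg r ht, chi_co]
  · simp [S.h_conj r s ht, chi_co]

theorem hi_π {μ : Lat D →ₗ[ℤ] ℤ} {A : Set (Rt D)} (h : ∀ r ∈ A, 0 ≤ μ (vec r)) {g : G}
    (hg : g ∈ S.U A ⊔ S.H) : Hi μ 0 (S.π g) := by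
  obtain ⟨u, hu, a, ha, rfl⟩ := (mem_sup_of_le_normalizer (S.H_le_normalizer _)).1 hg
  obtain ⟨c, h1, -⟩ := S.exists_chi ha
  rw [map_mul, h1]
  exact ((S.fil_π le_rfl h hu).hi le_rfl).mul (m' := 0) (Hi.diagonal _)

theorem U_inf_eq_bot {μ : Lat D →ₗ[ℤ] ℤ} {A C : Set (Rt D)} (hA : ∀ r ∈ A, 0 < μ (vec r))
    (cA : Closed A) (hC : ∀ r ∈ C, μ (vec r) ≤ 0) : S.U A ⊓ (S.U C ⊔ S.H) = ⊥ := by
  rw [eq_bot_iff]
  rintro g ⟨h1, h2⟩
  obtain ⟨μ', hN⟩ := exists_nil hA cA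
  exact S.eq_one_of_π hN h1 ((S.fil_π zero_le_one hA h1).eq_one
    (S.hi_π (fun r hr => by simpa using hC r hr) h2))

theorem V_inf_B : S.U {r | ¬ Pos r} ⊓ S.B = ⊥ :=
  S.U_inf_eq_bot (μ := -ordf) nil_neg.pos closed_neg fun r hr => by
    simpa using (pos_iff_ord.1 hr).le

theorem U_inf_B' : S.U {r | Pos r} ⊓ (S.U {r | ¬ Pos r} ⊔ S.H) = ⊥ :=
  S.U_inf_eq_bot (μ := ordf) nil_pos.pos closed_pos fun r hr => (not_pos_iff_ord.1 hr).le

theorem U_inf_H : S.U {r | Pos r} ⊓ S.H = ⊥ :=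
  eq_bot_iff.2 ((inf_le_inf_left _ le_sup_right).trans S.U_inf_B'.le)

theorem B_inf_B' : S.B ⊓ (S.U {r | ¬ Pos r} ⊔ S.H) = S.H := by
  refine le_antisymm ?_ (le_inf S.H_le_B le_sup_right)
  rintro g ⟨h1, h2⟩
  obtain ⟨u, hu, a, ha, rfl⟩ := (mem_sup_of_le_normalizer (S.H_le_normalizer _)).1 h2
  have : u ∈ (⊥ : Subgroup G) :=
    S.V_inf_B ▸ ⟨hu, (S.B.mul_mem_cancel_right (S.H_le_B ha)).1 h1⟩
  rw [Subgroup.mem_bot.1 this, one_mul]; exact ha

theorem pos_of_x_mem_B {r : Rt D} {t : F} (ht : t ≠ 0) (h : S.x r t ∈ S.B) : Pos r := by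
  by_contra hr
  have : S.x r t ∈ (⊥ : Subgroup G) := S.V_inf_B ▸ ⟨S.x_mem_U (A := {r | ¬ Pos r}) hr t, h⟩
  exact ht (S.x_eq_one_iff.1 this)

theorem B_split (i : Ix D) {b : G} (hb : b ∈ S.B) : ∃ b' c, b = b' * S.x (simple i) c ∧
    ∀ t ≠ 0, S.n (simple i) t * b' * (S.n (simple i) t)⁻¹ ∈ S.B := by
  obtain ⟨u, hu, a, ha, rfl⟩ := S.mem_B_iff.1 hb
  obtain ⟨v, hv, y, hy, e⟩ := S.split_U (A := {r | Pos r ∧ r ≠ simple i}) (B := {simple i}) nil_pos
    (fun r => by by_cases h : r = simple i <;> simp [h, pos_simple])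
    (S.H_conj_U (inv_mem ha) _ u hu)
  obtain ⟨c, rfl⟩ := S.mem_U_singleton.1 hy
  refine ⟨a * v, c, by rw [mul_assoc, ← e]; group, fun t ht => ?_⟩
  have h1 := S.N_conj_H (S.n_mem_N (simple i) ht) a ha
  have h2 := (S.acts_n (simple i) ht).conj_mem_U (A := {r | Pos r ∧ r ≠ simple i})
    (B := {r | Pos r}) (fun r hr => by simpa using pos_refl hr.1 hr.2) v hv
  convert mul_mem (S.H_le_B h1) (S.U_le_B h2) using 1
  group

theorem x_mul_n {g : G} (hg : g ∈ S.N) {r : Rt D} (hr : Pos ((S.φ ⟨g, hg⟩)⁻¹ r)) (t : F) :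
    g⁻¹ * S.x r t * g ∈ S.B := by
  obtain ⟨γ, -, -, h⟩ := S.acts_φ (⟨g, hg⟩ : S.N)⁻¹
  have := h r t
  rw [map_inv] at this
  simp only [InvMemClass.coe_inv, inv_inv] at this
  rw [this]
  exact S.x_mem_B hr _

theorem bn_mul (i : Ix D) {g : G} (hg : g ∈ S.N) {b : G} (hb : b ∈ S.B) :
    (∃ b₁ ∈ S.B, ∃ b₂ ∈ S.B, S.n (simple i) 1 * b * g = b₁ * (S.n (simple i) 1 * g) * b₂) ∨
      ∃ b₁ ∈ S.B, ∃ b₂ ∈ S.B, S.n (simple i) 1 * b * g = b₁ * g * b₂ := by
  obtain ⟨b', c, rfl, h1⟩ := S.B_split i hb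
  have h1 := h1 1 one_ne_zero
  by_cases hp : Pos ((S.φ ⟨g, hg⟩)⁻¹ (simple i))
  · exact Or.inl ⟨_, h1, _, S.x_mul_n hg hp c, by group⟩
  by_cases hc : c = 0
  · exact Or.inl ⟨_, h1, 1, one_mem _, by simp [hc]⟩
  right
  obtain ⟨γ, h2, -, h3⟩ := S.acts_n (simple i) (one_ne_zero (α := F))
  have h4 := h3 (simple i) c
  rw [rp_apply, rrefl_self, x_neg_eq] at h4
  set a := (γ (simple i) * c)⁻¹
  have ha : a ≠ 0 := inv_ne_zero (mul_ne_zero (h2 _) hc)
  have h5 := S.x_mul_n (mul_mem (S.ns i).2 hg) (r := simple i) (by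
    have : (⟨_, mul_mem (S.ns i).2 hg⟩ : S.N) = S.ns i * ⟨g, hg⟩ := rfl
    rw [this, map_mul, φ_ns]
    simpa [pos_neg_iff] using hp) a
  have h6 := S.n_mul_n_mem (simple i) (neg_ne_zero.2 ha) one_ne_zero
  refine ⟨_, mul_mem (mul_mem h1 (S.x_mem_B (pos_simple i) a)) (S.H_le_B h6), _, h5, ?_⟩
  calc _ = S.n (simple i) 1 * b' * (S.n (simple i) 1)⁻¹ *
        (S.n (simple i) 1 * S.x (simple i) c * (S.n (simple i) 1)⁻¹) * S.n (simple i) 1 * g := by
        group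
    _ = _ := by rw [h4, coe_ns]; group

theorem B_sup_N : S.B ⊔ S.N = S.U Set.univ := by
  refine le_antisymm (sup_le S.B_le_U S.N_le_U) (S.U_le_iff.2 fun r _ t => ?_)
  by_cases hr : Pos r
  · exact Subgroup.mem_sup_left (S.x_mem_B hr t)
  by_cases ht : t = 0
  · simp [ht]
  have := S.x_neg_eq (neg r) t
  rw [neg_neg'] at this
  rw [this]
  have h1 : S.x (neg r) t⁻¹ ∈ S.B ⊔ S.N := Subgroup.mem_sup_left (S.x_mem_B (pos_neg_iff.2 hr) _)
  exact mul_mem (mul_mem h1 (Subgroup.mem_sup_right (S.n_mem_N _ (by simpa using ht)))) h1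

theorem n_simple_injective : Function.Injective fun i => S.n (simple i) 1 := by
  intro i j h
  apply σ_injective
  rw [← S.φ_ns, ← S.φ_ns]
  congr 1
  exact Subtype.ext h

/-- the (B,N)-pair -/
def bn (hS : S.U Set.univ = ⊤) : BNPair G where
  B := S.B
  N := S.N
  S := Set.range fun i => S.n (simple i) 1
  sup_eq_top := S.B_sup_N.trans hS
  conj_mem n hn t ht := S.H_le_B (S.N_conj_H hn t (S.B_inf_N ▸ ht))
  subset := by rintro _ ⟨i, rfl⟩; exact (S.ns i).2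
  sq_mem := by rintro _ ⟨i, rfl⟩; exact S.H_le_B (S.n_mul_n_mem _ one_ne_zero one_ne_zero)
  inj := by
    rintro _ ⟨i, rfl⟩ _ ⟨j, rfl⟩ h
    have : S.φ (S.ns i) = S.φ (S.ns j) :=
      S.φ_eq_φ_iff.2 (S.B_inf_N ▸ ⟨h, S.N.mul_mem (inv_mem (S.ns i).2) (S.ns j).2⟩)
    rw [φ_ns, φ_ns] at this
    rw [σ_injective this]
  closure_sup := by rw [S.B_inf_N, ← S.N_eq]
  mul_mem_union := by
    rintro _ ⟨i, rfl⟩ n hn b hb
    simpa only [Set.mem_union, DoubleCoset.mem_doubleCoset, SetLike.mem_coe] using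
      S.bn_mul i hn hb
  conj_ne := by
    rintro _ ⟨i, rfl⟩ h
    obtain ⟨γ, h2, -, h3⟩ := S.acts_n (simple i) (one_ne_zero (α := F))
    have h4 : S.n (simple i) 1 * S.x (simple i) 1 * S.n (simple i) 1 ∈ (S.B : Set G) :=
      h ▸ ⟨_, S.x_mem_B (pos_simple i) 1, rfl⟩
    have h5 := mul_mem h4 (inv_mem (S.H_le_B (S.n_mul_n_mem (simple i) one_ne_zero one_ne_zero)))
    have h6 : S.n (simple i) 1 * S.x (simple i) 1 * (S.n (simple i) 1)⁻¹ ∈ S.B := by
      convert h5 using 1; group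
    rw [h3] at h6
    have := S.pos_of_x_mem_B (mul_ne_zero (h2 _) one_ne_zero) h6
    simp [pos_neg_iff, pos_simple] at this

theorem bn_irreducible (hS : S.U Set.univ = ⊤) : (S.bn hS).Irreducible := by
  intro J hJ h1 h2
  obtain ⟨i, hi, j, hj, h⟩ := exists_conn (J := {i | S.n (simple i) 1 ∈ J}) (by
    obtain ⟨s, hs⟩ := h1
    obtain ⟨i, rfl⟩ := hJ hs
    exact ⟨i, hs⟩) (by
    obtain ⟨_, ⟨i, rfl⟩, hs⟩ := h2
    exact ⟨i, hs⟩)
  refine ⟨_, hi, _, ⟨⟨j, rfl⟩, hj⟩, fun hB => h ?_⟩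
  have h3 : S.φ (S.ns i * S.ns j * (S.ns i)⁻¹ * (S.ns j)⁻¹) = 1 :=
    S.φ_eq_one_iff.2 (S.B_inf_N ▸ ⟨hB, Subtype.mem _⟩)
  simp only [map_mul, map_inv, φ_ns] at h3
  apply wt_eq_zero_of_commute (by rintro rfl; exact hj hi)
  rw [mul_inv_eq_one, mul_inv_eq_iff_eq_mul] at h3
  exact h3.symm

theorem exists_cell {g : G} (hg : g ∈ S.U Set.univ) :
    ∃ b ∈ S.B, ∃ n ∈ S.N, ∃ b' ∈ S.B, g = b * n * b' := by
  obtain ⟨w, n, -, b, hb, b', hb', e⟩ :=
    BN.exists_inC ((S.restrict _ le_rfl).bn (S.restrict_top _ rfl)) ⟨g, hg⟩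
  have hn := n.2
  simp only [bn, restrict_B, restrict_N, Subgroup.mem_subgroupOf] at hb hb' hn
  exact ⟨_, hb, _, hn, _, hb', congrArg Subtype.val e⟩

theorem cell_unique {b₁ b₂ b₃ b₄ : G} {n n' : S.N} (h1 : b₁ ∈ S.B) (h2 : b₂ ∈ S.B) (h3 : b₃ ∈ S.B)
    (h4 : b₄ ∈ S.B) (e : b₁ * n * b₂ = b₃ * n' * b₄) : S.φ n = S.φ n' := by
  let P := (S.restrict _ le_rfl).bn (S.restrict_top _ rfl)
  have hB : ∀ b (h : b ∈ S.B), (⟨b, S.B_le_U h⟩ : S.U Set.univ) ∈ P.B := fun b h => by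
    simpa only [P, bn, restrict_B, Subgroup.mem_subgroupOf] using h
  have hN : ∀ b : S.N, (⟨b, S.N_le_U b.2⟩ : S.U Set.univ) ∈ P.N := fun b => by
    simpa only [P, bn, restrict_N, Subgroup.mem_subgroupOf] using b.2
  have e1 := ((BN.InC.self (P := P) ⟨_, hN n⟩).mul_left (hB _ h1)).mul_right (hB _ h2)
  have e2 := ((BN.InC.self (P := P) ⟨_, hN n'⟩).mul_left (hB _ h3)).mul_right (hB _ h4)
  have e3 := e1.unique (by convert e2 using 1; exact Subtype.ext e)
  rw [BN.mkW_eq_iff] at e3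
  simp only [P, bn, restrict_B, Subgroup.mem_subgroupOf] at e3
  exact S.φ_eq_φ_iff.2 (S.B_inf_N ▸ ⟨e3, S.N.mul_mem (inv_mem n.2) n'.2⟩)

theorem exists_bruhat {g : G} (hg : g ∈ S.U Set.univ) :
    ∃ b ∈ S.B, ∃ n : S.N, ∃ u ∈ S.U (Inv (S.φ n)), g = b * n * u := by
  obtain ⟨b, hb, n, hn, b', hb', rfl⟩ := S.exists_cell hg
  obtain ⟨u, hu, a, ha, rfl⟩ := S.mem_B_iff.1 hb'
  obtain ⟨v, hv, y, hy, e⟩ := S.split_U (A := Inv' (S.φ ⟨n, hn⟩)) (B := Inv (S.φ ⟨n, hn⟩)) nil_pos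
    (fun r => by by_cases h : Pos (S.φ ⟨n, hn⟩ r) <;> simp [h, Inv, Inv'])
    (S.H_conj_U (inv_mem ha) _ u hu)
  have h1 := S.N_conj_H hn a ha
  have h2 := (S.acts_φ ⟨n, hn⟩).conj_mem_U (B := {r | Pos r}) (fun r hr => hr.2) v hv
  refine ⟨_, mul_mem (mul_mem hb (S.H_le_B h1)) (S.U_le_B h2), ⟨n, hn⟩, y, hy, ?_⟩
  calc _ = b * n * a * (a⁻¹ * u * a⁻¹⁻¹) := by group
    _ = _ := by rw [e]; group

theorem bruhat_unique {b b' u u' : G} {n : S.N} (hb : b ∈ S.B) (hb' : b' ∈ S.B)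
    (hu : u ∈ S.U (Inv (S.φ n))) (hu' : u' ∈ S.U (Inv (S.φ n))) (e : b * n * u = b' * n * u') :
    b = b' ∧ u = u' := by
  have h1 := (S.acts_φ n).conj_mem_U (B := {r | ¬ Pos r}) (fun r hr => hr.2) _
    (mul_mem hu (inv_mem hu'))
  have h2 : (n : G) * (u * u'⁻¹) * (n : G)⁻¹ = b⁻¹ * b' := by
    calc _ = b⁻¹ * (b * n * u) * u'⁻¹ * (n : G)⁻¹ := by group
      _ = _ := by rw [e]; group
  rw [h2] at h1
  have h3 : b⁻¹ * b' ∈ (⊥ : Subgroup G) := S.V_inf_B ▸ ⟨h1, S.B.mul_mem (inv_mem hb) hb'⟩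
  have h4 := inv_mul_eq_one.1 (Subgroup.mem_bot.1 h3)
  subst h4
  exact ⟨rfl, mul_left_cancel e⟩

theorem U_inv_le_B (w : Rt D → Rt D) : S.U (Inv w) ≤ S.B :=
  (S.U_mono fun _ h => h.1).trans S.U_le_B

theorem exists_n0 : ∃ n ∈ S.N, (∀ u ∈ S.U {r | Pos r}, n * u * n⁻¹ ∈ S.U {r | ¬ Pos r}) ∧
    (S.U {r | Pos r}).map (MulAut.conj n).toMonoidHom = S.U {r | ¬ Pos r} := by
  obtain ⟨w, hw⟩ := exists_w0 D
  obtain ⟨n, rfl⟩ := S.φ_surjective w
  refine ⟨n, n.2, (S.acts_φ n).conj_mem_U fun r hr h => (hw r).1 h hr, ?_⟩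
  rw [(S.acts_φ n).map_U]
  congr 1
  ext r
  constructor
  · rintro ⟨s, hs, rfl⟩ h
    exact (hw s).1 h hs
  · intro h
    refine ⟨(S.φ n)⁻¹ r, ?_, by simp⟩
    by_contra h2
    exact h (by simpa using (hw _).2 h2)

theorem mem_H_of_π {g : G} (hg : g ∈ S.U Set.univ) (h : S.π g = 1) : g ∈ S.H := by
  obtain ⟨b, hb, n, hn, b', hb', rfl⟩ := S.exists_cell hg
  have h1 : S.π n = S.π (b⁻¹ * b'⁻¹) := by
    have : n = b⁻¹ * (b * n * b') * b'⁻¹ := by group
    rw [this, map_mul, map_mul, h, mul_one, map_mul]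
  have h1' : S.π n⁻¹ = S.π (b⁻¹ * b'⁻¹)⁻¹ := by
    apply left_inv_eq_right_inv (a := S.π n)
    · rw [← map_mul]; simp
    · rw [h1, ← map_mul]; simp
  have h2 : n ∈ S.H := by
    refine (S.φ_eq_one_iff (g := ⟨n, hn⟩)).1 (eq_one_of_pos fun i => ?_)
    obtain ⟨γ, h2, -, h3⟩ := S.acts_φ ⟨n, hn⟩
    have h4 := S.fil_π zero_le_one nil_pos.pos (S.B_conj_U (mul_mem (inv_mem hb) (inv_mem hb')) _
      (S.x_mem_U (A := {r | Pos r}) (pos_simple i) 1))
    rw [map_mul, map_mul, ← h1, ← h1', ← map_mul, ← map_mul, h3, S.π_x] at h4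
    exact pos_iff_ord.2 (pos_of_fil (mul_ne_zero (h2 _) one_ne_zero) h4)
  obtain ⟨u, hu, a, ha, e⟩ := S.mem_B_iff.1 (mul_mem (mul_mem hb (S.H_le_B h2)) hb')
  rw [← e] at h ⊢
  have h3 : S.π u = S.π a⁻¹ := by
    rw [show u = u * a * a⁻¹ by group, map_mul, h, one_mul]
  have h4 := (S.fil_π zero_le_one nil_pos.pos hu).eq_one (by
    rw [h3]; exact S.hi_π (A := ∅) (by simp) (Subgroup.mem_sup_right (inv_mem ha)))
  rw [S.eq_one_of_π nil_pos hu h4, one_mul]; exact ha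

theorem commute_of_π {g : G} (hg : g ∈ S.U Set.univ) (h : S.π g = 1) :
    ∀ y ∈ S.U Set.univ, g * y * g⁻¹ = y := by
  obtain ⟨c, h1, h2⟩ := S.exists_chi (S.mem_H_of_π hg h)
  rw [h, ← dg_one] at h1
  have h3 := dg_injective h1
  intro y hy
  induction hy using Subgroup.closure_induction with
  | mem a ha => obtain ⟨r, -, t, rfl⟩ := ha; rw [h2, ← congrFun h3 r, one_mul]
  | one => simp
  | mul a b _ _ ha hb => calc _ = (g * a * g⁻¹) * (g * b * g⁻¹) := by group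
      _ = _ := by rw [ha, hb]
  | inv a _ ha => calc _ = (g * a * g⁻¹)⁻¹ := by group
      _ = _ := by rw [ha]

theorem π_eq_one_of_conj {g : G} (h : ∀ y ∈ S.U Set.univ, y * g * y⁻¹ ∈ S.B) : S.π g = 1 := by
  have hB : g ∈ S.B := by simpa using h 1 (one_mem _)
  have hH : g ∈ S.H := by
    obtain ⟨n, hn, h1, -⟩ := S.exists_n0
    obtain ⟨u, hu, a, ha, e⟩ := S.mem_B_iff.1 (h _ (inv_mem (S.N_le_U hn)))
    rw [← S.B_inf_B']
    refine ⟨hB, ?_⟩
    have : g = (n * u * n⁻¹) * (n * a * n⁻¹) := by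
      calc _ = n * (u * a) * n⁻¹ := by rw [e]; group
        _ = _ := by group
    rw [this]
    exact mul_mem (Subgroup.mem_sup_left (h1 u hu)) (Subgroup.mem_sup_right (S.N_conj_H hn a ha))
  obtain ⟨c, h1, h2⟩ := S.exists_chi hH
  have key : ∀ r, ¬ Pos r → chi c r = 1 := by
    intro r hr
    by_contra hc
    have h3 := mul_mem hB (inv_mem (h _ (S.x_mem_U (Set.mem_univ r) 1)))
    have h4 : g * (S.x r 1 * g * (S.x r 1)⁻¹)⁻¹ = S.x r (chi c r - 1) := by
      rw [sub_eq_add_neg, ← S.add, ← S.x_inv, ← mul_one (chi c r : F), ← h2]; group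
    rw [h4] at h3
    exact hr (S.pos_of_x_mem_B (sub_ne_zero.2 fun e => hc (Units.ext e)) h3)
  rw [h1, ← dg_one]
  congr 1
  funext r
  by_cases hr : Pos r
  · have := key (neg r) (by simpa [pos_neg_iff] using hr)
    rw [chi_neg, inv_eq_one] at this
    simp [this]
  · simp [key r hr]

theorem center_eq_ker (hS : S.U Set.univ = ⊤) : Subgroup.center G = S.π.toHomUnits.ker := by
  ext g
  rw [MonoidHom.mem_ker, Units.ext_iff, MonoidHom.coe_toHomUnits, Units.val_one]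
  constructor
  · intro h
    apply S.π_eq_one_of_conj
    intro y _
    rw [Subgroup.mem_center_iff.1 h y, mul_inv_cancel_right]
    apply BN.mem_of_conj_mem' (P := S.bn hS) le_rfl
    intro b hb
    rwa [← Subgroup.mem_center_iff.1 h b, mul_inv_cancel_right]
  · intro h
    rw [Subgroup.mem_center_iff]
    intro y
    rw [← S.commute_of_π (hS ▸ trivial) h y (hS ▸ trivial)]
    have := S.commute_of_π (g := g) (hS ▸ trivial) h y (hS ▸ trivial)
    rw [this, mul_inv_eq_iff_eq_mul.1 this]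

end StSys

end Chev
end H5
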