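import Cfsg.Agent.H5.St6
import Cfsg.Agent.H5.Weyl3

/-! Orders of the Chevalley groups; the homomorphisms from `SL₂`. -/

set_option autoImplicit false

namespace H5

section KerCert
variable {ι κ M : Type*} [Fintype ι] [Fintype κ] [DecidableEq ι] [DecidableEq κ] [AddCommGroup M]

/-- an integer matrix applied to a vector with entries in an abelian group -/
def mv {α β : Type*} [Fintype β] (A : Matrix α β ℤ) (x : β → M) : α → M := fun j => ∑ i, A j i • x i

theorem mv_mul {α β γ : Type*} [Fintype β] [Fintype γ] (A : Matrix α β ℤ) (B : Matrix β γ ℤ)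
    (x : γ → M) : mv (A * B) x = mv A (mv B x) := by
  funext j
  simp only [mv, Matrix.mul_apply, Finset.sum_smul, Finset.smul_sum, mul_smul]
  exact Finset.sum_comm

theorem mv_add {α β : Type*} [Fintype β] (A B : Matrix α β ℤ) (x : β → M) :
    mv (A + B) x = mv A x + mv B x := by
  funext j; simp [mv, add_smul, Finset.sum_add_distrib]

theorem mv_zero {α β : Type*} [Fintype β] (A : Matrix α β ℤ) : mv A (0 : β → M) = 0 := by
  funext j; simp [mv]

theorem mv_diagonal (d : ι → ℤ) (x : ι → M) : mv (Matrix.diagonal d) x = fun j => d j • x j := by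
  funext j; simp [mv, Matrix.diagonal_apply]

theorem mv_one (x : ι → M) : mv (1 : Matrix ι ι ℤ) x = x := by
  rw [← Matrix.diagonal_one, mv_diagonal]; simp

theorem card_ker_mv {α : Type*} [Fintype α] (A : Matrix α ι ℤ) (d : κ → ℤ) (P : Matrix κ ι ℤ)
    (Q : Matrix ι κ ℤ) (R : Matrix κ α ℤ) (T : Matrix ι α ℤ) (E : Matrix α κ ℤ) (E' : Matrix κ κ ℤ)
    (h1 : Matrix.diagonal d * P = R * A) (h2 : A * Q = E * Matrix.diagonal d)
    (h3 : Q * P + T * A = 1) (h4 : P * Q = 1 + E' * Matrix.diagonal d) :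
    Nat.card {x : ι → M // mv A x = 0} = ∏ a, Nat.card {y : M // d a • y = 0} := by
  rw [← Nat.card_pi]
  refine Nat.card_congr ⟨fun x a => ⟨mv P x.1 a, ?_⟩, fun y => ⟨mv Q fun a => (y a).1, ?_⟩, ?_, ?_⟩
  · have := congrFun (mv_mul (Matrix.diagonal d) P x.1) a
    rw [h1, mv_mul, x.2, mv_zero, mv_diagonal] at this
    exact this.symm
  · rw [← mv_mul, h2, mv_mul, mv_diagonal]
    simp only [(y _).2]
    exact mv_zero E
  · intro x
    apply Subtype.ext
    have := mv_add (Q * P) (T * A) x.1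
    rw [h3, mv_one, mv_mul T, x.2, mv_zero, add_zero, mv_mul] at this
    exact this.symm
  · intro y
    funext a
    apply Subtype.ext
    change mv P (mv Q _) a = _
    rw [← mv_mul, h4, mv_add, mv_one, mv_mul, mv_diagonal]
    simp only [(y _).2]
    simp [mv]

theorem card_torsion {F : Type*} [Field F] [Finite F] (d : ℕ) :
    Nat.card {y : Additive Fˣ // (d : ℤ) • y = 0} = Nat.gcd d (Nat.card F - 1) := by
  have := IsCyclic.card_powMonoidHom_ker Fˣ d
  rw [Nat.card_units, Nat.gcd_comm] at this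
  rw [← this]
  refine Nat.card_congr (Equiv.subtypeEquiv Additive.toMul fun y => ?_)
  rw [MonoidHom.mem_ker, powMonoidHom_apply, natCast_zsmul, ← toMul_nsmul]
  exact toMul_eq_one.symm

end KerCert

namespace Chev

open Cfsg Cfsg.Lie Cfsg.Lie.ChevalleyDatum Equiv

variable {D : ChevalleyDatum} {F : Type*} [Field F] [Good D]

theorem zpow_sum_units {ι : Type*} (a : Fˣ) (s : Finset ι) (f : ι → ℤ) :
    a ^ ∑ i ∈ s, f i = ∏ i ∈ s, a ^ f i := by
  classical
  induction s using Finset.induction_on with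
  | empty => simp
  | insert i s hi ih => rw [Finset.prod_insert hi, Finset.sum_insert hi, ← ih, zpow_add]

theorem chi_eq_prod (c : Ix D → Fˣ) (r : Rt D) : chi c r = ∏ j, chi c (simple j) ^ vec r j := by
  simp only [chi, ← Finset.prod_zpow, ← zpow_mul]
  rw [Finset.prod_comm]
  refine Finset.prod_congr rfl fun i _ => ?_
  rw [wt_eq_sum, zpow_sum_units]
  simp only [mul_comm]

theorem chi_eq_one_iff {c : Ix D → Fˣ} : (∀ r, chi c r = 1) ↔ ∀ j, chi c (simple j) = 1 :=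
  ⟨fun h _ => h _, fun h r => by simp [chi_eq_prod c r, h]⟩

/-- `chi` as a homomorphism -/
def chiHom (D : ChevalleyDatum) (F : Type*) [Field F] : (Ix D → Fˣ) →* (Rt D → Fˣ) where
  toFun := chi
  map_one' := funext chi_one
  map_mul' a b := funext (chi_mul a b)

/-- the Cartan matrix -/
def cartanM (D : ChevalleyDatum) : Matrix (Ix D) (Ix D) ℤ := fun j i => D.cartan i (D.simple j)

theorem card_ker_chiHom :
    Nat.card (chiHom D F).ker = Nat.card {x : Ix D → Additive Fˣ // mv (cartanM D) x = 0} := by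
  refine Nat.card_congr (Equiv.subtypeEquiv (Equiv.piCongrRight fun _ => Additive.ofMul) fun c => ?_)
  rw [MonoidHom.mem_ker, funext_iff, funext_iff]
  refine chi_eq_one_iff.trans (forall_congr' fun j => ?_)
  rw [← Additive.ofMul.injective.eq_iff, chi, ofMul_prod]
  rfl

theorem chi_mulSingle (j : Ix D) (t : Fˣ) (s : Rt D) :
    chi (Pi.mulSingle j t) s = t ^ pair (simple j) s := by
  rw [← chi_co]
  congr 1
  funext i
  rw [co_simple]
  by_cases h : j = i
  · simp [h]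
  · simp [h, Ne.symm h]

namespace StSys

variable {G : Type*} [Group G] (S : StSys D F G) [Conn D]

theorem exists_H_chi (c : Ix D → Fˣ) : ∃ g ∈ S.H, S.π g = dg fun r => (chi c r : F) := by
  classical
  rw [← Finset.univ_prod_mulSingle c]
  induction (Finset.univ : Finset (Ix D)) using Finset.induction_on with
  | empty => exact ⟨1, one_mem _, by simp [dg_one]⟩
  | insert i s hi ih =>
    obtain ⟨g, hg, e⟩ := ih
    refine ⟨_, mul_mem (S.h_mem_H (simple i) (c i).ne_zero) hg, ?_⟩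
    rw [Finset.prod_insert hi, map_mul, e, π_h, hMat_eq_dg _ (c i).ne_zero, dg_mul]
    simp [chi_mul, chi_mulSingle]

theorem card_H (hπ : Function.Injective S.π) : Nat.card S.H = Nat.card (chiHom D F).range := by
  choose c hc _ using fun g : S.H => S.exists_chi g.2
  refine Nat.card_eq_of_bijective (fun g => ⟨chi (c g), c g, rfl⟩) ⟨fun a b h => ?_, ?_⟩
  · apply Subtype.ext
    apply hπ
    rw [hc, hc, show chi (c a) = chi (c b) from congrArg Subtype.val h]
  · rintro ⟨_, d, rfl⟩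
    obtain ⟨g, hg, e⟩ := S.exists_H_chi d
    refine ⟨⟨g, hg⟩, Subtype.ext (funext fun r => Units.ext ?_)⟩
    exact congrFun (dg_injective ((hc ⟨g, hg⟩).symm.trans e)) r

theorem card_ker_mul_card_H (hπ : Function.Injective S.π) :
    Nat.card {x : Ix D → Additive Fˣ // mv (cartanM D) x = 0} * Nat.card S.H =
      (Nat.card F - 1) ^ D.rank := by
  rw [S.card_H hπ, ← card_ker_chiHom, ← Subgroup.index_ker, Subgroup.card_mul_index, Nat.card_fun,
    Nat.card_units]
  simp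

theorem card_B : Nat.card S.B = Nat.card F ^ (D.nroots / 2) * Nat.card S.H := by
  rw [← ncard_pos, ← S.card_U nil_pos, ← Nat.card_prod]
  symm
  refine Nat.card_eq_of_bijective (fun p => ⟨p.1 * p.2, mul_mem (S.U_le_B p.1.2) (S.H_le_B p.2.2)⟩)
    ⟨?_, ?_⟩
  · rintro ⟨⟨u, hu⟩, ⟨a, ha⟩⟩ ⟨⟨u', hu'⟩, ⟨a', ha'⟩⟩ h
    have h1 : u * a = u' * a' := congrArg Subtype.val h
    have h2 : u'⁻¹ * u = a' * a⁻¹ := by
      rw [inv_mul_eq_iff_eq_mul, ← mul_assoc, ← h1, mul_inv_cancel_right]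
    have h3 : u'⁻¹ * u ∈ (⊥ : Subgroup G) := S.U_inf_H ▸
      ⟨Subgroup.mul_mem _ (inv_mem hu') hu, h2 ▸ S.H.mul_mem ha' (inv_mem ha)⟩
    have h4 := inv_mul_eq_one.1 (Subgroup.mem_bot.1 h3)
    subst h4
    have := mul_left_cancel h1
    subst this
    rfl
  · rintro ⟨b, hb⟩
    obtain ⟨u, hu, a, ha, rfl⟩ := S.mem_B_iff.1 hb
    exact ⟨⟨⟨u, hu⟩, ⟨a, ha⟩⟩, rfl⟩

theorem card_G [Finite F] :
    Nat.card (S.U Set.univ) = Nat.card S.B * (fold1 D).PW Set.univ (Nat.card F) := by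
  classical
  choose nr hnr using S.φ_surjective
  have h1 : ∀ w : Wg D, Nat.card (S.U (Inv w)) = Nat.card F ^ (wgen D).len w := fun w => by
    rw [S.card_U (nil_pos.sub (fun _ h => h.1) (closed_inv (wg_aut w))), ncard_inv]
  have h2 : ∀ w : Wg D, Finite (S.U (Inv w)) := fun w =>
    Nat.finite_of_card_ne_zero (by rw [h1]; exact pow_ne_zero _ Nat.card_pos.ne')
  rw [PW_univ]
  simp only [← h1]
  rw [← Nat.card_sigma, ← Nat.card_prod]
  symm
  refine Nat.card_eq_of_bijective (fun p => ⟨p.1 * nr p.2.1 * p.2.2,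
    mul_mem (mul_mem (S.B_le_U p.1.2) (S.N_le_U (nr _).2)) (S.B_le_U (S.U_inv_le_B _ p.2.2.2))⟩)
    ⟨?_, ?_⟩
  · rintro ⟨⟨b, hb⟩, w, ⟨u, hu⟩⟩ ⟨⟨b', hb'⟩, w', ⟨u', hu'⟩⟩ h
    have h3 : b * nr w * u = b' * nr w' * u' := congrArg Subtype.val h
    have h4 := S.cell_unique hb (S.U_inv_le_B _ hu) hb' (S.U_inv_le_B _ hu') h3
    rw [hnr, hnr] at h4
    subst h4
    obtain ⟨rfl, rfl⟩ := S.bruhat_unique hb hb' (by rwa [hnr]) (by rwa [hnr]) h3
    rfl
  · rintro ⟨g, hg⟩
    obtain ⟨b, hb, n, u, hu, rfl⟩ := S.exists_bruhat hg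
    have h3 : S.φ (n * (nr (S.φ n))⁻¹) = 1 := by simp [hnr]
    refine ⟨⟨⟨_, mul_mem hb (S.H_le_B (S.φ_eq_one_iff.1 h3))⟩, S.φ n, ⟨u, hu⟩⟩, Subtype.ext ?_⟩
    simp [mul_assoc]

/-! ### rank one -/

theorem n_conj_self (r : Rt D) {t : F} (ht : t ≠ 0) (u : F) :
    S.n r t * S.x r u * (S.n r t)⁻¹ = S.x (neg r) (-(t⁻¹ ^ 2 * u)) := by
  rw [S.n_conj r r ht, rrefl_self, sg_self, pair_self]
  congr 1
  simp [zpow_ofNat]

theorem n_conj_neg (r : Rt D) {t : F} (ht : t ≠ 0) (u : F) :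
    S.n r t * S.x (neg r) u * (S.n r t)⁻¹ = S.x r (-(t ^ 2 * u)) := by
  rw [S.n_conj r _ ht, rrefl_neg_right, rrefl_self, neg_neg', sg_neg, sg_self, pair_neg_right,
    pair_self]
  congr 1
  simp [zpow_ofNat]

theorem n_neg (r : Rt D) {t : F} (ht : t ≠ 0) : S.n (neg r) (-t⁻¹) = S.n r t := by
  have h1 := S.n_conj_self r ht t
  have h2 := S.n_conj_neg r ht (-t⁻¹)
  rw [show -(t⁻¹ ^ 2 * t) = -t⁻¹ by field_simp] at h1
  rw [show -(t ^ 2 * -t⁻¹) = t by field_simp] at h2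
  calc _ = S.x (neg r) (-t⁻¹) * S.x r t * S.x (neg r) (-t⁻¹) := by simp [n]
    _ = (S.n r t * S.x r t * (S.n r t)⁻¹) * (S.n r t * S.x (neg r) (-t⁻¹) * (S.n r t)⁻¹) *
        (S.n r t * S.x r t * (S.n r t)⁻¹) := by rw [h1, h2]
    _ = S.n r t * (S.x r t * S.x (neg r) (-t⁻¹) * S.x r t) * (S.n r t)⁻¹ := by group
    _ = _ := by rw [← n]; simp

theorem n_conj_n (r : Rt D) {t u : F} (ht : t ≠ 0) (hu : u ≠ 0) :
    S.n r t * S.n r u * (S.n r t)⁻¹ = S.n r (t ^ 2 * u⁻¹) := by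
  rw [← S.n_neg r (mul_ne_zero (pow_ne_zero 2 ht) (inv_ne_zero hu))]
  have h1 := S.n_conj_self r ht u
  have h2 := S.n_conj_neg r ht (-u⁻¹)
  calc _ = (S.n r t * S.x r u * (S.n r t)⁻¹) * (S.n r t * S.x (neg r) (-u⁻¹) * (S.n r t)⁻¹) *
        (S.n r t * S.x r u * (S.n r t)⁻¹) := by rw [n.eq_1 S r u]; group
    _ = _ := by
      rw [h1, h2, n, neg_neg']
      rw [show -(t⁻¹ ^ 2 * u) = -(t ^ 2 * u⁻¹)⁻¹ by field_simp,
        show -(t ^ 2 * -u⁻¹) = -(-(t ^ 2 * u⁻¹)⁻¹)⁻¹ by field_simp]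

/-- the relation `h_r(t) h_r(u) = h_r(tu)` -/
def HMul : Prop := ∀ r t u, t ≠ 0 → u ≠ 0 → S.h r t * S.h r u = S.h r (t * u)

omit [Conn D] in
theorem hmul_of_injective (hπ : Function.Injective S.π) : S.HMul := fun r t u ht hu =>
  hπ (by rw [map_mul, π_h, π_h, π_h, hMat_mul r ht hu])

variable {S}

omit [Good D] [Conn D] in
theorem HMul.inv (hS : S.HMul) (r : Rt D) {t : F} (ht : t ≠ 0) : (S.h r t)⁻¹ = S.h r t⁻¹ :=
  inv_eq_of_mul_eq_one_right (by rw [hS r t _ ht (inv_ne_zero ht), mul_inv_cancel₀ ht, h_one])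

omit [Good D] [Conn D] in
theorem HMul.n_mul_n (hS : S.HMul) (r : Rt D) {t u : F} (ht : t ≠ 0) (hu : u ≠ 0) :
    S.n r t * S.n r u = S.h r (-(t * u⁻¹)) := by
  rw [S.n_mul_n, hS.inv r (neg_ne_zero.2 hu), hS r _ _ ht (inv_ne_zero (neg_ne_zero.2 hu))]
  congr 1; ring

omit [Good D] [Conn D] in
theorem HMul.h_mul_n (hS : S.HMul) (r : Rt D) {t u : F} (ht : t ≠ 0) (hu : u ≠ 0) :
    S.h r t * S.n r u = S.n r (t * u) := by
  rw [S.n_eq_h_mul r u, S.n_eq_h_mul r (t * u), ← mul_assoc, hS r t u ht hu]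

omit [Good D] [Conn D] in
theorem HMul.n_mul_h (hS : S.HMul) (r : Rt D) {t u : F} (ht : t ≠ 0) (hu : u ≠ 0) :
    S.n r t * S.h r u = S.n r (t * u⁻¹) := by
  rw [h, ← mul_assoc, hS.n_mul_n r ht hu,
    hS.h_mul_n r (neg_ne_zero.2 (mul_ne_zero ht (inv_ne_zero hu))) (neg_ne_zero.2 one_ne_zero)]
  congr 1; ring

theorem h_mul_x (r : Rt D) {t : F} (ht : t ≠ 0) (u : F) :
    S.h r t * S.x r u = S.x r (t ^ 2 * u) * S.h r t := by
  have := S.h_conj r r ht u
  rw [pair_self, zpow_ofNat] at this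
  rw [← this]; simp

open Matrix in
theorem exists_sl2 (hS : S.HMul) (r : Rt D) : ∃ f : SpecialLinearGroup (Fin 2) F →* G,
    (∀ (g : SpecialLinearGroup (Fin 2) F) (t : F), (g : Matrix (Fin 2) (Fin 2) F) = !![1, t; 0, 1] →
      f g = S.x r t) ∧
    (∀ (g : SpecialLinearGroup (Fin 2) F) (t : F), (g : Matrix (Fin 2) (Fin 2) F) = !![1, 0; t, 1] →
      f g = S.x (neg r) t) ∧ f.range = S.U {r, neg r} := by
  classical
  let f : SpecialLinearGroup (Fin 2) F → G := fun g =>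
    if g 1 0 = 0 then S.x r (g 0 0 * g 0 1) * S.h r (g 0 0)
    else S.x r (g 0 0 / g 1 0) * S.n r (-(g 1 0)⁻¹) * S.x r (g 1 1 / g 1 0)
  obtain ⟨X, cX⟩ : ∃ X : F → SpecialLinearGroup (Fin 2) F,
      ∀ t, (X t : Matrix (Fin 2) (Fin 2) F) = !![1, t; 0, 1] :=
    ⟨fun t => ⟨!![1, t; 0, 1], by simp⟩, fun _ => rfl⟩
  obtain ⟨Y, cY⟩ : ∃ X : F → SpecialLinearGroup (Fin 2) F,
      ∀ t, (X t : Matrix (Fin 2) (Fin 2) F) = !![1, 0; t, 1] :=
    ⟨fun t => ⟨!![1, 0; t, 1], by simp⟩, fun _ => rfl⟩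
  obtain ⟨w, cw⟩ : ∃ w : SpecialLinearGroup (Fin 2) F,
      (w : Matrix (Fin 2) (Fin 2) F) = !![0, 1; -1, 0] := ⟨⟨!![0, 1; -1, 0], by simp⟩, rfl⟩
  have hdet : ∀ g : SpecialLinearGroup (Fin 2) F, g 0 0 * g 1 1 - g 0 1 * g 1 0 = 1 := fun g => by
    rw [← Matrix.det_fin_two]; exact g.2
  have h1 : ∀ t g, f (X t * g) = S.x r t * f g := by
    intro t g
    have := hdet g
    have e00 : (X t * g) 0 0 = g 0 0 + t * g 1 0 := by simp [cX, Matrix.mul_apply, Fin.sum_univ_two]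
    have e01 : (X t * g) 0 1 = g 0 1 + t * g 1 1 := by simp [cX, Matrix.mul_apply, Fin.sum_univ_two]
    have e10 : (X t * g) 1 0 = g 1 0 := by simp [cX, Matrix.mul_apply, Fin.sum_univ_two]
    have e11 : (X t * g) 1 1 = g 1 1 := by simp [cX, Matrix.mul_apply, Fin.sum_univ_two]
    simp only [f, e00, e01, e10, e11]
    by_cases hc : g 1 0 = 0
    · rw [hc] at this
      rw [if_pos hc, if_pos hc, ← mul_assoc, S.add, hc, mul_zero, add_zero,
        show g 0 0 * (g 0 1 + t * g 1 1) = t + g 0 0 * g 0 1 by linear_combination t * this]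
    · rw [if_neg hc, if_neg hc, ← mul_assoc, ← mul_assoc, S.add,
        show (g 0 0 + t * g 1 0) / g 1 0 = t + g 0 0 / g 1 0 by field_simp; ring]
  have h2 : ∀ g, f (w * g) = S.n r 1 * f g := by
    intro g
    have := hdet g
    have e00 : (w * g) 0 0 = g 1 0 := by simp [cw, Matrix.mul_apply, Fin.sum_univ_two]
    have e01 : (w * g) 0 1 = g 1 1 := by simp [cw, Matrix.mul_apply, Fin.sum_univ_two]
    have e10 : (w * g) 1 0 = - g 0 0 := by simp [cw, Matrix.mul_apply, Fin.sum_univ_two]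
    have e11 : (w * g) 1 1 = - g 0 1 := by simp [cw, Matrix.mul_apply, Fin.sum_univ_two]
    simp only [f, e00, e01, e10, e11, neg_eq_zero]
    by_cases hc : g 1 0 = 0
    · have ha : g 0 0 ≠ 0 := by intro h; simp [h, hc] at this
      have e := h_mul_x (S := S) r ha (g 0 1 / g 0 0)
      rw [show g 0 0 ^ 2 * (g 0 1 / g 0 0) = g 0 0 * g 0 1 by field_simp] at e
      rw [if_neg ha, if_pos hc, ← e, ← mul_assoc, hS.n_mul_h r one_ne_zero ha]
      simp [hc]
    · rw [if_neg hc]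
      have e1 := hS.n_mul_n r one_ne_zero (neg_ne_zero.2 (inv_ne_zero hc))
      rw [show -(1 * (-(g 1 0)⁻¹)⁻¹) = g 1 0 by field_simp] at e1
      by_cases ha : g 0 0 = 0
      · have e := h_mul_x (S := S) r hc (g 1 1 / g 1 0)
        rw [show g 1 0 ^ 2 * (g 1 1 / g 1 0) = g 1 0 * g 1 1 by field_simp] at e
        rw [if_pos ha, ← e, ← e1]
        simp [ha, mul_assoc]
      · rw [if_neg ha]
        have e2 := S.n_conj_self r one_ne_zero (g 0 0 / g 1 0)
        rw [x_neg_eq, show (-(1⁻¹ ^ 2 * (g 0 0 / g 1 0)))⁻¹ = g 1 0 / -g 0 0 by field_simp] at e2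
        have e3 := h_mul_x (S := S) r hc (-(g 0 0 * g 1 0)⁻¹)
        rw [show g 1 0 ^ 2 * -(g 0 0 * g 1 0)⁻¹ = g 1 0 / -g 0 0 by field_simp] at e3
        have e4 := hS.n_mul_h r (t := -(g 1 0 / -g 0 0))
          (neg_ne_zero.2 (div_ne_zero hc (neg_ne_zero.2 ha))) hc
        rw [show -(g 1 0 / -g 0 0) * (g 1 0)⁻¹ = -(-g 0 0)⁻¹ by field_simp] at e4
        have e5 : -g 0 1 / -g 0 0 = -(g 0 0 * g 1 0)⁻¹ + g 1 1 / g 1 0 := by
          field_simp; linear_combination -this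
        calc _ = S.x r (g 1 0 / -g 0 0) * S.n r (-(g 1 0 / -g 0 0)) *
              (S.h r (g 1 0) * S.x r (-(g 0 0 * g 1 0)⁻¹)) * S.x r (g 1 1 / g 1 0) := by
              rw [e5, ← S.add, ← e4]; group
          _ = (S.n r 1 * S.x r (g 0 0 / g 1 0) * (S.n r 1)⁻¹) * (S.n r 1 * S.n r (-(g 1 0)⁻¹)) *
              S.x r (g 1 1 / g 1 0) := by rw [e3, e2, e1]; group
          _ = _ := by group
  have h0 : f 1 = 1 := by simp [f]
  let K : Submonoid (SpecialLinearGroup (Fin 2) F) :=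
    { carrier := {a | ∀ g, f (a * g) = f a * f g}
      one_mem' := fun g => by simp [h0]
      mul_mem' := fun {a b} ha hb g => by rw [mul_assoc, ha, hb, ha, mul_assoc] }
  have hX : ∀ t, X t ∈ K := fun t g => by
    have := h1 t 1
    rw [mul_one, h0, mul_one] at this
    rw [h1, this]
  have hw : w ∈ K := fun g => by
    have := h2 1
    rw [mul_one, h0, mul_one] at this
    rw [h2, this]
  have hK0 : ∀ g : SpecialLinearGroup (Fin 2) F, g 1 0 ≠ 0 → g ∈ K := by
    intro g hc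
    have := hdet g
    have e : g = X ((g 0 0 - 1) / g 1 0) * (w * X (-g 1 0) * (w * w * w)) *
        X ((g 1 1 - 1) / g 1 0) := by
      ext i j
      fin_cases i <;> fin_cases j <;> simp [cX, cw, Matrix.mul_apply, Fin.sum_univ_two] <;>
        field_simp
      · ring
      · linear_combination -this
      · ring
    rw [e]
    exact mul_mem (mul_mem (hX _) (mul_mem (mul_mem hw (hX _)) (mul_mem (mul_mem hw hw) hw))) (hX _)
  have hK : ∀ g, g ∈ K := by
    intro g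
    by_cases hc : g 1 0 = 0
    · have e : g = w * w * w * (w * g) := by
        ext i j
        fin_cases i <;> fin_cases j <;>
          simp [cw, Matrix.mul_apply, Fin.sum_univ_two, vecMul, dotProduct]
      rw [e]
      refine mul_mem (mul_mem (mul_mem hw hw) hw) (hK0 _ ?_)
      have := hdet g
      intro h
      simp [cw, Matrix.mul_apply, Fin.sum_univ_two] at h
      simp [h, hc] at this
    · exact hK0 g hc
  refine ⟨⟨⟨f, h0⟩, fun a b => hK a b⟩, fun g t e => ?_, fun g t e => ?_, ?_⟩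
  · simp [f, e]
  · by_cases ht : t = 0
    · simp [f, e, ht]
    · simp [f, e, ht, S.x_neg_eq r t]
  · have m1 : ∀ t, S.x r t ∈ S.U {r, neg r} := S.x_mem_U (by simp)
    have m2 : ∀ t, S.x (neg r) t ∈ S.U {r, neg r} := S.x_mem_U (by simp)
    apply le_antisymm
    · rintro _ ⟨g, rfl⟩
      change f g ∈ _
      simp only [f]
      split_ifs
      · exact mul_mem (m1 _) (S.h_mem m1 m2 _)
      · exact mul_mem (mul_mem (m1 _) (S.n_mem m1 m2 _)) (m1 _)
    · rw [U_le_iff]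
      rintro s (rfl | rfl) t
      · exact ⟨X t, by simp [f, cX]⟩
      · refine ⟨Y t, ?_⟩
        by_cases ht : t = 0
        · simp [f, ht, cY]
        · simp [f, ht, S.x_neg_eq r t, cY]

end StSys

theorem card_group [Conn D] [Finite F] : Nat.card (D.group F) =
    Nat.card F ^ (D.nroots / 2) * Nat.card (D.diagonalSubgroup F) *
      (fold1 D).PW Set.univ (Nat.card F) := by
  rw [group_eq, StSys.card_G, StSys.card_B, diagonalSubgroup_eq]

theorem card_diag [Conn D] :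
    Nat.card {x : Ix D → Additive Fˣ // mv (cartanM D) x = 0} * Nat.card (D.diagonalSubgroup F) =
      (Nat.card F - 1) ^ D.rank := by
  rw [diagonalSubgroup_eq]
  exact (glSys D F).card_ker_mul_card_H Units.val_injective

end Chev
end H5
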