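import Cfsg.Agent.H5.GT2
import Cfsg.Agent.H5.SB7

/-! Twisted groups: the (B,N)-pair of a group between the twisted group and the fixed points; Steinberg characters. -/

set_option autoImplicit false

namespace H5

namespace SB

open Cfsg H5.BN MulAction H3 H3.Par

variable {G : Type*} [Group G] {P : BNPair G} {p : ℕ} {U : Subgroup G}

theorem Spl.dzq [Finite G] [hp : Fact p.Prime] (h : Spl P p U) {n : P.N}
    (hn : ∀ x ∈ P.B, (n : G)⁻¹ * x * n ∈ P.B → x ∈ P.N) : DZ p (G ⧸ Subgroup.center G) := by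
  classical
  haveI := Fintype.ofFinite P.S
  have c : ∀ z ∈ Subgroup.center G, ∀ x, x⁻¹ * z * x = z := fun z m x => by
    rw [mul_assoc, ← Subgroup.mem_center_iff.1 m, inv_mul_cancel_left]
  have hB : ∀ z ∈ Subgroup.center G, z ∈ P.B := fun z m => (normalizer_eq le_rfl).le
    (Subgroup.mem_normalizer_fintype fun b hb => by rwa [← Subgroup.mem_center_iff.1 m, mul_inv_cancel_right])
  obtain ⟨ψ, a, b⟩ := H3.Cfsg.IsIrrCharacter.exists_quotient (St_irr (e := id) Function.surjective_id hn) (Subgroup.center G)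
    fun z m => Finset.sum_congr rfl fun J _ => by
      have : fixedBy (G ⧸ Par (id '' (J : Set P.S))) z = fixedBy _ (1 : G) := Set.ext (by
        rintro ⟨x⟩
        exact fix_mk.trans (iff_of_true (by rw [c z m]; exact B_le _ (hB z m)) (one_smul _ _)))
      simp only [fixedPointCharacter, this]
  obtain ⟨Q, e⟩ := h.sylow
  refine ⟨ψ, a, (b 1).symm.trans ?_⟩
  have n : ¬p ∣ Nat.card (Subgroup.center G) := fun d => h.cop (d.trans (Subgroup.card_dvd_of_le fun z m =>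
    ⟨hB z m, hn z (hB z m) (by rw [c z m]; exact hB z m)⟩))
  rw [St_one Function.surjective_id hn, h.relIndex, ← e, Q.card_eq_multiplicity,
    Subgroup.card_eq_card_quotient_mul_card_subgroup (Subgroup.center G),
    Nat.factorization_mul Nat.card_pos.ne' Nat.card_pos.ne', Finsupp.add_apply, Nat.factorization_eq_zero_of_not_dvd n, add_zero]

end SB

namespace Gen

open Cfsg Equiv

variable {D : RS} {F : Type*} [Field F] [Rep D F] {G : Type*} [Group G]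

namespace Tw

variable {S : StSys D F G} [Conn D] {K : Type*} [Group K]

/-- a group between the twisted group and the fixed points -/
structure In (T : Tw S) (ι : K →* G) : Prop where
  ne : T.Ne
  top : S.U Set.univ = ⊤
  inj : Function.Injective ι
  le : T.G0 ≤ ι.range
  fix : ι.range ≤ T.Fix

variable {T : Tw S} {ι : K →* G}

theorem In.bruhat (h : In T ι) (g : K) : ∃ u ∈ S.U {r | Pos r} ⊓ ι.range, ∃ n : S.N, (n : G) ∈ ι.range ∧
    ∃ v ∈ S.U (Inv (S.φ n)) ⊓ ι.range, ι g = u * n * v := by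
  obtain ⟨u, hu, n, hn, v, hv, e⟩ := T.bruhat_fix (h.top.ge trivial) (h.fix ⟨g, rfl⟩)
  have h1 := h.le (h.ne.U_le hu)
  have h2 := h.le (h.ne.inv_le _ (T.φ_mem_W1 hn) hv)
  have hg : u * n * v ∈ ι.range := ⟨g, e⟩
  exact ⟨u, ⟨hu.1, h1⟩, n, by rwa [mul_mem_cancel_right h2, mul_mem_cancel_left h1] at hg, v, ⟨hv.1, h2⟩, e⟩

theorem In.cell (h : In T ι) {g n : K}
    {m : S.N} (hm : ι n = m) {b b' : G} {m' : S.N} (hb : b ∈ S.B) (hb' : b' ∈ S.B)
    (e : ι g = b * m' * b') (e' : S.φ m' = S.φ m) :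
    g ∈ DoubleCoset.doubleCoset n (S.B.comap ι : Set K) (S.B.comap ι) := by
  obtain ⟨u, hu, n', hn', v, hv, e1⟩ := h.bruhat g
  have h1 := S.cell_unique hb hb' (S.U_le_B hu.1) (S.U_inv_le_B _ hv.1) (e.symm.trans e1)
  have h2 := S.φ_eq_φ_iff.1 (e'.symm.trans h1)
  obtain ⟨u, rfl⟩ := hu.2
  obtain ⟨v, rfl⟩ := hv.2
  obtain ⟨n'', e2⟩ := hn'
  rw [← hm, ← e2, ← map_inv, ← map_mul] at h2
  refine DoubleCoset.mem_doubleCoset.2 ⟨u, S.U_le_B hu.1, n⁻¹ * n'' * v,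
    (S.B.comap ι).mul_mem (S.H_le_B h2) (S.U_inv_le_B _ hv.1), h.inj ?_⟩
  rw [e1, ← e2]; simp [mul_assoc]

/-- the (B,N)-pair of the twisted group -/
def In.bn (h : In T ι) : BNPair K where
  B := S.B.comap ι
  N := S.N.comap ι
  S := {s | ∃ i, ι s = T.nJ (T.sym.orb i)}
  sup_eq_top := by
    rw [eq_top_iff]
    intro g _
    obtain ⟨u, hu, n, hn, v, hv, e⟩ := h.bruhat g
    obtain ⟨u, rfl⟩ := hu.2
    obtain ⟨v, rfl⟩ := hv.2
    obtain ⟨n', e2⟩ := hn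
    rw [← e2, ← map_mul, ← map_mul] at e
    rw [h.inj e]
    exact mul_mem (mul_mem (Subgroup.mem_sup_left (S.U_le_B hu.1))
      (Subgroup.mem_sup_right (show ι n' ∈ S.N from e2 ▸ n.2)))
      (Subgroup.mem_sup_left (S.U_inv_le_B _ hv.1))
  conj_mem n hn t ht := by
    rw [Subgroup.mem_comap, map_mul, map_mul, map_inv]
    exact S.H_le_B (S.N_conj_H hn _ (S.B_inf_N ▸ ht))
  subset := by rintro s ⟨i, e⟩; change ι s ∈ S.N; rw [e]; exact Subtype.mem _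
  sq_mem := by
    rintro s ⟨i, e⟩
    rw [Subgroup.mem_comap, map_mul, e, ← Subgroup.coe_mul]
    exact S.H_le_B (S.φ_eq_one_iff.1 (by rw [map_mul, (h.ne.nJ_spec i).2, wJ_mul_wJ]))
  inj := by
    rintro s ⟨i, e⟩ s' ⟨k, e'⟩ h1
    rw [Subgroup.mem_comap, map_mul, map_inv, e, e'] at h1
    have := S.φ_eq_φ_iff.2 (S.mem_H_of h1 (S.N.mul_mem (inv_mem (Subtype.mem _)) (Subtype.mem _)))
    rw [(h.ne.nJ_spec i).2, (h.ne.nJ_spec k).2] at this
    apply h.inj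
    rw [e, e', orb_eq_of_wJ this]
  closure_sup := by
    refine le_antisymm (sup_le ((Subgroup.closure_le _).2 ?_) inf_le_right) ?_
    · rintro s ⟨i, e⟩; change ι s ∈ S.N; rw [e]; exact Subtype.mem _
    have : ∀ w ∈ T.sym.W1, ∀ (k : K) (hk : ι k ∈ S.N), S.φ ⟨ι k, hk⟩ = w →
        k ∈ Subgroup.closure {s | ∃ i, ι s = T.nJ (T.sym.orb i)} ⊔ S.B.comap ι ⊓ S.N.comap ι := by
      refine RSym.W1_induction (fun k hk e => ?_) fun w _ i _ ih k hk e => ?_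
      · exact Subgroup.mem_sup_right ⟨S.H_le_B (S.φ_eq_one_iff.1 e), hk⟩
      · obtain ⟨s, hs⟩ := h.le (h.ne.nJ_spec i).1
        have h1 : s ∈ Subgroup.closure {s | ∃ i, ι s = T.nJ (T.sym.orb i)} ⊔
          S.B.comap ι ⊓ S.N.comap ι := Subgroup.mem_sup_left (Subgroup.subset_closure ⟨i, hs⟩)
        rw [← mul_mem_cancel_right h1]
        have h2 : ι (k * s) = ((⟨ι k, hk⟩ : S.N) * T.nJ (T.sym.orb i) : S.N) := by simp [hs]
        refine ih _ (h2 ▸ Subtype.mem _) ?_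
        rw [show (⟨ι (k * s), _⟩ : S.N) = _ from Subtype.ext h2, map_mul, e, (h.ne.nJ_spec i).2,
          mul_assoc, wJ_mul_wJ, mul_one]
    exact fun k hk => this _ (T.φ_mem_W1 (n := ⟨_, hk⟩) (h.fix ⟨k, rfl⟩)) k hk rfl
  mul_mem_union := by
    rintro s ⟨i, e⟩ n hn b hb
    have h1 : ι (s * b) ∈ S.PJ (T.sym.orb i) := by
      rw [map_mul, e]
      exact mul_mem (S.UJ_sup_LJ _ ▸ Subgroup.mem_sup_right
        (S.mem_LJ_of_φ ((h.ne.nJ_spec i).2 ▸ wJ_mem _))) (S.B_le_PJ _ hb)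
    obtain ⟨b₁, h2, m, b₂, h3, e1, h4⟩ := S.cell_PJ h1 ⟨_, hn⟩
    rw [← map_mul] at e1
    obtain ⟨u, hu, n', hn', v, hv, e2⟩ := h.bruhat (s * b * n)
    have h5 := S.cell_unique h2 h3 (S.U_le_B hu.1) (S.U_inv_le_B _ hv.1) (e1.symm.trans e2)
    have h6 : S.φ m * (S.φ ⟨_, hn⟩)⁻¹ ∈ T.sym.W1 := mul_mem (h5 ▸ T.φ_mem_W1 (h.fix hn'))
      (inv_mem (T.φ_mem_W1 (n := ⟨_, hn⟩) (h.fix ⟨n, rfl⟩)))
    rcases RSym.eq_one_or h6 h4 with h7 | h7
    · exact Or.inr (h.cell (m := ⟨_, hn⟩) rfl h2 h3 e1 (mul_inv_eq_one.1 h7))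
    · refine Or.inl (h.cell (m := T.nJ (T.sym.orb i) * ⟨_, hn⟩) (by simp [e]) h2 h3 e1 ?_)
      rw [map_mul, (h.ne.nJ_spec i).2, ← h7, inv_mul_cancel_right]
  conj_ne := by
    rintro s ⟨i, e⟩ h1
    obtain ⟨u, hu, h2⟩ := h.ne.UO_ne i
    obtain ⟨u, rfl⟩ := h.le (T.UO_le i hu)
    have h3 : s * u * s ∈ (S.B.comap ι : Set K) :=
      h1 ▸ ⟨u, S.U_le_B (S.U_mono (fun _ h => h.1) hu.1), rfl⟩
    have h4 := conj_UO (T.G0_le_Fix (h.ne.nJ_spec i).1) (h.ne.nJ_spec i).2 hu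
    have h5 : ((T.nJ (T.sym.orb i) * T.nJ (T.sym.orb i) : S.N) : G) ∈ S.H :=
      S.φ_eq_one_iff.1 (by rw [map_mul, (h.ne.nJ_spec i).2, wJ_mul_wJ])
    have h6 := S.B.mul_mem h3 (inv_mem (S.H_le_B h5))
    simp only [map_mul, e, Subgroup.coe_mul, mul_inv_rev, ← mul_assoc, mul_inv_cancel_right] at h6
    exact h2 (by simpa using eq_one_of_inf S.V_inf_B (S.U_mono (fun _ h => h.1) h4.1) h6)

theorem In.dzq [Finite F] [Finite K] (h : In T ι) (p : ℕ) [hp : Fact p.Prime] [CharP F p] :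
    SB.DZ p (K ⧸ Subgroup.center K) := by
  obtain ⟨n, hn, e⟩ := h.ne.exists_n _ RSym.w0_mem
  obtain ⟨m, em⟩ := h.le hn
  have s := SBx.spl S h.top p S.hmul_of_finite
  refine SB.Spl.dzq (P := h.bn) (U := (S.U {r | Pos r}).comap ι)
    ⟨fun _ a => S.U_le_B a, s.pg.comap_of_injective ι h.inj, fun b hb u hu => ?_, fun b hb => ?_, fun d => s.cop (d.trans ?_)⟩
    (n := ⟨m, show ι m ∈ S.N from em ▸ n.2⟩) fun x a b => (S.B_inf_N.ge (S.eq_H_of_conj e a ?_)).2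
  · simpa [Subgroup.mem_comap] using S.B_conj_U hb _ hu
  · obtain ⟨u, hu, a, ha, e⟩ := T.B_fix hb (h.fix ⟨b, rfl⟩)
    obtain ⟨u, rfl⟩ := h.le (h.ne.U_le hu)
    have : ι (u⁻¹ * b) = a := by rw [map_mul, map_inv, e, inv_mul_cancel_left]
    exact ⟨u, hu.1, u⁻¹ * b, by
      have := S.B_inf_N.ge (this ▸ ha.1)
      exact this, mul_inv_cancel_left _ _⟩
  · exact Subgroup.card_comap_dvd_of_injective (S.B ⊓ S.N) ι h.inj
  · simpa [← em, In.bn] using b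

end Tw
end Gen
end H5
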