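import Cfsg.Agent.H5.TB1
import Cfsg.Agent.H5.GT4

/-! Twists given by graph-field automorphisms of order two. -/

set_option autoImplicit false

namespace H5
namespace Gen

open Cfsg Equiv

variable {D : RS} {F : Type*} [Field F] [Rep D F] {G : Type*} [Group G] [Conn D] [Finite F]

namespace StSys

variable {S : StSys D F G} {σ : MulAut G} {π : Perm (Ix D)} {φ : F ≃+* F} (h : S.Nf σ π 1 fun _ => φ)
include h

theorem Nf.exists_tw : ∃ T : Tw S, T.σ = σ.toMonoidHom ∧ T.τ = π ∧ ∀ r, T.θ r = φ := by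
  classical
  obtain ⟨ρ, inj, hs, hr, -⟩ := h.exists_ρ
  have hn : ∀ r, ρ (neg r) = neg (ρ r) := fun r => by
    induction r using root_induction with
    | h0 i => rw [← refl_simple, hr, hs, refl_simple]
    | hs i r ih => rw [← refl_neg, hr, hr, ih, refl_neg]
  have hp : ∀ r, Pos r → Pos (ρ r) := fun r => by
    induction r using WellFoundedLT.induction with
    | ind r ih =>
      intro m
      obtain ⟨i, hi, -⟩ := exists_wt_pos m
      by_cases e : r = simple i
      · rw [e, hs]; exact pos_simple _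
      have hlt : refl i r < r := by
        rw [← ord_lt_iff, vec_refl, map_sub, map_smul, smul_eq_mul]
        have := mul_pos hi (pos_iff_ord.1 (pos_simple i))
        omega
      rw [← refl_refl i r, hr]
      refine pos_refl (ih _ hlt (pos_refl m e)) fun e' => ?_
      rw [← hs, inj.eq_iff] at e'
      rw [← refl_refl i r, e', refl_simple] at m
      exact pos_neg_iff.1 m (pos_simple i)
  have h1 : ∀ i r s (c : F), (∀ t, σ (S.x r t) = S.x s (c * φ t)) →
      ∀ t, σ (S.x (refl i r) t) = S.x (refl (π i) s) (eta (π i) s * c * eta i r * φ t) := fun i r s c ih t => by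
    have h8 := congrArg σ (S.n_conj (simple i) r one_ne_zero (eta i r * t))
    rw [map_mul, map_mul, map_inv, h.map_n, ih, S.n_conj _ _ (by simp)] at h8
    simp only [rrefl_simple, sg_simple, _root_.one_zpow, mul_one, ← mul_assoc, eta_cast_mul_self,
      one_mul, Pi.one_apply, Units.val_one, map_one, map_mul] at h8
    rw [← h8]
    rcases mul_self_eq_one_iff.1 (eta_cast_mul_self (F := F) i r) with e | e <;> simp [e]
  have h2 : ∀ r, ∃ c : F, c * c = 1 ∧ (∀ t, σ (S.x r t) = S.x (ρ r) (c * φ t)) ∧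
      ∀ t, σ (S.x (neg r) t) = S.x (neg (ρ r)) (c * φ t) := fun r => by
    induction r using root_induction with
    | h0 i => exact ⟨1, one_mul _, fun t => by simpa [hs] using (h i t).1, fun t => by simpa [hs] using (h i t).2⟩
    | hs i r ih =>
      obtain ⟨c, a, b, d⟩ := ih
      refine ⟨_, ?_, hr i r ▸ h1 i _ _ c b, ?_⟩
      · linear_combination eta (π i) (ρ r) ^ 2 * eta i r ^ 2 * a + eta i r ^ 2 * eta_cast_mul_self (F := F) (π i) (ρ r) +
          eta_cast_mul_self (F := F) i r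
      · simpa [hr, eta] using h1 i _ _ c d
  choose γ a b d using h2
  refine ⟨⟨⟨permOf ρ inj, π, γ, fun _ => φ, a, fun r => ?_, fun _ => rfl, hn, fun r => ⟨fun m => by_contra fun m' =>
    pos_neg_iff.1 (hn r ▸ hp _ (pos_neg_iff.2 m')) m, hp r⟩, hs, fun i => ?_⟩, σ.toMonoidHom, b⟩, rfl, rfl, fun _ => rfl⟩
  · have := S.x_injective _ ((hn r ▸ b (neg r) 1).symm.trans (d r 1))
    simpa using this
  · have := S.x_injective _ ((hs i ▸ b (simple i) 1).symm.trans (h i 1).1)
    simpa using this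

theorem Nf.dzq (hS : S.U Set.univ = ⊤) (hπ : ∀ i, π (π i) = i) (hφ : ∀ t, φ (φ t) = t) {a : F} (ha : φ a ≠ a)
    (hc : ∀ i, π i = i ∨ wt (simple (π i)) i = 0 ∨ wt (simple (π i)) i = -1 ∧ wt (simple i) (π i) = -1)
    {K : Type*} [Group K] [Finite K] {ι : K →* G} (hι : Function.Injective ι) (p : ℕ) [Fact p.Prime] [CharP F p]
    (h1 : ∀ k, σ (ι k) = ι k) (h2 : ∀ g k, σ g = g → g ^ p ^ k = 1 → g ∈ ι.range) :
    SB.DZ p (K ⧸ Subgroup.center K) := by
  obtain ⟨T, e1, rfl, e3⟩ := h.exists_tw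
  have fx : ∀ g, g ∈ T.Fix ↔ σ g = g := fun g => by rw [T.mem_Fix, e1]; rfl
  refine Tw.In.dzq (T := T) ⟨fun i => ?_, hS, hι, T.G0_le_iff.2 fun i => ⟨fun g m => ?_, fun g m => ?_⟩,
    by rintro _ ⟨k, rfl⟩; exact (fx _).2 (h1 k)⟩ p
  · by_cases e : T.τ i = i
    · exact Tw.VO1_ne e
    obtain e' | ⟨e', e''⟩ := (hc i).resolve_left e
    · exact Tw.VO2_ne rfl (hπ i) (Ne.symm e) e' (by simpa only [e3] using hφ)
    have f : T.ρ (neg (refl i (simple (T.τ i)))) = neg (refl i (simple (T.τ i))) := by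
      rw [T.ρ_neg, show T.ρ (refl i _) = _ from T.sym.ρ_refl i _, show T.sym.ρ _ = _ from T.ρ_simple _, hπ]
      refine congrArg _ (vec_injective ?_)
      rw [show T.sym.τ i = T.τ i from rfl, vec_refl, vec_refl, e', e'']
      module
    have m : neg (refl i (simple (T.τ i))) ∈ PhiM (T.sym.orb i) := by
      rw [PhiM_eq]
      exact ⟨_, ⟨pos_refl (pos_simple _) (simple_injective.ne e), refl_mem_PhiJ (T.sym.mem_orb i)
        (simple_mem_PhiJ.2 (T.sym.τ_mem_orb.2 (T.sym.mem_orb i)))⟩, rfl⟩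
    obtain ⟨t, t0, ht⟩ : ∃ t, t ≠ 0 ∧ T.f (neg (refl i (simple (T.τ i)))) t = t := by
      rcases mul_self_eq_one_iff.1 (T.γ_sq (neg (refl i (simple (T.τ i))))) with c | c
      · exact ⟨1, one_ne_zero, by simp [Tw.f, c]⟩
      · exact ⟨a - φ a, sub_ne_zero.2 ha.symm, by simp [Tw.f, c, e3, hφ]⟩
    exact fun z => t0 (S.x_eq_one_iff.1 (Subgroup.mem_bot.1 (z.le ⟨S.x_mem_U m t, (T.x_mem_Fix f).2 ht⟩)))
  · obtain ⟨k, e⟩ := S.isPGroup_U p (nil_PhiP _) ⟨g, m.1⟩
    exact h2 g k ((fx g).1 m.2) (congrArg Subtype.val e)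
  · obtain ⟨k, e⟩ := S.isPGroup_U p (nil_PhiM _) ⟨g, m.1⟩
    exact h2 g k ((fx g).1 m.2) (congrArg Subtype.val e)

end StSys
end Gen
end H5
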