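import Cfsg.Agent.H5.TB2
import Cfsg.Agent.H4.AuC

/-! The Steinberg character of the unitary groups. -/

set_option autoImplicit false

namespace H5
namespace Gen

open Cfsg Equiv Matrix H4 H4.Au
open scoped MatrixGroups

variable {F : Type*} [Field F] {n : ℕ}

/-- the antidiagonal matrix -/
noncomputable def adg (d : Fin n → Fˣ) : GL (Fin n) F :=
  Units.mkOfMulEqOne (of fun a b => if b = a.rev then (d a : F) else 0)
    (of fun a b => if b = a.rev then (d b : F)⁻¹ else 0) (by
      ext a b
      simp only [mul_apply, of_apply, ite_mul, zero_mul, Finset.sum_ite_eq', Finset.mem_univ, if_true, Fin.rev_rev, one_apply,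
        eq_comm (a := a)]
      split_ifs with h <;> simp [h])

theorem adg_coe (d : Fin n → Fˣ) : (adg d).1 = of fun a b => if b = a.rev then (d a : F) else 0 := rfl

/-- the twisting endomorphism -/
def twSL (M : GL (Fin n) F) (φ : F ≃+* F) : SL(n, F) →* SL(n, F) :=
  (slConj M).comp ((SpecialLinearGroup.map φ.toRingHom).comp (itSL _ F).toMonoidHom)

theorem toGL_twSL (M : GL (Fin n) F) (φ : F ≃+* F) (g : SL(n, F)) :
    SpecialLinearGroup.toGL (twSL M φ g) = M * tw φ (SpecialLinearGroup.toGL g) * M⁻¹ := Units.ext rfl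

theorem twSL_inj (M : GL (Fin n) F) (φ : F ≃+* F) : Function.Injective (twSL M φ) := fun a b h => by
  have := congrArg SpecialLinearGroup.toGL h
  rw [toGL_twSL, toGL_twSL, mul_left_inj, mul_right_inj] at this
  exact SpecialLinearGroup.toGL_injective ((tw φ).injective this)

theorem twSL_x (d : Fin (n + 1) → Fˣ) (φ : F ≃+* F) {i j : Fin (n + 1)} (h : i ≠ j) (hd : (d j.rev : F) = -d i.rev) (t : F) :
    twSL (adg d) φ (slX (rtA h) t) = slX (rtA (Fin.rev_injective.ne h.symm)) (φ t) := by
  change slConj _ (SpecialLinearGroup.map _ (itSL _ F (slX _ t))) = _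
  rw [itSL_slX, neg_rtA, slX_rtA, slX_rtA]
  refine SpecialLinearGroup.toGL_injective ?_
  rw [toGL_slConj, mul_inv_eq_iff_eq_mul]
  ext a b
  simp [SpecialLinearGroup.transvection_coe, adg_coe, mul_apply, one_apply, single_apply, add_mul, mul_add,
    Finset.sum_add_distrib, ite_and, apply_ite φ, Fin.rev_eq_iff, eq_comm (a := b)]
  by_cases e : a = j.rev
  · subst e
    by_cases e : j = b
    · subst e; simp [hd, h]
    by_cases e' : i = b
    · subst e'; simp [hd, e, mul_comm]
    simp [e, e']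
  · simp only [Ne.symm e, show ¬ j = a.rev from fun h => e (by simp [h]), if_false, add_zero]
    split_ifs with e <;> simp [e]

theorem dz_psu [Fintype F] {q : ℕ} (hF : Fintype.card F = q ^ 2) (p : ℕ) [Fact p.Prime] [CharP F p] (n : ℕ) [NeZero n] :
    SB.DZ p (PSU (n + 1) F q) := by
  set φ := frobE hF
  have hφ : ∀ a, φ (φ a) = a := frobq_frobq hF
  obtain ⟨a, ha⟩ : ∃ a, φ a ≠ a := by_contra fun h => frobq_ne_id hF (RingHom.ext fun a => not_not.1 fun e => h ⟨a, e⟩)
  obtain ⟨c, hc⟩ : ∃ c : Fˣ, φ c = (-1) ^ n * c := by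
    rcases neg_one_pow_eq_or F n with e | e
    · exact ⟨1, by simp [e]⟩
    · exact ⟨.mk0 _ (sub_ne_zero.2 ha), by simp [e, hφ]⟩
  let M := adg fun i : Fin (n + 1) => c * (-1) ^ i.val
  obtain ⟨k, hk⟩ := herm_congr hF (M := M) (mul_eq_one_iff_eq_inv.2 (Units.ext (by
    rw [tw_inv_coe]
    ext i j
    simp only [M, adg_coe, of_apply, map_apply, transpose_apply, eq_comm (a := i), Fin.rev_eq_iff]
    change _ = φ _
    split_ifs with e
    swap
    · exact (map_zero _).symm
    have : n = i + j := by have := i.2; rw [e, Fin.val_rev]; omega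
    simp only [Units.val_mul, Units.val_pow_eq_pow_val, Units.val_neg, Units.val_one, map_mul, map_pow, map_neg, map_one, hc]
    rw [show (-1 : F) ^ n = (-1) ^ i.val * (-1) ^ j.val by rw [← pow_add, ← this]]
    rcases neg_one_pow_eq_or F j with e | e <;> simp [e, mul_comm])))
  have key : ∀ g, twSL M φ (slConj k g) = slConj k g ↔ g ∈ SU (n + 1) F q := fun g => by
    rw [← SpecialLinearGroup.toGL_injective.eq_iff, toGL_twSL, toGL_slConj, hk]
    exact Iff.trans (by simp [φ, mul_assoc]) (mem_GU hF (g := SpecialLinearGroup.toGL g)).symm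
  have e : ∀ g, slConj k (slConj k⁻¹ g) = g := fun g => SpecialLinearGroup.toGL_injective (by simp [toGL_slConj, mul_assoc])
  refine StSys.Nf.dzq (S := sysSL n F) (σ := .ofBijective _ (Finite.injective_iff_bijective.1 (twSL_inj M φ)))
    (π := Fin.revPerm) (φ := φ) (fun i t => ?_) sysSL_top Fin.rev_rev hφ ha (fun i => ?_)
    (ι := (slConj k).comp (SU _ F q).subtype) (fun a b h => Subtype.ext (SpecialLinearGroup.toGL_injective ?_)) p
    (fun g => (key g).2 g.2) fun g _ h _ => ⟨⟨_, (key (slConj k⁻¹ g)).1 (by rw [e]; exact h)⟩, e g⟩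
  · rw [simple_A, simple_A, neg_rtA, neg_rtA]
    refine ⟨(twSL_x _ φ _ ?_ t).trans ?_, (twSL_x _ φ _ ?_ t).trans ?_⟩
    · simp only [Fin.rev_succ, Fin.rev_castSucc, Fin.val_succ, Fin.val_castSucc]; simp [pow_succ]
    · change _ = slX _ _
      congr 2 <;> simp [Fin.rev_succ, Fin.rev_castSucc] <;> rfl
    · simp only [Fin.rev_succ, Fin.rev_castSucc, Fin.val_succ, Fin.val_castSucc]; simp [pow_succ]
    · change _ = slX _ _
      congr 2 <;> simp [Fin.rev_succ, Fin.rev_castSucc] <;> rfl
  · simp only [wtA]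
    generalize (Fin.revPerm i : Fin n) = j
    rw [Fin.ext_iff]
    split_ifs <;> omega
  · simpa [toGL_slConj] using congrArg SpecialLinearGroup.toGL h

end Gen
end H5
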