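import Cfsg.Agent.H5.TB3
import Cfsg.Agent.S0280
import Cfsg.Agent.S0278
import Cfsg.Prelude.Def_LieRecognition

/-! Sylow `2`-subgroups of `PSU₃(2ⁿ)`. -/

set_option autoImplicit false

namespace H5
namespace U3

open Cfsg Matrix H4 H4.Au Gen
open scoped MatrixGroups commutatorElement

variable {F : Type*} [Field F] {φ : F ≃+* F}

/-- pairs with `b + φ b = a φ a` -/
@[ext] structure UU (φ : F ≃+* F) [Fact (∀ a, φ (φ a) = a)] where
  a : F
  b : F
  h : b + φ b = a * φ a

variable [hφ : Fact (∀ a, φ (φ a) = a)]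

instance : Mul (UU φ) := ⟨fun x y => ⟨x.a + y.a, x.b + y.b + x.a * φ y.a, by
  simp only [map_add, map_mul, hφ.out]; linear_combination x.h + y.h⟩⟩
instance : One (UU φ) := ⟨⟨0, 0, by simp⟩⟩
instance : Inv (UU φ) := ⟨fun x => ⟨-x.a, φ x.b, by simp only [map_neg, hφ.out]; linear_combination x.h⟩⟩

@[simp] theorem mul_a (x y : UU φ) : (x * y).a = x.a + y.a := rfl
@[simp] theorem mul_b (x y : UU φ) : (x * y).b = x.b + y.b + x.a * φ y.a := rfl
@[simp] theorem one_a : (1 : UU φ).a = 0 := rfl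
@[simp] theorem one_b : (1 : UU φ).b = 0 := rfl
@[simp] theorem inv_a (x : UU φ) : (x⁻¹).a = -x.a := rfl
@[simp] theorem inv_b (x : UU φ) : (x⁻¹).b = φ x.b := rfl

instance : Group (UU φ) := .ofLeftAxioms (fun x y z => by ext <;> simp <;> ring) (fun x => by ext <;> simp)
  fun x => by ext <;> simp; linear_combination x.h

/-- the matrices -/
def mat : UU φ →* SL(3, F) where
  toFun x := ⟨!![1, x.a, x.b; 0, 1, φ x.a; 0, 0, 1], by simp [det_fin_three]⟩
  map_one' := Subtype.ext (by simp [one_fin_three])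
  map_mul' x y := Subtype.ext (by
    show _ = _ * _
    ext i j; fin_cases i <;> fin_cases j <;> simp [mul_apply, Fin.sum_univ_three] <;> ring)

theorem mat_coe (x : UU φ) : (mat x).1 = !![1, x.a, x.b; 0, 1, φ x.a; 0, 0, 1] := rfl

theorem mat_inj : Function.Injective (mat (φ := φ)) := fun _ _ h =>
  UU.ext (congrArg (fun g : SL(3, F) => g.1 0 1) h) (congrArg (fun g : SL(3, F) => g.1 0 2) h)

/-- diagonal automorphisms -/
def dg : Fˣ →* MulAut (UU φ) where
  toFun t :=
    { toFun x := ⟨t * x.a, t * φ t * x.b, by simp only [map_mul, hφ.out]; linear_combination t * φ t * x.h⟩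
      invFun x := ⟨t⁻¹ * x.a, t⁻¹ * φ ↑t⁻¹ * x.b, by simp only [map_mul, hφ.out]; linear_combination ↑t⁻¹ * φ ↑t⁻¹ * x.h⟩
      left_inv x := by ext <;> simp; field_simp
      right_inv x := by ext <;> simp; field_simp
      map_mul' x y := by ext <;> simp <;> ring }
  map_one' := by ext <;> simp
  map_mul' s t := by ext <;> simp <;> ring

variable [CharP F 2] {e : F} (he : e + φ e = 1)

theorem b_fix {x : UU φ} (h : x.a = 0) : φ x.b = x.b := by
  have := x.h
  rw [h, zero_mul, CharTwo.add_eq_zero] at this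
  exact this.symm

theorem sq_eq_one {x : UU φ} : x * x = 1 ↔ x.a = 0 := by
  simp [UU.ext_iff, CharTwo.add_self_eq_zero]

theorem mat_form (x : UU φ) :
    (mat x).1 * !![0, 0, 1; 0, 1, 0; 1, 0, 0] * (mat x).1ᵀ.map φ = !![0, 0, 1; 0, 1, 0; 1, 0, 0] := by
  have := x.h
  have := (CharTwo.two_eq_zero : (2 : F) = 0)
  rw [mat_coe]
  ext i j; fin_cases i <;> fin_cases j <;> simp [mul_apply, Fin.sum_univ_three, hφ.out] <;> grind

/-- a section -/
def sec (he : e + φ e = 1) (a : F) : UU φ := ⟨a, e * (a * φ a), by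
  simp only [map_mul, hφ.out]; linear_combination a * φ a * he⟩

include he

theorem mem_center {x : UU φ} : x ∈ Subgroup.center (UU φ) ↔ x.a = 0 := by
  refine ⟨fun h => by_contra fun n => ?_, fun h => Subgroup.mem_center_iff.2 fun y => by ext <;> simp [h, add_comm]⟩
  have := congrArg UU.b (Subgroup.mem_center_iff.1 h (sec he (e * x.a)))
  simp only [mul_b, sec, map_mul] at this
  have : x.a * φ x.a = 0 := by
    linear_combination this - x.a * φ x.a * he + x.a * φ x.a * φ e * (CharTwo.two_eq_zero : (2 : F) = 0)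
  exact n (by simpa using this)

theorem card_center : Nat.card (Subgroup.center (UU φ)) = Nat.card {t // φ t = t} :=
  Nat.card_eq_of_bijective (fun x => ⟨x.1.b, b_fix ((mem_center he).1 x.2)⟩) ⟨fun x y h => Subtype.ext (UU.ext
    (((mem_center he).1 x.2).trans ((mem_center he).1 y.2).symm) (congrArg (·.1) h)), fun t =>
      ⟨⟨⟨0, t.1, by simp [t.2, CharTwo.add_self_eq_zero]⟩, (mem_center he).2 rfl⟩, rfl⟩⟩

theorem card_quot : Nat.card (UU φ ⧸ Subgroup.center (UU φ)) = Nat.card F :=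
  (Nat.card_eq_of_bijective (fun a => (sec he a : _ ⧸ _)) ⟨fun a b h => by
    simpa [sec, neg_add_eq_zero] using (mem_center he).1 (QuotientGroup.eq.1 h), by
      rintro ⟨x⟩; exact ⟨x.a, QuotientGroup.eq.2 ((mem_center he).2 (by simp [sec]))⟩⟩).symm

theorem center_eq : Subgroup.center (UU φ) = commutator (UU φ) := by
  refine le_antisymm (fun x h => ?_) (Subgroup.commutator_le.2 fun x _ y _ => (mem_center he).2 (by
    simp [commutatorElement_def]))
  have h := (mem_center he).1 h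
  suffices x = ⁅sec he (e * x.b), sec he 1⁆ from this ▸ Subgroup.commutator_mem_commutator trivial trivial
  rw [commutatorElement_def, eq_mul_inv_iff_mul_eq, eq_mul_inv_iff_mul_eq]
  ext <;> simp [h, sec, b_fix h, add_comm]
  linear_combination -x.b * he + x.b * φ e * (CharTwo.two_eq_zero : (2 : F) = 0)

theorem suzuki [Finite F] {c : F} (hc : φ c = c) (h0 : c ≠ 0) (h1 : c ≠ 1) : IsSuzukiTwoGroup (UU φ) := by
  have z : ∀ t, φ t = t → t + φ t = 0 * φ 0 := fun t h => by simp [h, CharTwo.add_self_eq_zero]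
  refine ⟨.of_injective _ mat_inj, fun x => ⟨2, ?_⟩, by_contra fun h => ?_, ⟨⟨0, 1, z _ (map_one _)⟩, ⟨0, c, z _ hc⟩, ?_⟩,
    (dg.comp (Subgroup.subtype ((Units.map (φ : F →* F)).eqLocus (.id _)))).range, isCyclic_of_surjective _ (MonoidHom.rangeRestrict_surjective _),
    fun x y a b d f => ?_⟩
  · exact (pow_mul' x 2 2).trans ((sq _).trans (sq_eq_one.2 (by simp [sq, CharTwo.add_self_eq_zero])))
  · exact one_ne_zero ((mem_center he (x := sec he 1)).1 (Subgroup.mem_center_iff.2 fun g => not_not.1 fun n => h ⟨g, _, n⟩))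
  · simp [UU.ext_iff, h0, h1.symm, CharTwo.add_self_eq_zero]
  rw [sq_eq_one] at b f
  have xb : x.b ≠ 0 := fun h => a (UU.ext b h)
  have yb : y.b ≠ 0 := fun h => d (UU.ext f h)
  have sq2 : ∀ s t : F, s * s = t * t → s = t := fun s t h => (frobenius_inj F 2) (by simpa [frobenius_def, sq] using h)
  obtain ⟨t, ht⟩ := exists_sq_of_two_eq_zero (CharTwo.two_eq_zero : (2 : F) = 0) (y.b / x.b)
  have ft : φ t = t := sq2 _ _ (by rw [← map_mul, ← sq, ht, map_div₀, b_fix b, b_fix f])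
  have t0 : t ≠ 0 := fun h => div_ne_zero yb xb (by rw [← ht, h, zero_pow two_ne_zero])
  refine ⟨⟨_, ⟨.mk0 t t0, Units.ext ft⟩, rfl⟩, UU.ext (by simp [dg, b, f]) (by simp [dg, ft, ← sq, ht, xb]), ?_⟩
  rintro ⟨_, ⟨s, hs⟩, rfl⟩ h
  have fs : φ s = s := congrArg Units.val hs
  have : s * φ s * x.b = y.b := congrArg UU.b h
  obtain rfl : s = .mk0 t t0 := Units.ext (sq2 _ _ (by rw [Units.val_mk0, ← sq t, ht, ← this, fs, mul_div_cancel_right₀ _ xb]))
  rfl

omit hφ he in
theorem suzuki_equiv {G H : Type*} [Group G] [Group H] (e : G ≃* H) (h : IsSuzukiTwoGroup H) : IsSuzukiTwoGroup G := by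
  obtain ⟨_, a, ⟨x, y, b⟩, ⟨u, v, c⟩, K, d, f⟩ := h
  refine ⟨.of_equiv _ e.toEquiv.symm, a.of_equiv e.symm, ⟨e.symm x, e.symm y, by simpa [← map_mul] using b⟩,
    ⟨e.symm u, e.symm v, by simpa [← map_mul] using c⟩, K.map (MulAut.congr e.symm).toMonoidHom,
    isCyclic_of_surjective _ ((MulAut.congr e.symm).subgroupMap K).surjective, fun x y h1 h2 h3 h4 => ?_⟩
  obtain ⟨k, a, b⟩ := f (e x) (e y) (by simpa) (by simpa [← map_mul]) (by simpa) (by simpa [← map_mul])
  refine ⟨⟨_, k, k.2, rfl⟩, by simp [a], ?_⟩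
  rintro ⟨_, l, m, rfl⟩ h
  obtain rfl : ⟨l, m⟩ = k := b _ (by simpa [MulEquiv.symm_apply_eq] using h)
  rfl

omit hφ he in
theorem main [Fintype F] {n : ℕ} (hn : 1 ≤ n) (hF : Fintype.card F = (2 ^ n) ^ 2) (S : Sylow 2 (PSU 3 F (2 ^ n))) :
    ∃ (φ : F ≃+* F) (_ : Fact (∀ a, φ (φ a) = a)) (e : F), e + φ e = 1 ∧ Nat.card {t // φ t = t} = 2 ^ n ∧
      Nat.card (UU φ) = (2 ^ n) ^ 3 ∧ Nonempty (S ≃* UU φ) := by
  set φ := frobE hF
  haveI hφ : Fact (∀ a, φ (φ a) = a) := ⟨frobq_frobq hF⟩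
  obtain ⟨a, ha⟩ : ∃ a, φ a ≠ a := by_contra fun h => frobq_ne_id hF (RingHom.ext fun a => not_not.1 fun e => h ⟨a, e⟩)
  have ha' : a + φ a ≠ 0 := fun h => ha (CharTwo.add_eq_zero.1 h).symm
  have he : a / (a + φ a) + φ (a / (a + φ a)) = 1 := by
    rw [map_div₀, map_add, hφ.out, add_comm (φ a), ← add_div, div_self ha']
  have c1 : Nat.card {t // φ t = t} = 2 ^ n := card_fixed (by positivity) hF
  haveI : Finite (UU φ) := .of_injective _ mat_inj
  have c2 : Nat.card (UU φ) = (2 ^ n) ^ 3 := by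
    rw [Subgroup.card_eq_card_quotient_mul_card_subgroup (Subgroup.center _), card_quot he, card_center he, c1,
      Nat.card_eq_fintype_card, hF, ← pow_succ]
  refine ⟨φ, hφ, _, he, c1, c2, ?_⟩
  let M : GL (Fin 3) F := adg 1
  have hM : M.1 = !![0, 0, 1; 0, 1, 0; 1, 0, 0] := by
    ext i j; fin_cases i <;> fin_cases j <;> simp [M, adg_coe] <;> decide
  obtain ⟨k, hk⟩ := herm_congr hF (M := M) (mul_eq_one_iff_eq_inv.2 (Units.ext (by
    rw [tw_inv_coe, hM]
    ext i j; fin_cases i <;> fin_cases j <;> simp)))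
  have m : ∀ x : UU φ, slConj k⁻¹ (mat x) ∈ SU 3 F (2 ^ n) := fun x => (mem_GU hF (g := SpecialLinearGroup.toGL _)).2 (by
    have : SpecialLinearGroup.toGL (mat x) * M * (tw φ (SpecialLinearGroup.toGL (mat x)))⁻¹ = M := Units.ext (by
      rw [Units.val_mul, Units.val_mul, tw_inv_coe, hM]
      exact mat_form x)
    rw [hk, mul_inv_eq_iff_eq_mul] at this
    rw [toGL_slConj, map_mul, map_mul, inv_inv, map_inv, eq_comm, mul_assoc, inv_mul_eq_iff_eq_mul, ← mul_assoc,
      ← mul_assoc, ← this, mul_assoc, inv_mul_cancel_right])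
  let j := (QuotientGroup.mk' (Subgroup.center _)).comp (((slConj k⁻¹).comp mat).codRestrict _ m)
  have h1 := Cfsg.Agent.S0280.result hF 3 (by norm_num)
  have h2 := Cfsg.Agent.S0278.result hF 3 le_add_self
  have h3 := Subgroup.card_eq_card_quotient_mul_card_subgroup (Subgroup.center (SU 3 F (2 ^ n)))
  have h4 : Nat.card (Subgroup.center (SU 3 F (2 ^ n))) = Nat.gcd 3 (2 ^ n + 1) := by
    rw [← h2, h3, mul_left_comm, mul_comm (Nat.gcd _ _)] at h1
    exact (Nat.eq_of_mul_eq_mul_left Nat.card_pos (Nat.eq_of_mul_eq_mul_left (by positivity) h1)).symm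
  have inj : Function.Injective j := (injective_iff_map_eq_one _).2 fun x h => by
    have h3 : slConj k⁻¹ (mat x) ^ 3 = 1 := congrArg (fun g => g.1.1) (orderOf_dvd_iff_pow_eq_one.1 ((orderOf_dvd_natCard
      (⟨_, (QuotientGroup.eq_one_iff _).1 h⟩ : Subgroup.center (SU 3 F (2 ^ n)))).trans (h4 ▸ Nat.gcd_dvd_left _ _)))
    have h3 := congrArg SpecialLinearGroup.toGL h3
    rw [map_pow, toGL_slConj, conj_pow, map_one, conj_eq_one_iff, ← map_pow, ← map_pow] at h3
    have h3 : x ^ 3 = 1 := mat_inj (SpecialLinearGroup.toGL_injective (h3.trans (by simp)))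
    have h4 : x * x * (x * x) = 1 := sq_eq_one.2 (by simp [CharTwo.add_self_eq_zero])
    rwa [← mul_assoc, ← pow_three', h3, one_mul] at h4
  have c3 : Nat.card j.range = (2 ^ n) ^ 3 := by rw [← Nat.card_congr (MonoidHom.ofInjective inj).toEquiv, c2]
  obtain ⟨Q, l⟩ := (IsPGroup.of_card (c3.trans (pow_mul _ _ _).symm)).exists_le_sylow
  obtain ⟨r, hr⟩ := IsPGroup.iff_card.1 Q.isPGroup'
  have d : Nat.card Q ∣ (2 ^ n) ^ 3 := by
    have := (Subgroup.card_subgroup_dvd_card Q.1).trans ((Dvd.intro_left _ rfl).trans ((Dvd.intro_left _ rfl).trans h1.dvd))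
    refine Nat.Coprime.dvd_of_dvd_mul_right ?_ this
    have o : ∀ i, Even ((2 ^ n) ^ (i + 1)) := fun i => (Nat.even_pow.2 ⟨Nat.even_pow.2 ⟨even_two, by omega⟩, by omega⟩)
    rw [hr]
    refine .pow_left _ (.prod_right fun i _ => Nat.coprime_two_left.2 ?_)
    split_ifs
    exacts [(o i).add_one, Nat.Even.sub_odd (Nat.one_le_pow _ _ (by positivity)) (o i) odd_one]
  exact ⟨(S.equiv Q).trans ((MulEquiv.subgroupCongr (Subgroup.eq_of_le_of_card_ge l (c3 ▸ Nat.le_of_dvd (by positivity) d)).symm).trans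
    (MonoidHom.ofInjective inj).symm)⟩

end U3
end H5
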