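import Cfsg.Agent.H5.TB5
import Cfsg.Agent.H5.GA2

/-! Automorphisms of the Sylow `2`-subgroup of `SU₃(2ⁿ)`. -/

set_option autoImplicit false

namespace H5
namespace U3

open Cfsg Matrix H4 H4.Au Gen
open scoped MatrixGroups commutatorElement

variable {F : Type*} [Field F] {φ : F ≃+* F} [hφ : Fact (∀ a, φ (φ a) = a)] [CharP F 2] {e : F} (he : e + φ e = 1)

include he in
theorem ring_of (σ : F →+ F) (τ : F → F) (h1 : σ 1 = 1) (hN : ∀ a, σ a * φ (σ a) = τ (a * φ a))
    (hB : ∀ a b, σ a * φ (σ b) + σ b * φ (σ a) = τ (a * φ b + b * φ a)) (a b : F) : σ (a * b) = σ a * σ b := by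
  have t2 := (CharTwo.two_eq_zero : (2 : F) = 0)
  have t0 : τ 0 = 0 := by simpa using (hN 0).symm
  have t1 : τ 1 = 1 := by simpa [h1] using (hN 1).symm
  have f1 : σ e + φ (σ e) = 1 := by simpa [h1, he, t1] using hB e 1
  have k0 : ∀ t, φ t = t → φ (σ t) = σ t := fun t h => by
    have := hB t 1
    rw [h1, map_one, h, mul_one, mul_one, one_mul, one_mul, CharTwo.add_self_eq_zero, t0, CharTwo.add_eq_zero] at this
    exact this.symm
  have k1 : ∀ t, φ t = t → σ t = τ t := fun t h => by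
    have := hB t e
    rw [h, k0 t h, show t * φ e + e * t = t by linear_combination t * he] at this
    linear_combination this - σ t * f1
  have k2 : ∀ t, φ t = t → σ (t * e) = σ t * σ e := fun t h => by
    have a := hB (t * e) e
    have b := hB (t * e) 1
    rw [map_mul φ, h, show t * e * φ e + e * (t * φ e) = 0 by linear_combination t * e * φ e * t2, t0] at a
    rw [h1, map_one, map_mul φ, h, show t * e * 1 + 1 * (t * φ e) = t by linear_combination t * he, ← k1 t h] at b
    linear_combination σ e * b - a - σ (t * e) * f1 + σ (t * e) * φ (σ e) * t2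
  have k3 : ∀ t u, φ t = t → φ u = u → σ (t * u) = σ t * σ u := fun t u h g => by
    have := hB (t * e) u
    rw [k2 t h, map_mul φ, map_mul φ, h, g, k0 t h, k0 u g, show t * e * u + u * (t * φ e) = t * u by
      linear_combination t * u * he, ← k1 _ (by rw [map_mul, h, g])] at this
    linear_combination σ t * σ u * f1 - this
  have n : φ (e * φ e) = e * φ e := by rw [map_mul, hφ.out, mul_comm]
  have k4 : σ (e * φ e) = σ e * φ (σ e) := (k1 _ n).trans (hN e).symm
  have d : ∀ a, ∃ s t, φ s = s ∧ φ t = t ∧ a = s + t * e := fun a =>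
    ⟨a + (a + φ a) * e, a + φ a, by
      simp only [map_add, map_mul, hφ.out]; linear_combination (a + φ a) * he - ((a + φ a) * e - φ a) * t2, by
      rw [map_add, hφ.out, add_comm], by linear_combination -(a + φ a) * e * t2⟩
  obtain ⟨s, t, hs, ht, rfl⟩ := d a
  obtain ⟨u, v, hu, hv, rfl⟩ := d b
  have : (s + t * e) * (u + v * e) = s * u + t * v * (e * φ e) + (s * v * e + t * u * e + t * v * e) := by
    linear_combination t * v * e * he - t * v * e * φ e * t2
  have m : ∀ t u, φ t = t → φ u = u → φ (t * u) = t * u := fun t u h g => by rw [map_mul, h, g]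
  simp only [this, map_add, k2 _ (m _ _ hs hv), k2 _ (m _ _ ht hu), k2 _ (m _ _ ht hv), k3 _ _ (m _ _ ht hv) n, k4, k2 _ ht,
    k2 _ hv, k3 _ _ hs hu, k3 _ _ hs hv, k3 _ _ ht hu, k3 _ _ ht hv]
  linear_combination -σ t * σ v * σ e * f1 + σ t * σ v * σ e * φ (σ e) * t2

theorem sq_b (x : UU φ) : (x * x).b = x.a * φ x.a := by simp [CharTwo.add_self_eq_zero]

include he in
theorem aut_struct [Finite F] (α : MulAut (UU φ)) : ∃ c : F, c ≠ 0 ∧ ∃ γ : F ≃+* F, ∀ x, (α x).a = c * γ x.a := by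
  classical
  have z : ∀ x : UU φ, (α x).a = 0 ↔ x.a = 0 := fun x => by rw [← sq_eq_one, ← map_mul, α.map_eq_one_iff, sq_eq_one]
  have w : ∀ x y : UU φ, x.a = y.a → (α x).a = (α y).a := fun x y h => by
    simpa [neg_add_eq_zero] using (z (x⁻¹ * y)).2 (by simp [h])
  set c := (α (sec he 1)).a with hc
  have c0 : c ≠ 0 := fun h => one_ne_zero ((z _).1 h)
  let σ : F →+ F := .mk' (fun a => c⁻¹ * (α (sec he a)).a) fun a b => by
    rw [w (sec he (a + b)) (sec he a * sec he b) rfl, map_mul, mul_a, mul_add]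
  let τ : F → F := fun t => if h : t + φ t = 0 * φ 0 then c⁻¹ * φ c⁻¹ * (α ⟨0, t, h⟩).b else 0
  have hτ : ∀ x : UU φ, x.a = 0 → τ x.b = c⁻¹ * φ c⁻¹ * (α x).b := by
    rintro ⟨_, b, h⟩ rfl
    exact dif_pos h
  have m := ring_of he σ τ (inv_mul_cancel₀ c0) (fun a => by
    have := hτ (sec he a * sec he a) (by simp [CharTwo.add_self_eq_zero])
    rw [map_mul, sq_b, sq_b] at this
    refine .trans ?_ this.symm
    simp only [σ, AddMonoidHom.mk'_apply, map_mul]; ring) fun a b => by
    have k : ∀ x y : UU φ, (x * y * (x * x * (y * y) * (x * y * (x * y)))⁻¹).a = (x * y).a → (x * x * (y * y) * (x * y * (x * y))).b =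
        x.a * φ y.a + y.a * φ x.a := fun x y _ => by
      rw [mul_b, mul_b, sq_b, sq_b, sq_b]
      simp only [mul_a, CharTwo.add_self_eq_zero, map_add, zero_mul, add_zero]
      linear_combination (x.a * φ x.a + y.a * φ y.a) * (CharTwo.two_eq_zero : (2 : F) = 0)
    have := hτ (sec he a * sec he a * (sec he b * sec he b) * (sec he a * sec he b * (sec he a * sec he b)))
      (by simp [CharTwo.add_self_eq_zero])
    simp only [map_mul α] at this
    rw [k _ _ (by simp [CharTwo.add_self_eq_zero]), k _ _ (by simp [CharTwo.add_self_eq_zero])] at this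
    refine .trans ?_ this.symm
    simp only [σ, AddMonoidHom.mk'_apply, map_mul]; ring
  let γ : F →+* F := { σ with map_one' := inv_mul_cancel₀ c0, map_mul' := m }
  exact ⟨c, c0, .ofBijective γ (Finite.injective_iff_bijective.1 γ.injective), fun x =>
    (w x (sec he x.a) rfl).trans (mul_inv_cancel_left₀ c0 _).symm⟩

include he in
theorem inv_unique [Finite F] {γ : F ≃+* F} (h : ∀ a, γ (γ a) = a) : γ = 1 ∨ γ = φ := by
  classical
  haveI := isCyclic_ringAut (F := F)
  haveI : Fintype (F ≃+* F) := .ofFinite _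
  have n : φ ≠ 1 := fun h => by simp [h, CharTwo.add_self_eq_zero] at he
  by_contra! c
  refine (IsCyclic.card_pow_eq_one_le (α := F ≃+* F) two_pos).not_gt (Finset.two_lt_card_iff.2 ⟨1, γ, φ, ?_, ?_, ?_, c.1.symm, n.symm, c.2⟩)
  exacts [by simp, by simpa using RingEquiv.ext h, by simpa using RingEquiv.ext hφ.out]

include he in
theorem aut_inv [Finite F] (α : MulAut (UU φ)) (h : ∀ x, (α (α x)).a = x.a) :
    ∃ c, c * φ c = 1 ∧ ((∀ x, (α x).a = x.a) ∨ ∀ x, (α x).a = c * φ x.a) := by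
  obtain ⟨c, c0, γ, k⟩ := aut_struct he α
  have a : ∀ a, c * γ c * γ (γ a) = a := fun a => by simpa [k, sec, mul_assoc] using h (sec he a)
  have b : c * γ c = 1 := by simpa using a 1
  rcases inv_unique he (γ := γ) (fun x => by simpa [b] using a x) with rfl | rfl
  · have : c = 1 := (frobenius_inj F 2) (by simpa [frobenius_def, sq] using b)
    exact ⟨1, by simp, .inl (by simpa [this] using k)⟩
  exact ⟨c, b, .inr k⟩

include he in
theorem fix_center [Finite F] (α : MulAut (UU φ)) (h : ∀ x, (α (α x)).a = x.a) {z : UU φ} (hz : z.a = 0) : α z = z := by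
  obtain ⟨t, ht⟩ := exists_sq_of_two_eq_zero (CharTwo.two_eq_zero : (2 : F) = 0) z.b
  have ft : φ t = t := (frobenius_inj F 2) (by rw [frobenius_def, frobenius_def, ← map_pow, ht, b_fix hz])
  obtain rfl : z = sec he t * sec he t := UU.ext (by simp [hz, CharTwo.add_self_eq_zero]) (by rw [sq_b, ← ht, sq]; exact (congrArg _ ft).symm)
  refine UU.ext (by simp [CharTwo.add_self_eq_zero]) ?_
  obtain ⟨c, b, k | k⟩ := aut_inv he α h <;> rw [map_mul, sq_b, sq_b, k]
  rw [map_mul, hφ.out]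
  linear_combination (sec he t).a * φ (sec he t).a * b

omit hφ in
theorem mainSU [Fintype F] {n : ℕ} (hn : 1 ≤ n) (hF : Fintype.card F = (2 ^ n) ^ 2) (S : Sylow 2 (SU 3 F (2 ^ n))) :
    ∃ (φ : F ≃+* F) (_ : Fact (∀ a, φ (φ a) = a)) (e : F), e + φ e = 1 ∧ Nat.card {t // φ t = t} = 2 ^ n ∧
      Nat.card (UU φ) = (2 ^ n) ^ 3 ∧ Nonempty (S ≃* UU φ) := by
  have s := QuotientGroup.mk'_surjective (Subgroup.center (SU 3 F (2 ^ n)))
  obtain ⟨φ, hφ, e, he, c1, c2, ⟨i⟩⟩ := main hn hF (S.mapSurjective s)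
  refine ⟨φ, hφ, e, he, c1, c2, ⟨(MulEquiv.ofBijective ((QuotientGroup.mk' _).subgroupMap S.1)
    ⟨(injective_iff_map_eq_one _).2 fun x h => ?_, MonoidHom.subgroupMap_surjective _ _⟩).trans i⟩⟩
  have h1 := Cfsg.Agent.S0280.result hF 3 (by norm_num)
  have h2 := Cfsg.Agent.S0278.result hF 3 le_add_self
  have h3 := Subgroup.card_eq_card_quotient_mul_card_subgroup (Subgroup.center (SU 3 F (2 ^ n)))
  have h4 : Nat.card (Subgroup.center (SU 3 F (2 ^ n))) = Nat.gcd 3 (2 ^ n + 1) := by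
    rw [← h2, h3, mul_left_comm, mul_comm (Nat.gcd _ _)] at h1
    exact (Nat.eq_of_mul_eq_mul_left Nat.card_pos (Nat.eq_of_mul_eq_mul_left (by positivity) h1)).symm
  have h3 := congrArg Subtype.val (orderOf_dvd_iff_pow_eq_one.1 ((orderOf_dvd_natCard
      (⟨_, (QuotientGroup.eq_one_iff _).1 (congrArg Subtype.val h)⟩ : Subgroup.center (SU 3 F (2 ^ n)))).trans (h4 ▸ Nat.gcd_dvd_left _ _)))
  have h3 : x ^ 3 = 1 := Subtype.ext h3
  obtain ⟨k, hk⟩ := S.isPGroup' x
  exact orderOf_eq_one_iff.1 (Nat.eq_one_of_dvd_coprimes (Nat.Coprime.pow_right k (by norm_num : Nat.Coprime 3 2))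
    (orderOf_dvd_of_pow_eq_one h3) (orderOf_dvd_of_pow_eq_one hk))

end U3
end H5
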