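import Cfsg.Agent.H5.Tw1

/-! Twisted groups: the (B,N)-pair, simplicity criteria, the diagonal subgroup. -/

set_option autoImplicit false

namespace H5
namespace Chev

open Cfsg Cfsg.Lie Cfsg.Lie.ChevalleyDatum Equiv

variable {D : ChevalleyDatum} {F : Type*} [Field F] [Good D] {G : Type*} [Group G]

theorem eq_one_of_inf {A B : Subgroup G} (h : A ⊓ B = ⊥) {g : G} (ha : g ∈ A) (hb : g ∈ B) : g = 1 :=
  Subgroup.mem_bot.1 (h ▸ ⟨ha, hb⟩)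

theorem StSys.mem_H_of [Conn D] (S : StSys D F G) {g : G} (ha : g ∈ S.B) (hb : g ∈ S.N) : g ∈ S.H :=
  S.B_inf_N ▸ ⟨ha, hb⟩

omit [Good D] in
theorem StSys.conj_pr (S : StSys D F G) {a : G} {χ : Rt D → F}
    (h : ∀ r t, a * S.x r t * a⁻¹ = S.x r (χ r * t)) (L : List (Rt D)) (t : Rt D → F) :
    a * S.pr L t * a⁻¹ = S.pr L fun r => χ r * t r := by
  induction L with
  | nil => simp
  | cons r L ih => rw [S.pr_cons, S.pr_cons, ← ih, ← h]; group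

theorem StSys.eq_one_of_conj (S : StSys D F G) {a : G} {χ : Rt D → F}
    (h : ∀ r t, a * S.x r t * a⁻¹ = S.x r (χ r * t)) {μ : Lat D →ₗ[ℤ] ℤ} {A : Set (Rt D)}
    (hA : Nil μ A) (hχ : ∀ r ∈ A, χ r ≠ 1) {u : G} (hu : u ∈ S.U A) (e : a * u * a⁻¹ = u) : u = 1 := by
  by_contra h1
  obtain ⟨r, hr, c, hc, v, hv, rfl⟩ := S.exists_lead hA hu h1
  have h2 : a * v * a⁻¹ ∈ S.U (above μ A (μ (vec r) + 1)) :=
    conj_mem_closure (by rintro _ ⟨s, hs, t, rfl⟩; rw [h]; exact S.x_mem_U hs _) v hv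
  have h3 : S.x r (-c + χ r * c) = v * (a * v * a⁻¹)⁻¹ := by
    rw [← S.add, ← S.x_inv, ← h, inv_mul_eq_iff_eq_mul, ← mul_assoc, ← e]; group
  have := S.eq_zero_of_x_mem_above hA (h3 ▸ mul_mem hv (inv_mem h2))
  exact hχ r hr (mul_right_cancel₀ hc (by linear_combination this))

namespace Tw

variable {S : StSys D F G} [Conn D] (T : Tw S)

open Classical in
/-- representatives of the longest elements -/
noncomputable def nJ (J : Set (Ix D)) : S.N :=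
  if h : ∃ n : S.N, (n : G) ∈ T.G0 ∧ S.φ n = wJ J then h.choose else 1

/-- each fundamental root occurs in some fixed unipotent element -/
def Gen : Prop := ∀ i, ∃ L t, L.Nodup ∧ (∀ r ∈ L, Pos r) ∧ simple i ∈ L ∧ t (simple i) ≠ 0 ∧
  S.pr L t ∈ T.Fix

variable {T}

theorem Ne.nJ_spec (h : T.Ne) (i : Ix D) :
    (T.nJ (T.sym.orb i) : G) ∈ T.G0 ∧ S.φ (T.nJ (T.sym.orb i)) = wJ (T.sym.orb i) := by
  have := h.exists_n _ (RSym.worb_mem i)
  rw [nJ, dif_pos this]; exact this.choose_spec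

theorem orb_eq_of_wJ {i k : Ix D} (e : wJ (T.sym.orb i) = wJ (T.sym.orb k)) :
    T.sym.orb i = T.sym.orb k := by
  have : simple i ∈ Inv (wJ (T.sym.orb k)) := by
    rw [← e, inv_wJ]; exact simple_mem_PhiP (T.sym.mem_orb i)
  rw [inv_wJ] at this
  exact T.sym.orb_eq (simple_mem_PhiJ.1 this.2)

section BN

variable {K : Type*} [Group K] {ι : K →* G}

theorem mem_G0 (hr : ι.range = T.G0) (k : K) : ι k ∈ T.G0 := hr ▸ ⟨k, rfl⟩

theorem exists_of_mem (hr : ι.range = T.G0) {g : G} (h : g ∈ T.G0) : ∃ k, ι k = g := by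
  rwa [← hr] at h

theorem Ne.cell (h : T.Ne) (hι : Function.Injective ι) (hr : ι.range = T.G0) {g n : K}
    {m : S.N} (hm : ι n = m) {b b' : G} {m' : S.N} (hb : b ∈ S.B) (hb' : b' ∈ S.B)
    (e : ι g = b * m' * b') (e' : S.φ m' = S.φ m) :
    g ∈ DoubleCoset.doubleCoset n (S.B.comap ι : Set K) (S.B.comap ι) := by
  obtain ⟨u, hu, n', hn', v, hv, e1⟩ := h.bruhat (mem_G0 hr g)
  have h1 := S.cell_unique hb hb' (S.U_le_B hu.1) (S.U_inv_le_B _ hv.1) (e.symm.trans e1)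
  have h2 := S.φ_eq_φ_iff.1 (e'.symm.trans h1)
  obtain ⟨u, rfl⟩ := exists_of_mem hr hu.2
  obtain ⟨v, rfl⟩ := exists_of_mem hr hv.2
  obtain ⟨n'', e2⟩ := exists_of_mem hr hn'
  rw [← hm, ← e2, ← map_inv, ← map_mul] at h2
  refine DoubleCoset.mem_doubleCoset.2 ⟨u, S.U_le_B hu.1, n⁻¹ * n'' * v,
    (S.B.comap ι).mul_mem (S.H_le_B h2) (S.U_inv_le_B _ hv.1), hι ?_⟩
  rw [e1, ← e2]; simp [mul_assoc]

/-- the (B,N)-pair of the twisted group -/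
def Ne.bn (h : T.Ne) (hι : Function.Injective ι) (hr : ι.range = T.G0) : BNPair K where
  B := S.B.comap ι
  N := S.N.comap ι
  S := {s | ∃ i, ι s = T.nJ (T.sym.orb i)}
  sup_eq_top := by
    rw [eq_top_iff]
    intro g _
    obtain ⟨u, hu, n, hn, v, hv, e⟩ := h.bruhat (mem_G0 hr g)
    obtain ⟨u, rfl⟩ := exists_of_mem hr hu.2
    obtain ⟨v, rfl⟩ := exists_of_mem hr hv.2
    obtain ⟨n', e2⟩ := exists_of_mem hr hn
    rw [← e2, ← map_mul, ← map_mul] at e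
    rw [hι e]
    exact mul_mem (mul_mem (Subgroup.mem_sup_left (S.U_le_B hu.1))
      (Subgroup.mem_sup_right (show ι n' ∈ S.N from e2 ▸ n.2)))
      (Subgroup.mem_sup_left (S.U_inv_le_B _ hv.1))
  conj_mem n hn t ht := by
    rw [Subgroup.mem_comap, map_mul, map_mul, map_inv]
    exact S.H_le_B (S.N_conj_H hn _ (S.B_inf_N ▸ ht))
  subset := by rintro s ⟨i, e⟩; change ι s ∈ S.N; rw [e]; exact Subtype.mem _
  sq_mem := by
    rintro s ⟨i, e⟩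
    rw [Subgroup.mem_comap, map_mul, e, ← Subgroup.coe_mul]
    exact S.H_le_B (S.φ_eq_one_iff.1 (by rw [map_mul, (h.nJ_spec i).2, wJ_mul_wJ]))
  inj := by
    rintro s ⟨i, e⟩ s' ⟨k, e'⟩ h1
    rw [Subgroup.mem_comap, map_mul, map_inv, e, e'] at h1
    have := S.φ_eq_φ_iff.2 (S.mem_H_of h1 (S.N.mul_mem (inv_mem (Subtype.mem _)) (Subtype.mem _)))
    rw [(h.nJ_spec i).2, (h.nJ_spec k).2] at this
    apply hι
    rw [e, e', orb_eq_of_wJ this]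
  closure_sup := by
    refine le_antisymm (sup_le ((Subgroup.closure_le _).2 ?_) inf_le_right) ?_
    · rintro s ⟨i, e⟩; change ι s ∈ S.N; rw [e]; exact Subtype.mem _
    have : ∀ w ∈ T.sym.W1, ∀ (k : K) (hk : ι k ∈ S.N), S.φ ⟨ι k, hk⟩ = w →
        k ∈ Subgroup.closure {s | ∃ i, ι s = T.nJ (T.sym.orb i)} ⊔ S.B.comap ι ⊓ S.N.comap ι := by
      refine RSym.W1_induction (fun k hk e => ?_) fun w _ i _ ih k hk e => ?_
      · exact Subgroup.mem_sup_right ⟨S.H_le_B (S.φ_eq_one_iff.1 e), hk⟩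
      · obtain ⟨s, hs⟩ := exists_of_mem hr (h.nJ_spec i).1
        have h1 : s ∈ Subgroup.closure {s | ∃ i, ι s = T.nJ (T.sym.orb i)} ⊔
          S.B.comap ι ⊓ S.N.comap ι := Subgroup.mem_sup_left (Subgroup.subset_closure ⟨i, hs⟩)
        rw [← mul_mem_cancel_right h1]
        have h2 : ι (k * s) = ((⟨ι k, hk⟩ : S.N) * T.nJ (T.sym.orb i) : S.N) := by simp [hs]
        refine ih _ (h2 ▸ Subtype.mem _) ?_
        rw [show (⟨ι (k * s), _⟩ : S.N) = _ from Subtype.ext h2, map_mul, e, (h.nJ_spec i).2,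
          mul_assoc, wJ_mul_wJ, mul_one]
    exact fun k hk => this _ (T.φ_mem_W1 (n := ⟨_, hk⟩) (T.G0_le_Fix (mem_G0 hr k))) k hk rfl
  mul_mem_union := by
    rintro s ⟨i, e⟩ n hn b hb
    have h1 : ι (s * b) ∈ S.PJ (T.sym.orb i) := by
      rw [map_mul, e]
      exact mul_mem (S.UJ_sup_LJ _ ▸ Subgroup.mem_sup_right
        (S.mem_LJ_of_φ ((h.nJ_spec i).2 ▸ wJ_mem _))) (S.B_le_PJ _ hb)
    obtain ⟨b₁, h2, m, b₂, h3, e1, h4⟩ := S.cell_PJ h1 ⟨_, hn⟩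
    rw [← map_mul] at e1
    obtain ⟨u, hu, n', hn', v, hv, e2⟩ := h.bruhat (mem_G0 hr (s * b * n))
    have h5 := S.cell_unique h2 h3 (S.U_le_B hu.1) (S.U_inv_le_B _ hv.1) (e1.symm.trans e2)
    have h6 : S.φ m * (S.φ ⟨_, hn⟩)⁻¹ ∈ T.sym.W1 := mul_mem (h5 ▸ T.φ_mem_W1 (T.G0_le_Fix hn'))
      (inv_mem (T.φ_mem_W1 (n := ⟨_, hn⟩) (T.G0_le_Fix (mem_G0 hr n))))
    rcases RSym.eq_one_or h6 h4 with h7 | h7
    · exact Or.inr (h.cell hι hr (m := ⟨_, hn⟩) rfl h2 h3 e1 (mul_inv_eq_one.1 h7))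
    · refine Or.inl (h.cell hι hr (m := T.nJ (T.sym.orb i) * ⟨_, hn⟩) (by simp [e]) h2 h3 e1 ?_)
      rw [map_mul, (h.nJ_spec i).2, ← h7, inv_mul_cancel_right]
  conj_ne := by
    rintro s ⟨i, e⟩ h1
    obtain ⟨u, hu, h2⟩ := h.UO_ne i
    obtain ⟨u, rfl⟩ := exists_of_mem hr (T.UO_le i hu)
    have h3 : s * u * s ∈ (S.B.comap ι : Set K) :=
      h1 ▸ ⟨u, S.U_le_B (S.U_mono (fun _ h => h.1) hu.1), rfl⟩
    have h4 := conj_UO (T.G0_le_Fix (h.nJ_spec i).1) (h.nJ_spec i).2 hu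
    have h5 : ((T.nJ (T.sym.orb i) * T.nJ (T.sym.orb i) : S.N) : G) ∈ S.H :=
      S.φ_eq_one_iff.1 (by rw [map_mul, (h.nJ_spec i).2, wJ_mul_wJ])
    have h6 := S.B.mul_mem h3 (inv_mem (S.H_le_B h5))
    simp only [map_mul, e, Subgroup.coe_mul, mul_inv_rev, ← mul_assoc, mul_inv_cancel_right] at h6
    exact h2 (by simpa using eq_one_of_inf S.V_inf_B (S.U_mono (fun _ h => h.1) h4.1) h6)

theorem Ne.bn_irreducible (h : T.Ne) (hι : Function.Injective ι) (hr : ι.range = T.G0) :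
    (h.bn hι hr).Irreducible := by
  intro J hJ h1 h2
  obtain ⟨i, ⟨s, hs, e⟩, j, hj, h0⟩ := exists_conn (J := {i | ∃ s ∈ J, ι s = T.nJ (T.sym.orb i)}) (by
    obtain ⟨s, hs⟩ := h1
    obtain ⟨i, e⟩ := hJ hs
    exact ⟨i, s, hs, e⟩) (by
    obtain ⟨s, ⟨i, e⟩, hs⟩ := h2
    exact ⟨i, fun ⟨s', h1, h2⟩ => hs (hι (h2.trans e.symm) ▸ h1)⟩)
  obtain ⟨s', e'⟩ := exists_of_mem hr (h.nJ_spec j).1
  refine ⟨s, hs, s', ⟨⟨j, e'⟩, fun h3 => hj ⟨s', h3, e'⟩⟩, fun hB => ?_⟩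
  have h3 : S.φ (T.nJ (T.sym.orb i) * T.nJ (T.sym.orb j) * (T.nJ (T.sym.orb i))⁻¹ *
      (T.nJ (T.sym.orb j))⁻¹) = 1 :=
    S.φ_eq_one_iff.2 (S.mem_H_of (by simpa [Ne.bn, e, e'] using hB) (Subtype.mem _))
  simp only [map_mul, map_inv, (h.nJ_spec _).2] at h3
  rw [mul_inv_eq_one, mul_inv_eq_iff_eq_mul] at h3
  refine not_commute_wJ (T.sym.disjoint_orb fun h4 => hj ⟨s, hs, ?_⟩) (T.sym.mem_orb i)
    (T.sym.mem_orb j) h0 h3
  rw [e, T.sym.orb_eq h4]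

theorem Gen.π_eq_one (hg : T.Gen) {a : G} (ha : a ∈ S.H)
    (h : ∀ u ∈ S.U {r | Pos r} ⊓ T.Fix, a * u * a⁻¹ = u) : S.π a = 1 := by
  obtain ⟨c, h1, h2⟩ := S.exists_chi ha
  have : ∀ r, chi c r = 1 := chi_eq_one_iff.2 fun i => by
    obtain ⟨L, t, hn, hL, hi, ht, hf⟩ := hg i
    have := h _ ⟨S.pr_mem_U hL t, hf⟩
    rw [S.conj_pr h2] at this
    exact Units.ext (mul_right_cancel₀ ht ((S.pr_inj nil_pos hL hn this _ hi).trans (one_mul _).symm))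
  simp [h1, this, dg_one]

theorem Ne.normalCore (h : T.Ne) (hg : T.Gen) (hπ : Function.Injective S.π)
    (hι : Function.Injective ι) (hr : ι.range = T.G0) : (S.B.comap ι).normalCore = ⊥ := by
  obtain ⟨n, hn, e⟩ := h.exists_n _ RSym.w0_mem
  obtain ⟨n', e'⟩ := exists_of_mem hr hn
  have h1 : ∀ k ∈ (S.B.comap ι).normalCore, ι k ∈ S.H := fun k hk =>
    S.eq_H_of_conj e ((S.B.comap ι).normalCore_le hk) (by simpa [e'] using hk n'⁻¹)
  rw [eq_bot_iff]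
  intro k hk
  apply hι
  apply hπ
  rw [map_one, map_one]
  refine hg.π_eq_one (h1 k hk) fun u hu => ?_
  obtain ⟨u, rfl⟩ := exists_of_mem hr (h.U_le hu)
  have h2 := h1 _ (mul_mem hk ((Subgroup.normalCore_normal _).conj_mem _ (inv_mem hk) u))
  have h3 := mul_mem (S.H_conj_U (h1 k hk) _ _ hu.1) (inv_mem hu.1)
  exact mul_inv_eq_one.1 (eq_one_of_inf S.U_inf_H h3 (by simpa [mul_assoc] using h2))

theorem Ne.commutator_eq (h : T.Ne) (hp : ∀ i, T.UO i ≤ ⁅T.G0, T.G0⁆) : ⁅T.G0, T.G0⁆ = T.G0 := by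
  refine le_antisymm (Subgroup.commutator_le.2 fun a ha b hb =>
    mul_mem (mul_mem (mul_mem ha hb) (inv_mem ha)) (inv_mem hb)) (T.G0_le_iff.2 fun i => ⟨hp i, ?_⟩)
  intro v hv
  obtain ⟨h1, h2⟩ := h.nJ_spec i
  have h3 := hp i (conj_VO (T.G0_le_Fix h1) h2 hv)
  have h4 := Subgroup.commutator_mem_commutator (inv_mem h1) (T.UO_le i (conj_VO (T.G0_le_Fix h1) h2 hv))
  convert mul_mem h4 h3 using 1
  rw [commutatorElement_def]; group

theorem perfect_of (hι : Function.Injective ι) (hr : ι.range = T.G0) (hp : ⁅T.G0, T.G0⁆ = T.G0) :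
    commutator K = ⊤ := by
  apply Subgroup.map_injective hι
  rw [commutator, Subgroup.map_commutator, ← MonoidHom.range_eq_map, hr, hp]

theorem Ne.isSimpleGroup (h : T.Ne) (hg : T.Gen) (hπ : Function.Injective S.π)
    (hι : Function.Injective ι) (hr : ι.range = T.G0) (hp : commutator K = ⊤) :
    IsSimpleGroup K ∧ ¬ IsMulCommutative K := by
  obtain ⟨r, -⟩ := Conn.full (D := D)
  obtain ⟨i, -⟩ := exists_co_ne_zero r
  obtain ⟨u, hu, h1⟩ := h.UO_ne i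
  obtain ⟨u, rfl⟩ := exists_of_mem hr (T.UO_le i hu)
  have : Nontrivial K := ⟨u, 1, fun e => h1 (by rw [e, map_one])⟩
  have := S.isSolvable_B hπ
  refine ⟨BN.isSimpleGroup (P := h.bn hι hr) (h.bn_irreducible hι hr)
    (Group.isSolvable_of_isSolvable_injective (f := ι.subgroupComap S.B)
      fun a b e => Subtype.ext (hι (congrArg Subtype.val e))) hp (h.normalCore hg hπ hι hr), fun h => ?_⟩
  rw [commutator_eq_bot] at hp
  exact bot_ne_top hp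

theorem Ne.exists_weyl (h : T.Ne) (hr : ι.range = S.N ⊓ T.G0) :
    ∃ ψ : K →* T.sym.W1, Function.Surjective ψ ∧ ψ.ker = S.H.comap ι := by
  have h1 : ∀ k, ι k ∈ S.N ⊓ T.G0 := fun k => hr ▸ ⟨k, rfl⟩
  refine ⟨(S.φ.comp (ι.codRestrict _ fun k => (h1 k).1)).codRestrict _
    fun k => T.φ_mem_W1 (T.G0_le_Fix (h1 k).2), fun w => ?_, ?_⟩
  · obtain ⟨n, hn, e⟩ := h.exists_n _ w.2
    obtain ⟨k, hk⟩ : (n : G) ∈ ι.range := hr ▸ ⟨n.2, hn⟩
    exact ⟨k, Subtype.ext (e ▸ congrArg S.φ (Subtype.ext hk))⟩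
  · ext k
    rw [MonoidHom.ker_codRestrict, MonoidHom.mem_ker, MonoidHom.comp_apply, S.φ_eq_one_iff]; rfl

end BN

theorem le_commutator [Finite F] {a : G} (ha : a ∈ S.H ⊓ T.G0) {χ : Rt D → F}
    (h : ∀ r t, a * S.x r t * a⁻¹ = S.x r (χ r * t)) {μ : Lat D →ₗ[ℤ] ℤ} {A : Set (Rt D)}
    (hA : Nil μ A) (hχ : ∀ r ∈ A, χ r ≠ 1) (hle : S.U A ⊓ T.Fix ≤ T.G0) :
    S.U A ⊓ T.Fix ≤ ⁅T.G0, T.G0⁆ := by
  have : Finite (S.U A) := Nat.finite_of_card_ne_zero (by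
    rw [S.card_U hA]; exact pow_ne_zero _ Nat.card_pos.ne')
  have : Finite ↥(S.U A ⊓ T.Fix) := Finite.of_injective _ (Subgroup.inclusion_injective inf_le_left)
  have h1 := T.G0_le_Fix ha.2
  let f : ↥(S.U A ⊓ T.Fix) → ↥(S.U A ⊓ T.Fix) := fun u => ⟨(u : G)⁻¹ * (a * u * a⁻¹),
    mul_mem (inv_mem u.2) ⟨S.H_conj_U ha.1 _ _ u.2.1, T.Fix.mul_mem (mul_mem h1 u.2.2) (inv_mem h1)⟩⟩
  have hf : Function.Injective f := fun u v e => by
    have e1 : (u : G)⁻¹ * (a * u * a⁻¹) = (v : G)⁻¹ * (a * v * a⁻¹) := congrArg Subtype.val e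
    have := S.eq_one_of_conj h hA hχ (mul_mem u.2.1 (inv_mem v.2.1)) (by
      calc _ = u * ((u : G)⁻¹ * (a * u * a⁻¹)) * (a * v * a⁻¹)⁻¹ := by group
        _ = _ := by rw [e1]; group)
    exact Subtype.ext (mul_inv_eq_one.1 this)
  intro g hg
  obtain ⟨u, e⟩ := Finite.surjective_of_injective hf ⟨g, hg⟩
  have := Subgroup.commutator_mem_commutator (inv_mem (hle u.2)) ha.2
  rw [← show (u : G)⁻¹ * (a * u * a⁻¹) = g from congrArg Subtype.val e]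
  convert this using 1
  rw [commutatorElement_def]; group

/-! ### the diagonal subgroup -/

variable (T)

/-- the action of the twist on the torus -/
def tc : (Ix D → Fˣ) →* (Ix D → Fˣ) where
  toFun c j := Units.map (T.θ (simple (T.τ.symm j))).toMonoidHom (c (T.τ.symm j))
  map_one' := by funext j; simp
  map_mul' a b := by funext j; simp

omit [Conn D] in
theorem tc_apply (c : Ix D → Fˣ) (i : Ix D) : (T.tc c (T.τ i) : F) = T.θ (simple i) (c i) := by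
  simp [tc]

theorem σ_hp (hS : S.HMul) (c : Ix D → Fˣ) : T.σ (hS.hp c) = hS.hp (T.tc c) := by
  refine DFunLike.congr_fun (StSys.pi_hom_ext (f := T.σ.comp hS.hp) (g := hS.hp.comp T.tc)
    fun i c => ?_) c
  have : T.tc (Pi.mulSingle i c) = Pi.mulSingle (T.τ i) (Units.map (T.θ (simple i)).toMonoidHom c) := by
    funext j
    obtain ⟨j, rfl⟩ := T.τ.surjective j
    by_cases h : j = i
    · subst h; simp [tc]
    · simp [tc, h]
  rw [MonoidHom.comp_apply, MonoidHom.comp_apply, this, hS.hp_single, hS.hp_single,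
    T.σ_h hS _ c.ne_zero, T.ρ_simple]
  rfl

/-- the fixed points of the twist on the torus -/
def C0 : Subgroup (Ix D → Fˣ) := T.tc.eqLocus (MonoidHom.id _)

omit [Conn D] in
theorem mem_C0 {c : Ix D → Fˣ} : c ∈ T.C0 ↔ ∀ i, (c (T.τ i) : F) = T.θ (simple i) (c i) := by
  simp only [← tc_apply, Units.val_inj]
  exact ⟨fun h i => (congrFun h _).symm, fun h => funext fun j => by
    obtain ⟨j, rfl⟩ := T.τ.surjective j; exact (h j).symm⟩

theorem H_fix (hS : S.HMul) (hi : Function.Injective hS.hp) : S.H ⊓ T.Fix = T.C0.map hS.hp := by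
  apply le_antisymm
  · rintro g ⟨h1, h2⟩
    obtain ⟨c, rfl⟩ : g ∈ hS.hp.range := hS.range_hp ▸ h1
    exact ⟨c, hi ((T.σ_hp hS c).symm.trans h2), rfl⟩
  · rintro _ ⟨c, hc, rfl⟩
    exact ⟨hS.hp_mem c, (T.σ_hp hS c).trans (congrArg _ hc)⟩

theorem hp_mem_Fix (hS : S.HMul) {c : Ix D → Fˣ} (hc : c ∈ T.C0) : hS.hp c ∈ S.H ⊓ T.Fix :=
  ⟨hS.hp_mem c, (T.σ_hp hS c).trans (congrArg _ hc)⟩

section Map

variable {G' : Type*} [Group G'] {S' : StSys D F G'} (T' : Tw S') (hT : T'.toTwD = T.toTwD)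
  {f : G →* G'} (hf : ∀ r t, f (S.x r t) = S'.x r t)
include hT hf

omit [Conn D] in
theorem map_σ (hS : S.U Set.univ = ⊤) (g : G) : f (T.σ g) = T'.σ (f g) :=
  DFunLike.congr_fun (StSys.hom_ext hS (f := f.comp T.σ) (g := T'.σ.comp f) fun r t => by
    simp [hf, T.σ_x, T'.σ_x, hT]) g

theorem map_U_fix (hS : S.U Set.univ = ⊤) {μ : Lat D →ₗ[ℤ] ℤ} {A : Set (Rt D)} (hA : Nil μ A)
    (hρ : ∀ r ∈ A, T.ρ r ∈ A) : (S.U A ⊓ T.Fix).map f = S'.U A ⊓ T'.Fix := by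
  apply le_antisymm
  · rintro _ ⟨g, hg, rfl⟩
    exact ⟨StSys.map_U hf A ▸ ⟨g, hg.1, rfl⟩, (T.map_σ T' hT hf hS g).symm.trans (congrArg f hg.2)⟩
  · rintro g ⟨h1, h2⟩
    obtain ⟨g, hg, rfl⟩ : g ∈ (S.U A).map f := (StSys.map_U hf A).symm ▸ h1
    refine ⟨g, ⟨hg, T.mem_Fix.2 (S.eq_of_π hA (T.σ_mem_U hρ hg) hg ?_)⟩, rfl⟩
    rw [← StSys.π_comp hS hf, ← StSys.π_comp hS hf g, T.map_σ T' hT hf hS, T'.mem_Fix.1 h2]

theorem map_G0 (hS : S.U Set.univ = ⊤) : T.G0.map f = T'.G0 := by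
  have : T'.sym = T.sym := by simp only [sym, hT]
  simp only [G0, Subgroup.map_iSup, Subgroup.map_sup, UO, VO, this]
  congr 1
  funext i
  rw [T.map_U_fix T' hT hf hS (nil_PhiP _) (RSym.ρ_mem_PhiP (Θ := T.sym) fun _ => T.sym.τ_mem_orb.2),
    T.map_U_fix T' hT hf hS (nil_PhiM _) (RSym.ρ_mem_PhiM (Θ := T.sym) fun _ => T.sym.τ_mem_orb.2)]

theorem H_inf_G0 (hS : S.U Set.univ = ⊤) (hM : S.HMul) (hM' : S'.HMul)
    (hi : Function.Injective hM.hp) (h : ∀ c ∈ T'.C0, hM'.hp c ∈ T'.G0) :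
    S'.H ⊓ T'.G0 = T'.C0.map hM'.hp := by
  apply le_antisymm
  · rintro g ⟨h1, h2⟩
    obtain ⟨g, hg, rfl⟩ : g ∈ T.G0.map f := (T.map_G0 T' hT hf hS).symm ▸ h2
    obtain ⟨a, ha, e⟩ : f g ∈ S.H.map f := (StSys.map_H hf).symm ▸ h1
    have h3 : a⁻¹ * g ∈ S.H := S.mem_H_of_π (hS ▸ Subgroup.mem_top _) (by
      rw [← StSys.π_comp hS hf, map_mul, map_inv, e, inv_mul_cancel, map_one])
    obtain ⟨c, hc, rfl⟩ : g ∈ T.C0.map hM.hp :=
      T.H_fix hM hi ▸ ⟨(mul_mem_cancel_left (inv_mem ha)).1 h3, T.G0_le_Fix hg⟩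
    exact ⟨c, by simpa only [SetLike.mem_coe, mem_C0, hT] using hc, (hM.map_hp hM' hf c).symm⟩
  · rintro _ ⟨c, hc, rfl⟩
    exact ⟨hM'.hp_mem c, h c hc⟩

end Map

theorem card_map_hp (hM : S.HMul) (hπ : Function.Injective S.π) (C : Subgroup (Ix D → Fˣ)) :
    Nat.card ↥(C ⊓ (chiHom D F).ker) * Nat.card (C.map hM.hp) = Nat.card C := by
  have h1 : hM.hp.ker = (chiHom D F).ker := by
    ext c
    rw [← hM.π_hp_eq_one, MonoidHom.mem_ker, ← map_one S.π, hπ.eq_iff]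
  rw [← h1, ← Subgroup.relIndex_ker, inf_comm, ← Subgroup.relIndex_bot_left (hM.hp.ker ⊓ C),
    ← Subgroup.relIndex_bot_left C, ← Subgroup.inf_relIndex_right hM.hp.ker]
  exact Subgroup.relIndex_mul_relIndex _ _ _ bot_le inf_le_right

end Tw

end Chev
end H5
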